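import Cfsg.Statements.S5914
import Cfsg.Agent.H941.PiSimple
import Cfsg.Agent.S0721

set_option autoImplicit false
open Cfsg

namespace Cfsg.Agent.S5914

open H941.PiSimple

/-- The permutation automorphism of a power. -/
def permAut {S : Type*} [Group S] {n : ℕ} (σ : Equiv.Perm (Fin n)) : (Fin n → S) ≃* (Fin n → S) where
  toFun x k := x (σ.symm k)
  invFun x k := x (σ k)
  left_inv x := by ext k; simp
  right_inv x := by ext k; simp
  map_mul' x y := rfl

theorem permAut_single {S : Type*} [Group S] {n : ℕ} (σ : Equiv.Perm (Fin n)) (i : Fin n) (s : S) :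
    permAut σ (Pi.mulSingle i s) = Pi.mulSingle (σ i) s := by
  ext j
  obtain ⟨k, rfl⟩ := σ.surjective j
  have h1 : permAut σ (Pi.mulSingle i s : Fin n → S) (σ k) = (Pi.mulSingle i s : Fin n → S) k := by
    change (Pi.mulSingle i s : Fin n → S) (σ.symm (σ k)) = _
    rw [σ.symm_apply_apply]
  rw [h1]
  by_cases hk : k = i
  · subst hk; simp
  · rw [Pi.mulSingle_eq_of_ne hk, Pi.mulSingle_eq_of_ne (fun e => hk (σ.injective e))]

/-- A transvection of a power of a commutative group. -/
def transv {S : Type*} [Group S] (hS : ∀ a b : S, a * b = b * a) {n : ℕ} {i j : Fin n} (hij : i ≠ j) :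
    (Fin n → S) ≃* (Fin n → S) where
  toFun x := x * Pi.mulSingle j (x i)
  invFun x := x * Pi.mulSingle j (x i)⁻¹
  left_inv x := by
    ext k
    by_cases hk : k = j
    · subst hk; simp [Pi.mulSingle_eq_of_ne hij]
    · simp [Pi.mulSingle_eq_of_ne hk, Pi.mulSingle_eq_of_ne hij]
  right_inv x := by
    ext k
    by_cases hk : k = j
    · subst hk; simp [Pi.mulSingle_eq_of_ne hij]
    · simp [Pi.mulSingle_eq_of_ne hk, Pi.mulSingle_eq_of_ne hij]
  map_mul' x y := by
    ext k
    by_cases hk : k = j
    · subst hk
      simp only [Pi.mul_apply, Pi.mulSingle_eq_same]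
      rw [mul_assoc (x k), mul_assoc (x k), ← mul_assoc (y k), ← mul_assoc (x i), hS (x i) (y k)]
    · simp [Pi.mulSingle_eq_of_ne hk]

theorem power_charSimple {S : Type*} [Group S] [IsSimpleGroup S] {n : ℕ} (H : Subgroup (Fin n → S))
    (hH : H.Characteristic) (hne : H ≠ ⊥) : H = ⊤ := by
  have hmem : ∀ (e : (Fin n → S) ≃* (Fin n → S)) (x : Fin n → S), x ∈ H → e x ∈ H := by
    intro e x hx
    have := hH.fixed e
    rw [← this] at hx
    exact hx
  have : H.Normal := Subgroup.normal_of_characteristic H
  -- some coordinate is full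
  have key : ∃ i : Fin n, singleSub H i = ⊤ := by
    obtain ⟨x, hx, hx1⟩ : ∃ x ∈ H, x ≠ 1 := by
      by_contra hcon
      push Not at hcon
      exact hne ((Subgroup.eq_bot_iff_forall H).2 hcon)
    obtain ⟨i, hi⟩ : ∃ i, x i ≠ 1 := by
      by_contra hcon
      push Not at hcon
      exact hx1 (funext hcon)
    by_cases hS : IsMulCommutative S
    · have hS' : ∀ a b : S, a * b = b * a := fun a b => hS.is_comm.comm a b
      by_cases hj : ∃ j : Fin n, i ≠ j
      · obtain ⟨j, hij⟩ := hj
        refine ⟨j, ?_⟩
        have h1 : x * Pi.mulSingle j (x i) ∈ H := hmem (transv hS' hij) x hx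
        have h2 : x i ∈ singleSub H j := by
          rw [mem_singleSub]
          have := H.mul_mem (H.inv_mem hx) h1
          rwa [inv_mul_cancel_left] at this
        rcases IsSimpleGroup.eq_bot_or_eq_top_of_normal (singleSub H j) inferInstance with h | h
        · rw [h, Subgroup.mem_bot] at h2
          exact absurd h2 hi
        · exact h
      · push Not at hj
        refine ⟨i, ?_⟩
        have h2 : x i ∈ singleSub H i := by
          rw [mem_singleSub]
          convert hx using 1
          ext k
          rw [← hj k, Pi.mulSingle_eq_same]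
        rcases IsSimpleGroup.eq_bot_or_eq_top_of_normal (singleSub H i) inferInstance with h | h
        · rw [h, Subgroup.mem_bot] at h2
          exact absurd h2 hi
        · exact h
    · exact ⟨i, singleSub_eq_top hS hx hi⟩
  obtain ⟨i, hi⟩ := key
  rw [eq_top_iff]
  intro y _
  apply mem_of_mulSingle
  intro k
  have h1 : y k ∈ singleSub H i := by rw [hi]; exact Subgroup.mem_top _
  rw [mem_singleSub] at h1
  have h2 := hmem (permAut (Equiv.swap i k)) _ h1
  rwa [permAut_single, Equiv.swap_apply_left] at h2

/-- A non-trivial finite group G is characteristically simple (its only characteristic subgroups are 1 and G) if and only if G is isomorphic to a direct power S^n (n ≥ 1) of some simple group S (possibly cyclic of prime order). -/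
theorem result {G : Type*} [Group G] [Finite G] [Nontrivial G] :
    (∀ H : Subgroup G, H.Characteristic → H = ⊥ ∨ H = ⊤) ↔
    ∃ (S : Type) (_ : Group S) (_ : IsSimpleGroup S) (n : ℕ), 1 ≤ n ∧ Nonempty (G ≃* (Fin n → S)) := by
  constructor
  · intro hG
    let φ : MulAut G →* MulAut G := MonoidHom.id _
    have : Finite (MulAut G) := inferInstance
    have : Finite (G ⋊[φ] MulAut G) := Finite.of_equiv _ SemidirectProduct.equivProd.symm
    let N : Subgroup (G ⋊[φ] MulAut G) := (SemidirectProduct.inl : G →* G ⋊[φ] MulAut G).range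
    have : N.Normal := by
      have : N = (SemidirectProduct.rightHom : G ⋊[φ] MulAut G →* MulAut G).ker :=
        SemidirectProduct.range_inl_eq_ker_rightHom
      rw [this]; infer_instance
    have hN : N ≠ ⊥ := by
      intro h
      obtain ⟨g, hg⟩ := exists_ne (1 : G)
      apply hg
      apply SemidirectProduct.inl_injective (φ := φ)
      have : (SemidirectProduct.inl g : G ⋊[φ] MulAut G) ∈ N := ⟨g, rfl⟩
      rw [h, Subgroup.mem_bot] at this
      rw [this, map_one]
    obtain ⟨T, instT, m, hT, hm, ⟨e⟩⟩ := Cfsg.Agent.S0721.result N hN (by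
      intro M hM hMN
      have hchar : (M.comap (SemidirectProduct.inl : G →* G ⋊[φ] MulAut G)).Characteristic := by
        rw [Subgroup.characteristic_iff_comap_le]
        intro α g hg
        rw [Subgroup.mem_comap, Subgroup.mem_comap] at hg
        rw [Subgroup.mem_comap]
        have h1 := hM.conj_mem _ hg (SemidirectProduct.inr (α⁻¹ : MulAut G))
        have h2 : (SemidirectProduct.inr (α⁻¹ : MulAut G) : G ⋊[φ] MulAut G) *
            SemidirectProduct.inl (α.toMonoidHom g) * (SemidirectProduct.inr (α⁻¹ : MulAut G))⁻¹ =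
            SemidirectProduct.inl g := by
          have h3 := SemidirectProduct.inl_aut (φ := φ) (α⁻¹ : MulAut G) (α.toMonoidHom g)
          rw [← map_inv, ← h3]
          congr 1
          change α⁻¹ (α g) = g
          exact α.symm_apply_apply g
        rwa [h2] at h1
      rcases hG _ hchar with h | h
      · left
        rw [Subgroup.eq_bot_iff_forall]
        intro x hx
        obtain ⟨g, rfl⟩ := hMN hx
        have : g ∈ M.comap (SemidirectProduct.inl : G →* G ⋊[φ] MulAut G) := hx
        rw [h, Subgroup.mem_bot] at this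
        rw [this, map_one]
      · right
        apply le_antisymm hMN
        rintro _ ⟨g, rfl⟩
        have : g ∈ M.comap (SemidirectProduct.inl : G →* G ⋊[φ] MulAut G) := by
          rw [h]; exact Subgroup.mem_top _
        exact this)
    refine ⟨T, instT, hT, m, hm, ⟨?_⟩⟩
    exact (MonoidHom.ofInjective (SemidirectProduct.inl_injective (φ := φ))).trans e
  · rintro ⟨S, _, _, n, -, ⟨e⟩⟩ H hH
    by_cases hne : H = ⊥
    · exact Or.inl hne
    right
    have hchar : (H.map e.toMonoidHom).Characteristic := by
      rw [Subgroup.characteristic_iff_map_le]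
      intro α y hy
      obtain ⟨x, hx, rfl⟩ := hy
      obtain ⟨h, hh, rfl⟩ := hx
      refine ⟨e.symm (α (e h)), ?_, ?_⟩
      · have := (Subgroup.characteristic_iff_map_le.1 hH) ((e.trans α).trans e.symm)
        exact this ⟨h, hh, rfl⟩
      · exact e.apply_symm_apply _
    have h1 := power_charSimple (H.map e.toMonoidHom) hchar (by
      intro h
      rw [Subgroup.map_eq_bot_iff_of_injective _ e.injective] at h
      exact hne h)
    rw [eq_top_iff]
    intro g _
    have h2 : e g ∈ H.map e.toMonoidHom := by rw [h1]; exact Subgroup.mem_top _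
    obtain ⟨h, hh, he⟩ := h2
    rwa [← e.injective he]

end Cfsg.Agent.S5914
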