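import Cfsg.Statements.S2558
import Cfsg.Agent.H169.OddLower
import Cfsg.Agent.H169.OddForms
import Cfsg.Agent.H169.OddCount
import Cfsg.Agent.H173.NumOddMain

set_option autoImplicit false
open Cfsg

namespace Cfsg.Agent.S2558

open Matrix Cfsg.Agent.H169 Cfsg.Agent.H169.OddForms

theorem two_ne_zero_of_odd {F : Type*} [Field F] [Fintype F] (hodd : Odd (Fintype.card F)) : (2 : F) ≠ 0 := by
  intro h
  have h1 := Nat.cast_card_eq_zero F
  obtain ⟨k, hk⟩ := hodd
  rw [hk] at h1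
  push_cast at h1
  rw [h, zero_mul, zero_add] at h1
  exact one_ne_zero h1

theorem upper {F : Type*} [Field F] [Fintype F] (hodd : Odd (Fintype.card F)) {n : ℕ} {ι : Type} [Fintype ι]
    [DecidableEq ι] (hι : Fintype.card ι = 2 * n) (G₀ : Matrix ι ι F) (hs : G₀ᵀ = G₀) (hu : G₀.det ≠ 0)
    (Q : (ι → F) → F) (hQ : ∀ v, 2 * Q v = v ⬝ᵥ (G₀ *ᵥ v)) :
    2 * Nat.card (ConjClasses (Cfsg.isometryGroup F Q)) ≤ 19 * Fintype.card F ^ n := by
  have h2 := two_ne_zero_of_odd hodd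
  have := Cfsg.Agent.H173.NumOdd.finite_odat h2 (2 * n)
  have h3 := OddCount.two_card_le h2 hι G₀ hs hu Q hQ
  have h4 := Cfsg.Agent.H173.NumOdd.card_odat_even h2 n
  have h5 := Cfsg.Agent.H173.NumOdd.card_odat_free h2 n
  rw [Nat.card_eq_fintype_card (α := F)] at h4 h5
  omega

/-- The number of conjugacy classes of the full orthogonal groups O⁺(2n,q) and O⁻(2n,q), q odd, 2n ≥ 4: for F a finite field of odd order q and n ≥ 2, the number k of conjugacy classes of the isometry group of the hyperbolic quadratic form Σ xᵢyᵢ on F^{2n}, and likewise of the elliptic form Σ xᵢyᵢ + (z₁² + a z₁z₂ + b z₂²) with anisotropic binary part, satisfies q^n/2 ≤ k ≤ 9.5·q^n. -/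
theorem result {F : Type*} [Field F] [Fintype F] (hodd : Odd (Fintype.card F)) (n : ℕ) (hn : 2 ≤ n) (a b : F) (hab : ∀ z₁ z₂ : F, z₁ ^ 2 + a * z₁ * z₂ + b * z₂ ^ 2 = 0 → z₁ = 0 ∧ z₂ = 0) :
    (Fintype.card F ^ n ≤ 2 * Nat.card (ConjClasses ↥(Cfsg.isometryGroup F (Cfsg.quadFormPlus n F))) ∧
      2 * Nat.card (ConjClasses ↥(Cfsg.isometryGroup F (Cfsg.quadFormPlus n F))) ≤ 19 * Fintype.card F ^ n) ∧
    (Fintype.card F ^ n ≤ 2 * Nat.card (ConjClasses ↥(Cfsg.isometryGroup F (Cfsg.quadFormMinus (n - 1) F a b))) ∧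
      2 * Nat.card (ConjClasses ↥(Cfsg.isometryGroup F (Cfsg.quadFormMinus (n - 1) F a b))) ≤ 19 * Fintype.card F ^ n) := by
  have h2 := two_ne_zero_of_odd hodd
  have hc1 : Fintype.card (Fin n ⊕ Fin n) = 2 * n := by simp; ring
  have hc2 : Fintype.card ((Fin (n - 1) ⊕ Fin (n - 1)) ⊕ Fin 2) = 2 * n := by simp; omega
  exact ⟨⟨OddLower.card_le hodd hn hc1 (gramPlus n F) (gramPlus_symm n) (gramPlus_det n) _ (gramPlus_form n),
    upper hodd hc1 (gramPlus n F) (gramPlus_symm n) (gramPlus_det n) _ (gramPlus_form n)⟩,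
    ⟨OddLower.card_le hodd hn hc2 (gramMinus (n - 1) F a b) (gramMinus_symm _ a b) (gramMinus_det h2 _ a b hab) _
      (gramMinus_form _ a b),
    upper hodd hc2 (gramMinus (n - 1) F a b) (gramMinus_symm _ a b) (gramMinus_det h2 _ a b hab) _
      (gramMinus_form _ a b)⟩⟩

end Cfsg.Agent.S2558
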