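import Cfsg.Statements.S2560
import Cfsg.Agent.H170.OmegaUpper
import Cfsg.Agent.H170.RestrFinal
import Cfsg.Agent.H174.CNOdd

set_option autoImplicit false
open Cfsg

namespace Cfsg.Agent.S2560

/-- The number of conjugacy classes of Ω(2n+1,q), q odd, n ≥ 2: for F a finite field of odd order q, the number k of conjugacy classes of the commutator subgroup of the isometry group of the quadratic form x₀² + Σ xᵢyᵢ on F^{2n+1} satisfies q^n/2 ≤ k ≤ 7.3·q^n. -/
theorem result {F : Type*} [Field F] [Fintype F] (hodd : Odd (Fintype.card F)) (n : ℕ) (hn : 2 ≤ n) :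
    Fintype.card F ^ n ≤ 2 * Nat.card (ConjClasses ↥(Cfsg.Omega F (Cfsg.quadFormOdd n F))) ∧
      10 * Nat.card (ConjClasses ↥(Cfsg.Omega F (Cfsg.quadFormOdd n F))) ≤ 73 * Fintype.card F ^ n := by
  have h2 : (2 : F) ≠ 0 := by
    intro h0
    have h3 : ringChar F = 2 := by
      have h5 : ((2 : ℕ) : F) = 0 := by exact_mod_cast h0
      rcases (Nat.dvd_prime Nat.prime_two).1 (ringChar.dvd h5) with h6 | h6
      · exact absurd h6 (CharP.ringChar_ne_one)
      · exact h6
    have h4 := FiniteField.even_card_of_char_two h3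
    rw [Nat.odd_iff] at hodd
    omega
  refine ⟨Cfsg.Agent.H174.CN.lower_omega hodd n hn, ?_⟩
  have hA := Cfsg.Agent.H170.OmegaUpper.eight_card_le (F := F) h2 n (by omega)
  have h3 := Cfsg.Agent.H173.NumOdd.three_le_card (F := F) h2
  rcases Nat.lt_or_ge (Nat.card F) 5 with h5 | h5
  · have h33 : Nat.card F = 3 := by
      have h6 : Nat.card F = Fintype.card F := Nat.card_eq_fintype_card
      rw [Nat.odd_iff] at hodd
      omega
    have e1 := Cfsg.Agent.H173.NumOdd.card_odat_odd_three (F := F) h33 n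
    have e2 := Cfsg.Agent.H170.Restr.card_restr (F := F) h33 n
    have h6 : Fintype.card F = 3 := by rw [← Nat.card_eq_fintype_card, h33]
    rw [h6]
    omega
  · have e1 := Cfsg.Agent.H173.NumOdd.card_odat_odd_five (F := F) h2 h5 n
    have hfin : Finite {D : Cfsg.Agent.H169.ODat F // D.Ok (2 * n + 1)} := Cfsg.Agent.H173.NumOdd.finite_odat h2 _
    have e2 : Nat.card {D : Cfsg.Agent.H169.ODat F // D.Ok (2 * n + 1) ∧ D.a true 1 ≤ 1 ∧ D.a false 1 ≤ 1} ≤
        Nat.card {D : Cfsg.Agent.H169.ODat F // D.Ok (2 * n + 1)} :=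
      Nat.card_le_card_of_injective (fun D => ⟨D.1, D.2.1⟩) fun D D' h =>
        Subtype.ext (congrArg (fun x : {D : Cfsg.Agent.H169.ODat F // D.Ok (2 * n + 1)} => x.1) h)
    rw [Nat.card_eq_fintype_card (α := F)] at e1
    omega

end Cfsg.Agent.S2560
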