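import Cfsg.Statements.S5743
import Cfsg.Agent.H898.Main
import Cfsg.Agent.H898.NotIn
import Cfsg.Agent.H898.F4Hom
import Cfsg.Agent.H898.F4Aut
import Cfsg.Agent.H898.StEquiv

set_option autoImplicit false
open Cfsg

namespace Cfsg.Agent.S5743

open Cfsg.Lie Cfsg.Agent.TwoESix.Iso Cfsg.Agent.H898.Diag Cfsg.Agent.H898.NotIn
open Cfsg.Agent.H898.F4Emb Cfsg.Agent.H898.StEquiv

theorem hD : chevF4 ∈ [chevG2, chevF4, chevE8] := by simp

theorem cent {c : GL (Fin 78) (ZMod 2)} (hc : ∀ y, c * stHom y = stHom y * c) : c * c = 1 := by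
  refine cent_sq ?_
  rintro _ ⟨y, rfl⟩
  exact hc y

theorem stHom_injective (K : Type*) [Field K] [Fintype K] (hK : Fintype.card K = 4) :
    Function.Injective stHom := by
  have hs : IsSimpleGroup (chevF4.SteinbergGroup (ZMod 2)) :=
    simple_st chevF4 hD (Cfsg.Agent.S1054.result chevF4 (by simp)).1
  rw [← MonoidHom.ker_eq_bot_iff]
  rcases (MonoidHom.normal_ker stHom).eq_bot_or_eq_top with h | h
  · exact h
  · exfalso
    have h1 : Dg * Dg = 1 := by
      refine cent fun g => ?_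
      have h1 : stHom g = 1 := by
        rw [← MonoidHom.mem_ker, h]; exact Subgroup.mem_top _
      rw [h1, mul_one, one_mul]
    have h2 : Dg = 1 := by
      have h3 := Dg_pow
      rw [pow_succ, pow_two, h1, one_mul] at h3
      exact h3
    exact Dg_not_mem K hK (h2 ▸ Gam.one_mem)

/-- The simple group ²E₆(2) (the twisted group of type E₆ over the field with 4 elements) contains at least three pairwise non-conjugate subgroups isomorphic to the Chevalley group F₄(2). -/
theorem result {K : Type*} [Field K] [Fintype K] (hK : Fintype.card K = 4) :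
    ∃ H : Fin 3 → Subgroup (Cfsg.Lie.twistedE6 K 2),
      (∀ i, Nonempty ((H i) ≃* Cfsg.Lie.chevF4.group (ZMod 2))) ∧
      (∀ i j, i ≠ j → ∀ g : (Cfsg.Lie.twistedE6 K 2), (H i).map (MulAut.conj g).toMonoidHom ≠ H j) := by
  obtain ⟨w, f, -, -, hf, hmap, -⟩ := exists_phi K hK
  obtain ⟨S, hS1, hS2⟩ := Cfsg.Agent.H898.Main.three_of_hom Gam Dg Dg_pow (fun e he => Dg_conj_mem he)
    (Dg_not_mem K hK) stHom (stHom_injective K hK) stHom_mem
    (autSq_st chevF4 hD (Cfsg.Agent.H898.F4Aut.autSq_F4 (ZMod 2) (by simp)))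
    (fun c hc => cent hc) f hf (Cfsg.Lie.twistedE6 K 2) hmap
  exact ⟨S, fun i => trans_equiv chevF4 hD (hS1 i), hS2⟩

end Cfsg.Agent.S5743
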