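import Cfsg.Statements.S2146
import Cfsg.Agent.H79.MinIdxOP2.Plus

set_option autoImplicit false
open Cfsg

namespace Cfsg.Agent.S2146

open Cfsg.Agent.H79.MinIdxOP2 Cfsg.Agent.LieClassical.OrthForms
open Cfsg.Agent.LieClassical.OrthCore Cfsg.Agent.LieClassical.OrthTrans
open Cfsg.Agent.H75.OrthIdx

/-- Minimal index of a proper subgroup of the even-dimensional orthogonal groups of plus type over the field with 2 elements: for m ≥ 4, every proper subgroup of Ω⁺_2m(2) (for the form Σ xᵢyᵢ) has index at least 2^(m−1)(2^m − 1), and that index is attained. -/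
theorem result {F : Type*} [Field F] [Fintype F] (hF : Fintype.card F = 2) (m : ℕ) (hm : 4 ≤ m) : (∀ H : Subgroup (Cfsg.POmega F (Cfsg.quadFormPlus m F)), H ≠ ⊤ → 2 ^ (m - 1) * (2 ^ m - 1) ≤ H.index) ∧ (∃ H : Subgroup (Cfsg.POmega F (Cfsg.quadFormPlus m F)), H.index = 2 ^ (m - 1) * (2 ^ m - 1)) := by
  classical
  have h01 : ∀ a : F, a = 0 ∨ a = 1 := by
    intro a
    by_contra hcon
    push Not at hcon
    have h1 : ({0, 1, a} : Finset F).card ≤ Fintype.card F := Finset.card_le_univ _
    rw [Finset.card_insert_of_notMem, Finset.card_insert_of_notMem, Finset.card_singleton, hF] at h1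
    · omega
    · simp [hcon.2.symm]
    · simp [hcon.1.symm]
  obtain ⟨k, hk⟩ : ∃ k, m = k + 2 := ⟨m - 2, by omega⟩
  set b := 2 ^ k with hb
  have hV := card_V (F := F) hF hb hk
  have hQ := cnt_plus (F := F) hF hb hk
  have hG : Good (plusForm m F) := good_plus hm
  have hd : 8 ≤ Module.finrank F (Fin m ⊕ Fin m → F) := by rw [finrank_plus]; omega
  have hb4 : 4 ≤ b := by
    rw [hb]
    calc 4 = 2 ^ 2 := by norm_num
      _ ≤ 2 ^ k := Nat.pow_le_pow_right (by norm_num) (by omega)
  have hN : 2 ^ (m - 1) * (2 ^ m - 1) + 2 * b = 8 * b ^ 2 := by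
    have h1 : 2 ^ (m - 1) = 2 * b := by rw [hb, hk, show k + 2 - 1 = k + 1 by omega]; ring
    have h2 : 2 ^ m = 4 * b := by rw [hb, hk]; ring
    rw [h1, h2, Nat.mul_sub, mul_one]
    have h3 : 2 * b ≤ 2 * b * (4 * b) := by nlinarith
    rw [Nat.sub_add_cancel h3]
    ring
  rw [← coe_plusForm]
  constructor
  · apply lower_transfer hG
    intro H hH hne
    have h1 : H.relIndex (E (plusForm m F)) ≠ 1 := by
      rw [Ne, Subgroup.relIndex_eq_one]
      exact hne
    have h2 : H.relIndex (E (plusForm m F)) ≠ 0 := relIndex_ne _ _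
    have : Finite (E (plusForm m F) ⧸ H.subgroupOf (E (plusForm m F))) :=
      Nat.finite_of_card_ne_zero h2
    have h3 := (opData h01 hG hd).le_card (X := E (plusForm m F) ⧸ H.subgroupOf (E (plusForm m F)))
      hb (by omega) hV hQ (frame_plus h01 hm) (by
        change 1 < (H.subgroupOf (E (plusForm m F))).index
        change 1 < H.relIndex (E (plusForm m F))
        omega)
    change 8 * b ^ 2 ≤ H.relIndex (E (plusForm m F)) + 2 * b at h3
    omega
  · have R := frame_plus (F := F) h01 hm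
    set S := opData h01 hG hd with hS
    obtain ⟨n, hn⟩ : ∃ n, S.Q n = 1 := by
      refine ⟨Pi.single (Sum.inl ⟨2, by omega⟩) 1 + Pi.single (Sum.inr ⟨2, by omega⟩) 1, ?_⟩
      rw [S.Q_add, R.Qp, R.Qq, R.pq, zero_add, zero_add]
    have h1 := S.index_ns hn
    have h2 : Op2.cnt (fun v => S.Q v = 0) + Op2.cnt (fun v => S.Q v = 1) = 16 * b ^ 2 := by
      rw [← hV, ← Op2.cnt_true, ← S.cnt_Q (fun _ => True)]
      congr 1
      · exact Op2.cnt_congr fun v => by simp
      · exact Op2.cnt_congr fun v => by simp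
    have h3 : Op2.cnt (fun v => S.Q v = 0) = 8 * b ^ 2 + 2 * b := hQ
    refine ⟨(MulAction.stabilizer (E (plusForm m F)) n).map (omHom hG), ?_⟩
    rw [Subgroup.index_map_eq _ (omHom_surjective hG), h1]
    · omega
    · rw [omHom_ker]
      intro z hz
      obtain ⟨c, hc⟩ := center_scalar hG hz
      rw [MulAction.mem_stabilizer_iff]
      have hn0 : n ≠ 0 := by
        rintro rfl
        rw [S.Q_zero] at hn
        exact zero_ne_one hn
      change (z : (Fin m ⊕ Fin m → F) ≃ₗ[F] (Fin m ⊕ Fin m → F)) n = n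
      rw [hc]
      rcases h01 c with h | h
      · exfalso
        have h4 := hc n
        rw [h, zero_smul] at h4
        exact hn0 ((map_eq_zero_iff _
          (z : (Fin m ⊕ Fin m → F) ≃ₗ[F] (Fin m ⊕ Fin m → F)).injective).1 h4)
      · rw [h, one_smul]

end Cfsg.Agent.S2146
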