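import Cfsg.Statements.S2493
import Cfsg.Agent.H155.AltComm
import Cfsg.Agent.SporRec.TwoAn

set_option autoImplicit false
open Cfsg

namespace Cfsg.Agent.S2493

open Equiv Cfsg.Agent.SporRec.TwoAn Cfsg.Agent.H155.AltComm

/-- A perfect group with centre of order two and quotient `X` is a non-split double cover of `X`. -/
theorem nonsplit {H X : Type*} [Group H] [Group X] (hp : commutator H = ⊤)
    (hZ : Nat.card (Subgroup.center H) = 2) (e : H ⧸ Subgroup.center H ≃* X) :
    Cfsg.IsNonsplitDoubleCover H X := by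
  refine ⟨hZ, ⟨e⟩, fun L hL => ?_⟩
  have hi : L.index = 2 := by rw [← hZ]; exact hL.index_eq_card
  have hle : commutator H ≤ L := by
    rw [commutator_eq_closure, Subgroup.closure_le]
    rintro x ⟨a, b, rfl⟩
    show a * b * a⁻¹ * b⁻¹ ∈ L
    rw [Subgroup.mul_mem_iff_of_index_two hi, Subgroup.mul_mem_iff_of_index_two hi,
      Subgroup.mul_mem_iff_of_index_two hi, inv_mem_iff, inv_mem_iff]
    tauto
  rw [hp, top_le_iff] at hle
  rw [hle, Subgroup.index_top] at hi
  omega

/-- In a double cover of an alternating group a permutation with two 2-cycles lifts to an element conjugate to its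
product with the central involution. -/
theorem exists_conj {α : Type*} [Fintype α] [DecidableEq α] {C : Type*} [Group C] (K : Cover α C) {x : C}
    (h : Two (K.π x)) : ∃ w, w * x * w⁻¹ = x * K.z := by
  obtain ⟨p, q, h1, h2, h3, h4, h5, h6⟩ := h
  set b := K.π x with hb
  have hbq : b q ≠ p := by
    intro h
    apply h6
    rw [← h3, h]
  have hbqp : b p ≠ b q := fun h => h5 (b.injective h).symm
  -- the double transposition
  have hdm : swap p (b p) * swap q (b q) ∈ alternatingGroup α :=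
    Cover.swap_mul_swap_mem p (b p) q (b q) (Ne.symm h2) (Ne.symm h4)
  obtain ⟨y, hy⟩ := K.exists_lift hdm
  have hcm : swap p q * swap (b p) (b q) ∈ alternatingGroup α :=
    Cover.swap_mul_swap_mem p q (b p) (b q) (Ne.symm h5) hbqp
  obtain ⟨c, hc⟩ := K.exists_lift hcm
  -- the rest
  have hfix : ∀ u, (u = p ∨ u = b p ∨ u = q ∨ u = b q) → (K.π (y⁻¹ * x)) u = u := by
    intro u hu
    rw [map_mul, map_inv, hy, ← hb, Perm.mul_apply, Perm.inv_eq_iff_eq, Perm.mul_apply]
    rcases hu with rfl | rfl | rfl | rfl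
    · rw [swap_apply_of_ne_of_ne h5.symm hbq.symm, swap_apply_left]
    · rw [swap_apply_of_ne_of_ne (Ne.symm h6) hbqp, swap_apply_right, h1]
    · rw [swap_apply_left, swap_apply_of_ne_of_ne hbq hbqp.symm]
    · rw [swap_apply_right, swap_apply_of_ne_of_ne h5 h6, h3]
  have hdis : (K.π (y⁻¹ * x)).Disjoint (K.π c) := by
    intro u
    by_cases hu : u = p ∨ u = b p ∨ u = q ∨ u = b q
    · exact Or.inl (hfix u hu)
    · right
      push Not at hu
      rw [hc, Perm.mul_apply, swap_apply_of_ne_of_ne hu.2.1 hu.2.2.2, swap_apply_of_ne_of_ne hu.1 hu.2.2.1]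
  have e1 : y⁻¹ * x * c = c * (y⁻¹ * x) := K.commute_of_disjoint hdis
  have e2 : c * y = y * c * K.z :=
    Cover.anticomm K (Ne.symm h2) (Ne.symm h5) hbq.symm (Ne.symm h6) hbqp (Ne.symm h4) hy hc
  refine ⟨c, ?_⟩
  have e3 : c * x = c * y * (y⁻¹ * x) := by group
  have hz : ∀ g, g * K.z = K.z * g := K.z_comm
  rw [mul_inv_eq_iff_eq_mul, e3, e2, mul_assoc, ← hz, ← mul_assoc, mul_assoc y c, ← e1]
  calc y * (y⁻¹ * x * c) * K.z = x * (c * K.z) := by group
    _ = x * K.z * c := by rw [hz c, mul_assoc]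

/-- Let n ≥ 5 and let G be a finite perfect group whose centre has order 2 with G/Z(G) isomorphic to the alternating group of degree n (the double cover of the alternating group). Then every element of G is a commutator. -/
theorem result {G : Type*} [Group G] [Finite G] (hperf : commutator G = ⊤) {n : ℕ} (hn : 5 ≤ n)
    (hZ : Nat.card (Subgroup.center G) = 2) (e : G ⧸ Subgroup.center G ≃* alternatingGroup (Fin n))
    (g : G) :
    ∃ a b : G, a * b * a⁻¹ * b⁻¹ = g := by
  obtain ⟨π, z, hc, -⟩ := Cfsg.Agent.SporadicRecognition.AltCover.exists_isCover (nonsplit hperf hZ e)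
  let K : Cover (Fin n) G := ofIsCover hn hc
  obtain ⟨a, b, ha, hb, hab, h2⟩ := exists_comm (α := Fin n) (by rw [Fintype.card_fin]; exact hn)
    (Perm.mem_alternatingGroup.1 (K.mem_alternating g))
  obtain ⟨x, rfl⟩ := K.exists_lift (Perm.mem_alternatingGroup.2 ha)
  obtain ⟨y, rfl⟩ := K.exists_lift (Perm.mem_alternatingGroup.2 hb)
  have h3 : K.π (x * y * x⁻¹ * y⁻¹) = K.π g := by
    rw [← hab]; simp only [map_mul, map_inv]
  rcases K.lift_eq h3 with h4 | h4
  · exact ⟨x, y, h4⟩
  · obtain ⟨w, hw⟩ := exists_conj K h2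
    refine ⟨x * w, y, ?_⟩
    have e1 : x * w * y * (x * w)⁻¹ * y⁻¹ = x * (w * y * w⁻¹) * x⁻¹ * y⁻¹ := by group
    have hz : ∀ g, g * K.z = K.z * g := K.z_comm
    rw [e1, hw]
    have e2 : x * (y * K.z) * x⁻¹ * y⁻¹ = K.z * (x * y * x⁻¹ * y⁻¹) := by
      rw [hz y, ← mul_assoc x, hz x]; group
    rw [e2, h4, ← hz, mul_assoc, K.z_mul_z, mul_one]

end Cfsg.Agent.S2493
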