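import Cfsg.Statements.S2444
import Cfsg.Agent.H141.Ore.Scalar

set_option autoImplicit false
open Cfsg

namespace Cfsg.Agent.S2444

/-- In the special linear group SL(n,F) over a finite field F, with n ≥ 2 and (n, |F|) not (2,2) or (2,3), every element is a commutator a·b·a⁻¹·b⁻¹ of two elements of SL(n,F). -/
theorem result {F : Type*} [Field F] [Fintype F] (n : ℕ) (hn : 2 ≤ n) (hex : n = 2 → 4 ≤ Fintype.card F) :
    ∀ g : Matrix.SpecialLinearGroup (Fin n) F, ∃ a b : Matrix.SpecialLinearGroup (Fin n) F, g = a * b * a⁻¹ * b⁻¹ := by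
  intro g
  have hdet : LinearMap.det (Matrix.toLin' (g : Matrix (Fin n) (Fin n) F)) = 1 := by
    rw [LinearMap.det_toLin', g.det_coe]
  obtain ⟨X, D, hX, hD, hXD⟩ := Cfsg.Agent.H141.Ore.isComm_main (F := F) (Fin n → F)
    (by simpa using hn) (by
      intro h
      rw [Nat.card_eq_fintype_card]
      exact hex (by simpa using h)) _ hdet
  have key : ∀ Y : (Fin n → F) ≃ₗ[F] (Fin n → F), LinearMap.det (Y : (Fin n → F) →ₗ[F] _) = 1 →
      ∃ a : Matrix.SpecialLinearGroup (Fin n) F,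
        Matrix.toLin' (a : Matrix (Fin n) (Fin n) F) = (Y : (Fin n → F) →ₗ[F] _) := by
    intro Y hY
    refine ⟨⟨LinearMap.toMatrix' (Y : (Fin n → F) →ₗ[F] _), ?_⟩, ?_⟩
    · rw [LinearMap.det_toMatrix', hY]
    · exact Matrix.toLin'_toMatrix' _
  obtain ⟨a, ha⟩ := key X hX
  obtain ⟨b, hb⟩ := key D hD
  refine ⟨a, b, ?_⟩
  rw [eq_mul_inv_iff_mul_eq, eq_mul_inv_iff_mul_eq]
  apply Subtype.ext
  apply Matrix.toLin'.injective
  rw [Matrix.SpecialLinearGroup.coe_mul, Matrix.SpecialLinearGroup.coe_mul,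
    Matrix.SpecialLinearGroup.coe_mul, Matrix.toLin'_mul, Matrix.toLin'_mul, Matrix.toLin'_mul, ha, hb]
  apply LinearMap.ext
  intro x
  simp only [LinearMap.comp_apply, LinearEquiv.coe_coe]
  rw [hXD, LinearEquiv.symm_apply_apply, LinearEquiv.symm_apply_apply]

end Cfsg.Agent.S2444
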