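import Cfsg.Statements.S2445
import Cfsg.Agent.H144.SpFinal

set_option autoImplicit false
open Cfsg

namespace Cfsg.Agent.S2445

open Matrix Cfsg.Agent.H144

section

variable {F : Type*} [Field F] {m : ℕ}

/-- the symplectic form -/
noncomputable def form (F : Type*) [Field F] (m : ℕ) : LinearMap.BilinForm F (Fin m ⊕ Fin m → F) :=
  Matrix.toBilin' (Matrix.J (Fin m) F)

theorem form_apply (x y : Fin m ⊕ Fin m → F) : form F m x y = x ⬝ᵥ (Matrix.J (Fin m) F) *ᵥ y := by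
  rw [form, Matrix.toBilin'_apply']

theorem form_alt : Alt (form F m) := by
  intro x
  rw [form_apply, Matrix.J]
  obtain ⟨a, b, rfl⟩ : ∃ a b : Fin m → F, x = Sum.elim a b := ⟨x ∘ Sum.inl, x ∘ Sum.inr, by simp⟩
  rw [Matrix.fromBlocks_mulVec]
  simp [Matrix.neg_mulVec, dotProduct_comm]

theorem form_nond : Nond (form F m) := by
  intro x hx
  have h1 : x ᵥ* (Matrix.J (Fin m) F) = 0 := by
    ext i
    have h2 := hx (Pi.single i 1)
    rw [form_apply, Matrix.dotProduct_mulVec] at h2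
    simpa using h2
  have h2 : x ᵥ* ((Matrix.J (Fin m) F) * (Matrix.J (Fin m) F)) = 0 := by
    rw [← Matrix.vecMul_vecMul, h1, Matrix.zero_vecMul]
  rw [Matrix.J_squared, Matrix.vecMul_neg, Matrix.vecMul_one, neg_eq_zero] at h2
  exact h2

/-- the action of a symplectic matrix -/
noncomputable def act (A : Matrix.symplecticGroup (Fin m) F) : (Fin m ⊕ Fin m → F) ≃ₗ[F] (Fin m ⊕ Fin m → F) :=
  LinearEquiv.ofLinearMap (Matrix.toLin' (A : Matrix _ _ F)) (Matrix.toLin' ((A⁻¹ : Matrix.symplecticGroup (Fin m) F) : Matrix _ _ F))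
    (by
      rw [← Matrix.toLin'_mul, ← Submonoid.coe_mul, mul_inv_cancel]
      exact Matrix.toLin'_one)
    (by
      rw [← Matrix.toLin'_mul, ← Submonoid.coe_mul, inv_mul_cancel]
      exact Matrix.toLin'_one)

theorem act_apply (A : Matrix.symplecticGroup (Fin m) F) (v : Fin m ⊕ Fin m → F) :
    act A v = (A : Matrix _ _ F) *ᵥ v := rfl

theorem act_iso (A : Matrix.symplecticGroup (Fin m) F) : Iso (form F m) (act A) := by
  intro x y
  rw [form_apply, form_apply, act_apply, act_apply, Matrix.mulVec_mulVec, ← Matrix.vecMul_transpose,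
    ← Matrix.dotProduct_mulVec, Matrix.mulVec_mulVec, ← Matrix.mul_assoc,
    SymplecticGroup.mem_iff'.1 A.2]

theorem mem_of_iso {X : (Fin m ⊕ Fin m → F) ≃ₗ[F] (Fin m ⊕ Fin m → F)} (hX : Iso (form F m) X) :
    LinearMap.toMatrix' (X : (Fin m ⊕ Fin m → F) →ₗ[F] (Fin m ⊕ Fin m → F)) ∈ Matrix.symplecticGroup (Fin m) F := by
  rw [SymplecticGroup.mem_iff']
  have hX' : ∀ v, X v = (LinearMap.toMatrix' (X : (Fin m ⊕ Fin m → F) →ₗ[F] (Fin m ⊕ Fin m → F))) *ᵥ v := by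
    intro v
    rw [LinearMap.toMatrix'_mulVec]
    rfl
  apply Matrix.toBilin'.injective
  refine LinearMap.ext fun x => LinearMap.ext fun y => ?_
  rw [Matrix.toBilin'_apply', Matrix.toBilin'_apply', ← form_apply]
  rw [← hX, form_apply, hX', hX']
  generalize LinearMap.toMatrix' (X : (Fin m ⊕ Fin m → F) →ₗ[F] (Fin m ⊕ Fin m → F)) = A
  rw [← Matrix.vecMul_transpose A x, ← Matrix.dotProduct_mulVec, Matrix.mulVec_mulVec,
    Matrix.mulVec_mulVec, Matrix.mul_assoc]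

end

/-- In the symplectic group Sp(2m,F) over a finite field F (m ≥ 1), other than Sp(2,2), Sp(2,3) and Sp(4,2), every element is a commutator a·b·a⁻¹·b⁻¹ of two elements of Sp(2m,F). -/
theorem result {F : Type*} [Field F] [Fintype F] (m : ℕ) (hm : 1 ≤ m) (h1 : m = 1 → 4 ≤ Fintype.card F)
    (h2 : m = 2 → 3 ≤ Fintype.card F) : ∀ g : Matrix.symplecticGroup (Fin m) F, ∃ a b : Matrix.symplecticGroup (Fin m) F, g = a * b * a⁻¹ * b⁻¹ := by
  intro g
  have : FiniteDimensional F (Fin m ⊕ Fin m → F) := inferInstance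
  have hV : Module.finrank F (Fin m ⊕ Fin m → F) = 2 * m := by
    rw [Module.finrank_fintype_fun_eq_card, Fintype.card_sum, Fintype.card_fin]
    ring
  obtain ⟨X, Z, hX, hZ, hXZ⟩ := sp_main form_alt form_nond hV (by rw [Nat.card_eq_fintype_card]; exact h1)
    (by rw [Nat.card_eq_fintype_card]; exact h2) (act_iso g)
  refine ⟨⟨_, mem_of_iso hX⟩, ⟨_, mem_of_iso hZ⟩, ?_⟩
  rw [eq_mul_inv_iff_mul_eq, eq_mul_inv_iff_mul_eq]
  apply Subtype.ext
  have h3 : act g * Z * X = X * Z := by rw [hXZ]; group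
  have h4 := congrArg (fun t : (Fin m ⊕ Fin m → F) ≃ₗ[F] (Fin m ⊕ Fin m → F) =>
    LinearMap.toMatrix' (t : (Fin m ⊕ Fin m → F) →ₗ[F] (Fin m ⊕ Fin m → F))) h3
  have h5 : ∀ s t : (Fin m ⊕ Fin m → F) ≃ₗ[F] (Fin m ⊕ Fin m → F),
      LinearMap.toMatrix' ((s * t : (Fin m ⊕ Fin m → F) ≃ₗ[F] (Fin m ⊕ Fin m → F)) :
        (Fin m ⊕ Fin m → F) →ₗ[F] (Fin m ⊕ Fin m → F)) =
      LinearMap.toMatrix' (s : (Fin m ⊕ Fin m → F) →ₗ[F] (Fin m ⊕ Fin m → F)) *
        LinearMap.toMatrix' (t : (Fin m ⊕ Fin m → F) →ₗ[F] (Fin m ⊕ Fin m → F)) := by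
    intro s t
    rw [← LinearMap.toMatrix'_comp]
    rfl
  have h6 : LinearMap.toMatrix' (act g : (Fin m ⊕ Fin m → F) →ₗ[F] (Fin m ⊕ Fin m → F)) = (g : Matrix _ _ F) :=
    LinearMap.toMatrix'_toLin' _
  simp only [h5, h6] at h4
  exact h4

end Cfsg.Agent.S2445
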