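import Cfsg.Statements.S2392
import Cfsg.Agent.H133.SLCross

set_option autoImplicit false
open scoped MatrixGroups
open Cfsg

namespace Cfsg.Agent.S2392

open Cfsg.Agent.H133.SLCross

/-- The linear action of `GL_d(K)` on `L ^ d`, `L` an extension of `K`. -/
def toEnd (K L : Type*) [Field K] [Field L] [Algebra K L] (d : ℕ) :
    GL (Fin d) K →* Module.End L (Fin d → L) where
  toFun g := Matrix.toLin' ((g : Matrix (Fin d) (Fin d) K).map (algebraMap K L))
  map_one' := by
    rw [Units.val_one, Matrix.map_one _ (map_zero _) (map_one _), Matrix.toLin'_one]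
    rfl
  map_mul' a b := by
    rw [Units.val_mul, Matrix.map_mul, Matrix.toLin'_mul]
    rfl

theorem toEnd_injective (K L : Type*) [Field K] [Field L] [Algebra K L] (d : ℕ) :
    Function.Injective (toEnd K L d) := by
  intro a b h
  have h1 : (a : Matrix (Fin d) (Fin d) K).map (algebraMap K L) = (b : Matrix (Fin d) (Fin d) K).map (algebraMap K L) :=
    Matrix.toLin'.injective h
  apply Units.ext
  ext i j
  exact (algebraMap K L).injective (congrFun (congrFun h1 i) j)

theorem aux {F : Type*} [Field F] [Fintype F] {m : ℕ} (hm : 2 ≤ m) {K L : Type*} [Field K] [Field L] [Algebra K L]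
    (hq : (Fintype.card F : K) ≠ 0) {ψ : AddChar F L} (hψ : ψ.IsPrimitive) {d : ℕ}
    (ρ : Matrix.SpecialLinearGroup (Fin (m + 1)) F →* GL (Fin d) K)
    (hker : ρ.ker ≤ Subgroup.center (Matrix.SpecialLinearGroup (Fin (m + 1)) F)) :
    Fintype.card F ^ m - 1 ≤ d := by
  classical
  have h1 := main hm ((toEnd K L d).comp ρ) hψ (by
    have h := (algebraMap K L).injective.ne hq
    rwa [map_natCast, map_zero] at h) (by
      refine ⟨Pi.single ⟨0, by omega⟩ 1, fun h => ?_⟩
      apply u_not_mem_center (F := F) (⟨0, by omega⟩ : Fin m)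
      apply hker
      rw [MonoidHom.mem_ker]
      apply toEnd_injective K L d
      rw [map_one]
      exact h)
  rwa [Module.finrank_fin_fun] at h1

/-- The order of a finite field is nonzero in a field of different characteristic. -/
theorem card_ne_zero {F : Type*} [Field F] [Fintype F] {K : Type*} [Field K] (hK : ringChar K ≠ ringChar F) :
    (Fintype.card F : K) ≠ 0 := by
  intro h
  obtain ⟨n, hp, hn⟩ := FiniteField.card F (ringChar F)
  rw [hn, Nat.cast_pow] at h
  have h1 := pow_eq_zero_iff (n.ne_zero) |>.1 h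
  have h2 := (ringChar.spec K (ringChar F)).1 h1
  rcases (Nat.dvd_prime hp).1 h2 with h3 | h3
  · exact CharP.ringChar_ne_one h3
  · exact hK h3

/-- A lower bound for representations in cross characteristic: for `n ≥ 3` and a field `F` with `q` elements, every homomorphism from `SL_n(F)` to `GL_d(K)`, `K` a field of characteristic different from that of `F`, whose kernel is central has `d ≥ q^(n-1) - 1`. -/
theorem result {F : Type*} [Field F] [Fintype F] {q : ℕ} (hq : Fintype.card F = q) (n : ℕ) (hn : 3 ≤ n)
    {K : Type*} [Field K] (hK : ringChar K ≠ ringChar F) {d : ℕ}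
    (ρ : Matrix.SpecialLinearGroup (Fin n) F →* GL (Fin d) K) (hker : ρ.ker ≤ Subgroup.center (Matrix.SpecialLinearGroup (Fin n) F)) :
    q ^ (n - 1) - 1 ≤ d := by
  obtain ⟨m, rfl⟩ : ∃ m, n = m + 1 := ⟨n - 1, by omega⟩
  subst hq
  exact aux (by omega) (card_ne_zero hK) (AddChar.FiniteField.primitiveChar F K hK).prim ρ hker

end Cfsg.Agent.S2392
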