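import Cfsg.Statements.S3833
import Cfsg.Agent.H460.AADone

set_option autoImplicit false
open Cfsg

namespace Cfsg.Agent.S3833

/-- Let p be a prime, G a finite group and A a nonempty subset of elements of order p closed under conjugation such that every product of two elements of A is a p-element. Then Q, the subgroup generated by A, is solvable; and if O_p(G) = 1 then p is odd, the Fitting subgroup F(Q) is a nontrivial group of order prime to p, and Q/F(Q) is an elementary abelian p-group (the commutator subgroup of Q and all p-th powers lie in F(Q)). -/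
theorem result {G : Type*} [Group G] [Finite G] {p : ℕ} [Fact p.Prime] (A : Set G) (hAne : A.Nonempty) (hA : (∀ g : G, ∀ c ∈ A, g * c * g⁻¹ ∈ A)) (hord : ∀ a ∈ A, orderOf a = p) (hsq : ∀ a ∈ A, ∀ b ∈ A, (∃ k : ℕ, orderOf (a * b) = p ^ k)) : Group.IsSolvable ↥(Subgroup.closure A) ∧ (Cfsg.pCore p G = ⊥ → p ≠ 2 ∧ Cfsg.fittingSubgroup ↥(Subgroup.closure A) ≠ ⊥ ∧ (Nat.card ↥(Cfsg.fittingSubgroup ↥(Subgroup.closure A))).Coprime p ∧ commutator ↥(Subgroup.closure A) ≤ Cfsg.fittingSubgroup ↥(Subgroup.closure A) ∧ ∀ q : ↥(Subgroup.closure A), q ^ p ∈ Cfsg.fittingSubgroup ↥(Subgroup.closure A)) := by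
  exact Cfsg.Agent.H14.AAFinal.s3833_of Cfsg.Agent.H460.AADone.allCore A hAne hA hord hsq

end Cfsg.Agent.S3833
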