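import Cfsg.Statements.S5303
import Cfsg.Agent.H800.AbAll
import Cfsg.Agent.H794.IrrMain
import Cfsg.Agent.S1938
import Cfsg.Agent.S1252
import Cfsg.Agent.S0000

set_option autoImplicit false
open Cfsg

namespace Cfsg.Agent.S5303

/-- Let G be a finite non-abelian simple group with a nontrivial abelian Sylow p-subgroup S, and let Ω be the subgroup of elements of S of order dividing p. Then N_G(S) acts on Ω by conjugation irreducibly (no N_G(S)-invariant subgroup lies strictly between 1 and Ω) and nontrivially, and S is homocyclic (a direct product of cyclic groups of one common order). (This rests on the classification of the finite simple groups.) -/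
theorem result {G : Type*} [Group G] [Finite G] [IsSimpleGroup G] (hG : ¬ IsMulCommutative G) (p : ℕ) [Fact p.Prime] (S : Sylow p G)
    (hS : (S : Subgroup G) ≠ ⊥) (hab : IsMulCommutative (S : Subgroup G)) (Ω : Subgroup G) (hΩ : ∀ x : G, x ∈ Ω ↔ x ∈ (S : Subgroup G) ∧ x ^ p = 1) :
    (∀ B : Subgroup G, B ≤ Ω → (∀ n ∈ Subgroup.normalizer ((S : Subgroup G) : Set G), ∀ b ∈ B, n * b * n⁻¹ ∈ B) → B = ⊥ ∨ B = Ω) ∧
    (∃ n ∈ Subgroup.normalizer ((S : Subgroup G) : Set G), ∃ x ∈ Ω, n * x * n⁻¹ ≠ x) ∧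
    ∃ k e : ℕ, Nonempty (↥(S : Subgroup G) ≃* (Fin k → Multiplicative (ZMod (p ^ e)))) :=
  Cfsg.Agent.H794.IrrMain.irr_main hG (Cfsg.Agent.H800.AbAll.abIrr_all
    (fun _ _ _ _ => Cfsg.Agent.S0000.result)
    (fun _ _ _ _ S A => Cfsg.Agent.S1252.result S A)
    (fun _ _ _ _ => Cfsg.Agent.S0000.result)
    (fun _ _ _ _ S A => Cfsg.Agent.S1252.result S A)
    (fun _ _ _ S x hx h => Cfsg.Agent.S1938.result S x hx h) hG) S hS hab Ω hΩ

end Cfsg.Agent.S5303
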