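import Cfsg.Statements.S2276
import Cfsg.Agent.H106.PairMain

set_option autoImplicit false
open Cfsg

namespace Cfsg.Agent.S2276

open Equiv Equiv.Perm Cfsg.Agent.H106.LocPair

/-- Let n ≥ 5, p ≥ 3 a prime, and u, w non-identity elements of p-power order in the alternating group A_n. Then there is g ∈ A_n such that u·(g w g⁻¹) does not have p-power order and ⟨u, g w g⁻¹⟩ is not solvable. -/
theorem result (n : ℕ) (hn : 5 ≤ n) (p : ℕ) (hp : p.Prime) (hp3 : 3 ≤ p) (u w : alternatingGroup (Fin n)) (hu : u ≠ 1) (hw : w ≠ 1)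
    (hu' : ∃ k : ℕ, orderOf u = p ^ k) (hw' : ∃ k : ℕ, orderOf w = p ^ k) :
    ∃ g : alternatingGroup (Fin n), (¬ ∃ k : ℕ, orderOf (u * (g * w * g⁻¹)) = p ^ k) ∧
      ¬ Group.IsSolvable ↥(Subgroup.closure ({u, g * w * g⁻¹} : Set (alternatingGroup (Fin n)))) := by
  have hord : ∀ x : alternatingGroup (Fin n), orderOf (x : Perm (Fin n)) = orderOf x :=
    fun x => orderOf_injective (alternatingGroup (Fin n)).subtype Subtype.val_injective x
  have hne : ∀ x : alternatingGroup (Fin n), x ≠ 1 → (x : Perm (Fin n)) ≠ 1 :=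
    fun x hx h => hx (Subtype.ext h)
  obtain ⟨g, hg, h1, h2⟩ := main (Ω := Fin n) (by rwa [Fintype.card_fin]) hp hp3 (u : Perm (Fin n)) (w : Perm (Fin n))
    (hne u hu) (hne w hw) (by simpa only [hord] using hu') (by simpa only [hord] using hw')
  refine ⟨⟨g, mem_alternatingGroup.2 hg⟩, ?_, ?_⟩
  · rintro ⟨k, hk⟩
    apply h1
    refine ⟨k, ?_⟩
    rw [← hk, ← hord]
    rfl
  · intro hs
    apply h2
    have h3 : (Subgroup.closure ({u, ⟨g, mem_alternatingGroup.2 hg⟩ * w * (⟨g, mem_alternatingGroup.2 hg⟩)⁻¹} :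
        Set (alternatingGroup (Fin n)))).map (alternatingGroup (Fin n)).subtype =
        Subgroup.closure ({(u : Perm (Fin n)), g * (w : Perm (Fin n)) * g⁻¹} : Set (Perm (Fin n))) := by
      rw [MonoidHom.map_closure, Set.image_pair]
      rfl
    rw [← h3]
    exact Group.isSolvable_of_surjective (f := (alternatingGroup (Fin n)).subtype.subgroupMap _)
      (MonoidHom.subgroupMap_surjective _ _)

end Cfsg.Agent.S2276
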