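import Cfsg.Statements.S5577
import Cfsg.Agent.H859.Iso
import Cfsg.Agent.H859.BigNum

set_option autoImplicit false
open Cfsg

namespace Cfsg.Agent.S5577

/-- Let G be a finite non-abelian simple group of Janko-four type (an involution z whose centralizer H has an extraspecial largest normal 2-subgroup E of order 2^13 containing its centralizer in H, a normal subgroup N ≥ E of H with N/E of order 3 and H/N the automorphism group of M₂₂, and a subgroup P ≤ N of order 3 with C_E(P) = ⟨z⟩, N_H(P) ≠ C_H(P) and P ≤ C_H(P)′). Then for p = 23, 29, 31, 37 and 43 every Sylow p-subgroup of G is self-centralizing, with normalizer of order 23·22, 29·28, 31·10, 37·12 and 43·14 respectively. -/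
theorem result {G : Type*} [Group G] [Finite G] [IsSimpleGroup G] (hG : ¬ IsMulCommutative G) (hJ : Cfsg.IsOfJankoFourType G) :
    (∀ U : Sylow 23 G, Subgroup.centralizer ((U : Subgroup G) : Set G) = (U : Subgroup G) ∧ Nat.card ↥(Subgroup.normalizer ((U : Subgroup G) : Set G)) = 23 * 22) ∧
    (∀ U : Sylow 29 G, Subgroup.centralizer ((U : Subgroup G) : Set G) = (U : Subgroup G) ∧ Nat.card ↥(Subgroup.normalizer ((U : Subgroup G) : Set G)) = 29 * 28) ∧
    (∀ U : Sylow 31 G, Subgroup.centralizer ((U : Subgroup G) : Set G) = (U : Subgroup G) ∧ Nat.card ↥(Subgroup.normalizer ((U : Subgroup G) : Set G)) = 31 * 10) ∧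
    (∀ U : Sylow 37 G, Subgroup.centralizer ((U : Subgroup G) : Set G) = (U : Subgroup G) ∧ Nat.card ↥(Subgroup.normalizer ((U : Subgroup G) : Set G)) = 37 * 12) ∧
    (∀ U : Sylow 43 G, Subgroup.centralizer ((U : Subgroup G) : Set G) = (U : Subgroup G) ∧ Nat.card ↥(Subgroup.normalizer ((U : Subgroup G) : Set G)) = 43 * 14) := by
  obtain ⟨e⟩ := H859.Iso.exists_iso hJ
  have key : ∀ (p n : ℕ) [Fact p.Prime], p ∣ 86775571046077562880 → ¬ p * p ∣ Nat.card Cfsg.Spor.J4 →
      (∀ P : Subgroup Cfsg.Spor.J4, Nat.card P = p →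
        Nat.card (Subgroup.centralizer (P : Set Cfsg.Spor.J4)) = p ∧
        Nat.card (Subgroup.normalizer (P : Set Cfsg.Spor.J4)) = n) →
      ∀ U : Sylow p G, Subgroup.centralizer ((U : Subgroup G) : Set G) = (U : Subgroup G) ∧
        Nat.card ↥(Subgroup.normalizer ((U : Subgroup G) : Set G)) = n := by
    intro p n hp h1 h2 h3 U
    obtain ⟨P, hP⟩ := H859.BigNum.exists_sub p h1
    exact H859.Transfer.self_centralizing e (H858.NormC.isPGroup_of_card hP)
      (H858.NormC.not_dvd_index hP h2) (H859.PrimeSub.centralizer_eq hp.out hP (h3 P hP).1)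
      (h3 P hP).2 U
  refine ⟨key 23 _ (by norm_num) (H859.BigCent.sq_not_dvd (by simp)) fun P hP => H859.BigNum.data23 hP,
    key 29 _ (by norm_num) (H859.BigCent.sq_not_dvd (by simp)) fun P hP => H859.BigNum.data29' hP,
    key 31 _ (by norm_num) (H859.BigCent.sq_not_dvd (by simp)) fun P hP => H859.BigNum.data31 hP,
    key 37 _ (by norm_num) (H859.BigCent.sq_not_dvd (by simp)) fun P hP => H859.BigNum.data37 hP,
    key 43 _ (by norm_num) (H859.BigCent.sq_not_dvd (by simp)) fun P hP => H859.BigNum.data43 hP⟩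

end Cfsg.Agent.S5577
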