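import Cfsg.Statements.S2411
import Cfsg.Agent.H137.SpTransfer

set_option autoImplicit false
open Cfsg

namespace Cfsg.Agent.S2411

/-- The projective symplectic group `PSp_{2m}(q)` with `m ≥ 2` (and `q > 2` if `m = 2`) is generated by two of its elements. -/
theorem result {F : Type*} [Field F] [Fintype F] (m : ℕ) (hm : 2 ≤ m) (hF : m = 2 → 2 < Fintype.card F) :
    ∃ a b : Cfsg.PSp m F, Subgroup.closure ({a, b} : Set (Cfsg.PSp m F)) = ⊤ := by
  obtain ⟨k, rfl⟩ : ∃ k, m = k + 1 := ⟨m - 1, by omega⟩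
  refine Cfsg.Agent.H137.two_gen_surj (QuotientGroup.mk' _) (QuotientGroup.mk'_surjective _)
    (Cfsg.Agent.H137.two_gen_Sp F (k := k) (by omega) ?_)
  rw [Nat.card_eq_fintype_card]
  have h2 : 2 ≤ Fintype.card F := Fintype.one_lt_card
  by_cases hk : k = 1
  · rw [hk, pow_one]
    exact hF (by omega)
  · calc 2 < 2 ^ 2 := by norm_num
      _ ≤ 2 ^ k := Nat.pow_le_pow_right (by norm_num) (by omega)
      _ ≤ Fintype.card F ^ k := Nat.pow_le_pow_left h2 k

end Cfsg.Agent.S2411
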