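import Cfsg.Statements.S2413
import Cfsg.Agent.H137.Fam
import Cfsg.Agent.S2411
import Cfsg.Agent.LieClassical.OmegaFive

set_option autoImplicit false
open Cfsg

namespace Cfsg.Agent.S2413

open QuadraticMap Cfsg.Agent.LieClassical.OrthCore Cfsg.Agent.LieClassical.OrthTrans
  Cfsg.Agent.LieClassical.OrthForms Cfsg.Agent.LieClassical.OrthFinite Cfsg.Agent.H137

section
variable {F : Type*} [Field F] {m : ℕ}

theorem polar_inl (i : Fin m) (v : Unit ⊕ (Fin m ⊕ Fin m) → F) :
    polar (oddForm m F) (Pi.single (Sum.inr (Sum.inl i)) 1) v = v (Sum.inr (Sum.inr i)) := by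
  rw [polar_oddForm, Finset.sum_eq_single i]
  · simp
  · intro j _ hj
    simp [hj]
  · simp

theorem polar_inr (i : Fin m) (v : Unit ⊕ (Fin m ⊕ Fin m) → F) :
    polar (oddForm m F) (Pi.single (Sum.inr (Sum.inr i)) 1) v = v (Sum.inr (Sum.inl i)) := by
  rw [polar_oddForm, Finset.sum_eq_single i]
  · simp
  · intro j _ hj
    simp [hj]
  · simp

theorem q_inl (i : Fin m) : oddForm m F (Pi.single (Sum.inr (Sum.inl i)) 1) = 0 := by
  rw [coe_oddForm, quadFormOdd_apply]
  simp

theorem q_inr (i : Fin m) : oddForm m F (Pi.single (Sum.inr (Sum.inr i)) 1) = 0 := by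
  rw [coe_oddForm, quadFormOdd_apply]
  simp

theorem q_mid : oddForm m F (Pi.single (Sum.inl ()) 1) = 1 := by
  rw [coe_oddForm, quadFormOdd_apply]
  simp

end

theorem good_odd {F : Type*} [Field F] [Fintype F] (h2 : (2 : F) ≠ 0) (k : ℕ) (hk : 2 ≤ k) :
    Good (oddForm (k + 1) F) := by
  refine good_of_finite (nondeg_oddForm (m := k + 1) (F := F) h2) ?_
  rw [Module.finrank_fintype_fun_eq_card]
  simp; omega

theorem two_gen_odd {F : Type*} [Field F] [Fintype F] (h2 : (2 : F) ≠ 0) (k : ℕ) (hk : 2 ≤ k) :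
    ∃ g h : (Unit ⊕ (Fin (k + 1) ⊕ Fin (k + 1)) → F) ≃ₗ[F] (Unit ⊕ (Fin (k + 1) ⊕ Fin (k + 1)) → F),
      g ∈ E (oddForm (k + 1) F) ∧ h ∈ E (oddForm (k + 1) F) ∧
      E (oddForm (k + 1) F) ≤ Subgroup.closure {g, h} := by
  have hG := good_odd (F := F) h2 k hk
  refine two_gen_of_fam hG hk (ev := fun i => Pi.single (Sum.inr (Sum.inl i)) 1)
    (fv := fun i => Pi.single (Sum.inr (Sum.inr i)) 1)
    (d0 := Pi.single (Sum.inl ()) 1) (d := Pi.single (Sum.inl ()) 1)
    ⟨fun i => q_inl _, fun i => q_inr _, ?_, ?_, ?_⟩ ?_ ?_ ?_ ?_ ?_ ?_ ?_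
  · intro i j
    rw [polar_inl]; simp
  · intro i j
    rw [polar_inr]; simp
  · intro i j
    rw [polar_inl]; simp [Pi.single_apply]
  · intro i
    rw [polar_inl]; simp
  · intro i
    rw [polar_inr]; simp
  · intro i
    rw [polar_inl]; simp
  · intro i
    rw [polar_inr]; simp
  · rw [q_mid]; exact one_ne_zero
  · rw [polar_self', q_mid, mul_one]; exact h2
  · intro v h1 h3
    have e : v = (v (Sum.inl ())) • (Pi.single (Sum.inl ()) 1 : Unit ⊕ (Fin (k + 1) ⊕ Fin (k + 1)) → F) := by
      ext j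
      rcases j with j | (j | j)
      · simp
      · have := h3 j
        rw [polar_inr] at this
        simp [this]
      · have := h1 j
        rw [polar_inl] at this
        simp [this]
    rw [e]
    exact Submodule.smul_mem _ _ (Submodule.subset_span (by simp))

/-- The simple orthogonal group `PΩ_{2m+1}(q)` (commutator subgroup of the orthogonal group of `x₀² + Σ x_i y_i` modulo its centre) with `m ≥ 2` and `q` odd is generated by two of its elements. -/
theorem result {F : Type*} [Field F] [Fintype F] (hodd : Odd (Fintype.card F)) (m : ℕ) (hm : 2 ≤ m) :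
    ∃ a b : Cfsg.POmega F (Cfsg.quadFormOdd m F), Subgroup.closure ({a, b} : Set (Cfsg.POmega F (Cfsg.quadFormOdd m F))) = ⊤ := by
  have h2 : (2 : F) ≠ 0 := by
    intro h
    have hch : ringChar F = 2 := by
      refine CharP.ringChar_of_prime_eq_zero Nat.prime_two ?_
      exact_mod_cast h
    have h3 : ringChar F ∣ Fintype.card F := (ringChar.spec F _).1 (FiniteField.cast_card_eq_zero F)
    rw [hch] at h3
    exact (Nat.not_even_iff_odd.2 hodd) (even_iff_two_dvd.2 h3)
  by_cases hm2 : m = 2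
  · subst hm2
    have h3 : 2 < Fintype.card F := by
      have h4 : 2 ≤ Fintype.card F := Fintype.one_lt_card
      rcases h4.eq_or_lt with h5 | h5
      · rw [← h5] at hodd
        exact absurd hodd (by decide)
      · exact h5
    obtain ⟨e⟩ := Cfsg.Agent.LieClassical.OmegaFive.nonempty_equiv (F := F) h2
    exact two_gen_surj e.symm.toMonoidHom e.symm.surjective (Cfsg.Agent.S2411.result 2 le_rfl (fun _ => h3))
  obtain ⟨k, rfl⟩ : ∃ k, m = k + 1 := ⟨m - 1, by omega⟩
  have h := two_gen_POmega (good_odd h2 k (by omega)) (two_gen_odd h2 k (by omega))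
  rwa [coe_oddForm] at h

end Cfsg.Agent.S2413
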