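import Cfsg.Statements.S2414
import Cfsg.Agent.H137.Fam

set_option autoImplicit false
open Cfsg

namespace Cfsg.Agent.S2414

open QuadraticMap Cfsg.Agent.LieClassical.OrthCore Cfsg.Agent.LieClassical.OrthTrans
  Cfsg.Agent.LieClassical.OrthForms Cfsg.Agent.LieClassical.OrthFinite Cfsg.Agent.H137

theorem polar_inl {F : Type*} [Field F] {m : ℕ} (i : Fin m) (v : Fin m ⊕ Fin m → F) :
    polar (plusForm m F) (Pi.single (Sum.inl i) 1) v = v (Sum.inr i) := by
  rw [polar_plusForm, Finset.sum_eq_single i]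
  · simp
  · intro j _ hj
    simp [hj]
  · simp

theorem polar_inr {F : Type*} [Field F] {m : ℕ} (i : Fin m) (v : Fin m ⊕ Fin m → F) :
    polar (plusForm m F) (Pi.single (Sum.inr i) 1) v = v (Sum.inl i) := by
  rw [polar_plusForm, Finset.sum_eq_single i]
  · simp
  · intro j _ hj
    simp [hj]
  · simp

theorem q_inl {F : Type*} [Field F] {m : ℕ} (i : Fin m) :
    plusForm m F (Pi.single (Sum.inl i) 1) = 0 := by
  rw [coe_plusForm, quadFormPlus_apply]
  simp

theorem q_inr {F : Type*} [Field F] {m : ℕ} (i : Fin m) :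
    plusForm m F (Pi.single (Sum.inr i) 1) = 0 := by
  rw [coe_plusForm, quadFormPlus_apply]
  simp

theorem two_gen_plus {F : Type*} [Field F] [Fintype F] (k : ℕ) (hk : 2 ≤ k) :
    ∃ a b : (Fin (k + 2) ⊕ Fin (k + 2) → F) ≃ₗ[F] (Fin (k + 2) ⊕ Fin (k + 2) → F),
      a ∈ E (plusForm (k + 2) F) ∧ b ∈ E (plusForm (k + 2) F) ∧
      E (plusForm (k + 2) F) ≤ Subgroup.closure {a, b} := by
  have hG : Good (plusForm (k + 2) F) := by
    refine good_of_finite (nondeg_plusForm (m := k + 2) (F := F)) ?_
    rw [Module.finrank_fintype_fun_eq_card]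
    simp; omega
  refine two_gen_of_fam hG hk (ev := fun i => Pi.single (Sum.inl i.succ) 1)
    (fv := fun i => Pi.single (Sum.inr i.succ) 1)
    (d0 := Pi.single (Sum.inl 0) 1 + Pi.single (Sum.inr 0) 1) (d := Pi.single (Sum.inl 0) 1)
    ⟨fun i => q_inl _, fun i => q_inr _, ?_, ?_, ?_⟩ ?_ ?_ ?_ ?_ ?_ ?_ ?_
  · intro i j
    rw [polar_inl]; simp
  · intro i j
    rw [polar_inr]; simp
  · intro i j
    rw [polar_inl]; simp [Pi.single_apply]
  · intro i
    rw [polar_inl]; simp [Pi.single_apply]
  · intro i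
    rw [polar_inr]; simp [Pi.single_apply]
  · intro i
    rw [polar_inl]; simp
  · intro i
    rw [polar_inr]; simp [Pi.single_apply]
  · rw [Q_add, q_inl, q_inr, polar_inl]; simp
  · rw [polar_add_left, polar_inl, polar_inr]; simp
  · intro v h1 h2
    have e : v = (v (Sum.inr 0)) • (Pi.single (Sum.inl 0) 1 + Pi.single (Sum.inr 0) 1 : Fin (k + 2) ⊕ Fin (k + 2) → F) +
        (v (Sum.inl 0) - v (Sum.inr 0)) • (Pi.single (Sum.inl 0) 1 : Fin (k + 2) ⊕ Fin (k + 2) → F) := by
      ext j
      rcases j with j | j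
      · refine Fin.cases ?_ (fun j => ?_) j
        · simp
        · have := h2 j
          rw [polar_inr] at this
          simp [this]
      · refine Fin.cases ?_ (fun j => ?_) j
        · simp
        · have := h1 j
          rw [polar_inl] at this
          simp [this]
    rw [e]
    exact Submodule.add_mem _ (Submodule.smul_mem _ _ (Submodule.subset_span (by simp)))
      (Submodule.smul_mem _ _ (Submodule.subset_span (by simp)))

/-- The simple orthogonal group `PΩ⁺_{2m}(q)` (commutator subgroup of the orthogonal group of `Σ x_i y_i` modulo its centre) with `m ≥ 4` is generated by two of its elements. -/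
theorem result {F : Type*} [Field F] [Fintype F] (m : ℕ) (hm : 4 ≤ m) :
    ∃ a b : Cfsg.POmega F (Cfsg.quadFormPlus m F), Subgroup.closure ({a, b} : Set (Cfsg.POmega F (Cfsg.quadFormPlus m F))) = ⊤ := by
  obtain ⟨k, rfl⟩ : ∃ k, m = k + 2 := ⟨m - 2, by omega⟩
  have hG : Good (plusForm (k + 2) F) := by
    refine good_of_finite (nondeg_plusForm (m := k + 2) (F := F)) ?_
    rw [Module.finrank_fintype_fun_eq_card]
    simp; omega
  have h := two_gen_POmega hG (two_gen_plus k (by omega))
  rwa [coe_plusForm] at h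

end Cfsg.Agent.S2414
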