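import Cfsg.Statements.S2415
import Cfsg.Agent.H137.Fam
import Cfsg.Agent.LieClassical.OmegaReindex

set_option autoImplicit false
open Cfsg

namespace Cfsg.Agent.S2415

open QuadraticMap Cfsg.Agent.LieClassical.OrthCore Cfsg.Agent.LieClassical.OrthTrans
  Cfsg.Agent.LieClassical.OrthForms Cfsg.Agent.LieClassical.OrthFinite Cfsg.Agent.H137

section
variable {F : Type*} [Field F] {m : ℕ} (a b : F)

theorem polar_inl (i : Fin m) (v : (Fin m ⊕ Fin m) ⊕ Fin 2 → F) :
    polar (minusForm m F a b) (Pi.single (Sum.inl (Sum.inl i)) 1) v = v (Sum.inl (Sum.inr i)) := by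
  rw [polar_minusForm, Finset.sum_eq_single i]
  · simp
  · intro j _ hj
    simp [hj]
  · simp

theorem polar_inr (i : Fin m) (v : (Fin m ⊕ Fin m) ⊕ Fin 2 → F) :
    polar (minusForm m F a b) (Pi.single (Sum.inl (Sum.inr i)) 1) v = v (Sum.inl (Sum.inl i)) := by
  rw [polar_minusForm, Finset.sum_eq_single i]
  · simp
  · intro j _ hj
    simp [hj]
  · simp

theorem q_inl (i : Fin m) : minusForm m F a b (Pi.single (Sum.inl (Sum.inl i)) 1) = 0 := by
  rw [coe_minusForm, quadFormMinus_apply]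
  simp

theorem q_inr (i : Fin m) : minusForm m F a b (Pi.single (Sum.inl (Sum.inr i)) 1) = 0 := by
  rw [coe_minusForm, quadFormMinus_apply]
  simp

/-- the vector `(s, t)` of the anisotropic part -/
def zv (m : ℕ) (s t : F) : (Fin m ⊕ Fin m) ⊕ Fin 2 → F := Sum.elim (fun _ => 0) ![s, t]

theorem q_zv (s t : F) : minusForm m F a b (zv m s t) = s ^ 2 + a * s * t + b * t ^ 2 := by
  rw [coe_minusForm, quadFormMinus_apply]
  simp [zv]

theorem polar_zv (s t s' t' : F) : polar (minusForm m F a b) (zv m s t) (zv m s' t') =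
    2 * s * s' + a * (s * t' + t * s') + 2 * b * t * t' := by
  rw [polar_minusForm]
  simp [zv]

end

theorem two_gen_minus {F : Type*} [Field F] [Fintype F] (k : ℕ) (hk : 2 ≤ k) (a b : F)
    (hab : ∀ z₁ z₂ : F, z₁ ^ 2 + a * z₁ * z₂ + b * z₂ ^ 2 = 0 → z₁ = 0 ∧ z₂ = 0) :
    ∃ g h : ((Fin (k + 1) ⊕ Fin (k + 1)) ⊕ Fin 2 → F) ≃ₗ[F] ((Fin (k + 1) ⊕ Fin (k + 1)) ⊕ Fin 2 → F),
      g ∈ E (minusForm (k + 1) F a b) ∧ h ∈ E (minusForm (k + 1) F a b) ∧
      E (minusForm (k + 1) F a b) ≤ Subgroup.closure {g, h} := by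
  have hG : Good (minusForm (k + 1) F a b) := by
    refine good_of_finite (nondeg_minusForm (m := k + 1) (F := F) a b hab) ?_
    rw [Module.finrank_fintype_fun_eq_card]
    simp; omega
  obtain ⟨s, hs⟩ : ∃ s : F, 2 * s + a ≠ 0 := by
    by_cases ha : a = 0
    · have hd := Cfsg.Agent.LieClassical.OmegaReindex.disc_ne_zero hab
      refine ⟨1, ?_⟩
      intro h
      apply hd
      have h2 : (2 : F) = 0 := by rw [ha] at h; simpa using h
      rw [ha]
      linear_combination (2 * b) * h2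
    · exact ⟨0, by simpa using ha⟩
  refine two_gen_of_fam hG hk (ev := fun i => Pi.single (Sum.inl (Sum.inl i)) 1)
    (fv := fun i => Pi.single (Sum.inl (Sum.inr i)) 1)
    (d0 := zv (k + 1) 1 0) (d := zv (k + 1) s 1)
    ⟨fun i => q_inl _ _ _, fun i => q_inr _ _ _, ?_, ?_, ?_⟩ ?_ ?_ ?_ ?_ ?_ ?_ ?_
  · intro i j
    rw [polar_inl]; simp
  · intro i j
    rw [polar_inr]; simp
  · intro i j
    rw [polar_inl]; simp [Pi.single_apply]
  · intro i
    rw [polar_inl]; simp [zv]
  · intro i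
    rw [polar_inr]; simp [zv]
  · intro i
    rw [polar_inl]; simp [zv]
  · intro i
    rw [polar_inr]; simp [zv]
  · rw [q_zv]; simp
  · rw [polar_zv]; simpa using hs
  · intro v h1 h2
    have e : v = (v (Sum.inr 0) - v (Sum.inr 1) * s) • (zv (k + 1) 1 0 : (Fin (k + 1) ⊕ Fin (k + 1)) ⊕ Fin 2 → F) +
        (v (Sum.inr 1)) • (zv (k + 1) s 1 : (Fin (k + 1) ⊕ Fin (k + 1)) ⊕ Fin 2 → F) := by
      ext j
      rcases j with (j | j) | j
      · have := h2 j
        rw [polar_inr] at this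
        simp [zv, this]
      · have := h1 j
        rw [polar_inl] at this
        simp [zv, this]
      · fin_cases j
        · simp [zv]
        · simp [zv]
    rw [e]
    exact Submodule.add_mem _ (Submodule.smul_mem _ _ (Submodule.subset_span (by simp)))
      (Submodule.smul_mem _ _ (Submodule.subset_span (by simp)))

/-- The simple orthogonal group `PΩ⁻_{2m}(q)` with `m ≥ 4` (commutator subgroup, modulo its centre, of the orthogonal group of `Σ_{i<m−1} x_i y_i + z₁² + a z₁z₂ + b z₂²` with the binary part anisotropic) is generated by two of its elements. -/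
theorem result {F : Type*} [Field F] [Fintype F] (m : ℕ) (hm : 4 ≤ m) (a b : F)
    (hab : ∀ z₁ z₂ : F, z₁ ^ 2 + a * z₁ * z₂ + b * z₂ ^ 2 = 0 → z₁ = 0 ∧ z₂ = 0) :
    ∃ g h : Cfsg.POmega F (Cfsg.quadFormMinus (m - 1) F a b),
      Subgroup.closure ({g, h} : Set (Cfsg.POmega F (Cfsg.quadFormMinus (m - 1) F a b))) = ⊤ := by
  obtain ⟨k, rfl⟩ : ∃ k, m = k + 2 := ⟨m - 2, by omega⟩
  show ∃ g h : Cfsg.POmega F (Cfsg.quadFormMinus (k + 1) F a b),
      Subgroup.closure ({g, h} : Set (Cfsg.POmega F (Cfsg.quadFormMinus (k + 1) F a b))) = ⊤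
  have hG : Good (minusForm (k + 1) F a b) := by
    refine good_of_finite (nondeg_minusForm (m := k + 1) (F := F) a b hab) ?_
    rw [Module.finrank_fintype_fun_eq_card]
    simp; omega
  have h := two_gen_POmega hG (two_gen_minus k (by omega) a b hab)
  rwa [coe_minusForm] at h

end Cfsg.Agent.S2415
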