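import Cfsg.Statements.S3948
import Cfsg.Agent.S0000
import Cfsg.Agent.S2405
import Cfsg.Agent.H440.TwoGen.Full

set_option autoImplicit false
open Cfsg

namespace Cfsg.Agent.S3948

/-- Every finite simple group can be generated by two elements. -/
theorem result {G : Type*} [Group G] [Finite G] [IsSimpleGroup G] : ∃ x y : G, Subgroup.closure ({x, y} : Set G) = ⊤ := by
  exact Cfsg.Agent.H440.TwoGen.Full.known
    (fun F _ _ D hD hF => Cfsg.Agent.S2405.result D hD hF) Cfsg.Agent.S0000.result

end Cfsg.Agent.S3948
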