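import Cfsg.Statements.S5818
import Cfsg.Agent.H424.EightFill
import Cfsg.Agent.H424.M22Core
import Cfsg.Agent.S0000

set_option autoImplicit false
open Cfsg

namespace Cfsg.Agent.S5818

/-- The maximal subgroups of SL_8(q) in the residual class. Let F be a finite field with q elements and characteristic p, and H a maximal subgroup of SL_8(F) lying in the residual class of the linear case. Then the perfect socle preimage P of H is, modulo scalars, isomorphic to PSL_3 over the field with 4 elements, and either q = p with p = 5 or p ≡ 1, 9, 21, 29, 41, 49, 61 or 69 mod 80, or q = p² with p ≡ ±3, ±7, ±13, ±17, ±23, ±27, ±33 or ±37 mod 80. -/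
theorem result {F : Type*} [Field F] [Fintype F] (H : Subgroup (Matrix.GeneralLinearGroup (Fin 8) F)) (hH : Cfsg.Geo.IsMaximalIn (Cfsg.Geo.specialLinear (Fin 8) F) H) (hS : Cfsg.Geo.InLinearResidualClass H) :
    ∃ (P : Subgroup (Matrix.GeneralLinearGroup (Fin 8) F)) (p : ℕ), Cfsg.Geo.IsResidualCore H P ∧ p.Prime ∧ CharP F p ∧ (∃ (K : Type) (_ : Field K) (_ : Fintype K), Fintype.card K = 4 ∧ Nonempty ((P ⧸ (Cfsg.Geo.scalars (Fin 8) F).subgroupOf P) ≃* Matrix.ProjectiveSpecialLinearGroup (Fin 3) K)) ∧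
    ((Fintype.card F = p ∧ (p = 5 ∨ p % 80 = 9 ∨ p % 80 = 21 ∨ p % 80 = 29 ∨ p % 80 = 41 ∨ p % 80 = 61 ∨ p % 80 = 69 ∨ p % 80 = 1 ∨ p % 80 = 49)) ∨
     (Fintype.card F = p ^ 2 ∧ (p % 80 = 3 ∨ p % 80 = 77 ∨ p % 80 = 13 ∨ p % 80 = 67 ∨ p % 80 = 27 ∨ p % 80 = 53 ∨ p % 80 = 37 ∨ p % 80 = 43 ∨ p % 80 = 7 ∨ p % 80 = 73 ∨ p % 80 = 17 ∨ p % 80 = 63 ∨ p % 80 = 23 ∨ p % 80 = 57 ∨ p % 80 = 33 ∨ p % 80 = 47))) := by
  have hk : ∀ P : Subgroup (Matrix.GeneralLinearGroup (Fin 8) F), Cfsg.Agent.H915.LD.Core P →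
      Cfsg.IsKnownSimple' (Cfsg.Agent.H915.LD.Soc P) := by
    intro P hC
    have := hC.simple
    exact Cfsg.Agent.S0000.result
  have R : ∀ (p : ℕ) (P : Subgroup (Matrix.GeneralLinearGroup (Fin 8) F)), p.Prime → CharP F p →
      Cfsg.Agent.H915.LD.Core P → Cfsg.Agent.H424.Eight.Rest8 p P := by
    intro p P hp hpF hC
    have : Fact p.Prime := ⟨hp⟩
    exact Cfsg.Agent.H424.Eight.rest8 p hC fun hp2 h =>
      (Cfsg.Agent.H424.M22.core_ne_eight p hC.perfect hp2 h (Fintype.card_fin 8)).elim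
  exact Cfsg.Agent.H424.Eight.eight_lin hk R H hH hS

end Cfsg.Agent.S5818
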