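import Cfsg.Statements.S5821
import Cfsg.Agent.H424.EightFill
import Cfsg.Agent.H424.M22Core
import Cfsg.Agent.S0000

set_option autoImplicit false
open Cfsg

namespace Cfsg.Agent.S5821

/-- The maximal subgroups of SU_8(q) in the residual class. Let F be the field with q² elements and H a maximal subgroup of SU_8(q) (determinant-one isometries of the standard unitary form on F^8) lying in the residual class of the unitary case. Then q = p is a prime with p ≡ 11, 19, 31, 39, 51, 59, 71 or 79 mod 80, and the perfect socle preimage P of H is, modulo scalars, isomorphic to PSL_3 over the field with 4 elements. -/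
theorem result {F : Type*} [Field F] [Fintype F] (q : ℕ) (hF : Fintype.card F = q ^ 2) (H : Subgroup (Matrix.GeneralLinearGroup (Fin 8) F)) (hH : Cfsg.Geo.IsMaximalIn (Cfsg.GU 8 F q ⊓ Cfsg.Geo.specialLinear (Fin 8) F) H) (hS : Cfsg.Geo.InUnitaryResidualClass H) :
    ∃ P : Subgroup (Matrix.GeneralLinearGroup (Fin 8) F), Cfsg.Geo.IsResidualCore H P ∧ q.Prime ∧ (q % 80 = 11 ∨ q % 80 = 19 ∨ q % 80 = 39 ∨ q % 80 = 51 ∨ q % 80 = 59 ∨ q % 80 = 71 ∨ q % 80 = 31 ∨ q % 80 = 79) ∧
    (∃ (K : Type) (_ : Field K) (_ : Fintype K), Fintype.card K = 4 ∧ Nonempty ((P ⧸ (Cfsg.Geo.scalars (Fin 8) F).subgroupOf P) ≃* Matrix.ProjectiveSpecialLinearGroup (Fin 3) K)) := by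
  have hk : ∀ P : Subgroup (Matrix.GeneralLinearGroup (Fin 8) F), Cfsg.Agent.H915.LD.Core P →
      Cfsg.IsKnownSimple' (Cfsg.Agent.H915.LD.Soc P) := by
    intro P hC
    have := hC.simple
    exact Cfsg.Agent.S0000.result
  have R : ∀ (p : ℕ) (P : Subgroup (Matrix.GeneralLinearGroup (Fin 8) F)), p.Prime → CharP F p →
      Cfsg.Agent.H915.LD.Core P → Cfsg.Agent.H424.Eight.Rest8 p P := by
    intro p P hp hpF hC
    have : Fact p.Prime := ⟨hp⟩
    exact Cfsg.Agent.H424.Eight.rest8 p hC fun hp2 h =>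
      (Cfsg.Agent.H424.M22.core_ne_eight p hC.perfect hp2 h (Fintype.card_fin 8)).elim
  refine Cfsg.Agent.H424.Eight.eight_uni hk R ?_ q hF H hH hS
  intro p P hp hpF hC K i1 i2 i3 N q₀ hK h4 h7 e
  have : Fact p.Prime := ⟨hp⟩
  exact Cfsg.Agent.H424.Eight.ru8 p hC K hK h4 h7 e

end Cfsg.Agent.S5821
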