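import Cfsg.Statements.S5805
import Cfsg.Agent.S5662
import Cfsg.Agent.H914.SpExc4

set_option autoImplicit false
open Cfsg

namespace Cfsg.Agent.S5805

/-- Every maximal subgroup of Sp_6(q) is of one of the listed geometric types or lies in the residual class. Let F be a finite field with q elements, f the standard alternating form on F^6 (coordinates Fin 3 ⊕ Fin 3), and H a maximal subgroup of Sp_6(F) (inside GL_6(F)). Then H is the intersection with Sp_6(F) of one of: the stabiliser of a non-zero totally isotropic subspace; the stabiliser of a non-degenerate 2-space; for q ≥ 3, the stabiliser of a decomposition into three mutually orthogonal non-degenerate 2-spaces; for q odd, of a decomposition into two totally isotropic 3-spaces; the normaliser of a degree-3 subfield K of the matrix algebra, self-adjoint with f(k v, v) = 0; for q odd, the normaliser of a degree-2 subfield closed under adjoints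 but not self-adjoint; for q odd, q ≥ 5, the stabiliser of a tensor decomposition of f into an alternating form on F^2 and a symmetric form on F^3; a subfield group (|F| = |F₀|^r, r prime) whose F₀-structure carries a non-zero multiple of f; for q even, the similarity group of a non-degenerate quadratic form polarising to f — or else H lies in the residual class of the symplectic case. -/
theorem result {F : Type*} [Field F] [Fintype F] (H : Subgroup (Matrix.GeneralLinearGroup (Fin 3 ⊕ Fin 3) F)) (hH : Cfsg.Geo.IsMaximalIn (Cfsg.spGL 3 F) H) :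
    (∃ W : Submodule F (Fin 3 ⊕ Fin 3 → F), W ≠ ⊥ ∧ Cfsg.Geo.IsTotallySingularFor (Cfsg.sympForm 3 F) W ∧ H = Cfsg.Geo.subspaceStabilizer W ⊓ Cfsg.spGL 3 F) ∨
    (∃ W : Submodule F (Fin 3 ⊕ Fin 3 → F), W ≠ ⊥ ∧ Cfsg.Geo.IsNondegenerateOn (Cfsg.sympForm 3 F) W ∧ Module.finrank F W < 3 ∧ H = Cfsg.Geo.subspaceStabilizer W ⊓ Cfsg.spGL 3 F) ∨
    (3 ≤ Fintype.card F ∧ ∃ D : Fin 3 → Submodule F (Fin 3 ⊕ Fin 3 → F), Cfsg.Geo.IsNondegenerateMDecomposition (Cfsg.sympForm 3 F) 2 D ∧ H = Cfsg.Geo.decompositionStabilizer D ⊓ Cfsg.spGL 3 F) ∨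
    (Odd (Fintype.card F) ∧ ∃ D : Fin 2 → Submodule F (Fin 3 ⊕ Fin 3 → F), Cfsg.Geo.IsMDecomposition 3 D ∧ (∀ i, Cfsg.Geo.IsTotallySingularFor (Cfsg.sympForm 3 F) (D i)) ∧ H = Cfsg.Geo.decompositionStabilizer D ⊓ Cfsg.spGL 3 F) ∨
    (∃ K : Subalgebra F (Matrix (Fin 3 ⊕ Fin 3) (Fin 3 ⊕ Fin 3) F), Cfsg.Geo.IsFieldSubalgebra 3 K ∧ Cfsg.Geo.IsSelfAdjointFor (Cfsg.sympForm 3 F) K ∧ (∀ k ∈ K, ∀ v : (Fin 3 ⊕ Fin 3 → F), (Cfsg.sympForm 3 F) (Matrix.mulVec k v) v = 0) ∧ H = Cfsg.Geo.subalgebraNormalizer K ⊓ Cfsg.spGL 3 F) ∨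
    (Odd (Fintype.card F) ∧ ∃ K : Subalgebra F (Matrix (Fin 3 ⊕ Fin 3) (Fin 3 ⊕ Fin 3) F), Cfsg.Geo.IsFieldSubalgebra 2 K ∧ Cfsg.Geo.IsAdjointClosedFor (Cfsg.sympForm 3 F) K ∧ ¬ Cfsg.Geo.IsSelfAdjointFor (Cfsg.sympForm 3 F) K ∧ H = Cfsg.Geo.subalgebraNormalizer K ⊓ Cfsg.spGL 3 F) ∨
    (Odd (Fintype.card F) ∧ 5 ≤ Fintype.card F ∧ ∃ (e : (Fin 3 ⊕ Fin 3) ≃ Fin 2 × Fin 3) (P : Matrix.GeneralLinearGroup (Fin 3 ⊕ Fin 3) F) (f₁ : (Fin 2 → F) → (Fin 2 → F) → F) (f₂ : (Fin 3 → F) → (Fin 3 → F) → F), Cfsg.Geo.IsSymplecticForm f₁ ∧ Cfsg.Geo.IsSymmetricForm f₂ ∧ Cfsg.Geo.IsTensorFormStructure id (Cfsg.sympForm 3 F) f₁ f₂ e P ∧ H = Cfsg.Geo.tensorProductSubgroup 2 3 e P ⊓ Cfsg.spGL 3 F) ∨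
    (∃ (F₀ : Subfield F) (r : ℕ) (P : Matrix.GeneralLinearGroup (Fin 3 ⊕ Fin 3) F) (ζ : F), r.Prime ∧ Fintype.card F = Nat.card F₀ ^ r ∧ ζ ≠ 0 ∧ Cfsg.Geo.IsFormRationalStructure (Cfsg.sympForm 3 F) F₀ ζ P ∧ H = Cfsg.Geo.subfieldSubgroup F₀ P ⊓ Cfsg.spGL 3 F) ∨
    (¬ Odd (Fintype.card F) ∧ ∃ Q : (Fin 3 ⊕ Fin 3 → F) → F, Cfsg.Geo.IsNondegenerateQuadraticForm Q ∧ (∀ u v : (Fin 3 ⊕ Fin 3 → F), QuadraticMap.polar Q u v = (Cfsg.sympForm 3 F) u v) ∧ H = Cfsg.Geo.quadSimilarityGroup Q ⊓ Cfsg.spGL 3 F) ∨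
    Cfsg.Geo.InSymplecticResidualClass H := by
  have hex : ¬ ((3 : ℕ) = 2 ∧ Fintype.card F = 2) := fun h => by omega
  have hcard2 : 1 < Fintype.card F := Fintype.one_lt_card
  have h0 := Cfsg.Agent.S5662.result 3 (by norm_num) hex H hH.1.le
    (Cfsg.Agent.H931.spGL_sup_scalars_ne (Cfsg.Agent.H931.exc_cases (by norm_num) hex) hH)
  have hpow : ∀ k t : ℕ, 3 ≤ t → k ^ t ≠ 2 * 3 := by
    intro k t ht h
    rcases Nat.lt_or_ge k 2 with hk | hk
    · have h1 : k ^ t ≤ 1 := by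
        calc k ^ t ≤ 1 ^ t := Nat.pow_le_pow_left (by omega) t
          _ = 1 := one_pow t
      omega
    · have h1 : 2 ^ 3 ≤ k ^ t := le_trans (Nat.pow_le_pow_right (by norm_num) ht) (Nat.pow_le_pow_left hk t)
      omega
  rcases Cfsg.Agent.H914.symplectic_maximal_fine (by norm_num) hex hH
    (fun k t e P _ _ ht hk => absurd hk (hpow k t ht)) h0 with
    h | h | h | h | h | h | h | h | h | h | h | h
  · exact Or.inl h
  · obtain ⟨W, hW0, hW, hev, hlt, hHW⟩ := h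
    exact Or.inr (Or.inl ⟨W, hW0, hW, hlt, hHW⟩)
  · obtain ⟨t, k, D, htk, hk, ht, hq, hD, hHD⟩ := h
    have hk2 : k = 2 ∧ t = 3 := by
      obtain ⟨j, rfl⟩ := hk
      have h1 : t * j = 3 := by nlinarith
      have h2 : t ∣ 3 := ⟨j, h1.symm⟩
      rcases (Nat.dvd_prime Nat.prime_three).mp h2 with h3 | h3
      · omega
      · subst h3
        omega
    obtain ⟨rfl, rfl⟩ := hk2
    refine Or.inr (Or.inr (Or.inl ⟨?_, D, hD, hHD⟩))
    by_contra hcon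
    exact hq ⟨by omega, rfl⟩
  · obtain ⟨D, hodd, hD, hs, hHD⟩ := h
    exact Or.inr (Or.inr (Or.inr (Or.inl ⟨hodd, D, hD, hs, hHD⟩)))
  · iterate 7 right
    left
    exact h
  · obtain ⟨R, p, k, -, -, -, -, -, -, -, -, -, hk, -⟩ := h
    exfalso
    rcases Nat.lt_or_ge k 3 with h3 | h3
    · interval_cases k <;> omega
    · have : 2 ^ 3 ≤ 2 ^ k := Nat.pow_le_pow_right (by norm_num) h3
      omega
  · obtain ⟨Q, hodd, hQ, hpol, hHQ⟩ := h
    iterate 8 right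
    left
    exact ⟨hodd, Q, hQ, hpol, hHQ⟩
  · obtain ⟨r, K, hr, hrm, hK, hs, ha, hHK⟩ := h
    have : r = 3 := (Nat.prime_dvd_prime_iff_eq hr Nat.prime_three).mp hrm
    subst this
    iterate 4 right
    left
    exact ⟨K, hK, hs, ha, hHK⟩
  · obtain ⟨K, hodd, hK, hac, hns, hHK⟩ := h
    iterate 5 right
    left
    exact ⟨hodd, K, hK, hac, hns, hHK⟩
  · obtain ⟨n₁, n₂, e, P, f₁, f₂, hodd, hn, hev, hn1, hn2, hq, hf₁, hf₂, hst, hHt⟩ := h
    have hn12 : n₁ = 2 ∧ n₂ = 3 := by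
      obtain ⟨j, rfl⟩ := hev
      have h1 : j * n₂ = 3 := by nlinarith
      have h2 : j ∣ 3 := ⟨n₂, h1.symm⟩
      rcases (Nat.dvd_prime Nat.prime_three).mp h2 with h3 | h3
      · subst h3
        omega
      · subst h3
        omega
    obtain ⟨rfl, rfl⟩ := hn12
    iterate 6 right
    left
    refine ⟨hodd, ?_, e, P, f₁, f₂, hf₁, hf₂, hst, hHt⟩
    by_contra hcon
    apply hq
    refine ⟨?_, rfl⟩
    rcases hodd with ⟨j, hj⟩
    omega
  · obtain ⟨k, t, e, P, f₁, -, hkt, -, -, -, ht, -⟩ := h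
    exact absurd hkt (hpow k t ht)
  · iterate 9 right
    exact h

end Cfsg.Agent.S5805
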