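import Cfsg.Statements.S4540
import Cfsg.Agent.H624.MajTwoB

set_option autoImplicit false
open Cfsg

namespace Cfsg.Agent.S4540

/-- Let B be a 2-block of the finite group G (relative to a maximal ideal M of the algebraic integers containing 2) of defect d with defect group D. Let z be an element of D commuting with every element of D, and let b be a block of the centralizer C of z with defect group D that induces B (a major subsection (z, b)). If b has 2-regular rank at most three, then 3·k(B) ≤ 3·k₀(B) + 2·Σ 2 ^ h(χ), where k(B) is the number of members of B, k₀(B) the number of members of height zero, and the sum runs over the members χ of B of positive height h(χ); this bound is at most 3·2 ^ d, so in particular B contains at most 2 ^ d irreducible characters. -/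
theorem result {G : Type*} [Group G] [Finite G] (M : Ideal Cfsg.AlgInt) (hM : Cfsg.IsPModular 2 M) (B : Set (Cfsg.IrrCharacter G)) (hB : Cfsg.IsPBlock M B) (D : Subgroup G) (hD : Cfsg.IsDefectGroup 2 M B D) (z : G) (hzD : z ∈ D) (hzc : ∀ d ∈ D, d * z = z * d) (b : Set (Cfsg.IrrCharacter ↥(Subgroup.centralizer ({z} : Set G)))) (hb : Cfsg.IsInducedBlock M (Subgroup.centralizer ({z} : Set G)) b B) (hbD : Cfsg.IsDefectGroup 2 M b (D.subgroupOf (Subgroup.centralizer ({z} : Set G)))) (hl : Cfsg.blockRank 2 b ≤ 3) : 3 * Nat.card B ≤ 3 * Nat.card {χ : Cfsg.IrrCharacter G // χ ∈ B ∧ Cfsg.blockHeight 2 B (χ : G → ℂ) = 0} + 2 * (∑ᶠ χ ∈ {χ : Cfsg.IrrCharacter G | χ ∈ B ∧ 1 ≤ Cfsg.blockHeight 2 B (χ : G → ℂ)}, 2 ^ Cfsg.blockHeight 2 B (χ : G → ℂ)) ∧ 3 * Nat.card {χ : Cfsg.IrrCharacter G // χ ∈ B ∧ Cfsg.blockHeight 2 B (χ : G → ℂ) = 0} + 2 * (∑ᶠ χ ∈ {χ : Cfsg.IrrCharacter G | χ ∈ B ∧ 1 ≤ Cfsg.blockHeight 2 B (χ : G → ℂ)}, 2 ^ Cfsg.blockHeight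 2 B (χ : G → ℂ)) ≤ 3 * 2 ^ Cfsg.blockDefect 2 B := by
  classical
  have := Cfsg.Agent.Characters.Core.finite_irr (G := G)
  have : Fintype B := Fintype.ofFinite B
  obtain ⟨ζ, k, P, a, hζ, hP⟩ :=
    Cfsg.Agent.H624.MajTwo.exists_proj hM hB hD hzD hzc rfl hb hbD
  obtain ⟨χ₀, hχ₀, hχ₀0⟩ := Cfsg.Agent.Blocks.Blau.exists_blockHeight_eq_zero 2
    (Cfsg.Agent.Blocks.Blau.isPBlock_nonempty hM hB)
  have h0 : ∃ ψ : B, blockHeight 2 B ((ψ : IrrCharacter G) : G → ℂ) = 0 := ⟨⟨χ₀, hχ₀⟩, hχ₀0⟩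
  set f : B → ℕ := fun ψ => blockHeight 2 B ((ψ : IrrCharacter G) : G → ℂ) with hf
  have hcard : Nat.card B = ∑ _ψ : B, 1 := by
    rw [Finset.sum_const, Finset.card_univ, Nat.card_eq_fintype_card, smul_eq_mul, mul_one]
  have hcard0 : Nat.card {χ : IrrCharacter G // χ ∈ B ∧ blockHeight 2 B (χ : G → ℂ) = 0} =
      ∑ ψ : B, if f ψ = 0 then 1 else 0 := by
    rw [Finset.sum_ite, Finset.sum_const_zero, add_zero, Finset.sum_const, smul_eq_mul, mul_one,
      ← Fintype.card_subtype, ← Nat.card_eq_fintype_card]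
    refine Nat.card_congr ⟨fun x => ⟨⟨x.1, x.2.1⟩, x.2.2⟩, fun x => ⟨x.1.1, x.1.2, x.2⟩,
      fun x => rfl, fun x => rfl⟩
  have hsum : (∑ᶠ χ ∈ {χ : IrrCharacter G | χ ∈ B ∧ 1 ≤ blockHeight 2 B (χ : G → ℂ)},
      2 ^ blockHeight 2 B (χ : G → ℂ)) = ∑ ψ : B, if f ψ = 0 then 0 else 2 ^ f ψ := by
    have h1 : ∀ χ : IrrCharacter G, (∑ᶠ (_ : χ ∈ {χ : IrrCharacter G | χ ∈ B ∧
        1 ≤ blockHeight 2 B (χ : G → ℂ)}), 2 ^ blockHeight 2 B (χ : G → ℂ)) =
        ∑ᶠ (_ : χ ∈ B), if blockHeight 2 B (χ : G → ℂ) = 0 then 0 else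
          2 ^ blockHeight 2 B (χ : G → ℂ) := by
      intro χ
      by_cases hχ : χ ∈ B
      · rw [finsum_eq_if, finsum_eq_if, if_pos hχ]
        by_cases hχ0 : blockHeight 2 B (χ : G → ℂ) = 0
        · rw [if_neg (by rw [Set.mem_ofPred_eq]; omega), if_pos hχ0]
        · rw [if_pos ⟨hχ, by omega⟩, if_neg hχ0]
      · rw [finsum_eq_if, finsum_eq_if, if_neg hχ, if_neg (fun h => hχ h.1)]
    rw [finsum_congr h1, finsum_mem_eq_finite_toFinset_sum _ (Set.toFinite B),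
      ← Finset.sum_subtype (Set.toFinite B).toFinset (p := fun x => x ∈ B)
        (fun x => Set.Finite.mem_toFinset _)
        (fun χ : IrrCharacter G => if blockHeight 2 B (χ : G → ℂ) = 0 then 0 else
          2 ^ blockHeight 2 B (χ : G → ℂ))]
  rw [hcard0, hsum, hcard, Finset.mul_sum, Finset.mul_sum, Finset.mul_sum,
    ← Finset.sum_add_distrib]
  have hmid : ∀ ψ : B, (3 * (if f ψ = 0 then 1 else 0) + 2 * (if f ψ = 0 then 0 else 2 ^ f ψ) : ℕ)
      = if f ψ = 0 then 3 else 2 ^ (f ψ + 1) := by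
    intro ψ
    split_ifs
    · rfl
    · rw [pow_succ]; ring
  rw [Finset.sum_congr rfl (fun ψ _ => hmid ψ)]
  constructor
  · refine Finset.sum_le_sum fun ψ _ => ?_
    split_ifs with hψ
    · norm_num
    · have h3 : (2 : ℕ) ^ 2 ≤ 2 ^ (f ψ + 1) := Nat.pow_le_pow_right (by norm_num) (by omega)
      omega
  · have hr : (blockRank 2 b : ℤ) ≤ 3 := by exact_mod_cast hl
    rcases hP.main hM hζ h0 hr with h1 | h1
    · have h2 : ∑ ψ : B, (if f ψ = 0 then 3 else 2 ^ (f ψ + 1) : ℤ) ≤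
          ∑ ψ : B, 3 * (4 : ℤ) ^ f ψ := by
        refine Finset.sum_le_sum fun ψ _ => ?_
        split_ifs with hψ
        · rw [hψ, pow_zero, mul_one]
        · have h3 : (2 : ℤ) ^ f ψ ≤ 4 ^ f ψ := pow_le_pow_left₀ (by norm_num) (by norm_num) _
          have h4 : (0 : ℤ) ≤ 4 ^ f ψ := by positivity
          rw [pow_succ]
          linarith
      rw [← Finset.mul_sum] at h2
      have h3 : ∑ ψ : B, (if f ψ = 0 then 3 else 2 ^ (f ψ + 1) : ℤ) ≤
          3 * 2 ^ blockDefect 2 B := h2.trans (by linarith)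
      exact_mod_cast h3
    · exact_mod_cast h1

end Cfsg.Agent.S4540
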