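import Cfsg.Statements.S4541
import Cfsg.Agent.H617.ContrAvg

set_option autoImplicit false
open Cfsg

namespace Cfsg.Agent.S4541

open Cfsg.Agent.Characters
open Cfsg.Agent.H617.TwoAvg Cfsg.Agent.H617.ContrAvg

/-- The two bounds: `k₀ ≤ 2 ^ q * t χ` for every `χ` of height zero, and the sum of the odd
numbers `t χ` over the characters of height zero is at most `2 ^ q * l`. -/
theorem bounds {G : Type*} [Group G] [Finite G] (M : Ideal Cfsg.AlgInt)
    (hM : Cfsg.IsPModular 2 M) (B : Set (Cfsg.IrrCharacter G)) (u : G)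
    (hu : ∃ j : ℕ, orderOf u = 2 ^ j)
    (b : Set (Cfsg.IrrCharacter ↥(Subgroup.centralizer ({u} : Set G))))
    (hb : Cfsg.IsInducedBlock M (Subgroup.centralizer ({u} : Set G)) b B) :
    ∃ t : {χ : Cfsg.IrrCharacter G // χ ∈ B ∧ Cfsg.blockHeight 2 B (χ : G → ℂ) = 0} → ℤ,
      (∀ χ, 0 < t χ ∧ ¬ 2 ∣ t χ ∧
        (Nat.card {χ : Cfsg.IrrCharacter G // χ ∈ B ∧ Cfsg.blockHeight 2 B (χ : G → ℂ) = 0} : ℤ) ≤
          2 ^ blockDefect 2 b * t χ) ∧
      ∑ᶠ χ, t χ ≤ 2 ^ blockDefect 2 b * (blockRank 2 b : ℤ) := by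
  classical
  obtain ⟨j, hj⟩ := hu
  have hu : u ^ 2 ^ (j + 1) = 1 := by
    rw [pow_succ, pow_mul, ← hj, pow_orderOf_eq_one, one_pow]
  have := Fintype.ofFinite G
  have := Core.finite_irr (G := G)
  have := Fintype.ofFinite (IrrCharacter G)
  let H : Subgroup G := Subgroup.centralizer ({u} : Set G)
  have := Fintype.ofFinite H
  have := Core.finite_irr (G := H)
  have := Fintype.ofFinite (IrrCharacter H)
  have : Fintype b := Fintype.ofFinite b
  have : Fintype B := Fintype.ofFinite B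
  obtain ⟨a, ha⟩ := exists_coeff (H := H) hM rfl hu hb.1
  let S : Finset (IrrCharacter G) :=
    Finset.univ.filter fun χ => χ ∈ B ∧ blockHeight 2 B (χ : G → ℂ) = 0
  have hS : ∀ χ, χ ∈ S ↔ χ ∈ B ∧ blockHeight 2 B (χ : G → ℂ) = 0 := by simp [S]
  have hcard : Nat.card {χ : Cfsg.IrrCharacter G // χ ∈ B ∧
      Cfsg.blockHeight 2 B (χ : G → ℂ) = 0} = S.card := by
    rw [Nat.card_eq_fintype_card, Fintype.card_subtype]
  have hodd : ∀ χ ∈ S, ∀ ψ ∈ S, ¬ (2 : ℤ) ∣ ∑ m ∈ Finset.range (2 ^ j), a χ ψ m := by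
    intro χ hχ ψ hψ
    rw [hS] at hχ hψ
    exact odd_sum_coeff hM rfl hu hb ha hχ.1 hψ.1 hχ.2 hψ.2
  have hsq : ∀ χ ∈ S, ∀ ψ ∈ S, 1 ≤ ∑ m ∈ Finset.range (2 ^ j), a χ ψ m ^ 2 := by
    intro χ hχ ψ hψ
    have h1 := hodd χ hχ ψ hψ
    have h2 : 0 ≤ ∑ m ∈ Finset.range (2 ^ j), a χ ψ m ^ 2 :=
      Finset.sum_nonneg fun m _ => sq_nonneg _
    rcases h2.lt_or_eq with h2 | h2
    · exact h2
    · exfalso
      apply h1
      refine Finset.dvd_sum fun m hm => ?_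
      have h3 := (Finset.sum_eq_zero_iff_of_nonneg (fun m _ => sq_nonneg (a χ ψ m))).1 h2.symm m hm
      rw [pow_eq_zero_iff two_ne_zero] at h3
      rw [h3]
      exact dvd_zero _
  have hodd0 : ∀ χ ∈ S, ¬ (2 : ℤ) ∣ a χ χ 0 := by
    intro χ hχ
    rw [← sum_coeff_self ha χ]
    exact hodd χ hχ χ hχ
  have hpos : ∀ χ ∈ S, 0 < a χ χ 0 := by
    intro χ hχ
    rcases (coeff_self_nonneg ha χ).lt_or_eq with h | h
    · exact h
    · exfalso
      apply hodd0 χ hχ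
      rw [← h]
      exact dvd_zero _
  have hbound : ∀ χ ∈ S, (S.card : ℤ) ≤ 2 ^ blockDefect 2 b * a χ χ 0 := by
    intro χ hχ
    rw [← sum_sq_coeff hM rfl hu hb ha χ]
    have h1 : ∑ ψ : B, ∑ m ∈ Finset.range (2 ^ j), a χ ψ m ^ 2 =
        ∑ ψ ∈ B.toFinset, ∑ m ∈ Finset.range (2 ^ j), a χ ψ m ^ 2 := by
      rw [Finset.sum_subtype B.toFinset (p := fun x => x ∈ B) (fun x => Set.mem_toFinset)
        (fun ψ : IrrCharacter G => ∑ m ∈ Finset.range (2 ^ j), a χ ψ m ^ 2)]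
    rw [h1]
    calc (S.card : ℤ) = ∑ ψ ∈ S, 1 := by simp
      _ ≤ ∑ ψ ∈ S, ∑ m ∈ Finset.range (2 ^ j), a χ ψ m ^ 2 :=
          Finset.sum_le_sum fun ψ hψ => hsq χ hχ ψ hψ
      _ ≤ _ := Finset.sum_le_sum_of_subset_of_nonneg (fun ψ hψ => by
            rw [Set.mem_toFinset]; exact ((hS ψ).1 hψ).1)
            (fun ψ _ _ => Finset.sum_nonneg fun m _ => sq_nonneg _)
  refine ⟨fun χ => a χ χ 0, fun χ => ?_, ?_⟩
  · have hχ : (χ : IrrCharacter G) ∈ S := (hS _).2 χ.2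
    refine ⟨hpos _ hχ, hodd0 _ hχ, ?_⟩
    rw [hcard]
    exact hbound _ hχ
  · rw [finsum_eq_sum_of_fintype, ← sum_coeff_self_block hM rfl hu hb ha]
    have h1 : ∑ χ : B, a χ χ 0 = ∑ χ ∈ B.toFinset, a χ χ 0 := by
      rw [Finset.sum_subtype B.toFinset (p := fun x => x ∈ B) (fun x => Set.mem_toFinset)
        (fun χ : IrrCharacter G => a χ χ 0)]
    have h2 : ∑ χ : {χ : Cfsg.IrrCharacter G // χ ∈ B ∧ Cfsg.blockHeight 2 B (χ : G → ℂ) = 0},
        a χ χ 0 = ∑ χ ∈ S, a χ χ 0 := by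
      rw [Finset.sum_subtype S (p := fun χ => χ ∈ B ∧ Cfsg.blockHeight 2 B (χ : G → ℂ) = 0) hS
        (fun χ : IrrCharacter G => a χ χ 0)]
    rw [h1, h2]
    exact Finset.sum_le_sum_of_subset_of_nonneg (fun ψ hψ => by
            rw [Set.mem_toFinset]; exact ((hS ψ).1 hψ).1)
            (fun χ _ _ => coeff_self_nonneg ha χ)

theorem arith {T : Type*} [Finite T] (t : T → ℤ) (q l : ℕ)
    (ht : ∀ χ, 0 < t χ ∧ ¬ 2 ∣ t χ ∧ (Nat.card T : ℤ) ≤ 2 ^ q * t χ)
    (hsum : ∑ᶠ χ, t χ ≤ 2 ^ q * (l : ℤ)) :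
    (Odd (Nat.sqrt l) → Nat.card T ≤ Nat.sqrt l * 2 ^ q) ∧
      (¬ Odd (Nat.sqrt l) → (Nat.sqrt l + 1) * Nat.card T ≤ l * 2 ^ q) ∧
      (l ≤ 3 → Nat.card T ≤ 2 ^ q) := by
  classical
  have : Fintype T := Fintype.ofFinite T
  set s := Nat.sqrt l with hs
  have hs1 : s * s ≤ l := Nat.sqrt_le l
  have hs2 : l < (s + 1) * (s + 1) := Nat.lt_succ_sqrt l
  rw [finsum_eq_sum_of_fintype] at hsum
  have hcard : (Nat.card T : ℤ) = ∑ _χ : T, 1 := by
    rw [Nat.card_eq_fintype_card]; simp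
  have hL : ∀ c : ℤ, (∃ χ, t χ ≤ c) → (Nat.card T : ℤ) ≤ 2 ^ q * c := by
    rintro c ⟨χ, hχ⟩
    exact (ht χ).2.2.trans (mul_le_mul_of_nonneg_left hχ (by positivity))
  have hR : ∀ c : ℤ, (∀ χ, c ≤ t χ) → (Nat.card T : ℤ) * c ≤ 2 ^ q * l := by
    intro c hc
    refine le_trans ?_ hsum
    rw [hcard, Finset.sum_mul]
    exact Finset.sum_le_sum fun χ _ => by rw [one_mul]; exact hc χ
  have hq0 : (0 : ℤ) < 2 ^ q := by positivity
  have h1 : Odd s → Nat.card T ≤ s * 2 ^ q := by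
    intro hodd
    by_cases h : ∃ χ, t χ ≤ s
    · have := hL s h
      zify
      linarith
    · push Not at h
      have h2 : ∀ χ, (s : ℤ) + 2 ≤ t χ := by
        intro χ
        have h3 := h χ
        have h4 := (ht χ).2.1
        obtain ⟨r, hr⟩ := hodd
        omega
      have h3 := hR _ h2
      have h4 : (l : ℤ) ≤ s * (s + 2) := by
        have : (l : ℤ) < (s + 1) * (s + 1) := by exact_mod_cast hs2
        nlinarith
      have h5 : (Nat.card T : ℤ) * (s + 2) ≤ (s * 2 ^ q) * (s + 2) := by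
        nlinarith
      have h6 := le_of_mul_le_mul_right h5 (by positivity)
      zify
      exact h6
  have h2 : ¬ Odd s → (s + 1) * Nat.card T ≤ l * 2 ^ q := by
    intro hodd
    rw [Nat.not_odd_iff_even] at hodd
    by_cases h : ∃ χ, t χ ≤ s
    · obtain ⟨χ, hχ⟩ := h
      have h3 : t χ ≤ s - 1 := by
        have h4 := (ht χ).2.1
        obtain ⟨r, hr⟩ := hodd
        omega
      have h4 := hL _ ⟨χ, h3⟩
      zify
      have h5 : (s : ℤ) * s ≤ l := by exact_mod_cast hs1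
      have h6 : ((s : ℤ) + 1) * Nat.card T ≤ (s + 1) * (2 ^ q * (s - 1)) :=
        mul_le_mul_of_nonneg_left h4 (by positivity)
      nlinarith
    · push Not at h
      have h3 := hR ((s : ℤ) + 1) fun χ => h χ
      zify
      linarith
  refine ⟨h1, h2, fun hl3 => ?_⟩
  rcases Nat.eq_zero_or_pos l with h0 | hpos
  · have hs0 : s = 0 := by rw [hs, h0]; rfl
    have h3 := h2 (by rw [hs0]; decide)
    rw [h0, hs0, zero_add, one_mul, zero_mul] at h3
    exact h3.trans (Nat.zero_le _)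
  · have hs1 : s = 1 := by
      have h4 : s < 2 := by
        by_contra h
        push Not at h
        nlinarith
      have h5 : s ≠ 0 := by
        intro h
        rw [h] at hs2
        omega
      omega
    have h3 := h1 (by rw [hs1]; exact odd_one)
    rw [hs1, one_mul] at h3
    exact h3

/-- Let B be a 2-block of the finite group G (relative to a maximal ideal M of the algebraic integers containing 2), u a 2-element, and b a block of the centralizer of u inducing B (a subsection (u, b)), of defect q and 2-regular rank l; write s for the integer square root of l and k₀(B) for the number of members of B of height zero. If s is odd then k₀(B) ≤ s·2 ^ q, and otherwise (s + 1)·k₀(B) ≤ l·2 ^ q; in particular k₀(B) ≤ 2 ^ q when l ≤ 3. -/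
theorem result {G : Type*} [Group G] [Finite G] (M : Ideal Cfsg.AlgInt) (hM : Cfsg.IsPModular 2 M) (B : Set (Cfsg.IrrCharacter G)) (hB : Cfsg.IsPBlock M B) (u : G) (hu : ∃ j : ℕ, orderOf u = 2 ^ j) (b : Set (Cfsg.IrrCharacter ↥(Subgroup.centralizer ({u} : Set G)))) (hb : Cfsg.IsInducedBlock M (Subgroup.centralizer ({u} : Set G)) b B) : (Odd (Nat.sqrt (Cfsg.blockRank 2 b)) → Nat.card {χ : Cfsg.IrrCharacter G // χ ∈ B ∧ Cfsg.blockHeight 2 B (χ : G → ℂ) = 0} ≤ Nat.sqrt (Cfsg.blockRank 2 b) * 2 ^ Cfsg.blockDefect 2 b) ∧ (¬ Odd (Nat.sqrt (Cfsg.blockRank 2 b)) → (Nat.sqrt (Cfsg.blockRank 2 b) + 1) * Nat.card {χ : Cfsg.IrrCharacter G // χ ∈ B ∧ Cfsg.blockHeight 2 B (χ : G → ℂ) = 0} ≤ Cfsg.blockRank 2 b * 2 ^ Cfsg.blockDefect 2 b) ∧ (Cfsg.blockRank 2 b ≤ 3 → Nat.card {χ : Cfsg.IrrCharacter G // χ ∈ B ∧ Cfsg.blockHeight 2 B (χ : G → ℂ) = 0} ≤ 2 ^ Cfsg.blockDefect 2 b) := by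
  obtain ⟨t, ht, hsum⟩ := bounds M hM B u hu b hb
  have := Core.finite_irr (G := G)
  exact arith t _ _ ht hsum

end Cfsg.Agent.S4541
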