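import Cfsg.Statements.S4750
import Cfsg.Agent.Characters.Core
import Cfsg.Agent.H666.TIComm

set_option autoImplicit false
open scoped Pointwise
open Cfsg

namespace Cfsg.Agent.S4750

open Module in
/-- Let P be a Sylow p-subgroup of the finite group G that meets each conjugate g P g⁻¹ with g outside N_G(P) trivially, χ a character of G with χ(1)² ≤ |P|, and H a subgroup of G containing N_G(P). Then the inner product of χ with itself over G equals the inner product over H of the restriction of χ to H. -/
theorem result {G : Type*} [Group G] [Fintype G] [DecidableEq G] (p : ℕ) [Fact p.Prime] (P : Sylow p G) (hTI : ∀ g : G, g ∉ Subgroup.normalizer ((P : Subgroup G) : Set G) → (P : Subgroup G) ⊓ (MulAut.conj g • (P : Subgroup G)) = ⊥) (χ : G → ℂ) (hχ : Cfsg.IsCharacter G χ) (hdeg : Cfsg.charDegree χ ^ 2 ≤ Nat.card ↥(P : Subgroup G)) (H : Subgroup G) [Fintype ↥H] (hH : Subgroup.normalizer ((P : Subgroup G) : Set G) ≤ H) : Cfsg.classInner χ χ = Cfsg.classInner (fun h : ↥H => χ h) (fun h : ↥H => χ h) := by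
  obtain ⟨n, ρ, rfl⟩ := hχ
  have hPH : (P : Subgroup G) ≤ H := le_trans Subgroup.le_normalizer hH
  have hn : Cfsg.charDegree ρ.character = n := by
    unfold Cfsg.charDegree
    rw [Representation.char_one]
    simp
  rw [hn] at hdeg
  have hfree := Cfsg.Agent.H666.free_of_ti p P hTI H hH
  let τ : Representation ℂ H (Fin n → ℂ) := ρ.comp H.subtype
  have hτ : (fun h : ↥H => ρ.character h) = τ.character := rfl
  rw [hτ, Cfsg.Agent.Characters.Core.classInner_character, Cfsg.Agent.Characters.Core.classInner_character]
  congr 1
  have h1 := LinearEquiv.finrank_eq (Representation.invariantsEquivIntertwiningMap ρ ρ)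
  have h2 := LinearEquiv.finrank_eq (Representation.invariantsEquivIntertwiningMap τ τ)
  rw [← h1, ← h2]
  have h3 : (Representation.linHom ρ ρ).invariants = (Representation.linHom τ τ).invariants := by
    ext f
    have e1 : f ∈ (Representation.linHom ρ ρ).invariants ↔ ρ.IsIntertwiningMap ρ f :=
      Representation.mem_linHom_invariants_iff_isIntertwining f
    have e2 : f ∈ (Representation.linHom τ τ).invariants ↔ τ.IsIntertwiningMap τ f :=
      Representation.mem_linHom_invariants_iff_isIntertwining f
    rw [e1, e2]
    constructor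
    · intro h
      exact ⟨fun g v => h.isIntertwining g.1 v⟩
    · intro h
      refine ⟨fun g v => ?_⟩
      have hf : ∀ h' ∈ H, f ∘ₗ ρ h' = ρ h' ∘ₗ f := fun h' hh' =>
        LinearMap.ext fun v => h.isIntertwining ⟨h', hh'⟩ v
      have := Cfsg.Agent.H666.comm_of_comm p P H P.isPGroup' hPH hfree ρ (by simpa using hdeg) f hf g
      exact LinearMap.congr_fun this v
  rw [h3]

end Cfsg.Agent.S4750
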