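import Cfsg.Statements.S4620
import Cfsg.Agent.Lib.Cores
import Cfsg.Agent.S0542

set_option autoImplicit false
set_option linter.style.haveILetI false
open scoped Pointwise
open Cfsg

namespace Cfsg.Agent.S4620

open Subgroup Cfsg.Agent.Lib.Cores

/-- In a TI situation: if `Q ≤ P`, `Q ≠ ⊥`, then `N_G(Q) ≤ N_G(P)`. -/
theorem normalizer_le {G : Type*} [Group G] (P Q : Subgroup G)
    (hTI : (∀ g : G, g ∉ Subgroup.normalizer (P : Set G) → P ⊓ (MulAut.conj g • P) = ⊥))
    (hQ : Q ≤ P) (hQ1 : Q ≠ ⊥) :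
    Subgroup.normalizer (Q : Set G) ≤ Subgroup.normalizer (P : Set G) := by
  intro g hg
  by_contra hn
  have h := hTI g hn
  apply hQ1
  rw [eq_bot_iff, ← h]
  refine le_inf hQ ?_
  intro x hx
  refine ⟨g⁻¹ * x * g, hQ ?_, by simp [mul_assoc]⟩
  have h1 := (Subgroup.mem_normalizer_iff.1 (inv_mem hg) x).1 hx
  simpa using h1

theorem centralizer_le {G : Type*} [Group G] (P Q : Subgroup G)
    (hTI : (∀ g : G, g ∉ Subgroup.normalizer (P : Set G) → P ⊓ (MulAut.conj g • P) = ⊥))
    (hQ : Q ≤ P) (hQ1 : Q ≠ ⊥) :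
    Subgroup.centralizer (Q : Set G) ≤ Subgroup.normalizer (P : Set G) := by
  refine le_trans ?_ (normalizer_le P Q hTI hQ hQ1)
  intro x hx
  rw [mem_centralizer_iff] at hx
  rw [mem_normalizer_iff]
  intro q
  constructor
  · intro hq
    rw [← hx q hq, mul_assoc, mul_inv_cancel, mul_one]
    exact hq
  · intro hq
    have h := hx _ hq
    have h2 : q = x * q * x⁻¹ := by
      have h3 : x⁻¹ * (x * q * x⁻¹ * x) = x⁻¹ * (x * (x * q * x⁻¹)) := by rw [h]
      simpa [mul_assoc] using h3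
    rw [h2]
    exact hq

/-- A nontrivial normal subgroup of `H` meets a Sylow subgroup nontrivially when `O_{p'}(H) = 1`. -/
theorem inf_ne_bot {H : Type*} [Group H] [Finite H] (p : ℕ) [hp : Fact p.Prime]
    (hOp' : Cfsg.pPrimeCore p H = ⊥) (P : Sylow p H) (K : Subgroup H) (hK : K.Normal)
    (hK1 : K ≠ ⊥) : K ⊓ (P : Subgroup H) ≠ ⊥ := by
  intro h
  apply hK1
  rw [eq_bot_iff, ← hOp']
  refine le_pPrimeCore hK ?_
  rw [Nat.coprime_comm, hp.out.coprime_iff_not_dvd]
  intro hd
  haveI := hK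
  obtain ⟨x, hx⟩ := exists_prime_orderOf_dvd_card' (G := K) p hd
  have hxp : IsPGroup p (zpowers (x : H)) := by
    rw [IsPGroup.iff_card]
    exact ⟨1, by rw [Nat.card_zpowers, Subgroup.orderOf_coe, hx, pow_one]⟩
  obtain ⟨R, hR⟩ := hxp.exists_le_sylow
  obtain ⟨g, hg⟩ := MulAction.exists_smul_eq H R P
  have h1 : g * (x : H) * g⁻¹ ∈ (P : Subgroup H) := by
    rw [← hg]
    exact ⟨x, hR (mem_zpowers _), rfl⟩
  have h2 : g * (x : H) * g⁻¹ ∈ K ⊓ (P : Subgroup H) := ⟨hK.conj_mem _ x.2 g, h1⟩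
  rw [h, mem_bot] at h2
  have h3 : (x : H) = 1 := by
    have := congrArg (fun t => g⁻¹ * t * g) h2
    simpa [mul_assoc] using this
  have h4 : orderOf x = 1 := by
    rw [orderOf_eq_one_iff]
    exact Subtype.ext h3
  rw [h4] at hx
  exact hp.out.one_lt.ne hx

theorem inf_eq_bot {N : Type*} [Group N] (p : ℕ) (B R : Subgroup N)
    (hB : Cfsg.pCore p B = ⊥) (hR : IsPGroup p R) (hn : B ≤ normalizer (R : Set N)) :
    B ⊓ R = ⊥ := by
  have h1 : (R.subgroupOf B).Normal := by
    refine ⟨fun n hn' g => ?_⟩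
    rw [mem_subgroupOf] at hn' ⊢
    exact (mem_normalizer_iff.1 (hn g.2) _).1 hn'
  have h2 : R.subgroupOf B ≤ pCore p B := le_pCore h1 hR.comap_subtype
  rw [hB, le_bot_iff, subgroupOf_eq_bot] at h2
  exact h2.symm.eq_bot

theorem pCore_eq_bot_of_normal {N : Type*} [Group N] (p : ℕ) (B : Subgroup N) (hB : B.Normal)
    (hN : Cfsg.pCore p N = ⊥) : Cfsg.pCore p B = ⊥ := by
  have h := map_subtype_pCore p hB
  rw [hN, inf_bot_eq] at h
  exact (map_eq_bot_iff_of_injective _ B.subtype_injective).1 h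

theorem pPrimeCore_eq_bot_of_normal {N : Type*} [Group N] [Finite N] (p : ℕ) (B : Subgroup N)
    (hB : B.Normal) (hN : Cfsg.pPrimeCore p N = ⊥) : Cfsg.pPrimeCore p B = ⊥ := by
  have h := map_subtype_pPrimeCore p hB
  rw [hN, inf_bot_eq] at h
  exact (map_eq_bot_iff_of_injective _ B.subtype_injective).1 h

theorem minimal_exists {G : Type*} [Group G] [Finite G] (N : Subgroup G) (hN : N.Normal)
    (hN1 : N ≠ ⊥) : ∃ K : Subgroup G, K.Normal ∧ K ≠ ⊥ ∧ K ≤ N ∧
      ∀ L : Subgroup G, L.Normal → L ≠ ⊥ → L ≤ K → L = K := by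
  obtain ⟨K, hK⟩ := (Set.toFinite {K : Subgroup G | K.Normal ∧ K ≠ ⊥ ∧ K ≤ N}).exists_minimal
    ⟨N, hN, hN1, le_rfl⟩
  exact ⟨K, hK.1.1, hK.1.2.1, hK.1.2.2, fun L h1 h2 h3 =>
    le_antisymm h3 (hK.2 ⟨h1, h2, h3.trans hK.1.2.2⟩ h3)⟩

/-- Let H be a finite group with no nontrivial normal p-subgroup and no nontrivial normal subgroup of order prime to p, whose Sylow p-subgroup P is nontrivial and a trivial-intersection set (P meets its conjugates by elements outside N_H(P) trivially). Then H has a unique minimal normal subgroup N; N is non-abelian simple with trivial centralizer in H (so H embeds in Aut(N)), and a Sylow p-subgroup of N is again a nontrivial trivial-intersection set in N. -/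
theorem result {H : Type*} [Group H] [Finite H] (p : ℕ) [Fact p.Prime] (hOp : Cfsg.pCore p H = ⊥) (hOp' : Cfsg.pPrimeCore p H = ⊥) (P : Sylow p H) (hP1 : (P : Subgroup H) ≠ ⊥)
    (hTI : ∀ g : H, g ∉ Subgroup.normalizer ((P : Subgroup H) : Set H) → (P : Subgroup H) ⊓ (MulAut.conj g • (P : Subgroup H)) = ⊥) :
    ∃ N : Subgroup H, N.Normal ∧ N ≠ ⊥ ∧ (∀ K : Subgroup H, K.Normal → K ≠ ⊥ → N ≤ K) ∧
      IsSimpleGroup N ∧ ¬ IsMulCommutative N ∧ Subgroup.centralizer (N : Set H) = ⊥ ∧
      ∀ Q : Sylow p N, (Q : Subgroup N) ≠ ⊥ ∧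
        ∀ n : N, n ∉ Subgroup.normalizer ((Q : Subgroup N) : Set N) → (Q : Subgroup N) ⊓ (MulAut.conj n • (Q : Subgroup N)) = ⊥ := by
  have hHtop : (⊤ : Subgroup H) ≠ ⊥ := by
    intro h
    exact hP1 (le_bot_iff.1 (h ▸ le_top))
  obtain ⟨N, hN, hN1, -, hNmin⟩ := minimal_exists (⊤ : Subgroup H) inferInstance hHtop
  haveI := hN
  -- `O_p(N) = 1`, `O_{p'}(N) = 1`
  have hOpN : Cfsg.pCore p N = ⊥ := pCore_eq_bot_of_normal p N hN hOp
  have hOpN' : Cfsg.pPrimeCore p N = ⊥ := pPrimeCore_eq_bot_of_normal p N hN hOp'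
  obtain ⟨T, hT⟩ := S0542.result p N (Normal.isSubnormal hN) P
  have hTn : ∀ n : N, (n : H) ∈ normalizer ((P : Subgroup H) : Set H) →
      n ∈ normalizer ((T : Subgroup N) : Set N) := by
    intro n hn
    rw [mem_normalizer_iff] at hn ⊢
    intro x
    rw [hT, mem_subgroupOf, mem_subgroupOf]
    exact hn x
  have hT1 : (T : Subgroup N) ≠ ⊥ := by
    intro h
    have h2 := inf_ne_bot p hOp' P N hN hN1
    apply h2
    rw [hT, subgroupOf_eq_bot] at h
    exact h.symm.eq_bot
  have hTnn : ¬ (T : Subgroup N).Normal := by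
    intro h
    exact hT1 (le_bot_iff.1 (hOpN ▸ le_pCore h T.isPGroup'))
  -- two nontrivial normal subgroups of `N` do not commute
  have key : ∀ A B : Subgroup N, A.Normal → B.Normal → A ≠ ⊥ → B ≠ ⊥ →
      (∀ a ∈ A, ∀ b ∈ B, a * b = b * a) → False := by
    intro A B hA hB hA1 hB1 hc
    have h1 := inf_ne_bot p hOpN' T A hA hA1
    have h2 := inf_ne_bot p hOpN' T B hB hB1
    apply h2
    refine inf_eq_bot p B T (pCore_eq_bot_of_normal p B hB hOpN) T.isPGroup' ?_
    intro b hb
    apply hTn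
    refine centralizer_le (P : Subgroup H) ((A ⊓ (T : Subgroup N)).map N.subtype) hTI ?_ ?_ ?_
    · rintro _ ⟨x, hx, rfl⟩
      have h3 := hx.2
      rw [hT] at h3
      exact h3
    · intro h
      exact h1 ((map_eq_bot_iff_of_injective _ N.subtype_injective).1 h)
    · rw [mem_centralizer_iff]
      rintro _ ⟨x, hx, rfl⟩
      have h3 := hc x hx.1 b hb
      exact congrArg Subtype.val h3
  -- `N` is simple
  have hmin : ∀ L : Subgroup N, L.Normal → L ≠ ⊥ →
      (∀ K : Subgroup N, K.Normal → K ≠ ⊥ → K ≤ L → K = L) → L = ⊤ := by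
    intro L hL hL1 hLmin
    have h1 : ∀ h : H, ∀ x : N, x ∈ L → ∃ y ∈ L, (x : H) = h * (y : H) * h⁻¹ := by
      intro h x hx
      let φ : N ≃* N := MulAut.conjNormal h
      have hφ : ∀ y : N, ((φ y : N) : H) = h * y * h⁻¹ := fun y => MulAut.conjNormal_apply h y
      have hLn : (L.map φ.toMonoidHom).Normal := hL.map _ φ.surjective
      have hL2 : L.map φ.toMonoidHom ≠ ⊥ := by
        intro h
        exact hL1 ((map_eq_bot_iff_of_injective _ φ.injective).1 h)
      have hI : L ⊓ L.map φ.toMonoidHom ≠ ⊥ := by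
        intro h0
        refine key L (L.map φ.toMonoidHom) hL hLn hL1 hL2 ?_
        intro a ha b hb
        exact (Subgroup.commute_of_normal_of_disjoint L (L.map φ.toMonoidHom) hL hLn
          (disjoint_iff.2 h0) a b ha hb).eq
      haveI := hL
      haveI := hLn
      have h3 := hLmin _ (inferInstance : (L ⊓ L.map φ.toMonoidHom).Normal) hI inf_le_left
      rw [← h3] at hx
      obtain ⟨y, hy, hy2⟩ := hx.2
      refine ⟨y, hy, ?_⟩
      rw [← hφ y]
      exact congrArg Subtype.val hy2.symm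
    have h2 : (L.map N.subtype).Normal := by
      refine ⟨?_⟩
      rintro _ ⟨x, hx, rfl⟩ g
      obtain ⟨y, hy, hxy⟩ := h1 g⁻¹ x hx
      refine ⟨y, hy, ?_⟩
      simp only [coe_subtype]
      rw [hxy]
      group
    have h3 := hNmin _ h2 (fun h => hL1 ((map_eq_bot_iff_of_injective _ N.subtype_injective).1 h))
      (map_subtype_le L)
    rw [eq_top_iff]
    intro x _
    have h4 : (x : H) ∈ L.map N.subtype := by
      rw [h3]; exact x.2
    obtain ⟨y, hy, hy2⟩ := h4
    have : y = x := Subtype.ext hy2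
    rw [← this]; exact hy
  have hsimple : IsSimpleGroup N := by
    haveI : Nontrivial N := (nontrivial_iff_ne_bot N).2 hN1
    refine ⟨fun K hK => ?_⟩
    by_cases hK1 : K = ⊥
    · exact Or.inl hK1
    · right
      obtain ⟨L, hL, hL1, hLK, hLmin⟩ := minimal_exists K hK hK1
      have := hmin L hL hL1 hLmin
      rw [this] at hLK
      exact top_le_iff.1 hLK
  have hcent : Subgroup.centralizer (N : Set H) = ⊥ := by
    by_contra hC
    have hCn : (Subgroup.centralizer (N : Set H)).Normal := inferInstance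
    have h1 := inf_ne_bot p hOp' P _ hCn hC
    apply hTnn
    rw [← normalizer_eq_top_iff, eq_top_iff]
    intro n _
    apply hTn
    refine centralizer_le (P : Subgroup H) _ hTI inf_le_right h1 ?_
    rw [mem_centralizer_iff]
    rintro x ⟨hx, -⟩
    exact ((mem_centralizer_iff.1 hx) n n.2).symm
  refine ⟨N, hN, hN1, ?_, hsimple, ?_, hcent, ?_⟩
  · intro K hK hK1
    have h1 : K ⊓ N ≠ ⊥ := by
      intro h
      apply hK1
      rw [eq_bot_iff, ← hcent]
      intro k hk
      rw [mem_centralizer_iff]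
      intro n hn
      exact ((Subgroup.commute_of_normal_of_disjoint K N hK hN (disjoint_iff.2 h) k n hk hn).eq).symm
    haveI := hK
    have h2 := hNmin (K ⊓ N) inferInstance h1 inf_le_right
    rw [← h2]
    exact inf_le_left
  · intro hcomm
    apply hTnn
    refine ⟨fun n hn g => ?_⟩
    have : g * n = n * g := hcomm.is_comm.comm g n
    rw [this, mul_assoc, mul_inv_cancel, mul_one]
    exact hn
  · intro Q
    obtain ⟨m, hm⟩ := MulAction.exists_smul_eq N T Q
    have hQT : ∀ x : N, x ∈ (Q : Subgroup N) ↔ m⁻¹ * x * m ∈ (T : Subgroup N) := by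
      intro x
      rw [← hm]
      constructor
      · rintro ⟨y, hy, rfl⟩
        have : m⁻¹ * (m * y * m⁻¹) * m = y := by group
        change m⁻¹ * (m * y * m⁻¹) * m ∈ (T : Subgroup N)
        rw [this]
        exact hy
      · intro h
        exact ⟨m⁻¹ * x * m, h, by simp [mul_assoc]⟩
    refine ⟨?_, ?_⟩
    · intro h
      apply hT1
      rw [eq_bot_iff]
      intro x hx
      have h1 : m * x * m⁻¹ ∈ (Q : Subgroup N) := by
        rw [hQT]
        have : m⁻¹ * (m * x * m⁻¹) * m = x := by group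
        rw [this]; exact hx
      rw [h, mem_bot] at h1
      rw [mem_bot]
      have := congrArg (fun t => m⁻¹ * t * m) h1
      simpa [mul_assoc] using this
    · intro n hn
      by_contra hne
      apply hn
      obtain ⟨x, hx1⟩ := (Subgroup.ne_bot_iff_exists_ne_one).1 hne
      have hx := x.2
      have h1 : (m⁻¹ * n * m : N) ∈ normalizer ((T : Subgroup N) : Set N) := by
        apply hTn
        by_contra h2
        have h3 := hTI _ h2
        have h4 : ((m⁻¹ * (x : N) * m : N) : H) ∈ (P : Subgroup H) ⊓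
            (MulAut.conj ((m⁻¹ * n * m : N) : H) • (P : Subgroup H)) := by
          refine ⟨?_, ?_⟩
          · have := (hQT _).1 hx.1
            rw [hT] at this
            exact this
          · obtain ⟨y, hy, hy2⟩ := hx.2
            have h5 := (hQT y).1 hy
            rw [hT, mem_subgroupOf] at h5
            refine ⟨_, h5, ?_⟩
            rw [← hy2]
            simp [mul_assoc]
        rw [h3, mem_bot] at h4
        apply hx1
        have h6 : m⁻¹ * (x : N) * m = 1 := Subtype.ext h4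
        have := congrArg (fun t => m * t * m⁻¹) h6
        have h7 : (x : N) = 1 := by simpa [mul_assoc] using this
        exact Subtype.ext h7
      rw [mem_normalizer_iff] at h1 ⊢
      intro y
      rw [hQT, hQT, h1]
      have : m⁻¹ * n * m * (m⁻¹ * y * m) * (m⁻¹ * n * m)⁻¹ = m⁻¹ * (n * y * n⁻¹) * m := by group
      rw [this]

end Cfsg.Agent.S4620
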