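import Cfsg.Statements.S4748
import Cfsg.Agent.PLocal.HallHigmanPrime
import Cfsg.Agent.Lib.Cores
import Cfsg.Agent.H666.TIComm

set_option autoImplicit false
open scoped Pointwise
open Cfsg

namespace Cfsg.Agent.S4748

/-- Let G be a finite p-solvable group whose Sylow p-subgroup P meets each conjugate g P g⁻¹ with g outside N_G(P) trivially, and let χ be a faithful character of G (χ g = χ 1 only for g = 1) whose degree d satisfies d² ≤ |P|. Then P is normal in G. -/
theorem result {G : Type*} [Group G] [Finite G] (p : ℕ) [Fact p.Prime] (hsolv : Cfsg.IsPSolvable p G) (P : Sylow p G) (hTI : ∀ g : G, g ∉ Subgroup.normalizer ((P : Subgroup G) : Set G) → (P : Subgroup G) ⊓ (MulAut.conj g • (P : Subgroup G)) = ⊥) (χ : G → ℂ) (hχ : Cfsg.IsCharacter G χ) (hfaith : ∀ g : G, χ g = χ 1 → g = 1) (hdeg : Cfsg.charDegree χ ^ 2 ≤ Nat.card ↥(P : Subgroup G)) : (P : Subgroup G).Normal := by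
  classical
  obtain ⟨n, ρ, rfl⟩ := hχ
  have hn : Cfsg.charDegree ρ.character = n := by
    unfold Cfsg.charDegree
    rw [Representation.char_one]
    simp
  rw [hn] at hdeg
  -- conjugation facts
  have hconj : ∀ g z : G, z ∈ (P : Subgroup G) → g * z * g⁻¹ = z → z ≠ 1 →
      g ∈ Subgroup.normalizer ((P : Subgroup G) : Set G) := by
    intro g z hz hgz hz1
    by_contra hg
    have h1 := hTI g hg
    have h2 : z ∈ (P : Subgroup G) ⊓ (MulAut.conj g • (P : Subgroup G)) := by
      refine Subgroup.mem_inf.mpr ⟨hz, ?_⟩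
      rw [Subgroup.mem_pointwise_smul_iff_inv_smul_mem]
      have h3 : (MulAut.conj g)⁻¹ • z = z := by
        rw [← map_inv, MulAut.smul_def, MulAut.conj_apply]
        conv_lhs => rw [← hgz]
        group
      rw [h3]; exact hz
    rw [h1, Subgroup.mem_bot] at h2
    exact hz1 h2
  by_contra hnn
  have hP1 : (P : Subgroup G) ≠ ⊥ := by
    intro h
    apply hnn
    rw [h]; infer_instance
  -- `O_p(G) = 1`
  have hO : Cfsg.pCore p G = ⊥ := by
    by_contra hO
    apply hnn
    rw [← Subgroup.normalizer_eq_top_iff, eq_top_iff]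
    intro g _
    by_contra hg
    have h1 := hTI g hg
    apply hO
    rw [eq_bot_iff, ← h1]
    have hle : Cfsg.pCore p G ≤ (P : Subgroup G) := Cfsg.Agent.Lib.Cores.pCore_le_sylow P
    refine le_inf hle ?_
    intro z hz
    rw [Subgroup.mem_pointwise_smul_iff_inv_smul_mem]
    refine hle ?_
    have : (MulAut.conj g)⁻¹ • z = g⁻¹ * z * g⁻¹⁻¹ := by
      rw [← map_inv, MulAut.smul_def, MulAut.conj_apply]
    rw [this]
    exact (Cfsg.Agent.Lib.Cores.pCore_normal p).conj_mem z hz g⁻¹
  have hHH := Cfsg.Agent.PLocal.HallHigmanPrime.centralizer_pPrimeCore_le_of_pSolvable p hsolv hO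
  haveI hKn : (Cfsg.pPrimeCore p G).Normal := Cfsg.Agent.Lib.Cores.pPrimeCore_normal p
  set K := Cfsg.pPrimeCore p G with hK
  have hcop : (Nat.card K).Coprime p := Cfsg.Agent.Lib.Cores.pPrimeCore_coprime p
  have hKP : ∀ x, x ∈ K → x ∈ (P : Subgroup G) → x = 1 := by
    intro x hx1 hx2
    obtain ⟨m, hm⟩ := P.isPGroup'.exists_card_eq
    have h1 : orderOf x ∣ Nat.card K := by
      rw [← Subgroup.orderOf_mk x hx1]; exact orderOf_dvd_natCard _
    have h2 : orderOf x ∣ p ^ m := by
      rw [← hm, ← Subgroup.orderOf_mk x hx2]; exact orderOf_dvd_natCard _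
    have h3 : orderOf x ∣ 1 := by
      have := Nat.dvd_gcd h1 h2
      rwa [(Nat.Coprime.pow_right m hcop)] at this
    exact orderOf_eq_one_iff.mp (Nat.dvd_one.mp h3)
  -- elements of `K` normalizing `P` centralize `P`
  have hcomm : ∀ k ∈ K, k ∈ Subgroup.normalizer ((P : Subgroup G) : Set G) →
      ∀ y ∈ (P : Subgroup G), k * y = y * k := by
    intro k hk hkN y hy
    have h1 : k * y * k⁻¹ * y⁻¹ ∈ (P : Subgroup G) :=
      (P : Subgroup G).mul_mem ((Subgroup.mem_normalizer_iff.mp hkN y).mp hy)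
        ((P : Subgroup G).inv_mem hy)
    have h2 : k * y * k⁻¹ * y⁻¹ ∈ K := by
      have : k * y * k⁻¹ * y⁻¹ = k * (y * k⁻¹ * y⁻¹) := by group
      rw [this]
      exact K.mul_mem hk (hKn.conj_mem _ (K.inv_mem hk) y)
    have h3 := hKP _ h2 h1
    have h4 : k * y * k⁻¹ = y := mul_inv_eq_one.mp h3
    exact mul_inv_eq_iff_eq_mul.mp h4
  -- a central element of `P`
  haveI : Nontrivial (P : Subgroup G) := (Subgroup.nontrivial_iff_ne_bot _).mpr hP1
  haveI := P.isPGroup'.center_nontrivial
  obtain ⟨⟨z, hzc⟩, hz1⟩ := exists_ne (1 : Subgroup.center (P : Subgroup G))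
  have hzcomm : ∀ y ∈ (P : Subgroup G), y * (z : G) = z * y := fun y hy =>
    congrArg Subtype.val (Subgroup.mem_center_iff.mp hzc ⟨y, hy⟩)
  have hz1' : (z : G) ≠ 1 := by
    intro h
    apply hz1
    exact Subtype.ext (Subtype.ext h)
  -- the group `L = K P`
  let L : Subgroup G := K ⊔ (P : Subgroup G)
  have hPL : (P : Subgroup G) ≤ L := le_sup_right
  let N := Subgroup.normalizer ((P : Subgroup G) : Set G)
  have hfree := Cfsg.Agent.H666.free_of_ti p P hTI N le_rfl
  have hzL : (z : G) ∈ L := hPL z.2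
  have hcardPL : Nat.card ((P : Subgroup G).subgroupOf L) = Nat.card (P : Subgroup G) :=
    Nat.card_congr (Subgroup.subgroupOfEquivOfLe hPL).toEquiv
  have key : ∀ g : L, (g : G) * z * (g : G)⁻¹ = z := by
    intro g
    let τ : Representation ℂ L (Fin n → ℂ) := ρ.comp L.subtype
    have hfin := Cfsg.Agent.H666.comm_of_comm p ((P : Subgroup G).subgroupOf L) (N.subgroupOf L)
      (P.isPGroup'.of_equiv (Subgroup.subgroupOfEquivOfLe hPL).symm)
      (fun x hx => Subgroup.le_normalizer hx)
      (fun x hx hx1 g hg => hfree x hx (fun h => hx1 (Subtype.ext h)) g hg)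
      τ (by rw [hcardPL]; simpa using hdeg) (τ ⟨z, hzL⟩) (by
        intro h hh
        have hhN : (h : G) ∈ N := hh
        rw [← Module.End.mul_eq_comp, ← Module.End.mul_eq_comp, ← map_mul, ← map_mul]
        congr 1
        apply Subtype.ext
        show (z : G) * h = h * z
        have hhL : (h : G) ∈ K ⊔ (P : Subgroup G) := h.2
        obtain ⟨k, hk, x, hx, hkx⟩ := Subgroup.mem_sup_of_normal_left.mp hhL
        have hxN : x ∈ N := Subgroup.le_normalizer hx
        have hkN : k ∈ N := by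
          have : k = (h : G) * x⁻¹ := by rw [← hkx]; group
          rw [this]; exact N.mul_mem hhN (N.inv_mem hxN)
        rw [← hkx, ← mul_assoc, ← hcomm k hk hkN z z.2, mul_assoc, ← hzcomm x hx, mul_assoc]) g
    rw [← Module.End.mul_eq_comp, ← Module.End.mul_eq_comp, ← map_mul, ← map_mul] at hfin
    have h1 : ρ ((z : G) * g) = ρ ((g : G) * z) := hfin
    have h2 : ρ ((g : G) * z * ((z : G) * g)⁻¹) = 1 := by
      rw [map_mul, ← h1, ← map_mul, mul_inv_cancel, map_one]
    have h3 := hfaith ((g : G) * z * ((z : G) * g)⁻¹) (by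
      unfold Representation.character
      rw [h2, map_one ρ])
    have h4 : (g : G) * z = z * g := mul_inv_eq_one.mp h3
    rw [h4]; group
  have hKN : K ≤ N := fun k hk =>
    hconj k z z.2 (key ⟨k, le_sup_left (a := K) (b := (P : Subgroup G)) hk⟩) hz1'
  apply hP1
  rw [eq_bot_iff]
  intro y hy
  rw [Subgroup.mem_bot]
  refine hKP y (hHH ?_) hy
  rw [Subgroup.mem_centralizer_iff]
  intro k hk
  exact hcomm k hk (hKN hk) y hy

end Cfsg.Agent.S4748
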