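import Cfsg.Statements.S4886
import Cfsg.Agent.H699.CommMain
import Cfsg.Agent.SuzukiRankOne.M1Average

set_option autoImplicit false
open Cfsg

namespace Cfsg.Agent.S4886

open Cfsg.Agent.Characters.Core Cfsg.Agent.Blocks Cfsg.Agent.H699

theorem cond_iff {G : Type*} [Group G] [Finite G] (p q : ℕ) [Fact p.Prime]
    (M : Ideal AlgInt) (hM : IsPModular p M) (hps : IsPSolvable p G) :
    (∀ χ : IrrCharacter G, χ ∈ principalBlock M G → ¬ p ∣ charDegree (χ : G → ℂ) →
      ¬ q ∣ charDegree (χ : G → ℂ)) ↔ CommMain.Cond p q G := by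
  rw [SuzukiRankOne.M1Average.principalBlock_eq hM hps]
  exact Iff.rfl

/-- A character with the normal subgroup `A` in its kernel has degree dividing the index of `A`. -/
theorem charDegree_dvd_index {G : Type*} [Group G] [Finite G] (A : Subgroup G) [A.Normal]
    (χ : IrrCharacter G) (h : ∀ x ∈ A, (χ : G → ℂ) x = (χ : G → ℂ) 1) :
    charDegree (χ : G → ℂ) ∣ A.index := by
  classical
  have := Fintype.ofFinite G
  have := Fintype.ofFinite A
  have h1 : classInner (fun n : A => (χ : G → ℂ) n) (fun _ : A => (1 : ℂ)) ≠ 0 := by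
    have h2 : (fun n : A => (χ : G → ℂ) n) = (χ : G → ℂ) 1 • (fun _ : A => (1 : ℂ)) := by
      funext n
      rw [Pi.smul_apply, smul_eq_mul, mul_one]
      exact h n n.2
    rw [h2, classInner_smul_left, classInner_irr_self Basic.isIrrCharacter_one, mul_one]
    exact Basic.irr_one_ne_zero χ.2
  have h2 := (S0887.result A (χ : G → ℂ) χ.2 (fun _ => 1) Basic.isIrrCharacter_one h1
    (charDegree (χ : G → ℂ)) 1 (Basic.irr_one_eq_charDegree χ.2) (by simp)).2
  rwa [Nat.div_one] at h2

theorem cond_of_commuting {G : Type*} [Group G] [Finite G] (p q : ℕ) [Fact p.Prime]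
    [Fact q.Prime] (hpq : p ≠ q) (hps : IsPSolvable p G) (P : Sylow p G) (Q : Sylow q G)
    (h : ∀ x ∈ (P : Subgroup G), ∀ y ∈ (Q : Subgroup G), x * y = y * x) :
    CommMain.Cond p q G := by
  intro χ hχ _ hd
  have hn : (pPrimeCore p G).Normal := Lib.Cores.pPrimeCore_normal p
  have h1 : (Q : Subgroup G) ≤ pPrimeCore p G :=
    CommSylow.le_pPrimeCore hpq hps P Q Q.isPGroup'
      (fun y hy => Subgroup.mem_centralizer_iff.2 fun x hx => h x hx y hy)
  exact Q.not_dvd_index ((hd.trans (charDegree_dvd_index _ χ hχ)).trans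
    (Subgroup.index_dvd_of_le h1))

/-- Let p ≠ q be primes and G a finite group that is p-solvable and q-solvable. Fix maximal ideals of the algebraic integers containing p and q, defining the principal p-block and the principal q-block. Then every irreducible character of degree prime to p in the principal p-block has degree prime to q and every irreducible character of degree prime to q in the principal q-block has degree prime to p, if and only if some Sylow p-subgroup of G commutes elementwise with some Sylow q-subgroup. -/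
theorem result {G : Type*} [Group G] [Finite G] (p q : ℕ) [Fact p.Prime] [Fact q.Prime] (hpq : p ≠ q) (Mp Mq : Ideal Cfsg.AlgInt) (hMp : Cfsg.IsPModular p Mp) (hMq : Cfsg.IsPModular q Mq) (hps : Cfsg.IsPSolvable p G) (hqs : Cfsg.IsPSolvable q G) : ((∀ χ : Cfsg.IrrCharacter G, χ ∈ Cfsg.principalBlock Mp G → ¬ p ∣ Cfsg.charDegree (χ : G → ℂ) → ¬ q ∣ Cfsg.charDegree (χ : G → ℂ)) ∧ (∀ χ : Cfsg.IrrCharacter G, χ ∈ Cfsg.principalBlock Mq G → ¬ q ∣ Cfsg.charDegree (χ : G → ℂ) → ¬ p ∣ Cfsg.charDegree (χ : G → ℂ))) ↔ ∃ (P : Sylow p G) (Q : Sylow q G), ∀ x ∈ (P : Subgroup G), ∀ y ∈ (Q : Subgroup G), x * y = y * x := by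
  rw [cond_iff p q Mp hMp hps, cond_iff q p Mq hMq hqs]
  constructor
  · rintro ⟨h1, h2⟩
    exact CommMain.exists_commuting p q hpq _ G rfl hps hqs h1 h2
  · rintro ⟨P, Q, h⟩
    exact ⟨cond_of_commuting p q hpq hps P Q h,
      cond_of_commuting q p hpq.symm hqs Q P fun y hy x hx => (h x hx y hy).symm⟩

end Cfsg.Agent.S4886
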