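import Cfsg.Statements.S4009
import Mathlib.GroupTheory.Nilpotent
import Mathlib.GroupTheory.Sylow
import Mathlib.Tactic

set_option autoImplicit false
open Cfsg

namespace Cfsg.Agent.S4009

open Subgroup
open scoped commutatorElement

/-! A. Mann's bound for the order of a `p`-group of derived length `k + 1`. -/

section general
variable {P : Type*} [Group P]

/-- Three subgroups lemma modulo a normal subgroup. -/
theorem three_le {A B C K : Subgroup P} [K.Normal] (h1 : ⁅⁅B, C⁆, A⁆ ≤ K) (h2 : ⁅⁅C, A⁆, B⁆ ≤ K) :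
    ⁅⁅A, B⁆, C⁆ ≤ K := by
  have key : ∀ X : Subgroup P, X ≤ K ↔ X.map (QuotientGroup.mk' K) = ⊥ := by
    intro X
    rw [Subgroup.map_eq_bot_iff, QuotientGroup.ker_mk']
  rw [key] at h1 h2 ⊢
  rw [map_commutator, map_commutator] at h1 h2 ⊢
  exact commutator_commutator_eq_bot_of_rotate h1 h2

/-- `hs H r = [H, P, ..., P]`. -/
def hs (H : Subgroup P) : ℕ → Subgroup P
  | 0 => H
  | n + 1 => ⁅hs H n, (⊤ : Subgroup P)⁆

theorem hs_normal {H : Subgroup P} (hH : H.Normal) : ∀ r, (hs H r).Normal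
  | 0 => hH
  | n + 1 => by
      have := hs_normal hH n
      exact Subgroup.commutator_normal (hs H n) ⊤

theorem hs_succ_le {H : Subgroup P} (hH : H.Normal) (r : ℕ) : hs H (r + 1) ≤ hs H r := by
  have := hs_normal hH r
  exact commutator_le_left (hs H r) ⊤

theorem hs_le {H : Subgroup P} (hH : H.Normal) (r : ℕ) : hs H r ≤ H := by
  induction r with
  | zero => exact le_rfl
  | succ n ih => exact (hs_succ_le hH n).trans ih

/-- The lower central series, starting from `gam 0 = ⊤`. -/
abbrev gam (P : Type*) [Group P] (n : ℕ) : Subgroup P := hs (⊤ : Subgroup P) n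

theorem gam_normal (n : ℕ) : (gam P n).Normal := hs_normal inferInstance n

theorem gam_anti {m n : ℕ} (h : m ≤ n) : gam P n ≤ gam P m := by
  induction n, h using Nat.le_induction with
  | base => exact le_rfl
  | succ n _ ih => exact (hs_succ_le inferInstance n).trans ih

theorem hs_gam {H : Subgroup P} (hH : H.Normal) (t : ℕ) :
    ∀ r, ⁅hs H r, gam P t⁆ ≤ hs H (r + t + 1) := by
  induction t with
  | zero => intro r; exact le_rfl
  | succ t ih =>
      intro r
      have := hs_normal hH (r + (t + 1) + 1)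
      rw [commutator_comm]
      show ⁅⁅gam P t, (⊤ : Subgroup P)⁆, hs H r⁆ ≤ _
      apply three_le
      · rw [commutator_comm (⊤ : Subgroup P) (hs H r)]
        have := ih (r + 1)
        have e : r + 1 + t + 1 = r + (t + 1) + 1 := by ring
        rw [e] at this
        exact this
      · refine (commutator_mono (ih r) le_rfl).trans ?_
        exact le_rfl

theorem gam_gam (a b : ℕ) : ⁅gam P a, gam P b⁆ ≤ gam P (a + b + 1) :=
  hs_gam (H := ⊤) inferInstance b a

/-- `H` is cyclic modulo `K`. -/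
def Cyc (H K : Subgroup P) : Prop := ∃ c ∈ H, H ≤ zpowers c ⊔ K

theorem comm_le_of_gen {H K Z : Subgroup P} [Z.Normal] (hK : K ≤ H) (hKH : ⁅H, K⁆ ≤ Z)
    {c d : P} (hc : c ∈ H) (hd : d ∈ H) (hcd : ⁅c, d⁆ ∈ Z)
    (hgen : H ≤ zpowers d ⊔ (zpowers c ⊔ K)) : ⁅H, H⁆ ≤ Z := by
  have key : ∀ X : Subgroup P, X ≤ Z ↔ X.map (QuotientGroup.mk' Z) = ⊥ := by
    intro X
    rw [Subgroup.map_eq_bot_iff, QuotientGroup.ker_mk']
  set f := QuotientGroup.mk' Z with hf
  have hKH' : ⁅H.map f, K.map f⁆ = ⊥ := by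
    rw [← map_commutator, ← key]; exact hKH
  rw [key, map_commutator, commutator_eq_bot_iff_le_centralizer]
  have hgen' : H.map f ≤ zpowers (f d) ⊔ (zpowers (f c) ⊔ K.map f) := by
    have := Subgroup.map_mono (f := f) hgen
    rwa [Subgroup.map_sup, Subgroup.map_sup, MonoidHom.map_zpowers, MonoidHom.map_zpowers] at this
  have hcd' : f c * f d = f d * f c := by
    have : f ⁅c, d⁆ = 1 := by
      rw [hf, QuotientGroup.mk'_apply, QuotientGroup.eq_one_iff]; exact hcd
    rw [map_commutatorElement] at this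
    exact commutatorElement_eq_one_iff_mul_comm.mp this
  rw [commutator_eq_bot_iff_le_centralizer] at hKH'
  -- `f c` and `f d` centralize the image of `H`
  have hc' : H.map f ≤ centralizer {f c} := by
    refine hgen'.trans (sup_le ?_ (sup_le ?_ ?_))
    · rw [zpowers_le, mem_centralizer_singleton_iff]; exact hcd'.symm
    · rw [zpowers_le, mem_centralizer_singleton_iff]
    · intro x hx
      rw [mem_centralizer_singleton_iff]
      have h1 := hKH' (mem_map_of_mem f hc)
      rw [mem_centralizer_iff] at h1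
      exact h1 x hx
  have hd' : H.map f ≤ centralizer {f d} := by
    refine hgen'.trans (sup_le ?_ (sup_le ?_ ?_))
    · rw [zpowers_le, mem_centralizer_singleton_iff]
    · rw [zpowers_le, mem_centralizer_singleton_iff]; exact hcd'
    · intro x hx
      rw [mem_centralizer_singleton_iff]
      have h1 := hKH' (mem_map_of_mem f hd)
      rw [mem_centralizer_iff] at h1
      exact h1 x hx
  refine hgen'.trans (sup_le ?_ (sup_le ?_ ?_))
  · rw [zpowers_le, mem_centralizer_iff]
    intro h hh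
    have := hd' hh
    rw [mem_centralizer_singleton_iff] at this
    exact this
  · rw [zpowers_le, mem_centralizer_iff]
    intro h hh
    have := hc' hh
    rw [mem_centralizer_singleton_iff] at this
    exact this
  · intro x hx
    rw [mem_centralizer_iff]
    intro h hh
    have h1 := hKH' hh
    rw [mem_centralizer_iff] at h1
    exact (h1 x hx).symm

theorem comm_le_of_cyc {H K : Subgroup P} (hH : H.Normal) (hKn : K.Normal) (hK : K ≤ H)
    (h : Cyc H K) : ⁅H, H⁆ ≤ ⁅H, K⁆ := by
  obtain ⟨c, hc, hgen⟩ := h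
  have : (⁅H, K⁆).Normal := Subgroup.commutator_normal H K
  refine comm_le_of_gen (K := K) hK le_rfl (c := c) (d := 1) hc (one_mem _) ?_ ?_
  · rw [commutatorElement_one_right]; exact one_mem ⁅H, K⁆
  · exact hgen.trans le_sup_right

end general

section pgroup
variable {P : Type*} [Group P] [Finite P] {p : ℕ} [hp : Fact p.Prime]

theorem card_of_lt (hP : IsPGroup p P) {K H : Subgroup P} (h : K < H) :
    p * Nat.card K ≤ Nat.card H := by
  obtain ⟨a, ha⟩ := IsPGroup.iff_card.mp (hP.to_subgroup K)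
  obtain ⟨b, hb⟩ := IsPGroup.iff_card.mp (hP.to_subgroup H)
  have h1 : Nat.card K < Nat.card H := by
    have hle := Subgroup.card_le_of_le h.le
    rcases hle.lt_or_eq with h2 | h2
    · exact h2
    · exact absurd (Subgroup.eq_of_le_of_card_ge h.le h2.ge) h.ne
  rw [ha, hb] at h1 ⊢
  have h2 : a < b := (Nat.pow_lt_pow_iff_right hp.out.one_lt).mp h1
  calc p * p ^ a = p ^ (a + 1) := by ring
    _ ≤ p ^ b := Nat.pow_le_pow_right hp.out.pos h2

theorem hs_lt (hP : IsPGroup p P) {H : Subgroup P} (hH : H.Normal) {r : ℕ}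
    (h : hs H r ≠ ⊥) : hs H (r + 1) < hs H r := by
  refine lt_of_le_of_ne (hs_succ_le hH r) ?_
  intro he
  have hnil : Group.IsNilpotent P := hP.isNilpotent
  have hstab : ∀ t, hs H (r + t) = hs H r := by
    intro t
    induction t with
    | zero => rfl
    | succ t ih =>
        show ⁅hs H (r + t), (⊤ : Subgroup P)⁆ = _
        rw [ih]; exact he
  obtain ⟨n, hn⟩ := Subgroup.nilpotent_iff_lowerCentralSeries.mp hnil
  have hsub : ∀ t, hs H (r + t) ≤ (⊤ : Subgroup P).lowerCentralSeries t := by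
    intro t
    induction t with
    | zero => exact le_top
    | succ t ih =>
        show ⁅hs H (r + t), (⊤ : Subgroup P)⁆ ≤ _
        exact commutator_mono ih le_rfl
  have := hsub n
  rw [hstab n, hn] at this
  exact h (le_bot_iff.mp this)

theorem chain (hP : IsPGroup p P) {H : Subgroup P} (hH : H.Normal) (r : ℕ) :
    ∀ t, hs H (r + t) ≠ ⊥ → p ^ t * Nat.card (hs H (r + t)) ≤ Nat.card (hs H r) := by
  intro t
  induction t with
  | zero => intro _; simp
  | succ t ih =>
      intro h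
      have h' : hs H (r + t) ≠ ⊥ := by
        intro h0
        apply h
        have := hs_succ_le hH (r + t)
        rw [h0] at this
        exact le_bot_iff.mp this
      have h1 := card_of_lt hP (hs_lt hP hH h')
      calc p ^ (t + 1) * Nat.card (hs H (r + (t + 1)))
          = p ^ t * (p * Nat.card (hs H (r + t + 1))) := by rw [pow_succ, mul_assoc]; rfl
        _ ≤ p ^ t * Nat.card (hs H (r + t)) := Nat.mul_le_mul_left _ h1
        _ ≤ _ := ih h'

theorem not_cyc_card (hP : IsPGroup p P) {K H : Subgroup P} (hK : K ≤ H) (h : ¬ Cyc H K) :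
    p ^ 2 * Nat.card K ≤ Nat.card H := by
  have h1 : ∃ c ∈ H, c ∉ K := by
    by_contra hcon
    push Not at hcon
    exact h ⟨1, one_mem _, fun x hx => mem_sup_right (hcon x hx)⟩
  obtain ⟨c, hc, hcK⟩ := h1
  have h2 : K < zpowers c ⊔ K := by
    refine lt_of_le_of_ne le_sup_right ?_
    intro he
    apply hcK
    rw [he]
    exact mem_sup_left (mem_zpowers c)
  have h3 : zpowers c ⊔ K < H := by
    refine lt_of_le_of_ne (sup_le (by rwa [zpowers_le]) hK) ?_
    intro he
    exact h ⟨c, hc, he.ge⟩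
  have h4 := card_of_lt hP h2
  have h5 := card_of_lt hP h3
  calc p ^ 2 * Nat.card K = p * (p * Nat.card K) := by ring
    _ ≤ p * Nat.card (zpowers c ⊔ K : Subgroup P) := Nat.mul_le_mul_left _ h4
    _ ≤ _ := h5

theorem not_cyc_two_gen (hP : IsPGroup p P) {K H : Subgroup P} (hK : K ≤ H) (h : ¬ Cyc H K)
    (hcard : Nat.card H < p ^ 3 * Nat.card K) :
    ∃ c ∈ H, ∃ d ∈ H, H ≤ zpowers d ⊔ (zpowers c ⊔ K) := by
  have h1 : ∃ c ∈ H, c ∉ K := by
    by_contra hcon
    push Not at hcon
    exact h ⟨1, one_mem _, fun x hx => mem_sup_right (hcon x hx)⟩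
  obtain ⟨c, hc, hcK⟩ := h1
  have h2 : K < zpowers c ⊔ K := by
    refine lt_of_le_of_ne le_sup_right ?_
    intro he
    apply hcK
    rw [he]
    exact mem_sup_left (mem_zpowers c)
  have h6 : ∃ d ∈ H, d ∉ zpowers c ⊔ K := by
    by_contra hcon
    push Not at hcon
    exact h ⟨c, hc, hcon⟩
  obtain ⟨d, hd, hdK⟩ := h6
  refine ⟨c, hc, d, hd, ?_⟩
  by_contra hcon
  have h7 : zpowers c ⊔ K < zpowers d ⊔ (zpowers c ⊔ K) := by
    refine lt_of_le_of_ne le_sup_right ?_
    intro he
    apply hdK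
    rw [he]
    exact mem_sup_left (mem_zpowers d)
  have h8 : zpowers d ⊔ (zpowers c ⊔ K) < H := by
    refine lt_of_le_of_ne
      (sup_le (by rwa [zpowers_le]) (sup_le (by rwa [zpowers_le]) hK)) ?_
    intro he
    exact hcon he.ge
  have h4 := card_of_lt hP h2
  have h5 := card_of_lt hP h7
  have h9 := card_of_lt hP h8
  have : p ^ 3 * Nat.card K ≤ Nat.card H := by
    calc p ^ 3 * Nat.card K = p * (p * (p * Nat.card K)) := by ring
      _ ≤ p * (p * Nat.card (zpowers c ⊔ K : Subgroup P)) :=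
          Nat.mul_le_mul_left _ (Nat.mul_le_mul_left _ h4)
      _ ≤ p * Nat.card (zpowers d ⊔ (zpowers c ⊔ K) : Subgroup P) := Nat.mul_le_mul_left _ h5
      _ ≤ _ := h9
  omega

theorem comm_le_hs {H : Subgroup P} (hH : H.Normal) {s : ℕ} (hs' : H ≤ gam P s) :
    ⁅H, H⁆ ≤ hs H (s + 1) := by
  have h1 : ⁅H, H⁆ ≤ ⁅hs H 0, gam P s⁆ := commutator_mono le_rfl hs'
  have h2 := hs_gam hH s 0
  rw [Nat.zero_add] at h2
  exact h1.trans h2

theorem comm_one_le_hs {H : Subgroup P} (hH : H.Normal) {s : ℕ} (hs' : H ≤ gam P s) :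
    ⁅H, hs H 1⁆ ≤ hs H (s + 2) := by
  have h1 : ⁅H, hs H 1⁆ ≤ ⁅hs H 1, gam P s⁆ := by
    rw [commutator_comm]; exact commutator_mono le_rfl hs'
  have h2 := hs_gam hH s 1
  have e : 1 + s + 1 = s + 2 := by ring
  rw [e] at h2
  exact h1.trans h2

/-- Hall's bound. -/
theorem hall_bound (hP : IsPGroup p P) {H : Subgroup P} (hH : H.Normal) {s : ℕ}
    (hs' : H ≤ gam P s) (hne : ⁅H, H⁆ ≠ ⊥) : p ^ (s + 2) * Nat.card (⁅H, H⁆ : Subgroup P) ≤ Nat.card H := by
  by_cases hc : Cyc H (hs H 1)
  · have h1 : ⁅H, H⁆ ≤ hs H (s + 2) :=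
      (comm_le_of_cyc hH (hs_normal hH 1) (hs_le hH 1) hc).trans (comm_one_le_hs hH hs')
    have h2 : hs H (0 + (s + 2)) ≠ ⊥ := by
      rw [Nat.zero_add]
      intro h0
      rw [h0] at h1
      exact hne (le_bot_iff.mp h1)
    have h3 := chain hP hH 0 (s + 2) h2
    rw [Nat.zero_add] at h3
    exact (Nat.mul_le_mul_left _ (Subgroup.card_le_of_le h1)).trans h3
  · have h1 := comm_le_hs hH hs'
    have h2 : hs H (1 + s) ≠ ⊥ := by
      rw [Nat.add_comm 1 s]
      intro h0
      rw [h0] at h1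
      exact hne (le_bot_iff.mp h1)
    have h3 := chain hP hH 1 s h2
    rw [Nat.add_comm 1 s] at h3
    have h4 := not_cyc_card hP (hs_le hH 1) hc
    calc p ^ (s + 2) * Nat.card (⁅H, H⁆ : Subgroup P)
        = p ^ 2 * (p ^ s * Nat.card (⁅H, H⁆ : Subgroup P)) := by ring
      _ ≤ p ^ 2 * (p ^ s * Nat.card (hs H (s + 1))) :=
          Nat.mul_le_mul_left _ (Nat.mul_le_mul_left _ (Subgroup.card_le_of_le h1))
      _ ≤ p ^ 2 * Nat.card (hs H 1) := Nat.mul_le_mul_left _ h3
      _ ≤ _ := h4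

/-- The case of equality in Hall's bound. -/
theorem equality_case (hP : IsPGroup p P) {H : Subgroup P} (hH : H.Normal) {s : ℕ}
    (hs' : H ≤ gam P s) (hne : ⁅H, H⁆ ≠ ⊥)
    (hlt : Nat.card H < p ^ (s + 3) * Nat.card (⁅H, H⁆ : Subgroup P)) :
    Cyc H (hs H 1) ∨ Cyc ⁅H, H⁆ (hs ⁅H, H⁆ 1) := by
  by_cases hc : Cyc H (hs H 1)
  · exact Or.inl hc
  right
  have h1 := comm_le_hs hH hs'
  have h2 : hs H (1 + s) ≠ ⊥ := by
    rw [Nat.add_comm 1 s]
    intro h0
    rw [h0] at h1
    exact hne (le_bot_iff.mp h1)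
  have h3 := chain hP hH 1 s h2
  rw [Nat.add_comm 1 s] at h3
  have h4 := not_cyc_card hP (hs_le hH 1) hc
  -- `H / H₁` has order less than `p³`
  have h5 : Nat.card H < p ^ 3 * Nat.card (hs H 1) := by
    by_contra hcon
    push Not at hcon
    have : p ^ (s + 3) * Nat.card (⁅H, H⁆ : Subgroup P) ≤ Nat.card H := by
      calc p ^ (s + 3) * Nat.card (⁅H, H⁆ : Subgroup P)
          = p ^ 3 * (p ^ s * Nat.card (⁅H, H⁆ : Subgroup P)) := by ring
        _ ≤ p ^ 3 * (p ^ s * Nat.card (hs H (s + 1))) :=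
            Nat.mul_le_mul_left _ (Nat.mul_le_mul_left _ (Subgroup.card_le_of_le h1))
        _ ≤ p ^ 3 * Nat.card (hs H 1) := Nat.mul_le_mul_left _ h3
        _ ≤ _ := hcon
    omega
  have h6 : ⁅H, H⁆ = hs H (s + 1) := by
    by_contra hcon
    have h7 := card_of_lt hP (lt_of_le_of_ne h1 hcon)
    have : p ^ (s + 3) * Nat.card (⁅H, H⁆ : Subgroup P) ≤ Nat.card H := by
      calc p ^ (s + 3) * Nat.card (⁅H, H⁆ : Subgroup P)
          = p ^ 2 * (p ^ s * (p * Nat.card (⁅H, H⁆ : Subgroup P))) := by ring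
        _ ≤ p ^ 2 * (p ^ s * Nat.card (hs H (s + 1))) :=
            Nat.mul_le_mul_left _ (Nat.mul_le_mul_left _ h7)
        _ ≤ p ^ 2 * Nat.card (hs H 1) := Nat.mul_le_mul_left _ h3
        _ ≤ _ := h4
    omega
  obtain ⟨c, hcH, d, hdH, hgen⟩ := not_cyc_two_gen hP (hs_le hH 1) hc h5
  refine ⟨⁅c, d⁆, commutator_mem_commutator hcH hdH, ?_⟩
  have hN : hs ⁅H, H⁆ 1 = hs H (s + 2) := by
    show ⁅⁅H, H⁆, (⊤ : Subgroup P)⁆ = ⁅hs H (s + 1), ⊤⁆
    rw [h6]
  have hle : zpowers ⁅c, d⁆ ⊔ hs ⁅H, H⁆ 1 ≤ ⁅H, H⁆ := by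
    refine sup_le ?_ (hs_le (Subgroup.commutator_normal H H) 1)
    rw [zpowers_le]
    exact commutator_mem_commutator hcH hdH
  have : (zpowers ⁅c, d⁆ ⊔ hs ⁅H, H⁆ 1).Normal := by
    rw [← commutator_top_right_le_iff]
    exact (commutator_mono hle le_rfl).trans le_sup_right
  refine comm_le_of_gen (K := hs H 1) (hs_le hH 1) ?_ hcH hdH ?_ hgen
  · exact ((comm_one_le_hs hH hs').trans hN.ge).trans le_sup_right
  · exact mem_sup_left (mem_zpowers _)

end pgroup

theorem derived_le_gam {P : Type*} [Group P] (j : ℕ) : derivedSeries P j ≤ gam P (2 ^ j - 1) := by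
  induction j with
  | zero => exact le_rfl
  | succ j ih =>
      rw [derivedSeries_succ]
      refine (commutator_mono ih ih).trans ((gam_gam _ _).trans (gam_anti ?_))
      have : 1 ≤ 2 ^ j := Nat.one_le_two_pow
      rw [pow_succ]
      omega

theorem better_succ {P : Type*} [Group P] (j : ℕ) (h : derivedSeries P j ≤ gam P (2 ^ j)) :
    derivedSeries P (j + 1) ≤ gam P (2 ^ (j + 1)) := by
  rw [derivedSeries_succ]
  refine (commutator_mono h h).trans ((gam_gam _ _).trans (gam_anti ?_))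
  rw [pow_succ]
  omega

theorem better_of_le {P : Type*} [Group P] {j l : ℕ} (h : derivedSeries P j ≤ gam P (2 ^ j))
    (hl : j ≤ l) : derivedSeries P l ≤ gam P (2 ^ l) := by
  induction l, hl using Nat.le_induction with
  | base => exact h
  | succ n _ ih => exact better_succ n ih

theorem better_of_cyc {P : Type*} [Group P] {j : ℕ}
    (h : Cyc (derivedSeries P j) (hs (derivedSeries P j) 1)) :
    derivedSeries P (j + 1) ≤ gam P (2 ^ (j + 1)) := by
  have hn := derivedSeries_normal P j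
  rw [derivedSeries_succ]
  refine (comm_le_of_cyc hn (hs_normal hn 1) (hs_le hn 1) h).trans ?_
  have h1 := derived_le_gam (P := P) j
  have h2 : hs (derivedSeries P j) 1 ≤ gam P (2 ^ j - 1 + 1) := commutator_mono h1 le_rfl
  refine (commutator_mono h1 h2).trans ((gam_gam _ _).trans (gam_anti ?_))
  have : 1 ≤ 2 ^ j := Nat.one_le_two_pow
  rw [pow_succ]
  omega

/-- Let P be a finite p-group of order p^n whose derived length is exactly k + 1 (the k-th derived subgroup is nontrivial and the (k+1)-st is trivial). Then n ≥ 2^k + 2k − 2. -/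
theorem result {P : Type*} [Group P] [Finite P] (p : ℕ) [Fact p.Prime] (n k : ℕ) (hcard : Nat.card P = p ^ n) (hk : derivedSeries P k ≠ ⊥) (hk' : derivedSeries P (k + 1) = ⊥) : 2 ^ k + 2 * k ≤ n + 2 := by
  have hp : p.Prime := Fact.out
  have hP : IsPGroup p P := IsPGroup.iff_card.mpr ⟨n, hcard⟩
  have hne : ∀ j, j ≤ k → derivedSeries P j ≠ ⊥ := by
    intro j hj h0
    apply hk
    have := derivedSeries_antitone P hj
    rw [h0] at this
    exact le_bot_iff.mp this
  have hbase : ∀ j, j < k → p ^ (2 ^ j + 1) * Nat.card (derivedSeries P (j + 1)) ≤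
      Nat.card (derivedSeries P j) := by
    intro j hj
    have h1 := hall_bound hP (derivedSeries_normal P j) (derived_le_gam j)
      (by rw [← derivedSeries_succ]; exact hne _ hj)
    have : 1 ≤ 2 ^ j := Nat.one_le_two_pow
    have e : 2 ^ j - 1 + 2 = 2 ^ j + 1 := by omega
    rw [e] at h1
    exact h1
  have hgood : ∀ j, j < k → derivedSeries P j ≤ gam P (2 ^ j) →
      p ^ (2 ^ j + 2) * Nat.card (derivedSeries P (j + 1)) ≤ Nat.card (derivedSeries P j) := by
    intro j hj hle
    exact hall_bound hP (derivedSeries_normal P j) hle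
      (by rw [← derivedSeries_succ]; exact hne _ hj)
  have hbad : ∀ j, j < k → ¬ (p ^ (2 ^ j + 2) * Nat.card (derivedSeries P (j + 1)) ≤
      Nat.card (derivedSeries P j)) → ∀ l, j + 2 ≤ l → derivedSeries P l ≤ gam P (2 ^ l) := by
    intro j hj hnot l hl
    push Not at hnot
    have : 1 ≤ 2 ^ j := Nat.one_le_two_pow
    have e : 2 ^ j + 2 = 2 ^ j - 1 + 3 := by omega
    rw [e] at hnot
    rcases equality_case hP (derivedSeries_normal P j) (derived_le_gam j)
      (by rw [← derivedSeries_succ]; exact hne _ hj) hnot with h1 | h1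
    · exact better_of_le (better_of_cyc h1) (by omega)
    · exact better_of_le (better_of_cyc (j := j + 1) h1) (by omega)
  -- the invariant
  have inv : ∀ i, i ≤ k →
      (p ^ (2 ^ i + 2 * i) * Nat.card (derivedSeries P i) ≤ p * p ^ n) ∨
      ((p ^ (2 ^ i + 2 * i) * Nat.card (derivedSeries P i) ≤ p ^ 2 * p ^ n) ∧
        ∃ j, j + 1 = i ∧ ¬ (p ^ (2 ^ j + 2) * Nat.card (derivedSeries P (j + 1)) ≤
      Nat.card (derivedSeries P j))) ∨
      ((p ^ (2 ^ i + 2 * i) * Nat.card (derivedSeries P i) ≤ p ^ 3 * p ^ n) ∧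
        ∃ j, j + 2 ≤ i ∧ ¬ (p ^ (2 ^ j + 2) * Nat.card (derivedSeries P (j + 1)) ≤
      Nat.card (derivedSeries P j))) := by
    intro i
    induction i with
    | zero =>
        intro _
        left
        rw [derivedSeries_zero, Subgroup.card_top, hcard]
        simp
    | succ i ih =>
        intro hi
        have hik : i < k := hi
        -- the two possible steps
        have stepGood : ∀ X : ℕ, p ^ (2 ^ i + 2) * Nat.card (derivedSeries P (i + 1)) ≤
            Nat.card (derivedSeries P i) → p ^ (2 ^ i + 2 * i) * Nat.card (derivedSeries P i) ≤ X →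
            p ^ (2 ^ (i + 1) + 2 * (i + 1)) * Nat.card (derivedSeries P (i + 1)) ≤ X := by
          intro X h1 h2
          calc p ^ (2 ^ (i + 1) + 2 * (i + 1)) * Nat.card (derivedSeries P (i + 1))
              = p ^ (2 ^ i + 2 * i) * (p ^ (2 ^ i + 2) * Nat.card (derivedSeries P (i + 1))) := by
                rw [← mul_assoc, ← pow_add]; congr 2; ring
            _ ≤ p ^ (2 ^ i + 2 * i) * Nat.card (derivedSeries P i) := Nat.mul_le_mul_left _ h1
            _ ≤ X := h2
        have stepBad : ∀ X : ℕ, p ^ (2 ^ i + 2 * i) * Nat.card (derivedSeries P i) ≤ X →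
            p ^ (2 ^ (i + 1) + 2 * (i + 1)) * Nat.card (derivedSeries P (i + 1)) ≤ p * X := by
          intro X h2
          calc p ^ (2 ^ (i + 1) + 2 * (i + 1)) * Nat.card (derivedSeries P (i + 1))
              = p * (p ^ (2 ^ i + 2 * i) *
                  (p ^ (2 ^ i + 1) * Nat.card (derivedSeries P (i + 1)))) := by
                rw [← mul_assoc, ← mul_assoc, ← pow_succ', ← pow_add]; congr 2; ring
            _ ≤ p * (p ^ (2 ^ i + 2 * i) * Nat.card (derivedSeries P i)) :=
                Nat.mul_le_mul_left _ (Nat.mul_le_mul_left _ (hbase i hik))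
            _ ≤ p * X := Nat.mul_le_mul_left _ h2
        have hmono : p ^ 2 * p ^ n ≤ p ^ 3 * p ^ n :=
          Nat.mul_le_mul_right _ (Nat.pow_le_pow_right hp.pos (by norm_num))
        rcases ih hik.le with h0 | ⟨h1, j, hj, hjb⟩ | ⟨h2, j, hj, hjb⟩
        · by_cases hg : p ^ (2 ^ i + 2) * Nat.card (derivedSeries P (i + 1)) ≤
            Nat.card (derivedSeries P i)
          · left; exact stepGood _ hg h0
          · right; left
            refine ⟨?_, i, rfl, hg⟩
            have := stepBad _ h0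
            calc _ ≤ p * (p * p ^ n) := this
              _ = p ^ 2 * p ^ n := by ring
        · right; right
          refine ⟨?_, j, by omega, hjb⟩
          have := stepBad _ h1
          calc _ ≤ p * (p ^ 2 * p ^ n) := this
            _ = p ^ 3 * p ^ n := by ring
        · right; right
          refine ⟨?_, j, by omega, hjb⟩
          exact stepGood _ (hgood i hik (hbad j (by omega) hjb i hj)) h2
  have hfin : p ^ (2 ^ k + 2 * k) * Nat.card (derivedSeries P k) ≤ p ^ 3 * p ^ n := by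
    have hm1 : p * p ^ n ≤ p ^ 3 * p ^ n := by
      refine Nat.mul_le_mul_right _ ?_
      calc p = p ^ 1 := (pow_one p).symm
        _ ≤ p ^ 3 := Nat.pow_le_pow_right hp.pos (by norm_num)
    have hm2 : p ^ 2 * p ^ n ≤ p ^ 3 * p ^ n :=
      Nat.mul_le_mul_right _ (Nat.pow_le_pow_right hp.pos (by norm_num))
    rcases inv k le_rfl with h0 | ⟨h1, _⟩ | ⟨h2, _⟩
    · exact h0.trans hm1
    · exact h1.trans hm2
    · exact h2
  have hlast : p * 1 ≤ Nat.card (derivedSeries P k) := by
    have := card_of_lt hP (bot_lt_iff_ne_bot.mpr hk)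
    rwa [Subgroup.card_bot] at this
  have h9 : p ^ (2 ^ k + 2 * k + 1) ≤ p ^ (n + 3) := by
    calc p ^ (2 ^ k + 2 * k + 1) = p ^ (2 ^ k + 2 * k) * (p * 1) := by ring
      _ ≤ p ^ (2 ^ k + 2 * k) * Nat.card (derivedSeries P k) := Nat.mul_le_mul_left _ hlast
      _ ≤ p ^ 3 * p ^ n := hfin
      _ = p ^ (n + 3) := by ring
  have h10 := (Nat.pow_le_pow_iff_right hp.one_lt).mp h9
  omega

end Cfsg.Agent.S4009
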