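import Cfsg.Statements.S4637
import Cfsg.Agent.H639.Klein

set_option autoImplicit false
open Cfsg

namespace Cfsg.Agent.S4637

/-- Let B be a block of the finite group G relative to a maximal ideal M of the algebraic integers containing 2, with a Klein four defect group P. Let c be a block of C_G(P) inducing B, T the stabilizer of c in N_G(P) and e the index of C_G(P) in T (the inertial index). Then e is 1 or 3, B contains exactly four irreducible characters, and the 2-regular rank of B (its number of irreducible Brauer characters) equals e. -/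
theorem result {G : Type*} [Group G] [Finite G] (M : Ideal Cfsg.AlgInt) (hM : Cfsg.IsPModular 2 M) (B : Set (Cfsg.IrrCharacter G)) (hB : Cfsg.IsPBlock M B) (P : Subgroup G) (hPD : Cfsg.IsDefectGroup 2 M B P) (hV : IsKleinFour P) (c : Set (Cfsg.IrrCharacter (Subgroup.centralizer (P : Set G)))) (hc : Cfsg.IsInducedBlock M (Subgroup.centralizer (P : Set G)) c B) (T : Subgroup G) (hT : ∀ g : G, g ∈ T ↔ (g ∈ Subgroup.normalizer (P : Set G) ∧ Cfsg.StabilizesBlock (Subgroup.centralizer (P : Set G)) c g)) (e : ℕ) (he : (Subgroup.centralizer (P : Set G)).relIndex T = e) : (e = 1 ∨ e = 3) ∧ Nat.card B = 4 ∧ Cfsg.blockRank 2 B = e := by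
  classical
  have := Fintype.ofFinite G
  have := Cfsg.Agent.H639.isPrime_of hM
  have : Fact (Nat.Prime 2) := ⟨Nat.prime_two⟩
  obtain ⟨c', ζ, hF⟩ := Cfsg.Agent.H639.klein_full hM hPD hV hc
  obtain ⟨h1, h2, h3, -⟩ := Cfsg.Agent.H639.klein_main hF hV
  have h4 := Cfsg.Agent.H639.card_inQ hF.hs
  rw [Cfsg.Agent.H639.stabT_eq hM hc.1 hT] at h4
  rw [h4] at h1 h3
  change (Subgroup.centralizer (P : Set G)).relIndex T = 1 ∨
    (Subgroup.centralizer (P : Set G)).relIndex T = 3 at h1
  change blockRank 2 B = (Subgroup.centralizer (P : Set G)).relIndex T at h3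
  rw [he] at h1 h3
  exact ⟨h1, h2, h3⟩

end Cfsg.Agent.S4637
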