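import Cfsg.Statements.S5815
import Cfsg.Agent.H856.Tz6
import Cfsg.Agent.S0000

set_option autoImplicit false
open Cfsg

namespace Cfsg.Agent.S5815

/-- The maximal subgroups of Ω_7(q), q odd, in the residual class. Let F be a finite field of odd order q, Q the standard quadratic form x₀² + Σ x_i y_i on F^7, Ω the commutator subgroup of its isometry group, and H a maximal subgroup of Ω lying in the residual class of the orthogonal case. Then the perfect socle preimage P of H satisfies one of: P modulo scalars is isomorphic to A_9 and q = 3; or to the symplectic group Sp_6(2) and q is prime; or to the group G_2(F) of automorphisms of the split octonion algebra over F (no condition on q). -/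
theorem result {F : Type*} [Field F] [Fintype F] (hodd : Odd (Fintype.card F)) (H : Subgroup (Matrix.GeneralLinearGroup (Unit ⊕ (Fin 3 ⊕ Fin 3)) F)) (hH : Cfsg.Geo.IsMaximalIn (Cfsg.Geo.omegaGL (Cfsg.quadFormOdd 3 F)) H) (hS : Cfsg.Geo.InOrthogonalResidualClass H) :
    ∃ P : Subgroup (Matrix.GeneralLinearGroup (Unit ⊕ (Fin 3 ⊕ Fin 3)) F), Cfsg.Geo.IsResidualCore H P ∧
    ((Nonempty ((P ⧸ (Cfsg.Geo.scalars (Unit ⊕ (Fin 3 ⊕ Fin 3)) F).subgroupOf P) ≃* alternatingGroup (Fin 9)) ∧ Fintype.card F = 3) ∨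
     (Nonempty ((P ⧸ (Cfsg.Geo.scalars (Unit ⊕ (Fin 3 ⊕ Fin 3)) F).subgroupOf P) ≃* Cfsg.PSp 3 (ZMod 2)) ∧ (Fintype.card F).Prime) ∨
     Nonempty ((P ⧸ (Cfsg.Geo.scalars (Unit ⊕ (Fin 3 ⊕ Fin 3)) F).subgroupOf P) ≃* Cfsg.Lie.G2 F)) := by
  exact Cfsg.Agent.H856.Tz.final (fun T _ _ _ => Cfsg.Agent.S0000.result (G := T)) hodd H hH hS

end Cfsg.Agent.S5815
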