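import Cfsg.Statements.S2536
-- import your own Cfsg.Agent.* helpers here
import Mathlib
import Cfsg.Agent.H164.HallFinal

set_option autoImplicit false
open Cfsg

namespace Cfsg.Agent.S2536

open Equiv H164

theorem forward {α : Type} [Fintype α] [DecidableEq α] {π : Set ℕ}
    (h2 : ∃ r s : ℕ, r.Prime ∧ s.Prime ∧ r ≠ s ∧ r ∈ π ∧ s ∈ π ∧ r ≤ Fintype.card α ∧
      s ≤ Fintype.card α)
    (hns : ∃ r : ℕ, r.Prime ∧ r ≤ Fintype.card α ∧ r ∉ π) (hE : IsEPiGroup π (Perm α)) :
    ((Fintype.card α).Prime ∧ ∀ r : ℕ, r.Prime → r ≤ Fintype.card α →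
        (r ∈ π ↔ r < Fintype.card α)) ∨
       ((Fintype.card α = 7 ∨ Fintype.card α = 8) ∧ ∀ r : ℕ, r.Prime → r ≤ Fintype.card α →
        (r ∈ π ↔ (r = 2 ∨ r = 3))) := by
  have hnp : ¬ OnePrime π (Fintype.card α) := by
    intro h
    obtain ⟨r, s, hr, hs, hne, hrπ, hsπ, hrn, hsn⟩ := h2
    exact hne (h r s hr hs hrπ hsπ hrn hsn)
  obtain ⟨p, q, hp, hq, hpq, hpπ, hqπ, hqn⟩ := exists_two_of_not_onePrime hnp
  have hnt : Nontrivial α := Fintype.one_lt_card_iff_nontrivial.mp (by have := hp.two_le; omega)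
  obtain ⟨H, hH⟩ := hE
  obtain ⟨h2π, h3π⟩ := two_three_mem (inf_hall hH) hp hq hpq hpπ hqπ hqn
  obtain ⟨l, hl, hln, hlπ⟩ := hns
  obtain ⟨Δ, _, hΔ⟩ := hall_sym hH h2π h3π hl hln hlπ
  rcases hΔ with ⟨h3, h4, h5, h6, h7⟩ | ⟨h3, h4, h5, h6⟩
  · left
    refine ⟨h4, fun r hr hrn => ⟨fun hrπ => ?_, fun hlt => h6 r hr hlt⟩⟩
    refine lt_of_le_of_ne hrn ?_
    rintro rfl
    exact h7 hrπ
  · right
    refine ⟨h4, fun r hr hrn => ⟨fun hrπ => ?_, ?_⟩⟩
    · have hr8 : r ≤ 8 := by omega
      have hr2 := hr.two_le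
      interval_cases r
      · left; rfl
      · right; rfl
      · exact absurd hr (by decide)
      · exact absurd hrπ h5
      · exact absurd hr (by decide)
      · exact absurd hrπ h6
      · exact absurd hr (by decide)
    · rintro (rfl | rfl)
      · exact h2π
      · exact h3π

theorem index_stabF {α : Type} [Fintype α] [DecidableEq α] (Δ : Finset α) :
    (stabF Δ).index = (Fintype.card α).choose Δ.card := by
  have h1 := (stabF Δ).card_mul_index
  rw [card_stabF, Nat.card_perm, Nat.card_eq_fintype_card] at h1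
  have h2 := Nat.choose_mul_factorial_mul_factorial (Finset.card_le_univ Δ)
  have h4 : 0 < Δ.card.factorial * (Fintype.card α - Δ.card).factorial :=
    Nat.mul_pos (Nat.factorial_pos _) (Nat.factorial_pos _)
  apply Nat.eq_of_mul_eq_mul_left h4
  rw [h1, ← h2]
  ring

theorem relIndex_stabF_stabP {α : Type} [Fintype α] [DecidableEq α] {Δ : Finset α}
    (h : 2 * Δ.card = Fintype.card α) (hpos : 0 < Δ.card) : (stabF Δ).relIndex (stabP Δ) = 2 := by
  have hc : Δ.card = Δᶜ.card := by rw [Finset.card_compl]; omega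
  obtain ⟨g, hg⟩ := exists_perm_finset hc
  obtain ⟨x, hx⟩ := Finset.card_pos.mp hpos
  rw [Subgroup.relIndex_eq_two_iff]
  have hg' : ∀ x, g x ∈ Δ ↔ x ∉ Δ := by
    intro x
    have := hg x
    rw [Finset.mem_compl] at this
    tauto
  refine ⟨g, Or.inr hg', fun b hb => ?_⟩
  rcases hb with hb | hb
  · right
    refine ⟨hb, fun hcon => ?_⟩
    have h1 := hcon x
    rw [Perm.mul_apply, hb, hg'] at h1
    tauto
  · left
    refine ⟨fun y => ?_, fun hcon => ?_⟩
    · rw [Perm.mul_apply, hb, hg', not_not]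
    · have h1 := hcon x
      rw [hb] at h1
      tauto

theorem backward {α : Type} [Fintype α] [DecidableEq α] {π : Set ℕ}
    (h : ((Fintype.card α).Prime ∧ ∀ r : ℕ, r.Prime → r ≤ Fintype.card α →
        (r ∈ π ↔ r < Fintype.card α)) ∨
       ((Fintype.card α = 7 ∨ Fintype.card α = 8) ∧ ∀ r : ℕ, r.Prime → r ≤ Fintype.card α →
        (r ∈ π ↔ (r = 2 ∨ r = 3)))) : IsEPiGroup π (Perm α) := by
  have hex : ∀ m : ℕ, m ≤ Fintype.card α → ∃ Δ : Finset α, Δ.card = m := by
    intro m hm
    obtain ⟨Δ, _, hΔ⟩ := Finset.exists_subset_card_eq (s := (Finset.univ : Finset α)) (n := m)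
      (by rwa [Finset.card_univ])
    exact ⟨Δ, hΔ⟩
  rcases h with ⟨h1, h2⟩ | ⟨h1, h2⟩
  · obtain ⟨Δ, hΔ⟩ := hex 1 h1.one_lt.le
    refine ⟨stabF Δ, ?_, ?_⟩
    · intro r hr hrd
      rw [card_stabF, hr.dvd_mul, hr.dvd_factorial, hr.dvd_factorial, hΔ] at hrd
      have := hr.two_le
      exact (h2 r hr (by omega)).mpr (by omega)
    · intro r hr hrπ hrd
      rw [index_stabF, hΔ, Nat.choose_one_right, Nat.prime_dvd_prime_iff_eq hr h1] at hrd
      have := (h2 r hr hrd.le).mp hrπ
      omega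
  · rcases h1 with h1 | h1
    · obtain ⟨Δ, hΔ⟩ := hex 4 (by omega)
      refine ⟨stabF Δ, ?_, ?_⟩
      · intro r hr hrd
        rw [card_stabF, hr.dvd_mul, hr.dvd_factorial, hr.dvd_factorial, hΔ] at hrd
        have h3 := hr.two_le
        refine (h2 r hr (by omega)).mpr ?_
        have h4 : r ≤ 4 := by omega
        interval_cases r
        · left; rfl
        · right; rfl
        · exact absurd hr (by decide)
      · intro r hr hrπ hrd
        rw [index_stabF, hΔ, h1] at hrd
        have h3 : r ∣ 5 * 7 := hrd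
        rw [hr.dvd_mul, Nat.prime_dvd_prime_iff_eq hr (by norm_num),
          Nat.prime_dvd_prime_iff_eq hr (by norm_num)] at h3
        have h4 := (h2 r hr (by omega)).mp hrπ
        omega
    · obtain ⟨Δ, hΔ⟩ := hex 4 (by omega)
      refine ⟨stabP Δ, ?_, ?_⟩
      · intro r hr hrd
        have h3 := hr.two_le
        have h4 : r ≤ 4 := by
          rcases prime_dvd_stabP hr hrd with h | h | h <;> omega
        refine (h2 r hr (by omega)).mpr ?_
        interval_cases r
        · left; rfl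
        · right; rfl
        · exact absurd hr (by decide)
      · intro r hr hrπ hrd
        have h3 := Subgroup.relIndex_mul_index (stabF_le_stabP Δ)
        rw [relIndex_stabF_stabP (by omega) (by omega), index_stabF, hΔ, h1] at h3
        have h4 : (stabP Δ).index = 5 * 7 := by
          have : Nat.choose 8 4 = 70 := by decide
          omega
        rw [h4, hr.dvd_mul, Nat.prime_dvd_prime_iff_eq hr (by norm_num),
          Nat.prime_dvd_prime_iff_eq hr (by norm_num)] at hrd
        have h5 := (h2 r hr (by omega)).mp hrπ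
        omega

/-- Let `π` be a set of primes and `n` a natural number such that at least two primes of `π` divide `n!` but not every prime dividing `n!` lies in `π`. Then the symmetric group of degree `n` has a Hall `π`-subgroup if and only if either `n` is prime and the primes of `π` dividing `n!` are exactly the primes smaller than `n` (a point stabilizer is then such a subgroup), or `n ∈ {7, 8}` and the primes of `π` dividing `n!` are exactly 2 and 3. -/
theorem result (n : ℕ) (π : Set ℕ)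
    (h2 : ∃ r s : ℕ, r.Prime ∧ s.Prime ∧ r ≠ s ∧ r ∈ π ∧ s ∈ π ∧ r ≤ n ∧ s ≤ n)
    (hns : ∃ r : ℕ, r.Prime ∧ r ≤ n ∧ r ∉ π) :
    Cfsg.IsEPiGroup π (Equiv.Perm (Fin n)) ↔
      ((n.Prime ∧ ∀ r : ℕ, r.Prime → r ≤ n → (r ∈ π ↔ r < n)) ∨
       ((n = 7 ∨ n = 8) ∧ ∀ r : ℕ, r.Prime → r ≤ n → (r ∈ π ↔ (r = 2 ∨ r = 3)))) := by
  have hc : Fintype.card (Fin n) = n := Fintype.card_fin n
  constructor
  · intro hE
    have := forward (α := Fin n) (π := π) (by rw [hc]; exact h2) (by rw [hc]; exact hns) hE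
    rwa [hc] at this
  · intro h
    apply backward (α := Fin n)
    rwa [hc]

end Cfsg.Agent.S2536
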