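import Cfsg.Statements.S2222
import Cfsg.Agent.H94.Matching
import Cfsg.Agent.H94.Pronormal

set_option autoImplicit false
open Cfsg

namespace Cfsg.Agent.S2222


open Subgroup in
theorem pronormal_of_prime_index {G : Type*} [Group G] [Finite G] (H : Subgroup G) (hH : H.index.Prime) :
    Cfsg.IsPronormal H := by
  intro g
  set K := H ⊔ H.map (MulAut.conj g).toMonoidHom with hK
  have hHK : H ≤ K := le_sup_left
  have hmul := Subgroup.relIndex_mul_index hHK
  rcases (Nat.dvd_prime hH).1 (Dvd.intro_left _ hmul) with h | h
  · rw [Subgroup.index_eq_one] at h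
    exact ⟨g, by rw [h]; exact Subgroup.mem_top g, rfl⟩
  · have h1 : H.relIndex K = 1 := by
      rw [h] at hmul
      exact Nat.eq_of_mul_eq_mul_right hH.pos (by rw [hmul, one_mul])
    have h2 : K ≤ H := Subgroup.relIndex_eq_one.1 h1
    have h3 : H.map (MulAut.conj g).toMonoidHom ≤ H := le_sup_right.trans h2
    refine ⟨1, one_mem _, ?_⟩
    rw [H94.Pronormal.map_conj_one]
    apply Subgroup.eq_of_le_of_card_ge h3
    exact (Nat.card_congr (H.equivMapOfInjective _ (MulAut.conj g).injective).symm.toEquiv).ge

/-- In the alternating group of degree n ≥ 5 every subgroup H of odd index is pronormal: for every element g, the subgroups H and gHg⁻¹ are conjugate by an element of the subgroup they generate. -/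
theorem result (n : ℕ) (hn : 5 ≤ n)
    (H : Subgroup (alternatingGroup (Fin n))) (hH : Odd H.index) : Cfsg.IsPronormal H := by
  classical
  have h2 : ¬ 2 ∣ H.index := fun h => (Nat.not_even_iff_odd.2 hH) (even_iff_two_dvd.2 h)
  have : Fact (Nat.Prime 2) := ⟨Nat.prime_two⟩
  obtain ⟨S, hS⟩ := H94.Pronormal.exists_sylow_le H h2
  rcases Nat.lt_or_ge n 6 with h6 | h6
  · have hn5 : n = 5 := by omega
    subst hn5
    have hcard : Nat.card (alternatingGroup (Fin 5)) = 60 := by
      rw [nat_card_alternatingGroup, Nat.card_fin]
      decide
    have hmul := H.card_mul_index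
    rw [hcard] at hmul
    have hd : H.index ∣ 60 := Dvd.intro_left _ hmul
    have hle : H.index ≤ 60 := Nat.le_of_dvd (by norm_num) hd
    have hcases : H.index = 1 ∨ H.index = 3 ∨ H.index = 5 ∨ H.index = 15 := by
      generalize H.index = k at hd hle hH h2
      interval_cases k <;> simp_all
    rcases hcases with h | h | h | h
    · rw [Subgroup.index_eq_one] at h
      intro g
      exact ⟨1, one_mem _, by rw [h]; ext x; simp⟩
    · exact pronormal_of_prime_index H (by rw [h]; norm_num)
    · exact pronormal_of_prime_index H (by rw [h]; norm_num)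
    · have hSc : Nat.card S = 4 := by
        have h1 := S.card_eq_multiplicity
        rw [hcard] at h1
        have h2' : (60 : ℕ).factorization 2 = 2 := by
          have e : (60 : ℕ) = 2 ^ 2 * 15 := by norm_num
          rw [e, Nat.factorization_mul (by norm_num) (by norm_num), Finsupp.add_apply, Nat.factorization_pow,
            Nat.factorization_eq_zero_of_not_dvd (by norm_num : ¬ 2 ∣ 15)]
          simp [Nat.prime_two.factorization]
        rw [h1, h2']
        norm_num
      have hHS : H = (S : Subgroup (alternatingGroup (Fin 5))) := by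
        symm
        apply Subgroup.eq_of_le_of_card_ge hS
        rw [h] at hmul
        have : Nat.card S = 4 := hSc
        omega
      apply H94.Pronormal.isPronormal_of_normalizer_le S H hS
      rw [hHS]
  · exact H94.Pronormal.isPronormal_of_selfNorm S H hS (H94.Syl2Sym.alt_selfNorm (by simpa using h6) S)

end Cfsg.Agent.S2222
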