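import Cfsg.Statements.S2177
import Cfsg.Agent.H70.G2Even

set_option autoImplicit false
open Cfsg

namespace Cfsg.Agent.S2177

open Cfsg.Lie Cfsg.Agent.ChevalleyStructure.Elts Cfsg.Agent.H83.ChevInv Cfsg.Agent.H83.OrthRed Cfsg.Agent.H70.G2Even

theorem cases' {F : Type*} [Field F] {y : GL chevG2.Idx F}
    (hy : (y : Matrix chevG2.Idx chevG2.Idx F) ∈ [chevG2.x F 11 1, chevG2.x F 9 1]) :
    y = xG inG2 11 1 ∨ y = xG inG2 9 1 := by
  simp only [List.mem_cons, List.not_mem_nil, or_false] at hy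
  rcases hy with h | h
  · exact Or.inl ((eq_xG_iff inG2 y 11 1).2 h)
  · exact Or.inr ((eq_xG_iff inG2 y 9 1).2 h)

/-- Conjugacy classes of involutions in the Chevalley group of type G₂ over a finite field F of characteristic two with at least four elements (the matrix group generated by the root elements x_r(t)). In this problem's root numbering for type G₂ (the Chevalley data module; p₁ = a short, p₂ = b long; roots indexed by coefficient vectors in increasing order) let 11 be the highest root 3a + 2b (long) and 9 the short root 2a + b; consider x_{3a+2b}(1) and x_{2a+b}(1). Then: each invertible matrix equal to one of these two products lies in the group and has order 2; every element of order 2 of the group is conjugate in the group to one of them; and no two of them are conjugate in the group (so, the two matrices being distinct, the group has exactly two conjugacy classes of involutions). -/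
theorem result {F : Type*} [Field F] [Fintype F] [CharP F 2] (hF : 4 ≤ Fintype.card F) :
    (∀ y : GL Cfsg.Lie.chevG2.Idx F, ((y : GL Cfsg.Lie.chevG2.Idx F) : Matrix Cfsg.Lie.chevG2.Idx Cfsg.Lie.chevG2.Idx F) ∈ [Cfsg.Lie.chevG2.x F 11 1, Cfsg.Lie.chevG2.x F 9 1] → y ∈ Cfsg.Lie.chevG2.group F ∧ orderOf y = 2) ∧
    (∀ g ∈ Cfsg.Lie.chevG2.group F, orderOf g = 2 → ∃ y ∈ Cfsg.Lie.chevG2.group F, ((y : GL Cfsg.Lie.chevG2.Idx F) : Matrix Cfsg.Lie.chevG2.Idx Cfsg.Lie.chevG2.Idx F) ∈ [Cfsg.Lie.chevG2.x F 11 1, Cfsg.Lie.chevG2.x F 9 1] ∧ ∃ h ∈ Cfsg.Lie.chevG2.group F, h * g * h⁻¹ = y) ∧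
    (∀ y₁ ∈ Cfsg.Lie.chevG2.group F, ∀ y₂ ∈ Cfsg.Lie.chevG2.group F, ((y₁ : GL Cfsg.Lie.chevG2.Idx F) : Matrix Cfsg.Lie.chevG2.Idx Cfsg.Lie.chevG2.Idx F) ∈ [Cfsg.Lie.chevG2.x F 11 1, Cfsg.Lie.chevG2.x F 9 1] → ((y₂ : GL Cfsg.Lie.chevG2.Idx F) : Matrix Cfsg.Lie.chevG2.Idx Cfsg.Lie.chevG2.Idx F) ∈ [Cfsg.Lie.chevG2.x F 11 1, Cfsg.Lie.chevG2.x F 9 1] →
      (∃ h ∈ Cfsg.Lie.chevG2.group F, h * y₁ * h⁻¹ = y₂) → ((y₁ : GL Cfsg.Lie.chevG2.Idx F) : Matrix Cfsg.Lie.chevG2.Idx Cfsg.Lie.chevG2.Idx F) = ((y₂ : GL Cfsg.Lie.chevG2.Idx F) : Matrix Cfsg.Lie.chevG2.Idx Cfsg.Lie.chevG2.Idx F)) := by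
  have hord : ∀ r < chevG2.nroots, orderOf (xG inG2 r (1 : F)) = 2 := by
    intro r hr
    refine orderOf_eq_prime ?_ fun h => ?_
    · rw [pow_two, xG_sq]
    · exact one_ne_zero (Cfsg.Agent.H70.ChevFix.xe_eq_one (F := F) inG2 hr (t := 1) (Subtype.ext h))
  refine ⟨?_, ?_, ?_⟩
  · intro y hy
    rcases cases' hy with rfl | rfl
    · exact ⟨xG_mem_group inG2 _ _, hord 11 (by decide)⟩
    · exact ⟨xG_mem_group inG2 _ _, hord 9 (by decide)⟩
  · intro g hg ho
    have hp : Cfsg.Agent.Nodes.RGDChev.IsType chevG2 2 CoxeterMatrix.G₂ := by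
      simp [Cfsg.Agent.Nodes.RGDChev.IsType, Cfsg.Agent.Nodes.RGDChev.typeList]
    have hg2 : g * g = 1 := by rw [← pow_two, ← ho, pow_orderOf_eq_one]
    obtain ⟨k, hk, L, hL, e⟩ := exists_orth' hp CoxeterMatrix.G₂.toCoxeterSystem hg hg2
    have hor := classify (K := F) hL
    have fin : ∀ R, Eqv inG2 F L R → ∃ h ∈ chevG2.group F, h * g * h⁻¹ = PX inG2 F R := by
      rintro R ⟨m, hm, e'⟩
      exact ⟨m * k, mul_mem hm hk, by rw [← e', ← e]; group⟩
    rcases hor with h | h | h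
    · exfalso
      obtain ⟨m, hm, e'⟩ := fin _ h
      rw [PX_nil, mul_inv_eq_one] at e'
      have h1 : g = 1 := mul_left_cancel (e'.trans (mul_one _).symm)
      rw [h1, orderOf_one] at ho
      omega
    · refine ⟨xG inG2 11 1, xG_mem_group inG2 _ _, ?_, ?_⟩
      · rw [coe_xG]; simp
      · obtain ⟨m, hm, e'⟩ := fin _ h
        exact ⟨m, hm, by rw [e', PX_cons, PX_nil, mul_one]⟩
    · refine ⟨xG inG2 9 1, xG_mem_group inG2 _ _, ?_, ?_⟩
      · rw [coe_xG]; simp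
      · obtain ⟨m, hm, e'⟩ := fin _ h
        exact ⟨m, hm, by rw [e', PX_cons, PX_nil, mul_one]⟩
  · intro y₁ _ y₂ _ h1 h2 h3
    obtain ⟨h, hh, e⟩ := h3
    rcases cases' h1 with rfl | rfl <;> rcases cases' h2 with rfl | rfl
    · rfl
    · exact absurd e (not_conj h hh)
    · refine absurd ?_ (not_conj h⁻¹ (inv_mem hh))
      rw [← e]; group
    · rfl

end Cfsg.Agent.S2177
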