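import Cfsg.Statements.S4184
import Cfsg.Agent.H529.ClassSizes

set_option autoImplicit false
open Cfsg

namespace Cfsg.Agent.S4184

open Cfsg.Agent.H529.ClassSizes

/-- the centralizer of a nontrivial element in a group with disconnected prime graph -/
theorem coprime_card {M : Type*} [Group M] [Finite M] {A : Set ℕ}
    (hA : ∀ a ∈ A, ∀ b ∉ A, a.Prime → b.Prime → a ∣ Nat.card M → b ∣ Nat.card M →
      ¬ ∃ x : M, orderOf x = a * b) (x : M) (hx : x ≠ 1) :
    (∀ p, p.Prime → p ∣ Nat.card (Subgroup.centralizer ({x} : Set M)) → p ∈ A) ∨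
    (∀ p, p.Prime → p ∣ Nat.card (Subgroup.centralizer ({x} : Set M)) → p ∉ A) := by
  obtain ⟨r, hr, hrx⟩ := Nat.exists_prime_and_dvd (fun h => hx (orderOf_eq_one_iff.1 h))
  -- an element of order `r` in `⟨x⟩`
  have key : ∀ p, p.Prime → p ∣ Nat.card (Subgroup.centralizer ({x} : Set M)) → (p ∈ A ↔ r ∈ A) := by
    intro p hp hpc
    haveI : Fact p.Prime := ⟨hp⟩
    by_cases hpr : p = r
    · rw [hpr]
    obtain ⟨y, hy⟩ := exists_prime_orderOf_dvd_card' p hpc
    have hyo : orderOf (y : M) = p := by rw [Subgroup.orderOf_coe]; exact hy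
    have hyx : Commute (y : M) x := Subgroup.mem_centralizer_singleton_iff.1 y.2
    obtain ⟨k, hk⟩ := hrx
    have hk0 : k ≠ 0 := by
      rintro rfl
      rw [mul_zero] at hk
      exact (orderOf_pos x).ne' hk
    have hxo : orderOf (x ^ k) = r := by
      rw [orderOf_pow_of_dvd hk0 (hk ▸ Dvd.intro_left r rfl), hk, Nat.mul_div_cancel _ (Nat.pos_of_ne_zero hk0)]
    have hc : Commute (y : M) (x ^ k) := hyx.pow_right k
    have hcop : (orderOf (y : M)).Coprime (orderOf (x ^ k)) := by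
      rw [hyo, hxo]; exact (Nat.coprime_primes hp hr).2 hpr
    have hord : orderOf ((y : M) * x ^ k) = p * r := by
      rw [hc.orderOf_mul_eq_mul_orderOf_of_coprime hcop, hyo, hxo]
    have hpM : p ∣ Nat.card M := hpc.trans (Subgroup.card_subgroup_dvd_card _)
    have hrM : r ∣ Nat.card M := (hxo ▸ orderOf_dvd_natCard (x ^ k))
    constructor
    · intro h
      by_contra h'
      exact hA p h r h' hp hr hpM hrM ⟨_, hord⟩
    · intro h
      by_contra h'
      exact hA r h p h' hr hp hrM hpM ⟨_, by rw [hord, mul_comm]⟩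
  by_cases hrA : r ∈ A
  · exact Or.inl fun p hp hpc => (key p hp hpc).2 hrA
  · exact Or.inr fun p hp hpc h => hrA ((key p hp hpc).1 h)

/-- Let G and M be finite groups with trivial centres and the same set of conjugacy class sizes, and suppose the prime graph of M is disconnected: the prime divisors of #M split into two non-empty parts such that M has no element of order pq with p in one part and q in the other. Then #G = #M. -/
theorem result {G M : Type*}
    [Group G] [Finite G] [Group M] [Finite M] (hZG : Subgroup.center G = ⊥) (hZM : Subgroup.center M = ⊥)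
    (h : Set.range (fun g : G => (Subgroup.centralizer ({g} : Set G)).index) = Set.range (fun g : M => (Subgroup.centralizer ({g} : Set M)).index))
    (hdisc : ∃ A : Set ℕ, (∃ a ∈ A, a.Prime ∧ a ∣ Nat.card M) ∧ (∃ b ∉ A, b.Prime ∧ b ∣ Nat.card M) ∧
      ∀ a ∈ A, ∀ b ∉ A, a.Prime → b.Prime → a ∣ Nat.card M → b ∣ Nat.card M → ¬ ∃ x : M, orderOf x = a * b) :
    Nat.card G = Nat.card M := by
  classical
  obtain ⟨A, ⟨a, haA, ha, haM⟩, ⟨b, hbA, hb, hbM⟩, hA⟩ := hdisc
  have hM0 : Nat.card M ≠ 0 := Nat.card_pos.ne'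
  -- the two parts of the order
  set F := (Nat.card M).factorization with hF
  set m₁ : ℕ := ∏ p ∈ (Nat.card M).primeFactors with p ∈ A, p ^ F p with hm₁
  set m₂ : ℕ := ∏ p ∈ (Nat.card M).primeFactors with p ∉ A, p ^ F p with hm₂
  have hprod : m₁ * m₂ = Nat.card M := by
    rw [hm₁, hm₂, Finset.prod_filter_mul_prod_filter_not]
    exact Nat.prod_factorization_pow_eq_self hM0
  have h0 : m₁ * m₂ ≠ 0 := hprod ▸ hM0
  have hpA : ∀ p, p.Prime → p ∣ m₁ → p ∈ A := by
    intro p hp hd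
    obtain ⟨q, hq, hpq⟩ := (Prime.dvd_finset_prod_iff hp.prime _).1 hd
    rw [Finset.mem_filter] at hq
    rw [(Nat.prime_dvd_prime_iff_eq hp (Nat.prime_of_mem_primeFactors hq.1)).1 (hp.dvd_of_dvd_pow hpq)]
    exact hq.2
  have hpB : ∀ p, p.Prime → p ∣ m₂ → p ∉ A := by
    intro p hp hd
    obtain ⟨q, hq, hpq⟩ := (Prime.dvd_finset_prod_iff hp.prime _).1 hd
    rw [Finset.mem_filter] at hq
    rw [(Nat.prime_dvd_prime_iff_eq hp (Nat.prime_of_mem_primeFactors hq.1)).1 (hp.dvd_of_dvd_pow hpq)]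
    exact hq.2
  have hco : m₁.Coprime m₂ := Nat.Coprime.symm (Nat.coprime_of_dvd fun p hp h1 h2 => hpB p hp h1 (hpA p hp h2))
  have ham : a ∣ m₁ := by
    rcases (Nat.Prime.dvd_mul ha).1 (hprod ▸ haM) with h | h
    · exact h
    · exact absurd haA (hpB a ha h)
  have hbm : b ∣ m₂ := by
    rcases (Nat.Prime.dvd_mul hb).1 (hprod ▸ hbM) with h | h
    · exact absurd (hpA b hb h) hbA
    · exact h
  have hm₁1 : m₁ ≠ 1 := fun h => ha.one_lt.ne' (Nat.dvd_one.1 (h ▸ ham))
  have hm₂1 : m₂ ≠ 1 := fun h => hb.one_lt.ne' (Nat.dvd_one.1 (h ▸ hbm))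
  -- types in `M`
  have hMone : ∀ x : M, x ≠ 1 → (m₁ ∣ cs x ∧ ¬ m₂ ∣ cs x) ∨ (m₂ ∣ cs x ∧ ¬ m₁ ∣ cs x) := by
    intro x hx
    have hc := card_mul_cs x
    have hx1 : Nat.card (Subgroup.centralizer ({x} : Set M)) ≠ 1 := by
      intro h1
      rw [Subgroup.card_eq_one] at h1
      have : x ∈ Subgroup.centralizer ({x} : Set M) := Subgroup.mem_centralizer_singleton_iff.2 rfl
      rw [h1, Subgroup.mem_bot] at this
      exact hx this
    have hnot : ¬ (m₁ ∣ cs x ∧ m₂ ∣ cs x) := by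
      rintro ⟨h1, h2⟩
      have h3 : Nat.card M ∣ cs x := hprod ▸ hco.mul_dvd_of_dvd_of_dvd h1 h2
      have h4 : cs x ∣ Nat.card M := Dvd.intro_left _ hc
      have h5 := Nat.dvd_antisymm h3 h4
      rw [h5] at hc
      have : 0 < cs x := Nat.pos_of_ne_zero (cs_ne_zero x)
      exact hx1 (by nlinarith [Nat.eq_of_mul_eq_mul_right this (hc.trans (one_mul _).symm)])
    have hor : m₁ ∣ cs x ∨ m₂ ∣ cs x := by
      rcases coprime_card hA x hx with hc' | hc'
      · right
        have hcop : m₂.Coprime (Nat.card (Subgroup.centralizer ({x} : Set M))) :=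
          Nat.Coprime.symm (Nat.coprime_of_dvd fun p hp h1 h2 => hpB p hp h2 (hc' p hp h1))
        exact hcop.dvd_of_dvd_mul_left (hc ▸ hprod ▸ Dvd.intro_left _ rfl)
      · left
        have hcop : m₁.Coprime (Nat.card (Subgroup.centralizer ({x} : Set M))) :=
          Nat.Coprime.symm (Nat.coprime_of_dvd fun p hp h1 h2 => hc' p hp h1 (hpA p hp h2))
        exact hcop.dvd_of_dvd_mul_left (hc ▸ hprod ▸ Dvd.intro _ rfl)
    tauto
  -- transfer to `G`
  have hGM : ∀ x : G, ∃ y : M, cs y = cs x := by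
    intro x
    have : cs x ∈ Set.range (fun g : M => (Subgroup.centralizer ({g} : Set M)).index) := h ▸ ⟨x, rfl⟩
    exact this
  have hMG : ∀ y : M, ∃ x : G, cs x = cs y := by
    intro y
    have : cs y ∈ Set.range (fun g : G => (Subgroup.centralizer ({g} : Set G)).index) := h ▸ ⟨y, rfl⟩
    exact this
  have hdvd : ∀ x : G, cs x ∣ m₁ * m₂ := by
    intro x
    obtain ⟨y, hy⟩ := hGM x
    rw [← hy, hprod]
    exact Dvd.intro_left _ (card_mul_cs y)
  have hone : ∀ x : G, x ≠ 1 → (m₁ ∣ cs x ∧ ¬ m₂ ∣ cs x) ∨ (m₂ ∣ cs x ∧ ¬ m₁ ∣ cs x) := by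
    intro x hx
    obtain ⟨y, hy⟩ := hGM x
    rw [← hy]
    apply hMone
    rintro rfl
    have h1 : cs (1 : M) = 1 := (cs_eq_one_iff 1).2 (Subgroup.one_mem _)
    rw [h1] at hy
    have := (cs_eq_one_iff x).1 hy.symm
    rw [hZG, Subgroup.mem_bot] at this
    exact hx this
  have hdv : ∀ m : ℕ, (∃ y : M, m ∣ cs y) → m ∣ Nat.card G := by
    rintro m ⟨y, hy⟩
    obtain ⟨x, hx⟩ := hMG y
    exact (hx ▸ hy).trans (Dvd.intro_left _ (card_mul_cs x))
  have h₁ : ∃ y : M, m₁ ∣ cs y := by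
    haveI : Fact b.Prime := ⟨hb⟩
    obtain ⟨Q⟩ : Nonempty (Sylow b M) := inferInstance
    obtain ⟨z, -, hz1, -, hz⟩ := exists_central Q hbM
    rcases hMone z hz1 with h | h
    · exact ⟨z, h.1⟩
    · exact absurd (hbm.trans h.1) hz
  have h₂ : ∃ y : M, m₂ ∣ cs y := by
    haveI : Fact a.Prime := ⟨ha⟩
    obtain ⟨Q⟩ : Nonempty (Sylow a M) := inferInstance
    obtain ⟨z, -, hz1, -, hz⟩ := exists_central Q haM
    rcases hMone z hz1 with h | h
    · exact absurd (ham.trans h.1) hz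
    · exact ⟨z, h.1⟩
  rw [← hprod]
  exact card_eq_of_two_types hZG hco h0 hdvd hone hm₁1 hm₂1 (hdv _ h₁) (hdv _ h₂)

end Cfsg.Agent.S4184
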