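import Cfsg.Statements.S2165
import Cfsg.Agent.H80.HermTwo

set_option autoImplicit false
open Cfsg

namespace Cfsg.Agent.S2165

/-- In SU_n(q), q even, n ≥ 3 (matrices of determinant 1 over the field with q² elements preserving Σ u_i v_i^q): for every ℓ with 1 ≤ ℓ and 2ℓ ≤ n, the permutation matrix of the involution of {0, …, n−1} exchanging i and n − ℓ + i for each i < ℓ lies in SU_n(q), has order 2, and differs from the identity by a matrix of rank ℓ. So every rank between 1 and n/2 occurs for involutions of SU_n(q). -/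
theorem result {F : Type*} [Field F] [Fintype F] [CharP F 2] {n q : ℕ} (hF : Fintype.card F = q ^ 2) (hn : 3 ≤ n) (ℓ : ℕ) (h1 : 1 ≤ ℓ) (h2 : 2 * ℓ ≤ n) :
    ∃ a : ↥(Cfsg.SU n F q), (((a : Matrix.SpecialLinearGroup (Fin n) F) : Matrix (Fin n) (Fin n) F) = Matrix.of (fun i j : Fin n => if (j.val < ℓ ∧ i.val = j.val + (n - ℓ)) ∨ (i.val < ℓ ∧ j.val = i.val + (n - ℓ)) ∨ (i = j ∧ ℓ ≤ i.val ∧ i.val < n - ℓ) then (1 : F) else 0)) ∧ orderOf a = 2 ∧ ((((a : Matrix.SpecialLinearGroup (Fin n) F) : Matrix (Fin n) (Fin n) F)) - 1).rank = ℓ := by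
  have h2F : (2 : F) = 0 := H80.two_zero
  -- the permutation
  set p : Fin n → Fin n := fun i => if h : i.val < ℓ then ⟨i.val + (n - ℓ), by omega⟩
    else if h' : i.val < n - ℓ then i else ⟨i.val - (n - ℓ), by omega⟩ with hp
  have hpv : ∀ i : Fin n, (p i).val = if i.val < ℓ then i.val + (n - ℓ)
      else if i.val < n - ℓ then i.val else i.val - (n - ℓ) := by
    intro i
    simp only [hp]
    split_ifs <;> rfl
  have hpp : ∀ i, p (p i) = i := by
    intro i
    apply Fin.ext
    have h3 := i.isLt
    rw [hpv, hpv]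
    split_ifs <;> omega
  let π : Equiv.Perm (Fin n) := ⟨p, p, hpp, hpp⟩
  set M : Matrix (Fin n) (Fin n) F := Matrix.of (fun i j : Fin n => if (j.val < ℓ ∧ i.val = j.val + (n - ℓ)) ∨ (i.val < ℓ ∧ j.val = i.val + (n - ℓ)) ∨ (i = j ∧ ℓ ≤ i.val ∧ i.val < n - ℓ) then (1 : F) else 0) with hM
  have hMπ : M = π.permMatrix F := by
    ext i j
    rw [hM, Matrix.of_apply, Equiv.Perm.permMatrix, PEquiv.toMatrix_apply]
    have h3 := i.isLt
    have h4 := j.isLt
    have e1 : (j ∈ π.toPEquiv i) ↔ (p i).val = j.val := by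
      rw [Equiv.toPEquiv_apply, Option.mem_some_iff, Fin.ext_iff]
      rfl
    have e2 : ((j.val < ℓ ∧ i.val = j.val + (n - ℓ)) ∨ (i.val < ℓ ∧ j.val = i.val + (n - ℓ)) ∨ (i = j ∧ ℓ ≤ i.val ∧ i.val < n - ℓ)) ↔ (j ∈ π.toPEquiv i) := by
      rw [e1, hpv, Fin.ext_iff]
      split_ifs <;> omega
    by_cases h5 : j ∈ π.toPEquiv i
    · rw [if_pos h5, if_pos (e2.2 h5)]
    · rw [if_neg h5, if_neg (fun h => h5 (e2.1 h))]
  have hMv : ∀ (x : Fin n → F) i, M.mulVec x i = x (p i) := by
    intro x i
    rw [hMπ, Matrix.permMatrix_mulVec]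
    rfl
  have hdet : M.det = 1 := by
    rw [hMπ, Matrix.det_permutation]
    have h11 : (-1 : F) = 1 := by
      have : (1 : F) + 1 = 0 := by rw [one_add_one_eq_two, h2F]
      linear_combination -this
    rcases Int.units_eq_one_or (Equiv.Perm.sign π) with h | h <;> rw [h] <;> simp [h11]
  let X : Matrix.SpecialLinearGroup (Fin n) F := ⟨M, hdet⟩
  have hmem : X ∈ Cfsg.SU n F q := by
    refine (LieClassical.SUBasic.mem_SU_iff X).2 ?_
    intro u v
    show hermForm n F q (M.mulVec u) (M.mulVec v) = hermForm n F q u v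
    rw [LieClassical.SUBasic.hermForm_apply, LieClassical.SUBasic.hermForm_apply]
    have : ∀ i, M.mulVec u i * (M.mulVec v i) ^ q = (fun i => u i * v i ^ q) (π i) := fun i => by
      rw [hMv, hMv]
      rfl
    exact (Finset.sum_congr rfl fun i _ => this i).trans (Equiv.sum_comp π (fun i => u i * v i ^ q))
  -- the rank
  have hrank : (M - 1).rank = ℓ := by
    let f : (Fin n → F) →ₗ[F] (Fin ℓ → F) :=
      { toFun := fun x i => x ⟨i.val + (n - ℓ), by have := i.isLt; omega⟩ - x ⟨i.val, by have := i.isLt; omega⟩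
        map_add' := fun x y => by funext i; simp only [Pi.add_apply]; ring
        map_smul' := fun c x => by
          funext i; simp only [Pi.smul_apply, smul_eq_mul, RingHom.id_apply]; ring }
    have hker : LinearMap.ker f = LinearMap.ker (Matrix.mulVecLin (M - 1)) := by
      ext x
      rw [LinearMap.mem_ker, LinearMap.mem_ker, Matrix.mulVecLin_apply, Matrix.sub_mulVec,
        Matrix.one_mulVec, sub_eq_zero]
      constructor
      · intro h
        funext i
        rw [hMv]
        have h3 := i.isLt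
        by_cases hi : i.val < ℓ
        · have h4 := congrFun h ⟨i.val, hi⟩
          have h5 : p i = ⟨i.val + (n - ℓ), by omega⟩ := Fin.ext (by rw [hpv, if_pos hi])
          rw [h5]
          exact sub_eq_zero.1 h4
        · by_cases hi' : i.val < n - ℓ
          · have h5 : p i = i := Fin.ext (by rw [hpv, if_neg hi, if_pos hi'])
            rw [h5]
          · have h4 := congrFun h ⟨i.val - (n - ℓ), by omega⟩
            have h5 : p i = ⟨i.val - (n - ℓ), by omega⟩ :=
              Fin.ext (by rw [hpv, if_neg hi, if_neg hi'])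
            have h6 : i = ⟨(i.val - (n - ℓ)) + (n - ℓ), by omega⟩ := Fin.ext (by simp only []; omega)
            rw [h5]
            conv_rhs => rw [h6]
            exact (sub_eq_zero.1 h4).symm
      · intro h
        funext i
        have h3 := i.isLt
        have h4 := congrFun h ⟨i.val, by omega⟩
        rw [hMv] at h4
        have h5 : p ⟨i.val, by omega⟩ = ⟨i.val + (n - ℓ), by omega⟩ :=
          Fin.ext (by rw [hpv]; simp only [if_pos h3])
        rw [h5] at h4
        exact sub_eq_zero.2 h4
    have hsurj : Function.Surjective f := by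
      intro y
      refine ⟨fun i => if h : n - ℓ ≤ i.val then y ⟨i.val - (n - ℓ), by have := i.isLt; omega⟩ else 0, ?_⟩
      funext i
      have h3 := i.isLt
      show (dite _ _ _) - (dite _ _ _) = y i
      rw [dif_pos (by simp only []; omega), dif_neg (by simp only []; omega), sub_zero]
      congr 1
      apply Fin.ext
      simp only []
      omega
    have h3 := LinearMap.finrank_range_add_finrank_ker f
    have h4 := LinearMap.finrank_range_add_finrank_ker (Matrix.mulVecLin (M - 1))
    rw [LinearMap.range_eq_top.2 hsurj, finrank_top, Module.finrank_fintype_fun_eq_card,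
      Module.finrank_fintype_fun_eq_card, Fintype.card_fin, Fintype.card_fin, hker] at h3
    rw [Module.finrank_fintype_fun_eq_card, Fintype.card_fin] at h4
    have h5 : (M - 1).rank = Module.finrank F (LinearMap.range (Matrix.mulVecLin (M - 1))) := rfl
    omega
  refine ⟨⟨X, hmem⟩, rfl, ?_, hrank⟩
  apply orderOf_eq_prime
  · apply Subtype.ext
    apply Subtype.ext
    rw [pow_two]
    show M * M = 1
    apply Matrix.mulVec_injective
    funext x i
    rw [← Matrix.mulVec_mulVec, hMv, hMv, hpp, Matrix.one_mulVec]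
  · intro h
    have h3 : M = 1 := congrArg (fun X : ↥(Cfsg.SU n F q) =>
      ((X : Matrix.SpecialLinearGroup (Fin n) F) : Matrix (Fin n) (Fin n) F)) h
    rw [h3, sub_self, Matrix.rank_zero] at hrank
    omega

end Cfsg.Agent.S2165
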