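import Cfsg.Statements.S4765
import Cfsg.Agent.H670.SL2Vals
import Cfsg.Agent.H670.PSing
import Cfsg.Agent.S2299
import Cfsg.Agent.S2300
import Cfsg.Agent.Blocks.Deflate

set_option autoImplicit false
open Cfsg

namespace Cfsg.Agent.S4765

open Cfsg.Agent.H670 Cfsg.Agent.H670.RankOne Cfsg.Agent.Characters.Core

variable {p : ℕ} [Fact p.Prime] {F : Type*} [Field F] [Fintype F] [CharP F p]

theorem not_dvd_one : ¬ p ∣ 1 := (Fact.out : p.Prime).one_lt.not_ge ∘ Nat.le_of_dvd one_pos

/-- The degree. -/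
theorem degree_of_dvd {χ : Matrix.SpecialLinearGroup (Fin 2) F → ℂ}
    (hχ : IsIrrCharacter (Matrix.SpecialLinearGroup (Fin 2) F) χ) (h : p ∣ charDegree χ) :
    χ 1 = Fintype.card F := by
  have hp : p ∣ Fintype.card F := by
    rw [← CharP.cast_eq_zero_iff F p (Fintype.card F)]
    exact Nat.cast_card_eq_zero F
  have h1 : ¬ p ∣ 1 := not_dvd_one
  have hq : 1 ≤ Fintype.card F := Fintype.card_pos
  obtain ⟨n, hn⟩ : ∃ n : ℕ, χ 1 = n := (isIrr_apply_one hχ).imp fun n h => h.2
  rw [PSing.charDegree_eq_of hn] at h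
  rw [hn] 
  have e1 : (Fintype.card F : ℂ) - 1 = ((Fintype.card F - 1 : ℕ) : ℂ) := by
    rw [Nat.cast_sub hq, Nat.cast_one]
  have e2 : (Fintype.card F : ℂ) + 1 = ((Fintype.card F + 1 : ℕ) : ℂ) := by
    rw [Nat.cast_add, Nat.cast_one]
  have hm : ¬ p ∣ Fintype.card F - 1 := fun hd => h1 ((Nat.dvd_sub hp hd).trans (by
    rw [Nat.sub_sub_self hq]))
  have hpl : ¬ p ∣ Fintype.card F + 1 := fun hd => h1 ((Nat.dvd_add_right hp).1 hd)
  rcases Nat.even_or_odd (Fintype.card F) with he | ho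
  · have h2 : ringChar F = 2 := by
      rw [FiniteField.even_card_iff_char_two]
      exact Nat.even_iff.1 he
    have : CharP F 2 := ringChar.of_eq h2
    have h3 := S2300.result.1 χ hχ
    rw [hn, e1, e2] at h3
    rcases h3 with h3 | h3 | h3 | h3
    · exact absurd ((Nat.cast_inj.1 (h3.trans Nat.cast_one.symm)) ▸ h) h1
    · exact absurd ((Nat.cast_inj.1 h3) ▸ h) hm
    · exact h3
    · exact absurd ((Nat.cast_inj.1 h3) ▸ h) hpl
  · have h3 := (S2299.result ho).1 χ hχ
    obtain ⟨m, hm'⟩ := ho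
    have e3 : (Fintype.card F + 1) / 2 = m + 1 := by omega
    have e4 : (Fintype.card F - 1) / 2 = m := by omega
    rw [hn, e1, e2, e3, e4] at h3
    rcases h3 with h3 | h3 | h3 | h3 | h3 | h3
    · exact absurd ((Nat.cast_inj.1 (h3.trans Nat.cast_one.symm)) ▸ h) h1
    · exact h3
    · exact absurd ((Nat.cast_inj.1 h3) ▸ h) hpl
    · exact absurd ((Nat.cast_inj.1 h3) ▸ h) hm
    · exfalso
      apply hpl
      rw [Nat.cast_inj.1 h3] at h
      have : Fintype.card F + 1 = (m + 1) * 2 := by omega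
      rw [this]
      exact Dvd.dvd.mul_right h 2
    · exfalso
      apply hm
      rw [Nat.cast_inj.1 h3] at h
      have : Fintype.card F - 1 = m * 2 := by omega
      rw [this]
      exact Dvd.dvd.mul_right h 2

omit [Fact p.Prime] [CharP F p] in
theorem exists_st (hF : 4 ≤ Fintype.card F) :
    ∃ χ : IrrCharacter (Matrix.SpecialLinearGroup (Fin 2) F),
      (χ : Matrix.SpecialLinearGroup (Fin 2) F → ℂ) 1 = Fintype.card F := by
  have key : Nat.card {χ : IrrCharacter (Matrix.SpecialLinearGroup (Fin 2) F) //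
      (χ : Matrix.SpecialLinearGroup (Fin 2) F → ℂ) 1 = (Fintype.card F : ℂ)} = 1 := by
    rcases Nat.even_or_odd (Fintype.card F) with he | ho
    · have h2 : ringChar F = 2 := by
        rw [FiniteField.even_card_iff_char_two]
        exact Nat.even_iff.1 he
      have : CharP F 2 := ringChar.of_eq h2
      exact (S2300.result.2 hF).2.1
    · refine ((S2299.result ho).2 ?_).2.1
      obtain ⟨m, hm⟩ := ho
      omega
  obtain ⟨⟨χ, hχ⟩, _⟩ := Nat.card_eq_one_iff_exists.1 key
  exact ⟨χ, hχ⟩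

omit [Fact p.Prime] [CharP F p] in
/-- The Steinberg character is constant on the centre. -/
theorem central [Fintype (Matrix.SpecialLinearGroup (Fin 2) F)]
    {χ : Matrix.SpecialLinearGroup (Fin 2) F → ℂ}
    (hχ : IsIrrCharacter (Matrix.SpecialLinearGroup (Fin 2) F) χ) (hdeg : χ 1 = Fintype.card F)
    {z : Matrix.SpecialLinearGroup (Fin 2) F}
    (hz : z ∈ Subgroup.center (Matrix.SpecialLinearGroup (Fin 2) F)) : χ z = Fintype.card F := by
  obtain ⟨_, _, h3⟩ := SL2.eq_ind_sub_one hχ hdeg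
  rw [Subgroup.mem_center_iff] at hz
  -- `z` is diagonal
  have h10 : SL2.e10 z = 0 := by
    have := congrArg SL2.e00 (hz (SL2.x 1))
    rw [SL2.mul00, SL2.mul00, SL2.x00, SL2.x01, SL2.x10] at this
    linear_combination this
  have h01 : SL2.e01 z = 0 := by
    have := congrArg SL2.e00 (hz (SL2.y 1))
    rw [SL2.mul00, SL2.mul00, SL2.y00, SL2.y01, SL2.y10] at this
    linear_combination -this
  obtain ⟨u, hu, _, _⟩ := SL2.tor_of_diag h01 h10
  have h8 := (SL2.data F).ind_central_mul 1 (z := SL2.tt u) (fun y => by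
    rw [SL2.tt_coe, ← hu]; exact (hz y).symm) 1
  rw [MonoidHom.one_apply, Units.val_one, one_mul, mul_one, SL2.tt_coe, ← hu] at h8
  rw [h3, Pi.sub_apply, h8, (SL2.data F).ind_one, Pi.one_apply]
  ring

/-- Let F be a finite field of characteristic p with at least 4 elements. Then PSL(2,F) has exactly one irreducible complex character of degree divisible by p, and its degree is the order of F. -/
theorem result (p : ℕ) [Fact p.Prime] (F : Type*) [Field F] [Fintype F] [CharP F p] (hF : 4 ≤ Fintype.card F) : Nat.card {χ : Cfsg.IrrCharacter (Matrix.ProjectiveSpecialLinearGroup (Fin 2) F) // p ∣ Cfsg.charDegree (χ : Matrix.ProjectiveSpecialLinearGroup (Fin 2) F → ℂ)} = 1 ∧ ∀ χ : Cfsg.IrrCharacter (Matrix.ProjectiveSpecialLinearGroup (Fin 2) F), p ∣ Cfsg.charDegree (χ : Matrix.ProjectiveSpecialLinearGroup (Fin 2) F → ℂ) → Cfsg.charDegree (χ : Matrix.ProjectiveSpecialLinearGroup (Fin 2) F → ℂ) = Fintype.card F := by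
  classical
  have : Fintype (Matrix.SpecialLinearGroup (Fin 2) F) := Fintype.ofFinite _
  -- inflation
  have hinf : ∀ χ : Cfsg.IrrCharacter (Matrix.ProjectiveSpecialLinearGroup (Fin 2) F),
      IsIrrCharacter (Matrix.SpecialLinearGroup (Fin 2) F)
        ((χ : Matrix.ProjectiveSpecialLinearGroup (Fin 2) F → ℂ) ∘
          (QuotientGroup.mk' (Subgroup.center (Matrix.SpecialLinearGroup (Fin 2) F)))) := fun χ =>
    isIrr_comp (QuotientGroup.mk' _) (QuotientGroup.mk'_surjective _) χ.2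
  have hone : ∀ χ : Cfsg.IrrCharacter (Matrix.ProjectiveSpecialLinearGroup (Fin 2) F),
      ((χ : Matrix.ProjectiveSpecialLinearGroup (Fin 2) F → ℂ) ∘
          (QuotientGroup.mk' (Subgroup.center (Matrix.SpecialLinearGroup (Fin 2) F)))) 1 =
        (χ : Matrix.ProjectiveSpecialLinearGroup (Fin 2) F → ℂ) 1 := fun χ => rfl
  have hdeg : ∀ χ : Cfsg.IrrCharacter (Matrix.ProjectiveSpecialLinearGroup (Fin 2) F),
      p ∣ charDegree (χ : Matrix.ProjectiveSpecialLinearGroup (Fin 2) F → ℂ) →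
      (χ : Matrix.ProjectiveSpecialLinearGroup (Fin 2) F → ℂ) 1 = Fintype.card F := by
    intro χ hd
    have h1 := degree_of_dvd (p := p) (hinf χ) hd
    exact h1
  refine ⟨?_, fun χ hd => PSing.charDegree_eq_of (hdeg χ hd)⟩
  rw [Nat.card_eq_one_iff_exists]
  obtain ⟨⟨St, hSt⟩, hSt1⟩ := exists_st hF
  have hSt1' : St 1 = Fintype.card F := hSt1
  obtain ⟨χ', hχ'⟩ := Blocks.Deflate.exists_deflation
    (Subgroup.center (Matrix.SpecialLinearGroup (Fin 2) F)) St hSt (by
      rw [Finset.sum_congr rfl fun z _ => central hSt hSt1' z.2, Finset.sum_const, nsmul_eq_mul]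
      exact mul_ne_zero (Nat.cast_ne_zero.2 (by rw [Finset.card_univ]; exact Fintype.card_ne_zero))
        (Nat.cast_ne_zero.2 Fintype.card_ne_zero))
  have hχ'1 : (χ' : Matrix.ProjectiveSpecialLinearGroup (Fin 2) F → ℂ) 1 = Fintype.card F := by
    rw [← hSt1', hχ']
    rfl
  refine ⟨⟨χ', ?_⟩, ?_⟩
  · rw [PSing.charDegree_eq_of hχ'1, ← CharP.cast_eq_zero_iff F p (Fintype.card F)]
    exact Nat.cast_card_eq_zero F
  · rintro ⟨χ, hd⟩
    apply Subtype.ext
    apply Subtype.ext
    have h1 := (SL2.eq_ind_sub_one (hinf χ) ((hone χ).trans (hdeg χ hd))).2.2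
    have h2 := (SL2.eq_ind_sub_one (hinf χ') ((hone χ').trans hχ'1)).2.2
    funext g
    obtain ⟨g, rfl⟩ := QuotientGroup.mk'_surjective _ g
    exact congrFun (h1.trans h2.symm) g

end Cfsg.Agent.S4765
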