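import Cfsg.Statements.S4438
import Cfsg.Agent.H592.Knorr
-- import your own Cfsg.Agent.* helpers here

set_option autoImplicit false
open Cfsg

namespace Cfsg.Agent.S4438

open Cfsg.Agent.Blocks Cfsg.Agent.Blocks.Local Cfsg.Agent.H592
open Cfsg.Agent.H592.Knorr

/-- Let N be a normal subgroup of the finite group G, b a block of N with defect group Q, and B a block of G covering b (some member of B has a constituent in b on restriction to N), all relative to a maximal ideal M of the algebraic integers containing p. Then B has a defect group P with P ⊓ N = Q. -/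
theorem result {G : Type*} [Group G] [Fintype G] (p : ℕ) [Fact p.Prime] (M : Ideal Cfsg.AlgInt) (hM : Cfsg.IsPModular p M) (N : Subgroup G) [hN : N.Normal] [Fintype N] (b : Set (Cfsg.IrrCharacter N)) (hb : Cfsg.IsPBlock M b) (Q : Subgroup G) (hQN : Q ≤ N) (hQ : Cfsg.IsDefectGroup p M b (Q.subgroupOf N)) (B : Set (Cfsg.IrrCharacter G)) (hB : Cfsg.IsPBlock M B) (hcov : (∃ χ ∈ B, ∃ θ ∈ b, Cfsg.classInner (fun n : N => (χ : G → ℂ) n) (θ : N → ℂ) ≠ 0)) : ∃ P : Subgroup G, Cfsg.IsDefectGroup p M B P ∧ P ⊓ N = Q := by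
  classical
  have hprime : M.IsPrime := isPrime_of_isPModular hM
  have hBR : ∀ g, MemLocalRing M (blockCoeff B g) :=
    fun g => Cfsg.Agent.S0913.result p M hM B hB g
  have hQp : IsPGroup p Q :=
    (Defect.isPGroup_of_isDefectGroup hQ).of_equiv (Subgroup.subgroupOfEquivOfLe hQN)
  obtain ⟨D, hD⟩ := Defect.exists_defectGroup p hM hB
  -- `Q` is contained in a defect group
  obtain ⟨c, hc, hcB⟩ := exists_coeff N hM hb hQN hQ hB hcov
  obtain ⟨x, hx⟩ := (Cfsg.Agent.S0959.result p M hM B hB D hD Q hQp).1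
    ⟨c, hBR c, hcB, c, IsConj.refl c, hc⟩
  let P : Subgroup G := D.map (MulAut.conj x⁻¹).toMonoidHom
  have hP : IsDefectGroup p M B P := Basic.isDefectGroup_conj hD x⁻¹
  have hQP : Q ≤ P := by
    intro y hy
    refine ⟨x * y * x⁻¹, hx ⟨y, hy, rfl⟩, ?_⟩
    change x⁻¹ * (x * y * x⁻¹) * x⁻¹⁻¹ = y
    group
  refine ⟨P, hP, ?_⟩
  have hPp : IsPGroup p P := Defect.isPGroup_of_isDefectGroup hP
  have hPNp : IsPGroup p (P ⊓ N : Subgroup G) := hPp.to_le inf_le_left
  symm
  refine Defect.eq_of_le_of_factorization p hQp hPNp (le_inf hQP hQN) ?_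
  -- the order of `P ∩ N`
  obtain ⟨g₀, hg₀, S, hS⟩ := id hP
  have hg₀P : g₀ ∈ Subgroup.centralizer (P : Set G) := by
    rw [Subgroup.mem_centralizer_iff]
    intro u hu
    have h1 : P ≤ Subgroup.centralizer ({g₀} : Set G) := by
      rw [hS]
      exact Subgroup.map_subtype_le _
    exact Subgroup.mem_centralizer_singleton_iff.1 (h1 hu)
  obtain ⟨g, n, hn, hnb⟩ := exists_conj_coeff N hM hb hB hcov hPp hg₀P hg₀.2.1
  have hb' := isPBlock_conjSet N g hb
  obtain ⟨D', hD'⟩ := Defect.exists_defectGroup p hM hb'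
  obtain ⟨y, hy⟩ := (Cfsg.Agent.S0959.result p M hM _ hb' D' hD' ((P ⊓ N).subgroupOf N)
    (hPNp.comap_subtype)).1
    ⟨n, Cfsg.Agent.S0913.result p M hM _ hb' n, hnb, n, IsConj.refl n, hn⟩
  have h1 : Nat.card (P ⊓ N : Subgroup G) ∣ Nat.card D' := by
    have h2 := Subgroup.card_dvd_of_le hy
    rw [Subgroup.card_map_of_injective (MulAut.conj y).injective] at h2
    rwa [Nat.card_congr (Subgroup.subgroupOfEquivOfLe (inf_le_right : P ⊓ N ≤ N)).toEquiv] at h2
  have h2 : (Nat.card D').factorization p = (Nat.card Q).factorization p := by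
    rw [Defect.factorization_card_defect p hM hb' hD', blockDefect_conjSet,
      ← Defect.factorization_card_defect p hM hb hQ,
      Nat.card_congr (Subgroup.subgroupOfEquivOfLe hQN).toEquiv]
  rw [← h2]
  exact (Nat.factorization_le_iff_dvd Nat.card_pos.ne' Nat.card_pos.ne').2 h1 p

end Cfsg.Agent.S4438
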