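import Cfsg.Statements.S2455
import Cfsg.Agent.H145.SLTwo
import Mathlib.LinearAlgebra.Matrix.CharP

set_option autoImplicit false
open Cfsg

namespace Cfsg.Agent.S2455

open Matrix Cfsg.Agent.H145.SLTwo

theorem neg_one_mem_center {F : Type*} [Field F] :
    (-1 : SpecialLinearGroup (Fin 2) F) ∈ Subgroup.center (SpecialLinearGroup (Fin 2) F) := by
  rw [Matrix.SpecialLinearGroup.mem_center_iff]
  refine ⟨-1, by simp, ?_⟩
  ext i j
  fin_cases i <;> fin_cases j <;> simp

theorem mk_neg {F : Type*} [Field F] (A : SpecialLinearGroup (Fin 2) F) :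
    (QuotientGroup.mk (-A) : Matrix.ProjectiveSpecialLinearGroup (Fin 2) F) =
      QuotientGroup.mk A := by
  rw [QuotientGroup.eq]
  have h : (-A)⁻¹ * A = -1 := by
    rw [inv_mul_eq_iff_eq_mul]
    simp
  rw [h]
  exact neg_one_mem_center

theorem trace_neg' {F : Type*} [Field F] (A : SpecialLinearGroup (Fin 2) F) :
    Matrix.trace ((-A : SpecialLinearGroup (Fin 2) F) : Matrix (Fin 2) (Fin 2) F) =
      - Matrix.trace (A : Matrix (Fin 2) (Fin 2) F) := by
  rw [Matrix.SpecialLinearGroup.coe_neg, Matrix.trace_neg]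

/-- A strong covering result in the direction of Thompson's conjecture (non-identity elements) for PSL(2,q), q odd: let F be a finite field of odd characteristic p with at least 5 elements and let x ∈ PSL(2,F) have order greater than 2 and not divisible by p (so x is not unipotent). Then every non-identity element of PSL(2,F) is a product of two conjugates of x. -/
theorem result {F : Type*} [Field F] [Fintype F] (p : ℕ) [Fact p.Prime] [CharP F p] (hp : p ≠ 2) (h5 : 5 ≤ Fintype.card F)
    (x : Matrix.ProjectiveSpecialLinearGroup (Fin 2) F) (hx2 : 2 < orderOf x) (hxp : ¬ p ∣ orderOf x) : ∀ g : Matrix.ProjectiveSpecialLinearGroup (Fin 2) F, g ≠ 1 → ∃ u v : Matrix.ProjectiveSpecialLinearGroup (Fin 2) F, g = (u * x * u⁻¹) * (v * x * v⁻¹) := by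
  intro g hg
  have hodd : Fintype.card F % 2 = 1 := by
    apply FiniteField.odd_card_of_char_ne_two
    rw [ringChar.eq F p]
    exact hp
  have h2 : (2 : F) ≠ 0 := two_ne_zero_of_odd hodd
  obtain ⟨X, rfl⟩ := QuotientGroup.mk_surjective x
  obtain ⟨G, rfl⟩ := QuotientGroup.mk_surjective g
  set α := Matrix.trace (X : Matrix (Fin 2) (Fin 2) F) with hα
  have hcay := cayley X
  rw [← hα] at hcay
  have hX : X ∉ Subgroup.center (SpecialLinearGroup (Fin 2) F) := by
    intro h
    have h1 : (QuotientGroup.mk X : Matrix.ProjectiveSpecialLinearGroup (Fin 2) F) = 1 :=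
      (QuotientGroup.eq_one_iff X).mpr h
    rw [h1, orderOf_one] at hx2
    omega
  -- the trace is not zero
  have hα0 : α ≠ 0 := by
    intro h0
    have h1 : X * X = -1 := by
      apply Subtype.ext
      rw [Matrix.SpecialLinearGroup.coe_mul, hcay, h0, zero_smul, zero_sub]
      simp
    have h3 : (QuotientGroup.mk X : Matrix.ProjectiveSpecialLinearGroup (Fin 2) F) ^ 2 = 1 := by
      rw [pow_two]
      change (QuotientGroup.mk (X * X) : Matrix.ProjectiveSpecialLinearGroup (Fin 2) F) = 1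
      rw [h1]
      exact (QuotientGroup.eq_one_iff _).mpr neg_one_mem_center
    have h4 := Nat.le_of_dvd (by norm_num) (orderOf_dvd_of_pow_eq_one h3)
    omega
  -- the square of the trace is not four
  have hα4 : α ^ 2 ≠ 4 := by
    intro h4
    obtain ⟨e, he, heα⟩ : ∃ e : F, e ^ 2 = 1 ∧ α = 2 * e := by
      refine ⟨α / 2, ?_, by field_simp⟩
      field_simp
      rw [h4]
      norm_num
    have h1 : ((X : Matrix (Fin 2) (Fin 2) F) - e • (1 : Matrix (Fin 2) (Fin 2) F)) ^ 2 = 0 := by
      rw [pow_two, sub_mul, mul_sub, mul_sub, hcay, heα]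
      simp only [Matrix.mul_smul, Matrix.smul_mul, Matrix.one_mul, Matrix.mul_one, smul_smul]
      rw [← pow_two, he]
      module
    have hcom : Commute (X : Matrix (Fin 2) (Fin 2) F) (e • (1 : Matrix (Fin 2) (Fin 2) F)) := by
      rw [Commute, SemiconjBy]
      simp
    have hchar : CharP (Matrix (Fin 2) (Fin 2) F) p := inferInstance
    have hple : 2 ≤ p := (Fact.out : p.Prime).two_le
    have h3 : (X : Matrix (Fin 2) (Fin 2) F) ^ p = e ^ p • (1 : Matrix (Fin 2) (Fin 2) F) := by
      have h5 := sub_pow_char_of_commute (p := p) (h := hcom)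
      obtain ⟨k, hk⟩ := Nat.exists_eq_add_of_le hple
      have h6 : ((X : Matrix (Fin 2) (Fin 2) F) - e • (1 : Matrix (Fin 2) (Fin 2) F)) ^ p = 0 := by
        rw [hk, pow_add, h1, zero_mul]
      rw [h6] at h5
      rw [smul_pow, one_pow] at h5
      exact (sub_eq_zero.mp h5.symm)
    have h7 : X ^ p ∈ Subgroup.center (SpecialLinearGroup (Fin 2) F) := by
      rw [Matrix.SpecialLinearGroup.mem_center_iff]
      refine ⟨e ^ p, ?_, ?_⟩
      · rw [Fintype.card_fin, ← pow_mul, mul_comm, pow_mul, he, one_pow]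
      · rw [Matrix.SpecialLinearGroup.coe_pow, h3]
        simp [Matrix.smul_one_eq_diagonal]
    have h8 : (QuotientGroup.mk X : Matrix.ProjectiveSpecialLinearGroup (Fin 2) F) ^ p = 1 := by
      change (QuotientGroup.mk (X ^ p) : Matrix.ProjectiveSpecialLinearGroup (Fin 2) F) = 1
      exact (QuotientGroup.eq_one_iff _).mpr h7
    have h9 := orderOf_dvd_of_pow_eq_one h8
    rcases (Nat.dvd_prime (Fact.out : p.Prime)).mp h9 with h10 | h10
    · omega
    · exact hxp (by rw [h10])
  -- a representative with trace different from 2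
  obtain ⟨H, hH, hHt, hHc⟩ : ∃ H : SpecialLinearGroup (Fin 2) F,
      (QuotientGroup.mk H : Matrix.ProjectiveSpecialLinearGroup (Fin 2) F) = QuotientGroup.mk G ∧
      Matrix.trace (H : Matrix (Fin 2) (Fin 2) F) ≠ 2 ∧
      H ∉ Subgroup.center (SpecialLinearGroup (Fin 2) F) := by
    have key : ∀ H : SpecialLinearGroup (Fin 2) F,
      (QuotientGroup.mk H : Matrix.ProjectiveSpecialLinearGroup (Fin 2) F) = QuotientGroup.mk G →
      H ∉ Subgroup.center (SpecialLinearGroup (Fin 2) F) := by
      intro H hH h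
      apply hg
      rw [← hH]
      exact (QuotientGroup.eq_one_iff _).mpr h
    by_cases ht : Matrix.trace (G : Matrix (Fin 2) (Fin 2) F) = 2
    · refine ⟨-G, mk_neg G, ?_, key _ (mk_neg G)⟩
      rw [trace_neg', ht]
      intro h
      have h4 : (2 : F) * 2 = 0 := by linear_combination -h
      rcases mul_eq_zero.mp h4 with h | h <;> exact h2 h
    · exact ⟨G, rfl, ht, key _ rfl⟩
  rw [← hH]
  obtain ⟨r, l, hl, hr⟩ := exists_nf H hHc
  obtain ⟨A, B, hAB, hA, hB⟩ := exists_factor (α := α) hodd hl hHt hα0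
  have hAc : A ∉ Subgroup.center (SpecialLinearGroup (Fin 2) F) := fun h =>
    hα4 (by rw [← hA]; exact trace_of_center h)
  have hBc : B ∉ Subgroup.center (SpecialLinearGroup (Fin 2) F) := fun h =>
    hα4 (by rw [← hB]; exact trace_of_center h)
  obtain ⟨u, hu⟩ := conj_of_trace hodd hX hAc (by rw [hA]) (by rw [← hα]; exact hα4)
  obtain ⟨v, hv⟩ := conj_of_trace hodd hX hBc (by rw [hB]) (by rw [← hα]; exact hα4)
  refine ⟨QuotientGroup.mk (r⁻¹ * u), QuotientGroup.mk (r⁻¹ * v), ?_⟩
  change QuotientGroup.mk H = QuotientGroup.mk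
    ((r⁻¹ * u) * X * (r⁻¹ * u)⁻¹ * ((r⁻¹ * v) * X * (r⁻¹ * v)⁻¹))
  congr 1
  have h1 : (r⁻¹ * u) * X * (r⁻¹ * u)⁻¹ * ((r⁻¹ * v) * X * (r⁻¹ * v)⁻¹) =
      r⁻¹ * ((u * X * u⁻¹) * (v * X * v⁻¹)) * r := by group
  rw [h1, hu, hv, hAB, ← hr]
  group

end Cfsg.Agent.S2455
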