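import Cfsg.Statements.S2471
import Mathlib.LinearAlgebra.Matrix.CharP

set_option autoImplicit false
open Cfsg

namespace Cfsg.Agent.S2471

open Matrix

theorem mk_eq_one_iff {F : Type*} [Field F] (A : SpecialLinearGroup (Fin 2) F) :
    (QuotientGroup.mk A : ProjectiveSpecialLinearGroup (Fin 2) F) = 1 ↔
      A.1 = 1 ∨ A.1 = -1 := by
  rw [QuotientGroup.eq_one_iff, SpecialLinearGroup.mem_center_iff]
  constructor
  · rintro ⟨r, hr, h⟩
    simp only [Fintype.card_fin] at hr
    have hr' : r = 1 ∨ r = -1 := aux_sq hr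
    rcases hr' with rfl | rfl
    · left; rw [← h]; simp
    · right; rw [← h, map_neg, map_one]
  · rintro (h | h)
    · exact ⟨1, by simp, by rw [h]; simp⟩
    · exact ⟨-1, by simp, by rw [h, map_neg, map_one]⟩
where
  aux_sq {F : Type _} [Field F] {r : F} (h : r ^ 2 = 1) : r = 1 ∨ r = -1 := by
    have : (r - 1) * (r + 1) = 0 := by ring_nf; rw [h]; ring
    rcases mul_eq_zero.mp this with h | h
    · left; exact sub_eq_zero.mp h
    · right; exact eq_neg_of_add_eq_zero_left h

/-- In PSL(2,q) with q odd, the characteristic p is isolated from 2 in the prime graph: for F a finite field of odd characteristic p with at least 5 elements, PSL(2,F) has no element of order 2p. -/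
theorem result {F : Type*} [Field F] [Fintype F] (p : ℕ) [Fact p.Prime] [CharP F p] (hp : p ≠ 2) (h5 : 5 ≤ Fintype.card F) (g : Matrix.ProjectiveSpecialLinearGroup (Fin 2) F) :
    orderOf g ≠ 2 * p := by
  intro hg
  have hpp : p.Prime := Fact.out
  have hpodd : Odd p := hpp.odd_of_ne_two hp
  obtain ⟨A, rfl⟩ := QuotientGroup.mk_surjective g
  set M : Matrix (Fin 2) (Fin 2) F := A.1 with hM
  have hdet : M.det = 1 := A.2
  -- Cayley–Hamilton
  have hCH : M ^ 2 = M.trace • M - 1 := by
    have := Matrix.aeval_self_charpoly M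
    rw [Matrix.charpoly_fin_two, hdet] at this
    simp only [map_one, map_add, map_sub, map_pow, Polynomial.aeval_X, map_mul,
      Polynomial.aeval_C] at this
    rw [Algebra.algebraMap_eq_smul_one, smul_mul_assoc, one_mul] at this
    rw [eq_comm, ← sub_eq_zero]
    rw [← neg_eq_zero, ← this]
    abel
  have hpow : ∀ k : ℕ, (QuotientGroup.mk A : ProjectiveSpecialLinearGroup (Fin 2) F) ^ k = 1 ↔
      M ^ k = 1 ∨ M ^ k = -1 := by
    intro k
    rw [← QuotientGroup.mk_pow, mk_eq_one_iff, SpecialLinearGroup.coe_pow]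
  have h2 : ¬ (M ^ 2 = 1 ∨ M ^ 2 = -1) := by
    rw [← hpow]
    intro h
    have := orderOf_dvd_of_pow_eq_one h
    rw [hg] at this
    have := Nat.le_of_dvd (by norm_num) this
    have := hpp.two_le
    omega
  have hpn : ¬ (M ^ p = 1 ∨ M ^ p = -1) := by
    rw [← hpow]
    intro h
    have := orderOf_dvd_of_pow_eq_one h
    rw [hg] at this
    have := Nat.le_of_dvd hpp.pos this
    have := hpp.two_le
    omega
  have h2p : M ^ (2 * p) = 1 ∨ M ^ (2 * p) = -1 := by
    rw [← hpow, ← hg]
    exact pow_orderOf_eq_one _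
  have htr2 : (M ^ 2).trace = M.trace ^ 2 - 2 := by
    rw [hCH, Matrix.trace_sub, Matrix.trace_smul]
    simp [sq]
  have key : ∀ ε : F, ε ^ p = ε → M ^ (2 * p) = ε • (1 : Matrix (Fin 2) (Fin 2) F) →
      M.trace ^ 2 - 2 = 2 * ε := by
    intro ε hε h
    have h1 : (M ^ 2 - ε • (1 : Matrix (Fin 2) (Fin 2) F)) ^ p = 0 := by
      rw [sub_pow_char_of_commute p ((Commute.one_right _).smul_right ε), ← pow_mul, h, smul_pow,
        hε, one_pow, sub_self]
    have h3 := Matrix.isNilpotent_trace_of_isNilpotent (M := M ^ 2 - ε • (1 : Matrix (Fin 2) (Fin 2) F)) ⟨p, h1⟩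
    rw [isNilpotent_iff_eq_zero, Matrix.trace_sub, htr2, Matrix.trace_smul, Matrix.trace_one,
      sub_eq_zero] at h3
    rw [h3]
    simp [mul_comm]
  have hneg : ((-1 : F)) ^ p = -1 := hpodd.neg_one_pow
  have h2ne : (2 : F) ≠ 0 := by
    intro h
    have : ((2 : ℕ) : F) = 0 := by exact_mod_cast h
    rw [CharP.cast_eq_zero_iff F p] at this
    exact hp ((Nat.prime_dvd_prime_iff_eq hpp Nat.prime_two).mp this)
  rcases h2p with h | h
  · have h4 := key 1 (one_pow p) (by rw [h, one_smul])
    have h5 : (M.trace - 2) * (M.trace + 2) = 0 := by linear_combination h4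
    have h6 : ∃ δ : F, (δ = 1 ∨ δ = -1) ∧ M.trace = 2 * δ := by
      rcases mul_eq_zero.mp h5 with h7 | h7
      · exact ⟨1, Or.inl rfl, by linear_combination h7⟩
      · exact ⟨-1, Or.inr rfl, by linear_combination h7⟩
    obtain ⟨δ, hδ, ht⟩ := h6
    have hδ2 : δ ^ 2 = 1 := by rcases hδ with rfl | rfl <;> ring
    have hδp : δ ^ p = δ := by
      rcases hδ with rfl | rfl
      · exact one_pow p
      · exact hneg
    have h8 : (M - δ • (1 : Matrix (Fin 2) (Fin 2) F)) ^ 2 = 0 := by
      have e1 : (M - δ • (1 : Matrix (Fin 2) (Fin 2) F)) ^ 2 = M ^ 2 - (2 * δ) • M + (δ ^ 2) • 1 := by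
        rw [sq, sub_mul, mul_sub, mul_sub, mul_smul_comm, smul_mul_assoc, smul_mul_assoc,
          mul_smul_comm, one_mul, mul_one, mul_one, ← sq, two_mul, add_smul, smul_smul, ← sq]
        abel
      rw [e1, hCH, ht, hδ2, one_smul]
      abel
    have h9 : (M - δ • (1 : Matrix (Fin 2) (Fin 2) F)) ^ p = 0 :=
      pow_eq_zero_of_le hpp.two_le h8
    rw [sub_pow_char_of_commute p ((Commute.one_right _).smul_right δ), smul_pow,
        hδp, one_pow, sub_eq_zero] at h9
    apply hpn
    rcases hδ with rfl | rfl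
    · left; rw [h9, one_smul]
    · right; rw [h9, neg_smul, one_smul]
  · have h4 := key (-1) hneg (by rw [h, neg_smul, one_smul])
    have h5 : M.trace ^ 2 = 0 := by linear_combination h4
    have h6 : M.trace = 0 := pow_eq_zero_iff (two_ne_zero) |>.mp h5
    apply h2
    right
    rw [hCH, h6, zero_smul, zero_sub]

end Cfsg.Agent.S2471
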