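-- Statement S2480: the number of conjugacy classes of `PSL_n(q)`.
import Cfsg.Statements.S2480
import Cfsg.Agent.H151.PSLBound

set_option autoImplicit false
open Cfsg

namespace Cfsg.Agent.S2480

open Cfsg.Agent.H151.GLC Cfsg.Agent.H151.Cnt Cfsg.Agent.H151.SLC Cfsg.Agent.H151.SLB Cfsg.Agent.H151.PSLB

theorem arith_two {q k a : ℕ} (hq : 2 ≤ q) (ha : 1 ≤ a) (ha2 : a ≤ 2)
    (h : k * (q - 1) ≤ (q ^ 2 - 1) + ((a ^ 2 - 1) + (a - 1)) * (q - 1)) : k ≤ q ^ 1 + 5 * q ^ 0 := by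
  rw [pow_one, pow_zero]
  obtain ⟨t, rfl⟩ : ∃ t, q = t + 1 := ⟨q - 1, by omega⟩
  rw [Nat.add_sub_cancel] at h
  have h1 : (t + 1) ^ 2 - 1 = (t + 2) * t := by
    have : (t + 1) ^ 2 = (t + 2) * t + 1 := by ring
    rw [this, Nat.add_sub_cancel]
  rw [h1, ← Nat.add_mul] at h
  have h3 := Nat.le_of_mul_le_mul_right h (by omega)
  have hb : a = 1 ∨ a = 2 := by omega
  rcases hb with rfl | rfl <;> norm_num at h3 <;> omega

theorem arith_three {q k a : ℕ} (hq : 2 ≤ q) (ha : 1 ≤ a) (ha2 : a ≤ 3) (haq : a ≤ q - 1)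
    (h : k * (q - 1) ≤ (q - 1) * (q * (q + 1)) + ((a ^ 2 - 1) + (a - 1)) * (q - 1)) : k ≤ q ^ 2 + 5 * q ^ 1 := by
  rw [pow_one]
  obtain ⟨t, rfl⟩ : ∃ t, q = t + 1 := ⟨q - 1, by omega⟩
  rw [Nat.add_sub_cancel] at h haq
  rw [mul_comm t, ← Nat.add_mul] at h
  have h3 := Nat.le_of_mul_le_mul_right h (by omega)
  have h4 : (t + 1) * (t + 1 + 1) = (t + 1) ^ 2 + (t + 1) := by ring
  rw [h4] at h3
  have hb : a = 1 ∨ a = 2 ∨ a = 3 := by omega
  rcases hb with rfl | rfl | rfl <;> norm_num at h3 <;> omega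

theorem arith_four {q k a b K : ℕ} (hq : 2 ≤ q) (ha : 1 ≤ a) (ha2 : a ≤ 2) (haq : a ≤ q - 1) (hab : a ≤ b)
    (hb4 : b ≤ 4) (hbq : b ≤ q - 1) (hK : K + 1 ≤ q ^ 4)
    (h : k * (q - 1) ≤ K + (a ^ 2 - 1) * (q ^ 2 - 1) + (b ^ 2 - a ^ 2) * (q - 1) +
      (a - 1) * ((q ^ 2 - 1) + (a ^ 2 - 1) * (q - 1)) + (b - a) * (q - 1)) : k ≤ q ^ 3 + 5 * q ^ 2 := by
  obtain ⟨t, rfl⟩ : ∃ t, q = t + 1 := ⟨q - 1, by omega⟩
  rw [Nat.add_sub_cancel] at h haq hbq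
  have h1 : (t + 1) ^ 2 - 1 = (t + 2) * t := by
    have : (t + 1) ^ 2 = (t + 2) * t + 1 := by ring
    rw [this, Nat.add_sub_cancel]
  have hK' : K ≤ ((t + 2) * ((t + 1) ^ 2 + 1)) * t := by
    have : (t + 1) ^ 4 = ((t + 2) * ((t + 1) ^ 2 + 1)) * t + 1 := by ring
    omega
  rw [h1] at h
  have h2 : k * t ≤ ((t + 2) * ((t + 1) ^ 2 + 1) + (a ^ 2 - 1) * (t + 2) + (b ^ 2 - a ^ 2) +
      (a - 1) * ((t + 2) + (a ^ 2 - 1)) + (b - a)) * t := by
    refine h.trans ?_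
    calc K + (a ^ 2 - 1) * ((t + 2) * t) + (b ^ 2 - a ^ 2) * t +
          (a - 1) * ((t + 2) * t + (a ^ 2 - 1) * t) + (b - a) * t
        ≤ ((t + 2) * ((t + 1) ^ 2 + 1)) * t + (a ^ 2 - 1) * ((t + 2) * t) + (b ^ 2 - a ^ 2) * t +
          (a - 1) * ((t + 2) * t + (a ^ 2 - 1) * t) + (b - a) * t := by omega
      _ = _ := by ring
  have h3 := Nat.le_of_mul_le_mul_right h2 (by omega)
  refine h3.trans ?_
  have h4 : (t + 1) ^ 3 + 5 * (t + 1) ^ 2 = (t + 2) * ((t + 1) ^ 2 + 1) + (4 * t ^ 2 + 7 * t + 2) := by ring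
  rw [h4, add_assoc, add_assoc, add_assoc]
  apply Nat.add_le_add_left
  have ha' : a = 1 ∨ a = 2 := by omega
  have hb' : b = 1 ∨ b = 2 ∨ b = 3 ∨ b = 4 := by omega
  rcases ha' with rfl | rfl <;> rcases hb' with rfl | rfl | rfl | rfl <;> norm_num <;> first | omega | nlinarith

theorem dd_le {q n A B : ℕ} (hq : 2 ≤ q) (hA1 : 1 ≤ A) (hA : A ≤ n) (hAq : A ≤ q - 1) (hB : B = min (n / 2) (q - 1))
    (hn : n = 5 ∨ n = 6) : ((A ^ 2 - 1) + (A - 1) * B ^ 2) + 5 * q ≤ 4 * q ^ 2 := by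
  have hB3 : B ≤ 3 := by
    rw [hB]
    refine (min_le_left _ _).trans ?_
    omega
  have hBq : B ≤ q - 1 := by rw [hB]; exact min_le_right _ _
  have hA6 : A ≤ 6 := by omega
  clear hB hn hA
  by_cases h6 : 6 ≤ q
  · have h1 : A ^ 2 - 1 ≤ 35 := by
      have := Nat.pow_le_pow_left hA6 2
      omega
    have h2 : (A - 1) * B ^ 2 ≤ 5 * 3 ^ 2 := Nat.mul_le_mul (by omega) (Nat.pow_le_pow_left hB3 2)
    nlinarith
  · push Not at h6
    interval_cases q <;> interval_cases A <;> interval_cases B <;> omega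

theorem dd_le' {q A B : ℕ} (hq : 2 ≤ q) (hA1 : 1 ≤ A) (hAq : A ≤ q - 1) (hBq : B ≤ q - 1) :
    ((A ^ 2 - 1) + (A - 1) * B ^ 2) + 5 * q ^ 2 ≤ 4 * q ^ 3 := by
  obtain ⟨t, rfl⟩ : ∃ t, q = t + 2 := ⟨q - 2, by omega⟩
  have h0 : t + 2 - 1 = t + 1 := by omega
  rw [h0] at hAq hBq
  have h1 : A ^ 2 - 1 ≤ (t + 1) ^ 2 := (Nat.sub_le _ _).trans (Nat.pow_le_pow_left hAq 2)
  have h2 : (A - 1) * B ^ 2 ≤ t * (t + 1) ^ 2 := Nat.mul_le_mul (by omega) (Nat.pow_le_pow_left hBq 2)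
  calc ((A ^ 2 - 1) + (A - 1) * B ^ 2) + 5 * (t + 2) ^ 2 ≤ ((t + 1) ^ 2 + t * (t + 1) ^ 2) + 5 * (t + 2) ^ 2 := by
        omega
    _ ≤ 4 * (t + 2) ^ 3 := by nlinarith [sq_nonneg t]

theorem arith_large {q k n D : ℕ} (hq : 2 ≤ q) (hn : 5 ≤ n)
    (hD : (n = 5 ∨ n = 6) ∧ D + 5 * q ≤ 4 * q ^ 2 ∨ 7 ≤ n ∧ D + 5 * q ^ 2 ≤ 4 * q ^ 3)
    (h : k * (q - 1) + 1 ≤ q ^ n + D * q ^ (n / 2)) : k ≤ q ^ (n - 1) + 5 * q ^ (n - 2) := by
  set Q := q ^ (n - 2) with hQ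
  have e1 : q ^ n = q ^ 2 * Q := by rw [hQ, ← pow_add]; congr 1; omega
  have e2 : q ^ (n - 1) = q * Q := by rw [hQ, ← pow_succ']; congr 1; omega
  rw [e2]
  rw [e1] at h
  have h1 : D * q ^ (n / 2) + 5 * Q ≤ 4 * q * Q := by
    rcases hD with ⟨hn', hD⟩ | ⟨hn', hD⟩
    · have e3 : Q = q * q ^ (n / 2) := by
        rw [hQ, ← pow_succ']
        congr 1
        omega
      rw [e3]
      calc D * q ^ (n / 2) + 5 * (q * q ^ (n / 2)) = (D + 5 * q) * q ^ (n / 2) := by ring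
        _ ≤ (4 * q ^ 2) * q ^ (n / 2) := Nat.mul_le_mul_right _ hD
        _ = _ := by ring
    · obtain ⟨j, hj⟩ : ∃ j, n - 2 = n / 2 + 2 + j := ⟨n - 2 - (n / 2 + 2), by omega⟩
      have e3 : Q = q ^ j * (q ^ 2 * q ^ (n / 2)) := by
        rw [hQ, hj]; ring
      have h5 : D * q ^ (n / 2) ≤ q ^ j * (D * q ^ (n / 2)) := Nat.le_mul_of_pos_left _ (by positivity)
      calc D * q ^ (n / 2) + 5 * Q ≤ q ^ j * (D * q ^ (n / 2)) + 5 * Q := by omega
        _ = q ^ j * ((D + 5 * q ^ 2) * q ^ (n / 2)) := by rw [e3]; ring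
        _ ≤ q ^ j * ((4 * q ^ 3) * q ^ (n / 2)) := Nat.mul_le_mul_left _ (Nat.mul_le_mul_right _ hD)
        _ = _ := by rw [e3]; ring
  obtain ⟨t, rfl⟩ : ∃ t, q = t + 2 := ⟨q - 2, by omega⟩
  have h0 : t + 2 - 1 = t + 1 := by omega
  rw [h0] at h
  have h4 : k * (t + 1) ≤ ((t + 2) * Q + 5 * Q) * (t + 1) := by
    have h5 : ((t + 2) * Q + 5 * Q) * (t + 1) + 5 * Q = (t + 2) ^ 2 * Q + 4 * (t + 2) * Q := by ring
    omega
  exact Nat.le_of_mul_le_mul_right h4 (by omega)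

/-- The number of conjugacy classes of PSL(n,q): for F a finite field with q elements, n ≥ 2 and d = gcd(n, q − 1), the number k of conjugacy classes of PSL(n,F) satisfies q^(n−1) ≤ d·k ≤ q^(n−1) + 5q^(n−2). -/
theorem result {F : Type*} [Field F] [Fintype F] (n : ℕ) (hn : 2 ≤ n) :
    Fintype.card F ^ (n - 1) ≤ Nat.gcd n (Fintype.card F - 1) * Nat.card (ConjClasses (Matrix.ProjectiveSpecialLinearGroup (Fin n) F)) ∧
      Nat.gcd n (Fintype.card F - 1) * Nat.card (ConjClasses (Matrix.ProjectiveSpecialLinearGroup (Fin n) F)) ≤ Fintype.card F ^ (n - 1) + 5 * Fintype.card F ^ (n - 2) := by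
  classical
  have hq : 2 ≤ Fintype.card F := Fintype.one_lt_card
  have hmul := card_psl_mul_le (F := F) (n := n) (by omega)
  constructor
  · have h1 := H151.CenClass.card_le_mul (G := Matrix.SpecialLinearGroup (Fin n) F)
    rw [S0280.card_center_SL (by omega : 1 ≤ n)] at h1
    refine le_trans ?_ h1
    obtain ⟨m, rfl⟩ : ∃ m, n = m + 1 := ⟨n - 1, by omega⟩
    rw [Nat.add_sub_cancel]
    exact (pow_lt_card m (by omega)).le
  · by_cases hn5 : 5 ≤ n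
    · have h2 := total_large_le (F := F) (n := n) (by omega)
      refine arith_large (D := ((aa F n).card ^ 2 - 1) + ((aa F n).card - 1) *
        (min (n / 2) (Fintype.card F - 1)) ^ 2) hq hn5 ?_ ((Nat.add_le_add_right hmul 1).trans h2)
      by_cases hn7 : 7 ≤ n
      · right
        exact ⟨hn7, dd_le' hq (one_le_card_aa n) (card_aa_le' n) (min_le_right _ _)⟩
      · left
        have hn' : n = 5 ∨ n = 6 := by omega
        exact ⟨hn', dd_le hq (one_le_card_aa n) (card_aa_le (by omega)) (card_aa_le' n) rfl hn'⟩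
    · have hn' : n = 2 ∨ n = 3 ∨ n = 4 := by omega
      rcases hn' with rfl | rfl | rfl
      · have hs := total_prime_le (F := F) Nat.prime_two
        rw [K_two_two _ (by omega)] at hs
        exact arith_two hq (one_le_card_aa (F := F) 2) (card_aa_le (by norm_num)) (hmul.trans hs)
      · have hs := total_prime_le (F := F) Nat.prime_three
        rw [K_three_three _ (by omega)] at hs
        exact arith_three hq (one_le_card_aa (F := F) 3) (card_aa_le (by norm_num)) (card_aa_le' 3) (hmul.trans hs)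
      · exact arith_four hq (one_le_card_aa (F := F) 2) (card_aa_le (by norm_num)) (card_aa_le' 2)
          (Finset.card_le_card (aa_mono (F := F) (by norm_num : 2 ∣ 4))) (card_aa_le (by norm_num)) (card_aa_le' 4)
          (K_add_one_le _ (by omega) (by norm_num)) (hmul.trans total_four_le)

end Cfsg.Agent.S2480
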