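import Cfsg.Statements.S4623
import Cfsg.Agent.H636.SymSylow

set_option autoImplicit false
open Cfsg

namespace Cfsg.Agent.S4623

open Cfsg.Agent.H636.ElemAb Cfsg.Agent.H636.SymSylow

/-- For every prime p and every n, a Sylow p-subgroup P of the symmetric group on n letters has P/P' elementary abelian (the p-th power of every element of P lies in the derived subgroup of P), and the same holds for a Sylow p-subgroup of the alternating group on n letters. -/
theorem result (p : ℕ) [Fact p.Prime] (n : ℕ) (P : Sylow p (Equiv.Perm (Fin n))) (Q : Sylow p (alternatingGroup (Fin n))) :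
    (∀ x : (P : Subgroup (Equiv.Perm (Fin n))), x ^ p ∈ commutator (P : Subgroup (Equiv.Perm (Fin n)))) ∧
    (∀ x : (Q : Subgroup (alternatingGroup (Fin n))), x ^ p ∈ commutator (Q : Subgroup (alternatingGroup (Fin n)))) := by
  refine ⟨(gen_sylow n P).pow_mem, ?_⟩
  set f := (alternatingGroup (Fin n)).subtype with hf
  have hfi : Function.Injective f := Subtype.val_injective
  have hQ : IsPGroup p ((Q : Subgroup (alternatingGroup (Fin n))).map f) := Q.2.map f
  obtain ⟨R, hR⟩ := hQ.exists_le_sylow
  have h1 : (R : Subgroup (Equiv.Perm (Fin n))) ⊓ alternatingGroup (Fin n) =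
      (Q : Subgroup (alternatingGroup (Fin n))).map f := by
    have h2 : (Q : Subgroup (alternatingGroup (Fin n))) ≤ (R : Subgroup (Equiv.Perm (Fin n))).comap f :=
      Subgroup.map_le_iff_le_comap.1 hR
    have h3 : IsPGroup p ((R : Subgroup (Equiv.Perm (Fin n))).comap f) :=
      R.2.comap_of_injective f hfi
    have h4 := Q.is_maximal' h3 h2
    rw [← h4, Subgroup.map_comap_eq, hf, Subgroup.range_subtype, inf_comm]
  have e : ((R : Subgroup (Equiv.Perm (Fin n))) ⊓ alternatingGroup (Fin n) :
      Subgroup (Equiv.Perm (Fin n))) ≃* (Q : Subgroup (alternatingGroup (Fin n))) :=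
    (MulEquiv.subgroupCongr h1).trans
      ((Q : Subgroup (alternatingGroup (Fin n))).equivMapOfInjective f hfi).symm
  exact congr e (gen_sylow_inf n R).pow_mem

end Cfsg.Agent.S4623
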