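import Cfsg.Statements.S4510
-- import your own Cfsg.Agent.* helpers here
import Cfsg.Agent.S0962
import Cfsg.Agent.S0906
import Cfsg.Agent.S0908
import Cfsg.Agent.S0911
import Cfsg.Agent.Blocks.Basic
import Cfsg.Agent.Blocks.Local

set_option autoImplicit false
open Cfsg

namespace Cfsg.Agent.S4510

open Cfsg.Agent.Blocks.Basic Cfsg.Agent.Blocks.Local

/-- If the idempotent coefficient of a block at `h` is a unit then the defect of the class of `h`
is at most the defect of the block. -/
theorem le_blockDefect {G : Type*} [Group G] [Finite G] {p : ℕ} [Fact p.Prime] {M : Ideal AlgInt}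
    (hM : IsPModular p M) {B : Set (IrrCharacter G)} (hB : IsPBlock M B) (h : G)
    (hh : ¬ MemLocalIdeal M (blockCoeff B h)) :
    (Nat.card (Subgroup.centralizer ({h} : Set G))).factorization p ≤ blockDefect p B := by
  obtain ⟨g, hg⟩ := Cfsg.Agent.S0906.result p M hM B hB
  obtain ⟨D⟩ : Nonempty (Sylow p (Subgroup.centralizer ({g} : Set G))) := inferInstance
  obtain ⟨x, Q, hQ⟩ := (Cfsg.Agent.S0911.result p M hM B hB g hg D h).1
    (Cfsg.Agent.S0913.result p M hM B hB h) hh
  have hcard := Cfsg.Agent.S0908.result p M hM B hB _ ⟨g, hg, D, rfl⟩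
  have h1 := Subgroup.card_dvd_of_le hQ
  have h2 : Nat.card (((D : Subgroup (Subgroup.centralizer ({g} : Set G))).map
      (Subgroup.centralizer ({g} : Set G)).subtype).map (MulAut.conj x).toMonoidHom) =
      p ^ blockDefect p B := by
    rw [← hcard]
    exact (Nat.card_congr (Subgroup.equivMapOfInjective _ (MulAut.conj x).toMonoidHom
      (MulAut.conj x).injective).toEquiv).symm
  have h3 : Nat.card ((Q : Subgroup (Subgroup.centralizer ({h} : Set G))).map
      (Subgroup.centralizer ({h} : Set G)).subtype) =
      p ^ (Nat.card (Subgroup.centralizer ({h} : Set G))).factorization p := by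
    rw [← Q.card_eq_multiplicity]
    exact (Nat.card_congr (Subgroup.equivMapOfInjective _
      (Subgroup.centralizer ({h} : Set G)).subtype (Subgroup.subtype_injective _)).toEquiv).symm
  rw [h2, h3] at h1
  exact (Nat.pow_dvd_pow_iff_le_right (Fact.out : p.Prime).one_lt).1 h1

/-- Let G be a finite group, p a prime, M a maximal ideal of the algebraic integers containing p, and call the defect of a conjugacy class the exponent of p in the order of the centralizer of its elements. Two irreducible characters lying in p-blocks of defect exactly d lie in the same block if and only if their central characters (class size times χ(x)/χ(1)) agree modulo the local ideal at M at every p-regular element x whose class has defect exactly d. -/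
theorem result {G : Type*} [Group G] [Finite G] (p : ℕ) [Fact p.Prime] (M : Ideal Cfsg.AlgInt) (hM : Cfsg.IsPModular p M) (d : ℕ) (χ ψ : Cfsg.IrrCharacter G) (hχ : Cfsg.blockDefect p (Cfsg.blockOf M (χ : G → ℂ)) = d) (hψ : Cfsg.blockDefect p (Cfsg.blockOf M (ψ : G → ℂ)) = d) : Cfsg.SameBlock M (χ : G → ℂ) (ψ : G → ℂ) ↔ ∀ x : G, ¬ p ∣ orderOf x → (Nat.card (Subgroup.centralizer ({x} : Set G))).factorization p = d → Cfsg.MemLocalIdeal M (Cfsg.centralChar (χ : G → ℂ) x - Cfsg.centralChar (ψ : G → ℂ) x) := by
  classical
  constructor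
  · intro h x _ _
    exact h x
  intro hagree
  have : Fintype G := Fintype.ofFinite G
  have : Fintype (ConjClasses G) := Fintype.ofFinite _
  have hMp : M.IsPrime := hM.2.1.isPrime
  by_contra hne
  set B := blockOf M (χ : G → ℂ) with hBdef
  have hB : IsPBlock M B := ⟨χ, rfl⟩
  have hχB : χ ∈ B := mem_blockOf_self χ
  have hψB : ψ ∉ B := hne
  have h1 := Cfsg.Agent.S0962.sum_centralChar_mul_blockCoeff B χ
  have h2 := Cfsg.Agent.S0962.sum_centralChar_mul_blockCoeff B ψ
  rw [if_pos hχB] at h1
  rw [if_neg hψB] at h2
  have h3 : MemLocalIdeal M (1 : ℂ) := by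
    have h4 : (1 : ℂ) = ∑ C : ConjClasses G, (centralChar (χ : G → ℂ) C.out -
        centralChar (ψ : G → ℂ) C.out) * blockCoeff B C.out := by
      simp only [sub_mul, Finset.sum_sub_distrib]
      rw [h1, h2, sub_zero]
    rw [h4]
    refine memLocalIdeal_sum fun C _ => ?_
    by_cases hreg : p ∣ orderOf (C.out : G)
    · have h6 : blockCoeff B (C.out : G) = 0 := by
        unfold blockCoeff
        rw [Cfsg.Agent.S0907.result p M hM B hB 1 C.out (by
          rw [orderOf_one]
          exact fun h => (Fact.out : p.Prime).one_lt.ne' (Nat.dvd_one.1 h)) hreg, mul_zero]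
      rw [h6, mul_zero]
      exact memLocalIdeal_zero
    have hRc : MemLocalRing M (centralChar (χ : G → ℂ) (C.out : G) -
        centralChar (ψ : G → ℂ) (C.out : G)) :=
      memLocalRing_sub (Cfsg.Agent.S0962.centralChar_mem M χ _)
        (Cfsg.Agent.S0962.centralChar_mem M ψ _)
    have hRb : MemLocalRing M (blockCoeff B (C.out : G)) :=
      Cfsg.Agent.S0913.result p M hM B hB _
    rcases lt_trichotomy ((Nat.card (Subgroup.centralizer ({(C.out : G)} : Set G))).factorization p) d
      with hlt | heq | hgt
    · -- class of small defect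
      have hsmall : ∀ θ : IrrCharacter G, blockDefect p (blockOf M (θ : G → ℂ)) = d →
          MemLocalIdeal M (centralChar (θ : G → ℂ) (C.out : G)) := by
        intro θ hθ
        by_contra hcon
        have h5 := Cfsg.Agent.S0962.blockDefect_le hM (blockOf M (θ : G → ℂ))
          ⟨θ, mem_blockOf_self θ⟩ (C.out : G) (fun η hη h => hcon
            ((centralChar_memLocalIdeal_iff ⟨θ, rfl⟩ (mem_blockOf_self θ) hη (C.out : G)).2 h))
        rw [hθ] at h5
        exact absurd h5 (not_le.2 hlt)
      exact memLocalIdeal_mul_right (memLocalIdeal_sub (hsmall χ hχ) (hsmall ψ hψ)) hRb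
    · exact memLocalIdeal_mul_right (hagree _ hreg heq) hRb
    · have h5 : MemLocalIdeal M (blockCoeff B (C.out : G)) := by
        by_contra hcon
        have := le_blockDefect hM hB (C.out : G) hcon
        rw [hχ] at this
        exact absurd this (not_le.2 hgt)
      rw [mul_comm]
      exact memLocalIdeal_mul_right h5 hRc
  exact (Ideal.ne_top_iff_one _).1 (Cfsg.Agent.S0962.locIdeal_ne_top (M := M)) h3

end Cfsg.Agent.S4510
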