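import Cfsg.Statements.S2372
-- import your own Cfsg.Agent.* helpers here
import Cfsg.Agent.H129.UntwData
import Cfsg.Agent.H129.DataF4
import Cfsg.Agent.S1092

set_option autoImplicit false
open Cfsg

namespace Cfsg.Agent.S2372

/-- The group F₄(q) contains a cyclic subgroup of order q⁴ + 1 which is its own centralizer. -/
theorem result {F : Type*} [Field F] [Fintype F] (q : ℕ) (hF : Fintype.card F = q) :
    ∃ H : Subgroup ↥(Cfsg.Lie.chevF4.group F), IsCyclic ↥H ∧ Nat.card ↥H = q ^ 4 + 1 ∧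
      Subgroup.centralizer (H : Set ↥(Cfsg.Lie.chevF4.group F)) = H := by
  have hq2 : 2 ≤ q := by rw [← hF]; exact Fintype.one_lt_card
  have hp : Cfsg.Agent.Nodes.RGDChev.IsType Cfsg.Lie.chevF4 4 CoxeterMatrix.F₄ := by simp
  have hW : Nat.card CoxeterMatrix.F₄.Group = 1152 :=
    Cfsg.Agent.S1092.result (⟨4, CoxeterMatrix.F₄⟩, 1152) (by simp)
  have : Finite CoxeterMatrix.F₄.Group := Nat.finite_of_card_ne_zero (by rw [hW]; norm_num)
  -- an odd prime divisor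
  have hex : ∃ r : ℕ, r.Prime ∧ r ∣ q ^ 4 + 1 ∧ r ≠ 2 := by
    by_contra hcon
    push Not at hcon
    have h0 : q ^ 4 + 1 ≠ 0 := by omega
    have h1 : ∀ r : ℕ, r.Prime → r ∣ q ^ 4 + 1 → r = 2 := hcon
    have h2 := Nat.eq_prime_pow_of_unique_prime_dvd h0 (fun {d} hd hd' => h1 d hd hd')
    have h3 : 16 ≤ q ^ 4 := by
      calc 16 = 2 ^ 4 := by norm_num
        _ ≤ q ^ 4 := Nat.pow_le_pow_left hq2 4
    have h4 : 2 ≤ (q ^ 4 + 1).primeFactorsList.length := by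
      by_contra h5
      have h6 : (q ^ 4 + 1).primeFactorsList.length ≤ 1 := by omega
      have h7 : 2 ^ (q ^ 4 + 1).primeFactorsList.length ≤ 2 ^ 1 := Nat.pow_le_pow_right (by norm_num) h6
      omega
    have h5 : 4 ∣ q ^ 4 + 1 := by
      rw [h2]
      exact pow_dvd_pow 2 h4
    have h6 : (q ^ 4 + 1) % 4 ≠ 0 := by
      rw [Nat.add_mod, Nat.pow_mod]
      have : q % 4 < 4 := Nat.mod_lt _ (by norm_num)
      interval_cases (q % 4) <;> norm_num
    exact h6 (Nat.mod_eq_zero_of_dvd h5)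
  obtain ⟨r, hr, hrN, hr2⟩ := hex
  have hN : ((q ^ 4 + 1 : ℕ) : ℤ) = 1 + (q : ℤ) ^ 4 := by push_cast; ring
  have hrq : (r : ℤ) ∣ 1 + (q : ℤ) ^ 4 := by
    rw [← hN]; exact Int.natCast_dvd_natCast.2 hrN
  refine Cfsg.Agent.H129.UntwData.untw_data hp CoxeterMatrix.F₄.toCoxeterSystem (by norm_num) hF
    Cfsg.Agent.H129.TorusChar.invC_F4 one_ne_zero (fun a => ⟨a, pow_one a⟩) Cfsg.Agent.H129.DataF4.hA
    Cfsg.Agent.H129.DataF4.chainOK Cfsg.Agent.H129.DataF4.cycOK Cfsg.Agent.H129.DataF4.rootOK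
    (N := q ^ 4 + 1) (r := r) ?_ ?_ hr ?_ hrN ?_
  · rw [Cfsg.Agent.H129.DataF4.fN_eq, hN]
  · exact Cfsg.Agent.H129.UntwData.coprime_of_eq (a := (q : ℤ) ^ 3) (by rw [hN]; ring)
  · rw [hW]
    intro h
    have h2 : (1152 : ℕ) = 2 ^ 7 * 3 ^ 2 := by norm_num
    rw [h2] at h
    rcases (Nat.Prime.dvd_mul hr).1 h with h | h
    · exact hr2 ((Nat.prime_dvd_prime_iff_eq hr Nat.prime_two).1 (hr.dvd_of_dvd_pow h))
    · have h3 := (Nat.prime_dvd_prime_iff_eq hr Nat.prime_three).1 (hr.dvd_of_dvd_pow h)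
      subst h3
      have h6 : (q ^ 4 + 1) % 3 ≠ 0 := by
        rw [Nat.add_mod, Nat.pow_mod]
        have : q % 3 < 3 := Nat.mod_lt _ (by norm_num)
        interval_cases (q % 3) <;> norm_num
      exact h6 (Nat.mod_eq_zero_of_dvd hrN)
  · intro s hs
    rcases Cfsg.Agent.H129.DataF4.dvd_of_G hrq s hs with h1 | h1
    · exact hr.one_lt.ne' (Nat.dvd_one.1 (by exact_mod_cast h1))
    · exact hr2 ((Nat.prime_dvd_prime_iff_eq hr Nat.prime_two).1 (by exact_mod_cast h1))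

end Cfsg.Agent.S2372
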