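import Cfsg.Statements.S4350
import Cfsg.Agent.S0000
import Cfsg.Agent.H553.OddFin

set_option autoImplicit false
open Pointwise
open Cfsg

namespace Cfsg.Agent.S4350

/-- Let π be a set of primes not containing 2. If a finite group G has a Hall π-subgroup, then any two Hall π-subgroups of G are conjugate. -/
theorem result {G : Type*} [Group G] [Finite G] (π : Set ℕ) (h2 : 2 ∉ π)
    (H K : Subgroup G) (hH : Cfsg.IsPiHall π H) (hK : Cfsg.IsPiHall π K) : ∃ g : G, K = MulAut.conj g • H :=
  Cfsg.Agent.H553.ExtRed.odd_final (fun _ _ _ _ => Cfsg.Agent.S0000.result) π h2 H K hH hK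

end Cfsg.Agent.S4350
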