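import Cfsg.Statements.S2534
-- import your own Cfsg.Agent.* helpers here
import Mathlib
import Cfsg.Agent.H164.HallFinal

set_option autoImplicit false
open Cfsg

namespace Cfsg.Agent.S2534

open Equiv H164

/-- the six 2-subsets of a 4-set -/
abbrev EE : Type := {s : Finset (Fin 4) // s.card = 2}

/-- action of `Sym(4)` on the 2-subsets -/
def psi : Perm (Fin 4) →* Perm EE where
  toFun σ :=
    { toFun := fun s => ⟨s.1.map σ.toEmbedding, by rw [Finset.card_map]; exact s.2⟩
      invFun := fun s => ⟨s.1.map σ.symm.toEmbedding, by rw [Finset.card_map]; exact s.2⟩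
      left_inv := by
        intro s
        apply Subtype.ext
        ext x
        simp [Finset.mem_map_equiv]
      right_inv := by
        intro s
        apply Subtype.ext
        ext x
        simp [Finset.mem_map_equiv] }
  map_one' := by
    ext s : 2
    ext x
    change x ∈ s.1.map (1 : Perm (Fin 4)).toEmbedding ↔ x ∈ s.1
    rw [Finset.mem_map_equiv]
    rfl
  map_mul' σ τ := by
    ext s : 2
    change s.1.map (σ * τ).toEmbedding = (s.1.map τ.toEmbedding).map σ.toEmbedding
    rw [Finset.map_map]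
    rfl

theorem card_EE : Fintype.card EE = 6 := by decide

theorem psi_trans : ∀ s t : EE, ∃ σ ∈ alternatingGroup (Fin 4), psi σ s = t := by
  have key : ∀ s t : EE, ∃ σ : Perm (Fin 4), Perm.sign σ = 1 ∧ psi σ s = t := by
    decide
  intro s t
  obtain ⟨σ, h1, h2⟩ := key s t
  exact ⟨σ, Perm.mem_alternatingGroup.mpr h1, h2⟩

theorem card_A4 : Nat.card (alternatingGroup (Fin 4)) = 12 := by
  have h := nat_card_alternatingGroup (α := Fin 4)
  rw [h]; simp [Nat.factorial]

/-- Case 2 -/
theorem case_two {α : Type} [Fintype α] [DecidableEq α] {π : Set ℕ} (h2 : 2 ∈ π) (h3 : 3 ∈ π)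
    (h7 : 7 ≤ Fintype.card α) (h8 : Fintype.card α ≤ 8) :
    ∃ W : Subgroup (Perm α), W ≤ alternatingGroup α ∧ IsPiSubgroup π W ∧
      ∀ Δ : Finset α, Δ.card = 4 → ¬ W ≤ stabP Δ := by
  obtain ⟨ι⟩ : Nonempty (EE ↪ α) := by
    apply Function.Embedding.nonempty_of_card_le
    rw [card_EE]; omega
  let Φ : Perm (Fin 4) →* Perm α := (Perm.viaEmbeddingHom ι).comp psi
  have hΦ1 : ∀ σ s, Φ σ (ι s) = ι (psi σ s) := by
    intro σ s
    simp only [Φ, MonoidHom.comp_apply, Perm.viaEmbeddingHom_apply, Perm.viaEmbedding_apply]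
  have hΦ2 : ∀ σ y, y ∉ Set.range ι → Φ σ y = y := by
    intro σ y hy
    simp only [Φ, MonoidHom.comp_apply, Perm.viaEmbeddingHom_apply]
    exact Perm.viaEmbedding_apply_of_notMem _ _ _ hy
  obtain ⟨y0, hy0⟩ : ∃ y0, y0 ∉ Set.range ι := by
    by_contra hcon
    push Not at hcon
    have h1 : Function.Surjective ι := fun y => hcon y
    have h4 := Fintype.card_le_of_surjective _ h1
    rw [card_EE] at h4
    omega
  refine ⟨(alternatingGroup (Fin 4)).map Φ, hom_map_alternating_le Φ, ?_, ?_⟩
  · intro r hr hrd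
    have h1 : Nat.card ((alternatingGroup (Fin 4)).map Φ) ∣ 12 := by
      rw [← card_A4]
      exact Subgroup.card_map_dvd _ _
    have h4 := hrd.trans h1
    have h5 : r ∣ 2 * 2 * 3 := h4
    rw [hr.dvd_mul, hr.dvd_mul, Nat.prime_dvd_prime_iff_eq hr Nat.prime_two,
      Nat.prime_dvd_prime_iff_eq hr Nat.prime_three] at h5
    rcases h5 with (h5 | h5) | h5
    · rw [h5]; exact h2
    · rw [h5]; exact h2
    · rw [h5]; exact h3
  · intro Δ hΔ hle
    have h1 : ∀ σ ∈ alternatingGroup (Fin 4), ∀ x, Φ σ x ∈ Δ ↔ x ∈ Δ := by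
      intro σ hσ
      rcases hle ⟨σ, hσ, rfl⟩ with h | h
      · exact h
      · exfalso
        have h4 := h y0
        rw [hΦ2 σ y0 hy0] at h4
        tauto
    by_cases hex : ∃ s, ι s ∈ Δ
    · obtain ⟨s, hs⟩ := hex
      have h4 : Finset.univ.map ι ⊆ Δ := by
        intro y hy
        rw [Finset.mem_map] at hy
        obtain ⟨t, _, rfl⟩ := hy
        obtain ⟨σ, hσ, rfl⟩ := psi_trans s t
        rw [← hΦ1]
        exact (h1 σ hσ _).mpr hs
      have h5 := Finset.card_le_card h4
      rw [Finset.card_map, Finset.card_univ, card_EE] at h5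
      omega
    · push Not at hex
      have h4 : Disjoint Δ (Finset.univ.map ι) := by
        rw [Finset.disjoint_right]
        intro y hy
        rw [Finset.mem_map] at hy
        obtain ⟨t, _, rfl⟩ := hy
        exact hex t
      have h5 := Finset.card_le_univ (Δ ∪ Finset.univ.map ι)
      rw [Finset.card_union_of_disjoint h4, Finset.card_map, Finset.card_univ, card_EE] at h5
      omega

/-- Case 1 -/
theorem case_one {α : Type} [Fintype α] [DecidableEq α] {π : Set ℕ}
    (h5 : 5 ≤ Fintype.card α) (hπ : ∀ r : ℕ, r.Prime → r < Fintype.card α → r ∈ π) :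
    ∃ W : Subgroup (Perm α), W ≤ alternatingGroup α ∧ IsPiSubgroup π W ∧
      ∀ Δ : Finset α, Δ.card + 1 = Fintype.card α → ¬ W ≤ stabP Δ := by
  obtain ⟨a, b, hab⟩ : ∃ a b : α, a ≠ b :=
    Fintype.exists_pair_of_one_lt_card (by omega)
  refine ⟨stabF {a, b} ⊓ alternatingGroup α, inf_le_right, ?_, ?_⟩
  · intro r hr hrd
    have h1 := hrd.trans (Subgroup.card_dvd_of_le
      (inf_le_left : stabF {a, b} ⊓ alternatingGroup α ≤ stabF {a, b}))
    rw [card_stabF, hr.dvd_mul, hr.dvd_factorial, hr.dvd_factorial, Finset.card_pair hab] at h1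
    apply hπ r hr
    omega
  · intro Δ hΔ hle
    have hc1 : Δᶜ.card = 1 := by rw [Finset.card_compl]; omega
    obtain ⟨x, hx⟩ := Finset.card_eq_one.mp hc1
    have hxmem : ∀ y, y ∈ Δ ↔ y ≠ x := by
      intro y
      have : y ∈ Δᶜ ↔ y = x := by rw [hx, Finset.mem_singleton]
      rw [Finset.mem_compl] at this
      tauto
    have hfix : ∀ w ∈ stabF {a, b} ⊓ alternatingGroup α, w x = x := by
      intro w hw
      rcases hle hw with h | h
      · by_contra hcon
        have h1 := (h x).mp ((hxmem _).mpr hcon)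
        exact (hxmem x).mp h1 rfl
      · exfalso
        -- choose y ≠ x with w y ≠ x
        obtain ⟨y, hy⟩ : ∃ y, y ∉ ({x, w⁻¹ x} : Finset α) := by
          by_contra hcon
          push Not at hcon
          have h1 : (Finset.univ : Finset α) ⊆ {x, w⁻¹ x} := fun y _ => hcon y
          have h2 := Finset.card_le_card h1
          have h3 : ({x, w⁻¹ x} : Finset α).card ≤ 2 := Finset.card_le_two
          rw [Finset.card_univ] at h2
          omega
        rw [Finset.mem_insert, Finset.mem_singleton, not_or] at hy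
        have h1 : w y ∈ Δ := by
          rw [hxmem]
          intro hcon
          exact hy.2 (Perm.eq_inv_iff_eq.mpr hcon)
        exact (h y).mp h1 ((hxmem y).mpr hy.1)
    by_cases hxab : x = a ∨ x = b
    · -- (a b)(c d)
      obtain ⟨c, hc, d, hd, hcd⟩ : ∃ c ∈ ({a, b} : Finset α)ᶜ, ∃ d ∈ ({a, b} : Finset α)ᶜ, c ≠ d := by
        apply Finset.one_lt_card.mp
        rw [Finset.card_compl, Finset.card_pair hab]
        omega
      rw [Finset.mem_compl, Finset.mem_insert, Finset.mem_singleton, not_or] at hc hd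
      have hw : swap a b * swap c d ∈ stabF {a, b} ⊓ alternatingGroup α := by
        refine ⟨?_, ?_⟩
        · intro y
          simp only [Perm.mul_apply, Finset.mem_insert, Finset.mem_singleton]
          by_cases hyc : y = c
          · subst hyc
            rw [swap_apply_left, swap_apply_of_ne_of_ne hd.1 hd.2]
            tauto
          by_cases hyd : y = d
          · subst hyd
            rw [swap_apply_right, swap_apply_of_ne_of_ne hc.1 hc.2]
            tauto
          rw [swap_apply_of_ne_of_ne hyc hyd]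
          by_cases hya : y = a
          · subst hya; rw [swap_apply_left]; tauto
          by_cases hyb : y = b
          · subst hyb; rw [swap_apply_right]; tauto
          rw [swap_apply_of_ne_of_ne hya hyb]
        · apply Perm.mem_alternatingGroup.mpr
          rw [map_mul, Perm.sign_swap hab, Perm.sign_swap hcd]; rfl
      have h1 := hfix _ hw
      rcases hxab with h | h
      · rw [h, Perm.mul_apply, swap_apply_of_ne_of_ne (fun h => hc.1 h.symm)
          (fun h => hd.1 h.symm), swap_apply_left] at h1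
        exact hab h1.symm
      · rw [h, Perm.mul_apply, swap_apply_of_ne_of_ne (fun h => hc.2 h.symm)
          (fun h => hd.2 h.symm), swap_apply_right] at h1
        exact hab h1
    · rw [not_or] at hxab
      obtain ⟨c, hc, d, hd, hcd⟩ : ∃ c ∈ ({a, b, x} : Finset α)ᶜ, ∃ d ∈ ({a, b, x} : Finset α)ᶜ,
          c ≠ d := by
        apply Finset.one_lt_card.mp
        rw [Finset.card_compl]
        have : ({a, b, x} : Finset α).card ≤ 3 := Finset.card_le_three
        omega
      simp only [Finset.mem_compl, Finset.mem_insert, Finset.mem_singleton, not_or] at hc hd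
      have hw : cyc x c d ∈ stabF {a, b} ⊓ alternatingGroup α := by
        refine ⟨?_, ?_⟩
        · intro y
          simp only [Finset.mem_insert, Finset.mem_singleton]
          by_cases hyx : y = x
          · subst hyx
            rw [cyc_apply_left (fun h => hc.2.2 h.symm) (fun h => hd.2.2 h.symm)]
            tauto
          by_cases hyc : y = c
          · subst hyc
            rw [cyc_apply_mid (fun h => hd.2.2 h.symm) hcd]
            tauto
          by_cases hyd : y = d
          · subst hyd
            rw [cyc_apply_right]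
            tauto
          rw [cyc_apply_of_ne hyx hyc hyd]
        · apply Perm.mem_alternatingGroup.mpr
          rw [sign_cyc (fun h => hc.2.2 h.symm) hcd]
      have h1 := hfix _ hw
      rw [cyc_apply_left (fun h => hc.2.2 h.symm) (fun h => hd.2.2 h.symm)] at h1
      exact hc.2.2 h1

theorem forward (n : ℕ) (π : Set ℕ)
    (hD : IsDPiGroup π ↥(alternatingGroup (Fin n)))
    (h1 : ¬ (∀ r s : ℕ, r.Prime → s.Prime → r ∈ π → s ∈ π →
      r ∣ Nat.card ↥(alternatingGroup (Fin n)) → s ∣ Nat.card ↥(alternatingGroup (Fin n)) → r = s))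
    (h2 : ¬ ∀ r : ℕ, r.Prime → r ∣ Nat.card ↥(alternatingGroup (Fin n)) → r ∈ π) : False := by
  have hnp : ¬ OnePrime π (Fintype.card (Fin n)) := by
    intro h
    apply h1
    intro r s hr hs hrπ hsπ hrd hsd
    exact h r s hr hs hrπ hsπ (alt_dvd hr hrd) (alt_dvd hs hsd)
  push Not at h2
  obtain ⟨l, hl, hld, hlπ⟩ := h2
  have hln := alt_dvd hl hld
  obtain ⟨K, hK⟩ := isEPi_of_isDPi hD
  obtain ⟨H, hH, hHK, _⟩ := alt_extend hnp (hallAltSub_map hK)
  obtain ⟨p, q, hp, hq, hpq, hpπ, hqπ, hqn⟩ := exists_two_of_not_onePrime hnp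
  obtain ⟨h2π, h3π⟩ := two_three_mem (hallAltSub_map hK) hp hq hpq hpπ hqπ hqn
  obtain ⟨Δ, rfl, hΔ⟩ := hall_sym hH h2π h3π hl hln hlπ
  have key : ∀ W : Subgroup (Perm (Fin n)), W ≤ alternatingGroup (Fin n) → IsPiSubgroup π W →
      ∃ Δ' : Finset (Fin n), Δ'.card = Δ.card ∧ W ≤ stabP Δ' := by
    intro W hWA hW
    have hW' : IsPiSubgroup π (W.subgroupOf (alternatingGroup (Fin n))) := by
      intro r hr hrd
      rw [Nat.card_congr (Subgroup.subgroupOfEquivOfLe hWA).toEquiv] at hrd
      exact hW r hr hrd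
    obtain ⟨g, hg⟩ := isDPi_iff_le hD hK hW'
    refine ⟨Δ.map (g : Perm (Fin n)).toEmbedding, Finset.card_map _, ?_⟩
    intro w hw
    have h3 : (⟨w, hWA hw⟩ : alternatingGroup (Fin n)) ∈ K.map (MulAut.conj g).toMonoidHom :=
      hg hw
    rw [mem_map_conj] at h3
    have h4 : ((g⁻¹ * ⟨w, hWA hw⟩ * g : alternatingGroup (Fin n)) : Perm (Fin n)) ∈
        K.map (alternatingGroup (Fin n)).subtype := ⟨_, h3, rfl⟩
    rw [← hHK] at h4
    have h5 : (g : Perm (Fin n))⁻¹ * w * g ∈ stabP Δ := h4.1
    rw [stabP_map_conj (Δ := Δ) (g := (g : Perm (Fin n))), mem_map_conj]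
    · exact h5
    · intro x
      rw [Finset.mem_map_equiv]
      simp
  rcases hΔ with ⟨h3, h4, h5, h6, h7⟩ | ⟨h3, h4, h5, h6⟩
  · obtain ⟨W, hWA, hW, hno⟩ := case_one h5 h6
    obtain ⟨Δ', hc, hle⟩ := key W hWA hW
    exact hno Δ' (by omega) hle
  · obtain ⟨W, hWA, hW, hno⟩ := case_two (α := Fin n) h2π h3π (by omega) (by omega)
    obtain ⟨Δ', hc, hle⟩ := key W hWA hW
    exact hno Δ' (by omega) hle

/-- For `n ≥ 5` and a set of primes `π`, the alternating group of degree `n` satisfies the full Sylow analogue for `π` (its maximal `π`-subgroups are pairwise conjugate; for a finite group this says Hall `π`-subgroups exist, are all conjugate, and contain every `π`-subgroup up to conjugacy) if and only if either at most one prime of `π` divides its order or every prime dividing its order lies in `π`. -/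
theorem result (n : ℕ) (hn : 5 ≤ n) (π : Set ℕ) :
    Cfsg.IsDPiGroup π ↥(alternatingGroup (Fin n)) ↔
      ((∀ r s : ℕ, r.Prime → s.Prime → r ∈ π → s ∈ π → r ∣ Nat.card ↥(alternatingGroup (Fin n)) → s ∣ Nat.card ↥(alternatingGroup (Fin n)) → r = s) ∨
        ∀ r : ℕ, r.Prime → r ∣ Nat.card ↥(alternatingGroup (Fin n)) → r ∈ π) := by
  constructor
  · intro hD
    by_contra hcon
    rw [not_or] at hcon
    exact forward n π hD hcon.1 hcon.2
  · rintro (h | h)
    · exact (H164.one_prime h).2
    · exact (H164.all_primes h).2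

end Cfsg.Agent.S2534
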