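import Cfsg.Statements.S4334
import Cfsg.Agent.H569.PiHall

set_option autoImplicit false
open Cfsg

namespace Cfsg.Agent.S4334

open Cfsg.Agent.H569.PiHall

/-- An element outside a subgroup has a power of prime power order outside it. -/
theorem exists_primePow {X : Type*} [Group X] [Finite X] (C : Subgroup X) (y : X) (hy : y ∉ C) :
    ∃ m : ℕ, y ^ m ∉ C ∧ ∃ r : ℕ, r.Prime ∧ ∃ k : ℕ, orderOf (y ^ m) = r ^ k := by
  induction hn : orderOf y using Nat.strong_induction_on generalizing y with
  | _ n ih =>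
  have hpos : 0 < orderOf y := orderOf_pos y
  by_cases h1 : ∀ d : ℕ, d.Prime → d ∣ orderOf y → d = (orderOf y).minFac
  · refine ⟨1, by simpa using hy, (orderOf y).minFac, ?_, (orderOf y).primeFactorsList.length, ?_⟩
    · apply Nat.minFac_prime
      intro h2
      apply hy
      rw [orderOf_eq_one_iff.mp h2]
      exact one_mem _
    · rw [pow_one]
      exact Nat.eq_prime_pow_of_unique_prime_dvd hpos.ne' (fun {d} hd hd' => h1 d hd hd')
  · push Not at h1
    obtain ⟨d, hd, hdn, hne⟩ := h1
    set r := (orderOf y).minFac with hr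
    have hrp : r.Prime := by
      apply Nat.minFac_prime
      intro h2
      rw [h2] at hdn
      exact hd.one_lt.ne' (Nat.dvd_one.mp hdn)
    have hrn : r ∣ orderOf y := Nat.minFac_dvd _
    have hlt : ∀ e : ℕ, e.Prime → e ∣ orderOf y → orderOf (y ^ e) < n := by
      intro e he hen
      rw [orderOf_pow_of_dvd he.ne_zero hen, ← hn]
      exact Nat.div_lt_self hpos he.one_lt
    by_cases hyd : y ^ d ∈ C
    · by_cases hyr : y ^ r ∈ C
      · exfalso
        apply hy
        have hcop : IsCoprime (d : ℤ) (r : ℤ) := by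
          rw [Nat.isCoprime_iff_coprime]
          exact (Nat.coprime_primes hd hrp).mpr hne
        obtain ⟨a, b, hab⟩ := hcop
        have h3 : y = (y ^ d) ^ a * (y ^ r) ^ b := by
          rw [← zpow_natCast, ← zpow_natCast, ← zpow_mul, ← zpow_mul, ← zpow_add,
            mul_comm (d : ℤ) a, mul_comm (r : ℤ) b, hab, zpow_one]
        rw [h3]
        exact mul_mem (zpow_mem hyd _) (zpow_mem hyr _)
      · obtain ⟨m, hm, h4⟩ := ih _ (hlt r hrp hrn) (y ^ r) hyr rfl
        refine ⟨r * m, ?_, ?_⟩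
        · rwa [pow_mul]
        · rwa [pow_mul]
    · obtain ⟨m, hm, h4⟩ := ih _ (hlt d hd hdn) (y ^ d) hyd rfl
      refine ⟨d * m, ?_, ?_⟩
      · rwa [pow_mul]
      · rwa [pow_mul]

theorem assemble {G : Type*} [Group G] [Finite G] {l : ℕ} [Fact l.Prime] {H L R K : Subgroup G}
    {g : G} (hL : ∀ x ∈ L, g⁻¹ * x * g ∈ H) (hR : IsPGroup l R)
    (hRN : R ≤ Subgroup.normalizer (L : Set G)) (T : Sylow l G) (hTH : (T : Subgroup G) ≤ H)
    (hTL : ∀ t ∈ (T : Subgroup G), ∀ x ∈ L, t * (g⁻¹ * x * g) = (g⁻¹ * x * g) * t)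
    (hK : K ≤ L ⊔ R) : ∃ g' : G, ∀ x ∈ K, g'⁻¹ * x * g' ∈ H := by
  have hT' : ((g • T : Sylow l G) : Subgroup G) ≤ Subgroup.normalizer (L : Set G) := by
    intro y hy
    have hy' : g⁻¹ * y * g ∈ (T : Subgroup G) :=
      (Cfsg.Agent.Transfer.FrobeniusFusion.mem_smul_sylow g T y).mp hy
    have key : ∀ x ∈ L, y * x * y⁻¹ = x := by
      intro x hx
      have h1 := hTL _ hy' x hx
      have h2 : y * x = x * y := by
        have h3 : g⁻¹ * (y * x) * g = g⁻¹ * (x * y) * g := by
          calc g⁻¹ * (y * x) * g = g⁻¹ * y * g * (g⁻¹ * x * g) := by group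
            _ = g⁻¹ * x * g * (g⁻¹ * y * g) := h1
            _ = _ := by group
        have h4 := mul_right_cancel h3
        exact mul_left_cancel h4
      rw [h2]; group
    rw [Subgroup.mem_normalizer_iff]
    intro x
    constructor
    · intro hx
      rw [key x hx]; exact hx
    · intro hx
      have h1 := key _ hx
      have h2 : y * x * y⁻¹ = x := by
        have h3 : y * (y * x * y⁻¹) * y⁻¹ = y * x * y⁻¹ := h1
        have h4 := mul_right_cancel h3
        have h5 := mul_left_cancel h4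
        exact h5
      rwa [h2] at hx
  set N : Subgroup G := Subgroup.normalizer (L : Set G) with hNdef
  have hRN' : IsPGroup l (R.subgroupOf N) := hR.comap_subtype
  obtain ⟨S, hS⟩ := hRN'.exists_le_sylow
  obtain ⟨n, hn⟩ := MulAction.exists_smul_eq N ((g • T : Sylow l G).subtype hT') S
  refine ⟨(n : G) * g, ?_⟩
  have hKle : L ⊔ R ≤ H.map (MulAut.conj ((n : G) * g)).toMonoidHom := by
    refine sup_le ?_ ?_
    · intro x hx
      rw [mem_map_conj_iff]
      have h1 : (n : G)⁻¹ * x * (n : G) ∈ L := by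
        have h2 := (Subgroup.mem_normalizer_iff.mp (inv_mem n.2) x).mp hx
        simpa using h2
      have h2 := hL _ h1
      have h3 : ((n : G) * g)⁻¹ * x * ((n : G) * g) = g⁻¹ * ((n : G)⁻¹ * x * (n : G)) * g := by
        group
      rw [h3]; exact h2
    · intro x hx
      rw [mem_map_conj_iff]
      have h1 : (⟨x, hRN hx⟩ : N) ∈ (S : Subgroup N) := hS (Subgroup.mem_subgroupOf.mpr hx)
      rw [← hn] at h1
      have h2 := (Cfsg.Agent.Transfer.FrobeniusFusion.mem_smul_sylow n _ _).mp h1
      have h3 : (n : G)⁻¹ * x * (n : G) ∈ (g • T : Sylow l G) := h2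
      have h4 := (Cfsg.Agent.Transfer.FrobeniusFusion.mem_smul_sylow g T _).mp h3
      have h5 : ((n : G) * g)⁻¹ * x * ((n : G) * g) = g⁻¹ * ((n : G)⁻¹ * x * (n : G)) * g := by
        group
      rw [h5]; exact hTH h4
  intro x hx
  exact mem_map_conj_iff.mp (hKle (hK hx))

section

variable {G : Type*} [Group G] [Finite G]
    {σ τ π : Set ℕ} {H Hs Ht : Subgroup G}

theorem comm_of (hd : Disjoint σ τ)
    (hs : Cfsg.IsPiSubgroup σ Hs) (ht : Cfsg.IsPiSubgroup τ Ht) (hsn : Group.IsNilpotent Hs)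
    (hjoin : Hs ⊔ Ht = H) (hcomm : ∀ a ∈ Hs, ∀ b ∈ Ht, a * b = b * a)
    {q : ℕ} (hq : q.Prime) (hqσ : q ∈ σ) {x y : G} (hx : x ∈ H) {k : ℕ} (hxk : orderOf x = q ^ k)
    (hy : y ∈ H) (hyq : (orderOf y).Coprime q) : x * y = y * x := by
  have hqt : (orderOf x).Coprime (Nat.card Ht) := by
    rw [hxk]
    refine Nat.Coprime.pow_left k ((Nat.Prime.coprime_iff_not_dvd hq).mpr fun h => ?_)
    exact Set.disjoint_left.mp hd hqσ (ht q hq h)
  have hxs := mem_left_of_coprime hjoin hcomm hx hqt
  obtain ⟨s, hs', t, ht', rfl⟩ := exists_mul_of_mem hjoin hcomm hy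
  have hst : Commute s t := hcomm s hs' t ht'
  have hcop := coprime_card_of_disjoint hs ht hd
  have h1 : (orderOf s).Coprime (orderOf t) :=
    Nat.Coprime.coprime_dvd_left (Subgroup.orderOf_dvd_natCard _ hs')
      (Nat.Coprime.coprime_dvd_right (Subgroup.orderOf_dvd_natCard _ ht') hcop)
  have h2 : orderOf s ∣ orderOf (s * t) := by
    rw [hst.orderOf_mul_eq_mul_orderOf_of_coprime h1]
    exact dvd_mul_right _ _
  have h3 : (orderOf (⟨x, hxs⟩ : Hs)).Coprime (orderOf (⟨s, hs'⟩ : Hs)) := by
    rw [Subgroup.orderOf_mk, Subgroup.orderOf_mk, hxk]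
    exact Nat.Coprime.pow_left k (Nat.Coprime.coprime_dvd_right h2 hyq.symm)
  have h4 := Cfsg.Agent.Lib.NilpotentCoprime.commute_of_coprime_orderOf h3
  have h5 : x * s = s * x := congrArg Subtype.val h4.eq
  have h6 : x * t = t * x := hcomm x hxs t ht'
  calc x * (s * t) = (x * s) * t := by group
    _ = s * (x * t) := by rw [h5]; group
    _ = s * t * x := by rw [h6]; group

theorem main (hπ : π = σ ∪ τ) (hd : Disjoint σ τ) (hH : Cfsg.IsPiHall π H)
    (hs : Cfsg.IsPiSubgroup σ Hs) (ht : Cfsg.IsPiSubgroup τ Ht) (hsn : Group.IsNilpotent Hs)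
    (hjoin : Hs ⊔ Ht = H) (hcomm : ∀ a ∈ Hs, ∀ b ∈ Ht, a * b = b * a)
    (hD : Cfsg.IsDPiGroup τ G) (n : ℕ) :
    ∀ K : Subgroup G, Nat.card K = n → Cfsg.IsPiSubgroup π K →
      ∃ g : G, ∀ x ∈ K, g⁻¹ * x * g ∈ H := by
  induction n using Nat.strong_induction_on with
  | _ n ih =>
  intro K hKn hK
  have hmax : Maximal (Cfsg.IsPiSubgroup τ) Ht :=
    maximal_of_isPiHall (isPiHall_right hπ hd hH hs ht hjoin hcomm)
  have hHt : Ht ≤ H := hjoin ▸ le_sup_right
  by_cases hτ : Cfsg.IsPiSubgroup τ K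
  · obtain ⟨g, hg⟩ := exists_conj_of_isDPiGroup hD hmax hτ
    exact ⟨g, fun x hx => hHt (hg x hx)⟩
  · rw [Cfsg.IsPiSubgroup] at hτ
    push Not at hτ
    obtain ⟨q, hq, hqK, hqτ⟩ := hτ
    have hqσ : q ∈ σ := by
      have := hK q hq hqK
      rw [hπ] at this
      exact this.resolve_right hqτ
    have hqf : Fact q.Prime := ⟨hq⟩
    have hqπ : q ∈ π := hK q hq hqK
    by_cases hN : Cfsg.HasNormalPComplement q K
    · obtain ⟨Q, N, hNn, hNQ⟩ := hN
      have hNc := Cfsg.Agent.Transfer.NormalPComplement.coprime_of_isComplement' Q hNQ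
      obtain ⟨L, hL⟩ : ∃ L : Subgroup G, L = N.map K.subtype := ⟨_, rfl⟩
      obtain ⟨R, hR⟩ : ∃ R : Subgroup G, R = (Q : Subgroup K).map K.subtype := ⟨_, rfl⟩
      have hLc : Nat.card L = Nat.card N := by
        rw [hL]; exact Subgroup.card_map_of_injective K.subtype_injective
      have hLK : L ≤ K := by rw [hL]; exact Subgroup.map_subtype_le _
      have hLlt : Nat.card L < n := by
        rw [← hKn]
        refine lt_of_le_of_ne (Subgroup.card_le_of_le hLK) fun h => ?_
        rw [hLc] at h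
        rw [h] at hNc
        exact (Nat.Prime.coprime_iff_not_dvd hq).mp hNc.symm hqK
      obtain ⟨g, hg⟩ := ih _ hLlt L rfl (isPiSubgroup_mono hLK hK)
      obtain ⟨T, hT⟩ := exists_sylow_le (p := q) H (fun h => hH.2 q hq hqπ h)
      have hRN : R ≤ Subgroup.normalizer (L : Set G) := by
        rw [hR, hL]
        refine (Subgroup.map_subtype_le _).trans ?_
        have h1 := Subgroup.le_normalizer_map (H := N) K.subtype
        rw [Subgroup.normalizer_eq_top_iff.mpr hNn, ← MonoidHom.range_eq_map,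
          Subgroup.range_subtype] at h1
        exact h1
      refine assemble (l := q) hg (by rw [hR]; exact Q.2.map _) hRN T hT ?_ ?_
      · intro t htT x hx
        obtain ⟨k, hk⟩ := IsPGroup.iff_orderOf.mp T.2 ⟨t, htT⟩
        rw [Subgroup.orderOf_mk] at hk
        refine comm_of hd hs ht hsn hjoin hcomm hq hqσ (hT htT) hk (hg x hx) ?_
        have h1 : orderOf (g⁻¹ * x * g) = orderOf x := by
          have := orderOf_injective (MulAut.conj g⁻¹).toMonoidHom (MulAut.conj g⁻¹).injective x
          rw [← this]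
          simp
        rw [h1]
        exact Nat.Coprime.coprime_dvd_left ((Subgroup.orderOf_dvd_natCard _ hx).trans
          (dvd_of_eq hLc)) hNc
      · rw [hL, hR, ← Subgroup.map_sup, hNQ.sup_eq_top, ← MonoidHom.range_eq_map,
          Subgroup.range_subtype]
    · rw [Cfsg.Agent.Transfer.FrobeniusFusion.hasNormalPComplement_iff_localCondition,
        Cfsg.Agent.Transfer.FrobeniusFusion.LocalCondition] at hN
      push Not at hN
      obtain ⟨D, hD1, y0, hy0, hy0q, hy0C⟩ := hN
      obtain ⟨m, hm, r, hr, k, hrk⟩ := exists_primePow _ y0 hy0C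
      obtain ⟨y, hy⟩ : ∃ y : K, y = y0 ^ m := ⟨_, rfl⟩
      rw [← hy] at hm hrk
      have hyN : y ∈ Subgroup.normalizer (D : Set K) := by rw [hy]; exact pow_mem hy0 m
      have hyq : (orderOf y).Coprime q := by
        rw [hy]; exact Nat.Coprime.coprime_dvd_left (orderOf_pow_dvd m) hy0q
      have hk0 : k ≠ 0 := by
        rintro rfl
        rw [pow_zero, orderOf_eq_one_iff] at hrk
        apply hm
        rw [hrk]; exact one_mem _
      have hrq : r ≠ q := by
        rintro rfl
        rw [hrk] at hyq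
        have h1 := (Nat.coprime_pow_left_iff (Nat.pos_of_ne_zero hk0) _ _).mp hyq
        exact hr.one_lt.ne' ((Nat.coprime_self _).mp h1)
      have hrf : Fact r.Prime := ⟨hr⟩
      have hrK : r ∣ Nat.card K := by
        refine dvd_trans ?_ (orderOf_dvd_natCard y)
        rw [hrk]; exact dvd_pow_self _ hk0
      have hrπ : r ∈ π := hK r hr hrK
      obtain ⟨L, hL⟩ : ∃ L : Subgroup G, L = D.map K.subtype := ⟨_, rfl⟩
      have hLK : L ≤ K := by rw [hL]; exact Subgroup.map_subtype_le _
      have hLq : ∀ x ∈ L, ∃ j : ℕ, orderOf x = q ^ j := by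
        intro x hx
        rw [hL] at hx
        obtain ⟨d, hd', rfl⟩ := hx
        obtain ⟨j, hj⟩ := IsPGroup.iff_orderOf.mp hD1 ⟨d, hd'⟩
        rw [Subgroup.orderOf_mk] at hj
        exact ⟨j, by rw [← hj]; exact Subgroup.orderOf_coe d⟩
      -- `y` does not centralize `L`
      have hnc : ∃ x ∈ L, x * (y : G) ≠ (y : G) * x := by
        by_contra hcon
        push Not at hcon
        apply hm
        rw [Subgroup.mem_centralizer_iff]
        intro d hd'
        apply Subtype.ext
        exact hcon (d : G) (by rw [hL]; exact ⟨d, hd', rfl⟩)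
      obtain ⟨R, hR⟩ : ∃ R : Subgroup G, R = Subgroup.zpowers (y : G) := ⟨_, rfl⟩
      have hRK : R ≤ K := by rw [hR, Subgroup.zpowers_le]; exact y.2
      have hyR : (y : G) ∈ R := by rw [hR]; exact Subgroup.mem_zpowers _
      have hyo : orderOf (y : G) = r ^ k := by rw [Subgroup.orderOf_coe]; exact hrk
      have hRN : R ≤ Subgroup.normalizer (L : Set G) := by
        rw [hR, Subgroup.zpowers_le, hL]
        have h1 := Subgroup.le_normalizer_map (H := D) K.subtype
        exact h1 ⟨y, hyN, rfl⟩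
      -- the group generated by `L` and `y` is `K`
      have hX : K ≤ L ⊔ R := by
        by_contra hcon
        have hlt : L ⊔ R < K := lt_of_le_of_ne (sup_le hLK hRK) (fun h => hcon h.ge)
        have hlt' : Nat.card (L ⊔ R : Subgroup G) < n := by
          rw [← hKn]
          refine lt_of_le_of_ne (Subgroup.card_le_of_le hlt.le) fun h => ?_
          exact hlt.ne (Subgroup.eq_of_le_of_card_ge hlt.le h.ge)
        obtain ⟨g, hg⟩ := ih _ hlt' (L ⊔ R) rfl (isPiSubgroup_mono hlt.le hK)
        obtain ⟨x, hxL, hxy⟩ := hnc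
        obtain ⟨j, hj⟩ := hLq x hxL
        apply hxy
        have ho : ∀ z : G, orderOf (g⁻¹ * z * g) = orderOf z := by
          intro z
          have := orderOf_injective (MulAut.conj g⁻¹).toMonoidHom (MulAut.conj g⁻¹).injective z
          rw [← this]
          simp
        have h1 := comm_of hd hs ht hsn hjoin hcomm hq hqσ (hg x ((le_sup_left : L ≤ L ⊔ R) hxL))
          ((ho x).trans hj) (hg y ((le_sup_right : R ≤ L ⊔ R) hyR)) (by
            rw [ho, Subgroup.orderOf_coe]; exact hyq)
        have h3 : g⁻¹ * (x * y) * g = g⁻¹ * (y * x) * g := by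
          calc g⁻¹ * (x * y) * g = g⁻¹ * x * g * (g⁻¹ * y * g) := by group
            _ = g⁻¹ * y * g * (g⁻¹ * x * g) := h1
            _ = _ := by group
        exact mul_left_cancel (mul_right_cancel h3)
      have hLlt : Nat.card L < n := by
        rw [← hKn]
        refine lt_of_le_of_ne (Subgroup.card_le_of_le hLK) fun h => ?_
        have h1 : L = K := Subgroup.eq_of_le_of_card_ge hLK h.ge
        have h2 : (y : G) ∈ L := h1 ▸ y.2
        obtain ⟨j, hj⟩ := hLq _ h2
        rw [Subgroup.orderOf_coe] at hj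
        have h3 : (orderOf y).Coprime (orderOf y) := by
          conv_rhs => rw [hj]
          exact Nat.Coprime.pow_right j hyq
        have h4 := (Nat.coprime_self _).mp h3
        rw [orderOf_eq_one_iff] at h4
        apply hm
        rw [h4]; exact one_mem _
      obtain ⟨g, hg⟩ := ih _ hLlt L rfl (isPiSubgroup_mono hLK hK)
      obtain ⟨T, hT⟩ := exists_sylow_le (p := r) H (fun h => hH.2 r hr hrπ h)
      refine assemble (l := r) hg ?_ hRN T hT ?_ hX
      · rw [hR, IsPGroup.iff_card]
        exact ⟨k, by rw [Nat.card_zpowers]; exact hyo⟩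
      · intro t htT x hx
        obtain ⟨j, hj⟩ := IsPGroup.iff_orderOf.mp T.2 ⟨t, htT⟩
        rw [Subgroup.orderOf_mk] at hj
        obtain ⟨i, hi⟩ := hLq x hx
        have h1 : orderOf (g⁻¹ * x * g) = q ^ i := by
          have := orderOf_injective (MulAut.conj g⁻¹).toMonoidHom (MulAut.conj g⁻¹).injective x
          rw [← hi, ← this]
          simp
        refine (comm_of hd hs ht hsn hjoin hcomm hq hqσ (hg x hx) h1 (hT htT) ?_).symm
        rw [hj]
        exact Nat.Coprime.pow_left j ((Nat.coprime_primes hr hq).mpr hrq)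

end

/-- Let σ and τ be disjoint sets of primes with union π. Suppose a finite group G has a Hall π-subgroup H which is the direct product of a nilpotent σ-subgroup and a τ-subgroup (two elementwise-commuting subgroups generating H), and that the maximal τ-subgroups of G are pairwise conjugate. Then the maximal π-subgroups of G are pairwise conjugate. -/
theorem result {G : Type*} [Group G] [Finite G]
    (σ τ π : Set ℕ) (hπ : π = σ ∪ τ) (hd : Disjoint σ τ) (H Hs Ht : Subgroup G) (hH : Cfsg.IsPiHall π H)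
    (hs : Cfsg.IsPiSubgroup σ Hs) (ht : Cfsg.IsPiSubgroup τ Ht) (hsn : Group.IsNilpotent Hs)
    (hjoin : Hs ⊔ Ht = H) (hcomm : ∀ a ∈ Hs, ∀ b ∈ Ht, a * b = b * a) (hD : Cfsg.IsDPiGroup τ G) :
    Cfsg.IsDPiGroup π G :=
  isDPiGroup_of_forall hH.1 fun K hK => main hπ hd hH hs ht hsn hjoin hcomm hD _ K rfl hK

end Cfsg.Agent.S4334
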