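import Cfsg.Statements.S5566
import Cfsg.Agent.H856.Bridge
import Cfsg.Agent.H856.TwoEleven

set_option autoImplicit false
open Cfsg

namespace Cfsg.Agent.S5566

/-- Let G be a finite non-abelian simple group of Janko-four type (an involution z whose centralizer H has an extraspecial largest normal 2-subgroup E of order 2^13 containing its centralizer in H, a normal subgroup N ≥ E of H with N/E of order 3 and H/N the automorphism group of M₂₂, and a subgroup P ≤ N of order 3 with C_E(P) = ⟨z⟩, N_H(P) ≠ C_H(P) and P ≤ C_H(P)′). Then a Sylow 2-subgroup of G has exactly one elementary abelian subgroup of order 2^11. -/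
theorem result {G : Type*} [Group G] [Finite G] [IsSimpleGroup G] (hG : ¬ IsMulCommutative G) (hJ : Cfsg.IsOfJankoFourType G) (T : Sylow 2 G) :
    ∃! V : Subgroup G, V ≤ (T : Subgroup G) ∧ Cfsg.IsElementaryAbelian 2 V ∧ Nat.card ↥V = 2 ^ 11 := by
  obtain ⟨z, P, h⟩ := hJ
  obtain ⟨Q, N, M, H, -, -⟩ := Cfsg.Agent.H856.ToHyp.exists_hyp h
  obtain ⟨C, -, -, -⟩ := Cfsg.Agent.H856.Bridge.exists_compl_of_hyp H
  obtain ⟨V, hV, hVc, hVT⟩ := Cfsg.Agent.H856.TwoEleven.exists_le_sylow C.toHex T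
  refine ⟨V, ⟨hVT, ⟨⟨⟨fun a b => Subtype.ext (hV.2 a a.2 b b.2)⟩⟩, fun a ha => ?_⟩, hVc⟩, ?_⟩
  · rw [pow_two]; exact hV.1 a ha
  · rintro W ⟨hWT, ⟨hW1, hW2⟩, hWc⟩
    have hW : Cfsg.Agent.J4Type.IsElem2 W :=
      ⟨fun a ha => by rw [← pow_two]; exact hW2 a ha,
        fun a ha b hb => congrArg Subtype.val (hW1.1.1 ⟨a, ha⟩ ⟨b, hb⟩)⟩
    exact Cfsg.Agent.H856.TwoEleven.eq_of_le_sylow C.toHex T hW hWc.ge hWT hV hVc.ge hVT

end Cfsg.Agent.S5566
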