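import Cfsg.Statements.S5567
import Cfsg.Agent.H856.Bridge
import Cfsg.Agent.H856.TwoEleven

set_option autoImplicit false
open Cfsg

namespace Cfsg.Agent.S5567

open Cfsg.Agent.J4Type Cfsg.Agent.H856.TwoEleven
open scoped Pointwise

/-- the conclusion for `E hex0` -/
theorem key {G : Type*} [Group G] [Finite G] (C : J4Type.Compl G) :
    (∀ g : G, (∀ a ∈ C.E hex0, g * a = a * g) → g ∈ C.E hex0) ∧
    ∃ K : Subgroup G, K ≤ Subgroup.normalizer (C.E hex0 : Set G) ∧ K ⊓ C.E hex0 = ⊥ ∧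
      K ⊔ C.E hex0 = Subgroup.normalizer (C.E hex0 : Set G) ∧ Nonempty (K ≃* M24) := by
  refine ⟨fun g hg => C.A_cent hex0 FusionConj.isHex_hex0 g (fun a ha _ => hg a ha), C.φ.range, ?_, ?_, ?_, ?_⟩
  · rintro _ ⟨m, rfl⟩
    exact C.φ_mem m
  · rw [eq_bot_iff]
    rintro _ ⟨⟨m, rfl⟩, hm⟩
    have h1 : C.π ⟨C.φ m, C.φ_mem m⟩ = 1 := (C.π_ker _).2 hm
    rw [C.π_φ] at h1
    rw [h1, map_one]
    exact one_mem _
  · apply le_antisymm
    · refine sup_le ?_ Subgroup.le_normalizer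
      rintro _ ⟨m, rfl⟩
      exact C.φ_mem m
    · intro n hn
      have h1 : C.π (⟨C.φ (C.π ⟨n, hn⟩), C.φ_mem _⟩⁻¹ * ⟨n, hn⟩) = 1 := by
        rw [map_mul, map_inv, C.π_φ, inv_mul_cancel]
      rw [C.π_ker] at h1
      have h2 : (C.φ (C.π ⟨n, hn⟩))⁻¹ * n ∈ C.E hex0 := h1
      have h3 : n = C.φ (C.π ⟨n, hn⟩) * ((C.φ (C.π ⟨n, hn⟩))⁻¹ * n) := by group
      rw [h3]
      exact Subgroup.mul_mem_sup ⟨_, rfl⟩ h2
  · have hinj : Function.Injective C.φ := by
      intro a b hab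
      have h1 := C.π_φ a
      have h2 := C.π_φ b
      rw [← h1, ← h2]
      congr 1
      exact Subtype.ext hab
    exact ⟨(MonoidHom.ofInjective hinj).symm⟩

/-- Let G be a finite non-abelian simple group of Janko-four type (an involution z whose centralizer H has an extraspecial largest normal 2-subgroup E of order 2^13 containing its centralizer in H, a normal subgroup N ≥ E of H with N/E of order 3 and H/N the automorphism group of M₂₂, and a subgroup P ≤ N of order 3 with C_E(P) = ⟨z⟩, N_H(P) ≠ C_H(P) and P ≤ C_H(P)′). Then every elementary abelian subgroup V of G of order 2^11 contains its centralizer, and its normalizer is a split extension of V by a complement isomorphic to the Mathieu group M₂₄. -/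
theorem result {G : Type*} [Group G] [Finite G] [IsSimpleGroup G] (hG : ¬ IsMulCommutative G) (hJ : Cfsg.IsOfJankoFourType G) (V : Subgroup G) (hV : Cfsg.IsElementaryAbelian 2 V) (hcard : Nat.card ↥V = 2 ^ 11) :
    Subgroup.centralizer (V : Set G) ≤ V ∧ ∃ K : Subgroup G, K ≤ Subgroup.normalizer (V : Set G) ∧ K ⊓ V = ⊥ ∧ K ⊔ V = Subgroup.normalizer (V : Set G) ∧ Cfsg.Spor.IsoM24 ↥K := by
  obtain ⟨z, P, h⟩ := hJ
  obtain ⟨Q, N, M, H, -, -⟩ := Cfsg.Agent.H856.ToHyp.exists_hyp h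
  obtain ⟨C, -, -, -⟩ := Cfsg.Agent.H856.Bridge.exists_compl_of_hyp H
  obtain ⟨hV1, hV2⟩ := hV
  have hVe : IsElem2 V :=
    ⟨fun a ha => by rw [← pow_two]; exact hV2 a ha,
      fun a ha b hb => congrArg Subtype.val (hV1.1.1 ⟨a, ha⟩ ⟨b, hb⟩)⟩
  obtain ⟨g, hg⟩ := exists_conj_E C.toHex hVe hcard.ge
  obtain ⟨hc, K, hK1, hK2, hK3, ⟨e⟩⟩ := key C
  have hmem : ∀ a, a ∈ C.E hex0 ↔ g⁻¹ * a * g ∈ V := by
    intro a
    rw [← smul_iff, hg]
  have hmem' : ∀ a, a ∈ V ↔ g * a * g⁻¹ ∈ C.E hex0 := by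
    intro a
    rw [hmem]
    have : g⁻¹ * (g * a * g⁻¹) * g = a := by group
    rw [this]
  have hnorm : ∀ n, n ∈ Subgroup.normalizer (V : Set G) ↔
      g * n * g⁻¹ ∈ Subgroup.normalizer (C.E hex0 : Set G) := by
    intro n
    rw [Subgroup.mem_normalizer_iff, Subgroup.mem_normalizer_iff]
    constructor
    · intro h a
      rw [hmem, h, hmem]
      have : n * (g⁻¹ * a * g) * n⁻¹ = g⁻¹ * (g * n * g⁻¹ * a * (g * n * g⁻¹)⁻¹) * g := by group
      rw [this]
    · intro h a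
      rw [hmem', h, hmem']
      have : g * n * g⁻¹ * (g * a * g⁻¹) * (g * n * g⁻¹)⁻¹ = g * (n * a * n⁻¹) * g⁻¹ := by group
      rw [this]
  have hN : Subgroup.normalizer (V : Set G) =
      MulAut.conj g⁻¹ • Subgroup.normalizer (C.E hex0 : Set G) := by
    ext n
    rw [hnorm, smul_iff, inv_inv]
  have hVg : V = MulAut.conj g⁻¹ • C.E hex0 := by
    rw [map_inv, ← hg, inv_smul_smul]
  refine ⟨?_, MulAut.conj g⁻¹ • K, ?_, ?_, ?_, ?_⟩
  · intro x hx
    rw [Subgroup.mem_centralizer_iff] at hx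
    rw [hmem']
    apply hc
    intro a ha
    have h1 := hx _ ((hmem a).1 ha)
    have h2 : g * (g⁻¹ * a * g * x) * g⁻¹ = g * (x * (g⁻¹ * a * g)) * g⁻¹ := by rw [h1]
    have h3 : g * (g⁻¹ * a * g * x) * g⁻¹ = a * (g * x * g⁻¹) := by group
    have h4 : g * (x * (g⁻¹ * a * g)) * g⁻¹ = g * x * g⁻¹ * a := by group
    rw [h3, h4] at h2
    exact h2.symm
  · rw [hN]
    exact Subgroup.pointwise_smul_le_pointwise_smul_iff.2 hK1
  · rw [hVg, ← Subgroup.smul_inf, hK2, Subgroup.smul_bot]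
  · rw [hN, hVg, ← Subgroup.smul_sup, hK3]
  · exact ⟨(Subgroup.equivSMul (MulAut.conj g⁻¹) K).symm.trans e⟩

end Cfsg.Agent.S5567
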