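import Cfsg.Statements.S5574
import Cfsg.Agent.H858.MLoc
import Cfsg.Agent.H858.CentS

set_option autoImplicit false
open Cfsg

namespace Cfsg.Agent.S5574

open Cfsg.Agent.H858.Trans Cfsg.Agent.H858.Abs Cfsg.Agent.H858.Loc5 Cfsg.Agent.H858.Trans5
open Cfsg.Agent.H858.Norm57 Cfsg.Agent.H858.LGrp Cfsg.Agent.H858.NormL Cfsg.Agent.H858.MLoc
open Cfsg.Agent.H858.KTwo

universe u v

/-- the isomorphism of the normalizers -/
noncomputable def nEquiv {A : Type u} {B : Type v} [Group A] [Group B] (f : A ≃* B)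
    (L : Subgroup A) : Subgroup.normalizer (L : Set A) ≃*
      Subgroup.normalizer ((L.map f.toMonoidHom : Subgroup B) : Set B) :=
  ((Subgroup.normalizer (L : Set A)).equivMapOfInjective f.toMonoidHom f.injective).trans
    (MulEquiv.subgroupCongr (map_normalizer_equiv f L))

theorem nEquiv_coe {A : Type u} {B : Type v} [Group A] [Group B] (f : A ≃* B)
    (L : Subgroup A) (x : Subgroup.normalizer (L : Set A)) :
    ((nEquiv f L x : Subgroup.normalizer ((L.map f.toMonoidHom : Subgroup B) : Set B)) : B) =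
      f x := rfl

theorem nEquiv_map {A : Type u} {B : Type v} [Group A] [Group B] (f : A ≃* B)
    (L : Subgroup A) : (L.subgroupOf (Subgroup.normalizer (L : Set A))).map
      (nEquiv f L).toMonoidHom = (L.map f.toMonoidHom).subgroupOf
        (Subgroup.normalizer ((L.map f.toMonoidHom : Subgroup B) : Set B)) := by
  ext y
  rw [Subgroup.mem_map, Subgroup.mem_subgroupOf, Subgroup.mem_map]
  constructor
  · rintro ⟨x, hx, rfl⟩
    exact ⟨x, Subgroup.mem_subgroupOf.1 hx, rfl⟩
  · rintro ⟨x, hx, hxy⟩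
    refine ⟨⟨x, Subgroup.le_normalizer hx⟩, Subgroup.mem_subgroupOf.2 hx, ?_⟩
    apply Subtype.ext
    exact hxy

/-- Let G be a finite non-abelian simple group of Janko-four type (an involution z whose centralizer H has an extraspecial largest normal 2-subgroup E of order 2^13 containing its centralizer in H, a normal subgroup N ≥ E of H with N/E of order 3 and H/N the automorphism group of M₂₂, and a subgroup P ≤ N of order 3 with C_E(P) = ⟨z⟩, N_H(P) ≠ C_H(P) and P ≤ C_H(P)′). Then G has a special 2-subgroup L of order 2^15 with centre of order 8 whose normalizer M satisfies: M/L is isomorphic to the direct product of the symmetric group of degree 5 and L₃(2); L has no complement in M; M nevertheless contains subgroups isomorphic to the symmetric group of degree 5 and to L₃(2); and M contains the normalizer of some Sylow 5-subgroup and of some Sylow 7-subgroup of G. -/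
theorem result {G : Type*} [Group G] [Finite G] [IsSimpleGroup G] (hG : ¬ IsMulCommutative G) (hJ : Cfsg.IsOfJankoFourType G) :
    ∃ L : Subgroup G, Cfsg.IsSpecial 2 ↥L ∧ Nat.card ↥L = 2 ^ 15 ∧ Nat.card ↥(Subgroup.center ↥L) = 8 ∧
    Nonempty (↥(Subgroup.normalizer (L : Set G)) ⧸ L.subgroupOf (Subgroup.normalizer (L : Set G)) ≃* Equiv.Perm (Fin 5) × Matrix.SpecialLinearGroup (Fin 3) (ZMod 2)) ∧
    (∀ K : Subgroup ↥(Subgroup.normalizer (L : Set G)), ¬ (L.subgroupOf (Subgroup.normalizer (L : Set G))).IsComplement' K) ∧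
    (∃ K₁ : Subgroup G, K₁ ≤ Subgroup.normalizer (L : Set G) ∧ Nonempty (↥K₁ ≃* Equiv.Perm (Fin 5))) ∧
    (∃ K₂ : Subgroup G, K₂ ≤ Subgroup.normalizer (L : Set G) ∧ Nonempty (↥K₂ ≃* Matrix.SpecialLinearGroup (Fin 3) (ZMod 2))) ∧
    (∃ Q : Sylow 5 G, Subgroup.normalizer ((Q : Subgroup G) : Set G) ≤ Subgroup.normalizer (L : Set G)) ∧
    (∃ S : Sylow 7 G, Subgroup.normalizer ((S : Subgroup G) : Set G) ≤ Subgroup.normalizer (L : Set G)) := by
  obtain ⟨z, hz⟩ := hJ
  obtain ⟨f⟩ := exists_iso hz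
  have hs : Nat.card (Subgroup.centralizer ({Cfsg.Agent.J4.Invol.s} : Set Cfsg.Spor.J4)) =
      21799895040 := by
    obtain ⟨P, hP⟩ := hz
    obtain ⟨Q, N, M, H, -, -⟩ := Cfsg.Agent.H856.ToHyp.exists_hyp hP
    exact Cfsg.Agent.H858.CentS.card_cent_s H
  have hcard := card_G hz
  have hf5 : Fact (Nat.Prime 5) := ⟨by norm_num⟩
  have hf7 : Fact (Nat.Prime 7) := ⟨by norm_num⟩
  have h5 : ¬ 5 * 5 ∣ Nat.card G := by rw [hcard]; norm_num
  have h7 : ¬ 7 * 7 ∣ Nat.card G := by rw [hcard]; norm_num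
  let eL : L ≃* (L.map f.toMonoidHom : Subgroup G) := L.equivMapOfInjective f.toMonoidHom f.injective
  refine ⟨L.map f.toMonoidHom, isSpecial_congr eL isSpecial_L, ?_, ?_, ?_, ?_, ?_, ?_, ?_, ?_⟩
  · rw [card_map_equiv, card_L]
  · rw [← card_center]
    exact (Nat.card_congr (Subgroup.centerCongr eL).toEquiv).symm
  · obtain ⟨e⟩ := equiv_quot hs
    exact ⟨(QuotientGroup.congr _ _ (nEquiv f L) (nEquiv_map f L)).symm.trans e⟩
  · intro K hK
    apply no_complement hs (K.map (nEquiv f L).symm.toMonoidHom)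
    have h1 := isComplement'_map (nEquiv f L).symm hK
    rw [← nEquiv_map] at h1
    have h2 : ((L.subgroupOf (Subgroup.normalizer (L : Set Cfsg.Spor.J4))).map
        (nEquiv f L).toMonoidHom).map (nEquiv f L).symm.toMonoidHom =
        L.subgroupOf (Subgroup.normalizer (L : Set Cfsg.Spor.J4)) := by
      rw [Subgroup.map_map]
      have h3 : (nEquiv f L).symm.toMonoidHom.comp (nEquiv f L).toMonoidHom =
          MonoidHom.id (Subgroup.normalizer (L : Set Cfsg.Spor.J4)) := by
        ext x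
        exact congrArg Subtype.val ((nEquiv f L).symm_apply_apply x)
      rw [h3, Subgroup.map_id]
    rwa [h2] at h1
  · obtain ⟨e⟩ := Cfsg.Agent.H858.Loc7.equiv_I0
    refine ⟨Cfsg.Agent.H858.Loc7.I0.map f.toMonoidHom, ?_,
      ⟨(Cfsg.Agent.H858.Loc7.I0.equivMapOfInjective f.toMonoidHom f.injective).symm.trans e⟩⟩
    rw [← map_normalizer_equiv]
    exact Subgroup.map_mono I0_le_NL
  · obtain ⟨e⟩ := equiv_K2J
    refine ⟨K2J.map f.toMonoidHom, ?_,
      ⟨(K2J.equivMapOfInjective f.toMonoidHom f.injective).symm.trans e⟩⟩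
    rw [← map_normalizer_equiv]
    apply Subgroup.map_mono
    rintro _ ⟨k, hk, rfl⟩
    exact K_NL (K2_le hk)
  · have h1 : Nat.card (F5.map f.toMonoidHom : Subgroup G) = 5 := by
      rw [card_map_equiv, card_F5]
    refine ⟨(Cfsg.Agent.H858.NormC.isPGroup_of_card h1).toSylow
      (Cfsg.Agent.H858.NormC.not_dvd_index h1 h5), ?_⟩
    show Subgroup.normalizer ((F5.map f.toMonoidHom : Subgroup G) : Set G) ≤ _
    rw [← map_normalizer_equiv, ← map_normalizer_equiv]
    exact Subgroup.map_mono (NF5_le.trans W_le)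
  · have h1 : Nat.card (S7.map f.toMonoidHom : Subgroup G) = 7 := by
      rw [card_map_equiv, card_S7]
    refine ⟨(Cfsg.Agent.H858.NormC.isPGroup_of_card h1).toSylow
      (Cfsg.Agent.H858.NormC.not_dvd_index h1 h7), ?_⟩
    show Subgroup.normalizer ((S7.map f.toMonoidHom : Subgroup G) : Set G) ≤ _
    rw [← map_normalizer_equiv, ← map_normalizer_equiv]
    exact Subgroup.map_mono (NS7_le.trans W_le)

end Cfsg.Agent.S5574
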