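import Cfsg.Statements.S5575
import Cfsg.Agent.H859.Iso
import Cfsg.Agent.H859.SylEleven
import Cfsg.Agent.H859.Transfer

set_option autoImplicit false
open Cfsg

namespace Cfsg.Agent.S5575

/-- Let G be a finite non-abelian simple group of Janko-four type (an involution z whose centralizer H has an extraspecial largest normal 2-subgroup E of order 2^13 containing its centralizer in H, a normal subgroup N ≥ E of H with N/E of order 3 and H/N the automorphism group of M₂₂, and a subgroup P ≤ N of order 3 with C_E(P) = ⟨z⟩, N_H(P) ≠ C_H(P) and P ≤ C_H(P)′). Then a Sylow 11-subgroup of G is extraspecial of order 11^3 and exponent 11, and its normalizer has order 2^4·3·5·11^3 and contains a subgroup isomorphic to GL₂(3). -/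
theorem result {G : Type*} [Group G] [Finite G] [IsSimpleGroup G] (hG : ¬ IsMulCommutative G) (hJ : Cfsg.IsOfJankoFourType G) (U : Sylow 11 G) :
    Cfsg.IsExtraspecial 11 ↥(U : Subgroup G) ∧ Nat.card ↥(U : Subgroup G) = 11 ^ 3 ∧ Monoid.exponent ↥(U : Subgroup G) = 11 ∧
    Nat.card ↥(Subgroup.normalizer ((U : Subgroup G) : Set G)) = 2 ^ 4 * 3 * 5 * 11 ^ 3 ∧
    ∃ K : Subgroup G, K ≤ Subgroup.normalizer ((U : Subgroup G) : Set G) ∧ Nonempty (↥K ≃* GL (Fin 2) (ZMod 3)) := by
  obtain ⟨e0⟩ := H859.Iso.exists_iso hJ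
  obtain ⟨e, he⟩ := H859.Transfer.exists_equiv e0 H859.SylEleven.isPGroup_U
    H859.SylEleven.not_dvd_U U
  rw [← he]
  have hcard : Nat.card (H859.NU.U.map e.toMonoidHom) = 11 ^ 3 := by
    rw [H859.Transfer.card_map, H859.NU.card_U]
  have h1 : Cfsg.IsExtraspecial 11 (H859.NU.U.map e.toMonoidHom) ∧
      Monoid.exponent (H859.NU.U.map e.toMonoidHom) = 11 := by
    refine H859.Heis.extraspecial hcard ?_ ?_
    · refine ⟨⟨e H859.NU.b, H859.NU.b, H859.Heis.b_mem H859.NU.rel, rfl⟩,
        ⟨e H859.NU.a, H859.NU.a, H859.Heis.a_mem H859.NU.rel, rfl⟩, fun h => ?_⟩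
      have h2 : e H859.NU.b * e H859.NU.a = e H859.NU.a * e H859.NU.b := congrArg Subtype.val h
      rw [← map_mul, ← map_mul] at h2
      exact H859.Heis.not_comm H859.NU.rel (e.injective h2)
    · rintro ⟨_, y, hy, rfl⟩
      apply Subtype.ext
      show (e y) ^ 11 = 1
      rw [← map_pow, H859.Heis.pow_p H859.NU.rel (by norm_num) hy, map_one]
  refine ⟨h1.1, hcard, h1.2, ?_, ?_⟩
  · rw [H859.Transfer.map_normalizer, H859.Transfer.card_map]
    exact H859.SylEleven.card_N
  · rw [H859.Transfer.map_normalizer]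
    refine ⟨H859.NU.hom.range.map e.toMonoidHom,
      Subgroup.map_mono H859.SylEleven.hom_range_le, ⟨?_⟩⟩
    exact ((MonoidHom.ofInjective H859.NU.hom_injective).trans
      (H859.NU.hom.range.equivMapOfInjective e.toMonoidHom e.injective)).symm

end Cfsg.Agent.S5575
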