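import Cfsg.Statements.S5582
import Cfsg.Agent.H821.J4MaxD
import Cfsg.Agent.H866.J4OddEnd
import Cfsg.Agent.H859.CentC
import Cfsg.Agent.OrdDiv.Table
import Cfsg.Agent.S0000
import Cfsg.Agent.S5566
import Cfsg.Agent.S5567
import Cfsg.Agent.S5568
import Cfsg.Agent.S5570
import Cfsg.Agent.S5572
import Cfsg.Agent.S5573
import Cfsg.Agent.S5574
import Cfsg.Agent.S5575
import Cfsg.Agent.S5577

set_option autoImplicit false
open Cfsg

namespace Cfsg.Agent.S5582

/-- Let G be a finite non-abelian simple group of Janko-four type (Janko's involution-centralizer conditions; such a group is the fourth Janko group). Then the following subgroups are maximal: the centralizer of the involution z of the hypothesis; the normalizer of every elementary abelian subgroup of order 2^11; the normalizer of every self-centralizing elementary abelian subgroup of order 2^10; the normalizer of some special 2-subgroup of order 2^15 with centre of order 8; and the normalizer of every Sylow p-subgroup for p = 11, 29,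 37 and 43. -/
theorem result {G : Type*} [Group G] [Finite G] [IsSimpleGroup G] (hG : ¬ IsMulCommutative G) (z : G) (hJ : Cfsg.IsOfJankoFourTypeAt z) :
    IsCoatom (Subgroup.centralizer ({z} : Set G)) ∧
    (∀ V : Subgroup G, Cfsg.IsElementaryAbelian 2 V → Nat.card ↥V = 2 ^ 11 → IsCoatom (Subgroup.normalizer (V : Set G))) ∧
    (∀ A : Subgroup G, Cfsg.IsElementaryAbelian 2 A → Nat.card ↥A = 2 ^ 10 → Subgroup.centralizer (A : Set G) = A → IsCoatom (Subgroup.normalizer (A : Set G))) ∧
    (∃ L : Subgroup G, Cfsg.IsSpecial 2 ↥L ∧ Nat.card ↥L = 2 ^ 15 ∧ Nat.card ↥(Subgroup.center ↥L) = 8 ∧ IsCoatom (Subgroup.normalizer (L : Set G))) ∧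
    (∀ U : Sylow 11 G, IsCoatom (Subgroup.normalizer ((U : Subgroup G) : Set G))) ∧ (∀ U : Sylow 29 G, IsCoatom (Subgroup.normalizer ((U : Subgroup G) : Set G))) ∧
    (∀ U : Sylow 37 G, IsCoatom (Subgroup.normalizer ((U : Subgroup G) : Set G))) ∧ (∀ U : Sylow 43 G, IsCoatom (Subgroup.normalizer ((U : Subgroup G) : Set G))) := by
  have hS : H866.J4Min.Known := fun X _ _ _ => Cfsg.Agent.S0000.result
  have T := OrdDiv.table
  have hJ' : Cfsg.IsOfJankoFourType G := ⟨z, hJ⟩
  have hcG := H821.J4MaxD.card_G hJ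
  have F := H821.J4MaxB.facts hJ
  refine ⟨H821.J4MaxB.case_z T hS hcG F, fun V hV hVc => ?_, fun A hA hAc hAA => ?_, ?_, ?_⟩
  · exact H821.J4MaxA.case_V T hS hcG hV hVc (S5567.result hG hJ' V hV hVc) (S5568.result hG z hJ V hV hVc)
  · exact H821.J4MaxA.case_A T hS hcG hA hAc hAA ((S5570.result hG hJ').2.2 A hA hAc hAA)
  · obtain ⟨L, h1, h2, h3, h4, -, -, -, h5, h7⟩ := S5574.result hG hJ'
    refine ⟨L, h1, h2, h3, H821.J4MaxD.part_L T hS hJ (fun Q hQ hQz => (S5572.result hG z hJ Q hQ hQz).2.1)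
      (fun S hS7 hSz => (S5573.result hG z hJ S hS7 hSz).2.2) h1 h2 h3 h4 h5 h7⟩
  · refine H866.J4OddEnd.odd_end T hS hcG (z := z) (by rw [F.card_cent]; norm_num) (S5566.result hG hJ')
      (fun S hS7 hSz => (S5573.result hG z hJ S hS7 hSz).2.2) (fun U => ?_) ?_ ?_ ?_ ?_ (H859.CentC.centralizer_le hJ')
      (H859.CentC.normalizer_center_le hJ')
    · obtain ⟨h1, h2, -, h3, h4⟩ := S5575.result hG hJ' U
      exact ⟨h1, h2, h3, h4⟩
    · exact fun U => ((S5577.result hG hJ').1 U).2
    · exact (S5577.result hG hJ').2.1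
    · exact (S5577.result hG hJ').2.2.2.1
    · exact (S5577.result hG hJ').2.2.2.2

end Cfsg.Agent.S5582
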