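import Cfsg.Statements.S4312
import Cfsg.Agent.S0000
import Cfsg.Agent.H553.ExtAsm

set_option autoImplicit false
open Cfsg

namespace Cfsg.Agent.S4312

/-- Let `π` be a set of primes with `2 ∉ π` or `3 ∉ π`, and `A` a normal subgroup of the finite group `G`. If `A` and `G/A` both have Hall `π`-subgroups, then `G` has a Hall `π`-subgroup. (Together with the elementary converse this says: such a `G` has a Hall `π`-subgroup exactly when all its composition factors do.) The known proof uses the classification of finite simple groups; the statement fails for `π = {2, 3}`. -/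
theorem result {G : Type*} [Group G] [Finite G] (π : Set ℕ)
    (h23 : 2 ∉ π ∨ 3 ∉ π) (A : Subgroup G) [A.Normal] (hA : Cfsg.IsEPiGroup π ↥A) (hQ : Cfsg.IsEPiGroup π (G ⧸ A)) :
    Cfsg.IsEPiGroup π G :=
  Cfsg.Agent.H553.ExtRed.ext_final (fun _ _ _ _ => Cfsg.Agent.S0000.result) π h23 A hA hQ

end Cfsg.Agent.S4312
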