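import Cfsg.Statements.S5800
import Cfsg.Agent.H913.S6.Final
import Cfsg.Agent.S0000

set_option autoImplicit false
open Cfsg

namespace Cfsg.Agent.S5800

/-- The maximal subgroups of SL_6(q) in the residual class. Let F be a finite field with q elements and characteristic p, and H a maximal subgroup of SL_6(F) lying in the residual class of the linear case. Then the perfect socle preimage P of H satisfies one of: P modulo scalars is isomorphic to PSL_2(11), with q = p, p ≠ 3 and p ≡ 1, 3, 4, 5 or 9 mod 11; or to A_7, with q = p ≡ 1 or 7 mod 24, or q = p² with p ≡ 5, 11, 13 or 19 mod 24; or to PSL_3 over the field with 4 elements, with q = p ≡ 1 or 19 mod 24; or to the Mathieu group M_12, with q = 3; or to U_4(3) (PSU_4 over the field with 9 elements), with q = p ≡ 1 or 7 mod 12; or to PSL_3(F) itself, with q odd. (Residual-class subgroups with socle A_6 modulo scalars are never maximal in SL_6(q) itself.) -/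
theorem result {F : Type*} [Field F] [Fintype F] (H : Subgroup (Matrix.GeneralLinearGroup (Fin 6) F)) (hH : Cfsg.Geo.IsMaximalIn (Cfsg.Geo.specialLinear (Fin 6) F) H) (hS : Cfsg.Geo.InLinearResidualClass H) :
    ∃ (P : Subgroup (Matrix.GeneralLinearGroup (Fin 6) F)) (p : ℕ), Cfsg.Geo.IsResidualCore H P ∧ p.Prime ∧ CharP F p ∧
    ((Nonempty ((P ⧸ (Cfsg.Geo.scalars (Fin 6) F).subgroupOf P) ≃* Matrix.ProjectiveSpecialLinearGroup (Fin 2) (ZMod 11)) ∧ Fintype.card F = p ∧ p ≠ 3 ∧ (p % 11 = 1 ∨ p % 11 = 3 ∨ p % 11 = 4 ∨ p % 11 = 5 ∨ p % 11 = 9)) ∨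
     (Nonempty ((P ⧸ (Cfsg.Geo.scalars (Fin 6) F).subgroupOf P) ≃* alternatingGroup (Fin 7)) ∧ ((Fintype.card F = p ∧ (p % 24 = 1 ∨ p % 24 = 7)) ∨ (Fintype.card F = p ^ 2 ∧ (p % 24 = 5 ∨ p % 24 = 11 ∨ p % 24 = 13 ∨ p % 24 = 19)))) ∨
     ((∃ (K : Type) (_ : Field K) (_ : Fintype K), Fintype.card K = 4 ∧ Nonempty ((P ⧸ (Cfsg.Geo.scalars (Fin 6) F).subgroupOf P) ≃* Matrix.ProjectiveSpecialLinearGroup (Fin 3) K)) ∧ Fintype.card F = p ∧ (p % 24 = 1 ∨ p % 24 = 19)) ∨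
     (Cfsg.Spor.IsoM12 (P ⧸ (Cfsg.Geo.scalars (Fin 6) F).subgroupOf P) ∧ Fintype.card F = 3) ∨
     ((∃ (K : Type) (_ : Field K) (_ : Fintype K), Fintype.card K = 9 ∧ Nonempty ((P ⧸ (Cfsg.Geo.scalars (Fin 6) F).subgroupOf P) ≃* Cfsg.PSU 4 K 3)) ∧ Fintype.card F = p ∧ (p % 12 = 1 ∨ p % 12 = 7)) ∨
     (Nonempty ((P ⧸ (Cfsg.Geo.scalars (Fin 6) F).subgroupOf P) ≃* Matrix.ProjectiveSpecialLinearGroup (Fin 3) F) ∧ Odd (Fintype.card F))) := by
  exact H913.S6.final5800 (fun _ _ _ _ => S0000.result) H hH hS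

end Cfsg.Agent.S5800
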