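import Cfsg.Statements.S5803
import Cfsg.Agent.H913.S6.Final
import Cfsg.Agent.S0000

set_option autoImplicit false
open Cfsg

namespace Cfsg.Agent.S5803

/-- The maximal subgroups of SU_6(q) in the residual class. Let F be the field with q² elements and H a maximal subgroup of SU_6(q) (determinant-one isometries of the standard unitary form on F^6) lying in the residual class of the unitary case. Then the perfect socle preimage P of H satisfies one of: P modulo scalars is isomorphic to PSL_2(11), with q = p prime, p ≠ 2 and p ≡ 2, 6, 7, 8 or 10 mod 11; or to A_7, with q = p prime, p ≡ 17 or 23 mod 24; or to PSL_3 over the field with 4 elements, with q = p prime, p ≡ 5 or 23 mod 24; or to the Mathieu group M_22, with q = 2; or to U_4(3) (PSU_4 over the field with 9 elements), with q = 2 or q = p prime, p ≡ 5 or 11 mod 12; or to U_3(q) (PSU_3 over F itself), with q odd. (Residual-class subgroups with socle A_6 modulo scalars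 are never maximal in SU_6(q) itself.) -/
theorem result {F : Type*} [Field F] [Fintype F] (q : ℕ) (hF : Fintype.card F = q ^ 2) (H : Subgroup (Matrix.GeneralLinearGroup (Fin 6) F)) (hH : Cfsg.Geo.IsMaximalIn (Cfsg.GU 6 F q ⊓ Cfsg.Geo.specialLinear (Fin 6) F) H) (hS : Cfsg.Geo.InUnitaryResidualClass H) :
    ∃ P : Subgroup (Matrix.GeneralLinearGroup (Fin 6) F), Cfsg.Geo.IsResidualCore H P ∧
    ((Nonempty ((P ⧸ (Cfsg.Geo.scalars (Fin 6) F).subgroupOf P) ≃* Matrix.ProjectiveSpecialLinearGroup (Fin 2) (ZMod 11)) ∧ q.Prime ∧ q ≠ 2 ∧ (q % 11 = 2 ∨ q % 11 = 6 ∨ q % 11 = 7 ∨ q % 11 = 8 ∨ q % 11 = 10)) ∨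
     (Nonempty ((P ⧸ (Cfsg.Geo.scalars (Fin 6) F).subgroupOf P) ≃* alternatingGroup (Fin 7)) ∧ q.Prime ∧ (q % 24 = 17 ∨ q % 24 = 23)) ∨
     ((∃ (K : Type) (_ : Field K) (_ : Fintype K), Fintype.card K = 4 ∧ Nonempty ((P ⧸ (Cfsg.Geo.scalars (Fin 6) F).subgroupOf P) ≃* Matrix.ProjectiveSpecialLinearGroup (Fin 3) K)) ∧ q.Prime ∧ (q % 24 = 5 ∨ q % 24 = 23)) ∨
     (Cfsg.Spor.IsoM22 (P ⧸ (Cfsg.Geo.scalars (Fin 6) F).subgroupOf P) ∧ q = 2) ∨
     ((∃ (K : Type) (_ : Field K) (_ : Fintype K), Fintype.card K = 9 ∧ Nonempty ((P ⧸ (Cfsg.Geo.scalars (Fin 6) F).subgroupOf P) ≃* Cfsg.PSU 4 K 3)) ∧ (q = 2 ∨ (q.Prime ∧ (q % 12 = 5 ∨ q % 12 = 11)))) ∨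
     (Nonempty ((P ⧸ (Cfsg.Geo.scalars (Fin 6) F).subgroupOf P) ≃* Cfsg.PSU 3 F q) ∧ Odd q)) := by
  exact H913.S6.final5803 (fun _ _ _ _ => S0000.result) q hF H hH hS

end Cfsg.Agent.S5803
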