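import Cfsg.Statements.S5833
import Cfsg.Agent.H920.NineAsm
import Cfsg.Agent.S0000

set_option autoImplicit false
open Cfsg

namespace Cfsg.Agent.S5833

/-- The maximal subgroups of SU_9(q) in the residual class. Let F be the field with q² elements and H a maximal subgroup of SU_9(q) (determinant-one isometries of the standard unitary form on F^9) lying in the residual class of the unitary case. Then the perfect socle preimage P of H satisfies one of: P modulo scalars is isomorphic to PSL_2(19), with q = p prime, p ≠ 2 and p a non-square modulo 19 (p ≡ 2, 3, 8, 10, 12, 13, 14, 15 or 18 mod 19); or to the Janko group J_3, with q = 2; or to PSL_3(F), the projective special linear group of degree 3 over the field with q² elements (no condition on q). -/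
theorem result {F : Type*} [Field F] [Fintype F] (q : ℕ) (hF : Fintype.card F = q ^ 2) (H : Subgroup (Matrix.GeneralLinearGroup (Fin 9) F)) (hH : Cfsg.Geo.IsMaximalIn (Cfsg.GU 9 F q ⊓ Cfsg.Geo.specialLinear (Fin 9) F) H) (hS : Cfsg.Geo.InUnitaryResidualClass H) :
    ∃ P : Subgroup (Matrix.GeneralLinearGroup (Fin 9) F), Cfsg.Geo.IsResidualCore H P ∧
    ((Nonempty ((P ⧸ (Cfsg.Geo.scalars (Fin 9) F).subgroupOf P) ≃* Matrix.ProjectiveSpecialLinearGroup (Fin 2) (ZMod 19)) ∧ q.Prime ∧ q ≠ 2 ∧ (q % 19 = 2 ∨ q % 19 = 3 ∨ q % 19 = 8 ∨ q % 19 = 10 ∨ q % 19 = 12 ∨ q % 19 = 13 ∨ q % 19 = 14 ∨ q % 19 = 15 ∨ q % 19 = 18)) ∨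
     (Cfsg.Spor.IsoJ3 (P ⧸ (Cfsg.Geo.scalars (Fin 9) F).subgroupOf P) ∧ q = 2) ∨
     Nonempty ((P ⧸ (Cfsg.Geo.scalars (Fin 9) F).subgroupOf P) ≃* Matrix.ProjectiveSpecialLinearGroup (Fin 3) F)) := by
  obtain ⟨P, hR, hC, hsd⟩ := Cfsg.Agent.H915.LD.unitary_core hS
  have hs := hC.simple
  exact ⟨P, hR, Cfsg.Agent.H920.Nine.uni_concl hF hH hR hC hsd Cfsg.Agent.S0000.result⟩

end Cfsg.Agent.S5833
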