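import Cfsg.Statements.S5797
import Cfsg.Agent.H912.FiveUn
import Cfsg.Agent.H876.D3.FourFive
import Cfsg.Agent.S0000

set_option autoImplicit false
open Cfsg

namespace Cfsg.Agent.S5797

/-- The maximal subgroups of SU_5(q) in the residual class. Let F be the field with q² elements and H a maximal subgroup of SU_5(q) (determinant-one isometries of the standard unitary form on F^5) lying in the residual class of the unitary case. Then q = p is prime and the perfect socle preimage P of H satisfies one of: P modulo scalars is isomorphic to PSL_2(11) and p ≡ 2, 6, 7, 8 or 10 mod 11; or P modulo scalars is isomorphic to U_4(2) (PSU_4 over the field with 4 elements) and p ≡ 5 mod 6. -/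
theorem result {F : Type*} [Field F] [Fintype F] (q : ℕ) (hF : Fintype.card F = q ^ 2) (H : Subgroup (Matrix.GeneralLinearGroup (Fin 5) F)) (hH : Cfsg.Geo.IsMaximalIn (Cfsg.GU 5 F q ⊓ Cfsg.Geo.specialLinear (Fin 5) F) H) (hS : Cfsg.Geo.InUnitaryResidualClass H) :
    ∃ P : Subgroup (Matrix.GeneralLinearGroup (Fin 5) F), Cfsg.Geo.IsResidualCore H P ∧ q.Prime ∧
    ((Nonempty ((P ⧸ (Cfsg.Geo.scalars (Fin 5) F).subgroupOf P) ≃* Matrix.ProjectiveSpecialLinearGroup (Fin 2) (ZMod 11)) ∧ (q % 11 = 2 ∨ q % 11 = 6 ∨ q % 11 = 7 ∨ q % 11 = 8 ∨ q % 11 = 10)) ∨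
     ((∃ (K : Type) (_ : Field K) (_ : Fintype K), Fintype.card K = 4 ∧ Nonempty ((P ⧸ (Cfsg.Geo.scalars (Fin 5) F).subgroupOf P) ≃* Cfsg.PSU 4 K 2)) ∧ q % 6 = 5)) := by
  exact H912.Five.row5797 (fun _ _ _ _ => S0000.result)
    (fun p _ _ _ K _ _ _ _ hC hK Φ => H876.D3.not_four_five p K (Fintype.card_fin 5) hK hC Φ) q hF hH hS

end Cfsg.Agent.S5797
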