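import Cfsg.Statements.S5823
import Cfsg.Agent.H919.SpEightC
import Cfsg.Agent.H931.SpWrap
import Cfsg.Agent.H914.SpExc
import Cfsg.Agent.S5662

set_option autoImplicit false
open Cfsg

namespace Cfsg.Agent.S5823

/-- Every maximal subgroup of Sp_8(q) is of one of the listed geometric types or lies in the residual class. Let F be a finite field with q elements, f the standard alternating form on F^8 (coordinates Fin 4 ⊕ Fin 4), and H a maximal subgroup of Sp_8(F) (inside GL_8(F)). Then H is the intersection with Sp_8(F) of one of: the stabiliser of a non-zero totally isotropic subspace; the stabiliser of a non-degenerate 2-space; for q ≥ 3, the stabiliser of a decomposition into four mutually orthogonal non-degenerate 2-spaces; of a decomposition into two orthogonal non-degenerate 4-spaces; for q odd, of a decomposition into two totally isotropic 4-spaces; the normaliser of a degree-2 subfield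 K, self-adjoint with f(k v, v) = 0; for q odd, the normaliser of a degree-2 subfield closed under adjoints but not self-adjoint; for q odd, the stabiliser of a tensor decomposition of f into an alternating form on F^2 and a minus-type symmetric form on F^4; a subfield group (|F| = |F₀|^r, r prime) whose F₀-structure carries a non-zero multiple of f; for q = p an odd prime, the normaliser of an absolutely irreducible extraspecial group 2_-^(1+6) of exponent 4 inside the similarity group of f; for q odd, q ≥ 5, the stabiliser of a tensor decomposition of f as a third tensor power of an alternating form on F^2; for q even, the similarity group of a non-degenerate quadratic form polarising to f — or else H lies in the residual class of the symplectic case. -/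
theorem result {F : Type*} [Field F] [Fintype F] (H : Subgroup (Matrix.GeneralLinearGroup (Fin 4 ⊕ Fin 4) F)) (hH : Cfsg.Geo.IsMaximalIn (Cfsg.spGL 4 F) H) :
    (∃ W : Submodule F (Fin 4 ⊕ Fin 4 → F), W ≠ ⊥ ∧ Cfsg.Geo.IsTotallySingularFor (Cfsg.sympForm 4 F) W ∧ H = Cfsg.Geo.subspaceStabilizer W ⊓ Cfsg.spGL 4 F) ∨
    (∃ W : Submodule F (Fin 4 ⊕ Fin 4 → F), W ≠ ⊥ ∧ Cfsg.Geo.IsNondegenerateOn (Cfsg.sympForm 4 F) W ∧ Module.finrank F W < 4 ∧ H = Cfsg.Geo.subspaceStabilizer W ⊓ Cfsg.spGL 4 F) ∨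
    (3 ≤ Fintype.card F ∧ ∃ D : Fin 4 → Submodule F (Fin 4 ⊕ Fin 4 → F), Cfsg.Geo.IsNondegenerateMDecomposition (Cfsg.sympForm 4 F) 2 D ∧ H = Cfsg.Geo.decompositionStabilizer D ⊓ Cfsg.spGL 4 F) ∨
    (∃ D : Fin 2 → Submodule F (Fin 4 ⊕ Fin 4 → F), Cfsg.Geo.IsNondegenerateMDecomposition (Cfsg.sympForm 4 F) 4 D ∧ H = Cfsg.Geo.decompositionStabilizer D ⊓ Cfsg.spGL 4 F) ∨
    (Odd (Fintype.card F) ∧ ∃ D : Fin 2 → Submodule F (Fin 4 ⊕ Fin 4 → F), Cfsg.Geo.IsMDecomposition 4 D ∧ (∀ i, Cfsg.Geo.IsTotallySingularFor (Cfsg.sympForm 4 F) (D i)) ∧ H = Cfsg.Geo.decompositionStabilizer D ⊓ Cfsg.spGL 4 F) ∨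
    (∃ K : Subalgebra F (Matrix (Fin 4 ⊕ Fin 4) (Fin 4 ⊕ Fin 4) F), Cfsg.Geo.IsFieldSubalgebra 2 K ∧ Cfsg.Geo.IsSelfAdjointFor (Cfsg.sympForm 4 F) K ∧ (∀ k ∈ K, ∀ v : (Fin 4 ⊕ Fin 4 → F), (Cfsg.sympForm 4 F) (Matrix.mulVec k v) v = 0) ∧ H = Cfsg.Geo.subalgebraNormalizer K ⊓ Cfsg.spGL 4 F) ∨
    (Odd (Fintype.card F) ∧ ∃ K : Subalgebra F (Matrix (Fin 4 ⊕ Fin 4) (Fin 4 ⊕ Fin 4) F), Cfsg.Geo.IsFieldSubalgebra 2 K ∧ Cfsg.Geo.IsAdjointClosedFor (Cfsg.sympForm 4 F) K ∧ ¬ Cfsg.Geo.IsSelfAdjointFor (Cfsg.sympForm 4 F) K ∧ H = Cfsg.Geo.subalgebraNormalizer K ⊓ Cfsg.spGL 4 F) ∨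
    (Odd (Fintype.card F) ∧ ∃ (e : (Fin 4 ⊕ Fin 4) ≃ Fin 2 × Fin 4) (P : Matrix.GeneralLinearGroup (Fin 4 ⊕ Fin 4) F) (f₁ : (Fin 2 → F) → (Fin 2 → F) → F) (f₂ : (Fin 4 → F) → (Fin 4 → F) → F), Cfsg.Geo.IsSymplecticForm f₁ ∧ Cfsg.Geo.IsSymmetricForm f₂ ∧ ¬ Cfsg.Geo.IsPlusTypeOn (fun v : Fin 4 → F => f₂ v v) ⊤ ∧ Cfsg.Geo.IsTensorFormStructure id (Cfsg.sympForm 4 F) f₁ f₂ e P ∧ H = Cfsg.Geo.tensorProductSubgroup 2 4 e P ⊓ Cfsg.spGL 4 F) ∨
    (∃ (F₀ : Subfield F) (r : ℕ) (P : Matrix.GeneralLinearGroup (Fin 4 ⊕ Fin 4) F) (ζ : F), r.Prime ∧ Fintype.card F = Nat.card F₀ ^ r ∧ ζ ≠ 0 ∧ Cfsg.Geo.IsFormRationalStructure (Cfsg.sympForm 4 F) F₀ ζ P ∧ H = Cfsg.Geo.subfieldSubgroup F₀ P ⊓ Cfsg.spGL 4 F) ∨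
    (∃ (p : ℕ) (R : Subgroup (Matrix.GeneralLinearGroup (Fin 4 ⊕ Fin 4) F)), p.Prime ∧ Odd p ∧ Fintype.card F = p ∧ Cfsg.Geo.IsSymplecticTypeGroup 2 R ∧ Cfsg.Geo.ActsAbsolutelyIrreducibly (Cfsg.Geo.matrixSet R) ∧ R ≤ Cfsg.Geo.similarityGroup (Cfsg.sympForm 4 F) ∧ Nat.card R = 128 ∧ Nat.card (Subgroup.center R) = 2 ∧ Cfsg.Geo.IsOfMinusType 3 R ∧ H = Cfsg.Geo.subgroupNormalizer R ⊓ Cfsg.spGL 4 F) ∨
    (Odd (Fintype.card F) ∧ 5 ≤ Fintype.card F ∧ ∃ (e : (Fin 4 ⊕ Fin 4) ≃ (Fin 3 → Fin 2)) (P : Matrix.GeneralLinearGroup (Fin 4 ⊕ Fin 4) F) (f₁ : (Fin 2 → F) → (Fin 2 → F) → F), Cfsg.Geo.IsSymplecticForm f₁ ∧ Cfsg.Geo.IsTensorPowerFormStructure id (Cfsg.sympForm 4 F) f₁ e P ∧ H = Cfsg.Geo.tensorWreathSubgroup 2 3 e P ⊓ Cfsg.spGL 4 F) ∨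
    (¬ Odd (Fintype.card F) ∧ ∃ Q : (Fin 4 ⊕ Fin 4 → F) → F, Cfsg.Geo.IsNondegenerateQuadraticForm Q ∧ (∀ u v : (Fin 4 ⊕ Fin 4 → F), QuadraticMap.polar Q u v = (Cfsg.sympForm 4 F) u v) ∧ H = Cfsg.Geo.quadSimilarityGroup Q ⊓ Cfsg.spGL 4 F) ∨
    Cfsg.Geo.InSymplecticResidualClass H := by
  have hwr : ∀ (k t : ℕ) (e : Fin 4 ⊕ Fin 4 ≃ (Fin t → Fin k))
      (P : Matrix.GeneralLinearGroup (Fin 4 ⊕ Fin 4) F), k = 2 → Odd t → 3 ≤ t → k ^ t = 2 * 4 →
      ¬ Cfsg.spGL 4 F ≤ Cfsg.Geo.tensorWreathSubgroup k t e P := by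
    intro k t e P hk ht h3 hkt
    subst hk
    have h4 : t ≤ 4 := by
      by_contra hcon
      have : 2 ^ 5 ≤ 2 ^ t := Nat.pow_le_pow_right (by norm_num) (by omega)
      omega
    exact Cfsg.Agent.H919.spGL_not_le_tensorWreath
      (Cfsg.Agent.H931.spGL_perfect' (by norm_num) (by norm_num)) (by norm_num) h4 (by omega) le_rfl e P
  have hex : ¬ ((4 : ℕ) = 2 ∧ Fintype.card F = 2) := by norm_num
  have h := Cfsg.Agent.H931.symplectic_maximal_cases (by norm_num) hex hH hwr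
    (Cfsg.Agent.S5662.result 4 (by norm_num) hex H hH.1.le
      (Cfsg.Agent.H931.spGL_sup_scalars_ne (Cfsg.Agent.H931.exc_cases (by norm_num) hex) hH))
  rcases h with h | h | h | h | h | h | h | h | h | h | h | h
  · exact Or.inl h
  · obtain ⟨W, hW0, hW, -, hW4, hHW⟩ := h
    exact Or.inr (Or.inl ⟨W, hW0, hW, hW4, hHW⟩)
  · obtain ⟨t, k, D, htk, hk, ht, hD, hHD⟩ := h
    have hkt : (t = 4 ∧ k = 2) ∨ (t = 2 ∧ k = 4) := by
      have h1 : k ≤ 8 := by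
        by_contra hcon
        have : 8 < t * k := lt_of_lt_of_le (by omega) (Nat.le_mul_of_pos_left k (by omega))
        omega
      obtain ⟨j, hj⟩ := hk
      interval_cases k <;> omega
    rcases hkt with ⟨rfl, rfl⟩ | ⟨rfl, rfl⟩
    · by_cases h3 : 3 ≤ Fintype.card F
      · exact Or.inr (Or.inr (Or.inl ⟨h3, D, hD, hHD⟩))
      · have hF2 : Fintype.card F = 2 := by
          have := Fintype.one_lt_card (α := F)
          omega
        obtain ⟨Q, hQ, hpol, hle⟩ := Cfsg.Agent.H914.quad_of_frame_two hF2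
          Cfsg.Agent.H924.isSymplecticForm_sympForm hD
        iterate 11 right
        left
        refine ⟨by rw [hF2]; decide, Q, hQ, hpol, ?_⟩
        apply Cfsg.Agent.H918.eq_inf_of_maximal hH
        · rw [hHD]; exact inf_le_left.trans hle
        · exact Cfsg.Agent.H931.spGL_not_le_quadSimilarityGroup (by norm_num) hpol hQ.smul
    · exact Or.inr (Or.inr (Or.inr (Or.inl ⟨D, hD, hHD⟩)))
  · obtain ⟨D, hodd, hD, hs, hHD⟩ := h
    iterate 4 right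
    left
    exact ⟨hodd, D, hD, hs, hHD⟩
  · iterate 8 right
    left
    exact h
  · obtain ⟨R, p, k, hR, habs, hRs, hp, hpo, hcF, hcR, hz, hmin, hk, hHR⟩ := h
    have hk3 : k = 3 := by
      have h1 : 2 ^ 3 = 2 ^ k := by omega
      exact (Nat.pow_right_injective le_rfl h1).symm
    subst hk3
    iterate 9 right
    left
    exact ⟨p, R, hp, hpo, hcF, hR, habs, hRs, by rw [hcR]; norm_num, hz, hmin, hHR⟩
  · obtain ⟨Q, hodd, hQ, hpol, hHQ⟩ := h
    iterate 11 right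
    left
    exact ⟨hodd, Q, hQ, hpol, hHQ⟩
  · obtain ⟨r, K, hr, hr8, hK, hKs, hKa, hHK⟩ := h
    have hr2 : r = 2 := by
      have h1 : r ∣ 2 ^ 3 := by norm_num at hr8 ⊢; exact hr8
      exact (Nat.prime_dvd_prime_iff_eq hr Nat.prime_two).1 (hr.dvd_of_dvd_pow h1)
    subst hr2
    iterate 5 right
    left
    exact ⟨K, hK, hKs, hKa, hHK⟩
  · obtain ⟨K, hodd, hK, hKa, hKs, hHK⟩ := h
    iterate 6 right
    left
    exact ⟨hodd, K, hK, hKa, hKs, hHK⟩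
  · obtain ⟨n₁, n₂, e, P, f₁, f₂, hodd, hn, hn1, h2, h3, hf₁, hf₂, hst, hHT⟩ := h
    have hnn : n₁ = 2 ∧ n₂ = 4 := by
      have h5 : n₁ ≤ 8 := by
        by_contra hcon
        have : 8 < n₁ * n₂ := lt_of_lt_of_le (by omega) (Nat.le_mul_of_pos_right n₁ (by omega))
        omega
      obtain ⟨j, hj⟩ := hn1
      interval_cases n₁ <;> omega
    obtain ⟨rfl, rfl⟩ := hnn
    iterate 7 right
    left
    refine ⟨hodd, e, P, f₁, f₂, hf₁, hf₂, ?_, hst, hHT⟩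
    intro hplus
    have h20 : (2 : F) ≠ 0 := Cfsg.Agent.H922.two_ne_zero_of_odd_card hodd
    obtain ⟨e', P', -, hle, g, hg, hgi, hgn⟩ := Cfsg.Agent.H919.plus_type_frame h20 hf₁ hf₂ hplus hst
    have hHM : H ≤ Cfsg.Geo.tensorWreathSubgroup 2 3 e' P' := by
      intro x hx
      rw [hHT] at hx
      exact hle x hx.1 hx.2
    have hHe : H = Cfsg.Geo.tensorWreathSubgroup 2 3 e' P' ⊓ Cfsg.spGL 4 F :=
      Cfsg.Agent.H918.eq_inf_of_maximal hH hHM (hwr 2 3 e' P' rfl (by decide) le_rfl (by norm_num))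
    have hgH : g ∈ H := by
      rw [hHe]
      exact ⟨hg, hgi⟩
    rw [hHT] at hgH
    exact hgn hgH.1
  · obtain ⟨k, t, e, P, f₁, hodd, hkt, hk, hk2, hto, ht3, hqk, hf₁, hst, hHT⟩ := h
    have hkt' : k = 2 ∧ t = 3 := by
      have h5 : k < 3 := by
        by_contra hcon
        have h6 : 3 ^ 3 ≤ k ^ t := calc
          3 ^ 3 ≤ k ^ 3 := Nat.pow_le_pow_left (by omega) 3
          _ ≤ k ^ t := Nat.pow_le_pow_right (by omega) ht3
        omega
      have h6 : k = 2 := by omega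
      subst h6
      refine ⟨rfl, ?_⟩
      have h1 : 2 ^ t = 2 ^ 3 := by omega
      exact Nat.pow_right_injective le_rfl h1
    obtain ⟨rfl, rfl⟩ := hkt'
    iterate 10 right
    left
    refine ⟨hodd, ?_, e, P, f₁, hf₁, hst, hHT⟩
    have h1 := Fintype.one_lt_card (α := F)
    have h3 : Fintype.card F ≠ 3 := fun h => hqk ⟨h, rfl⟩
    rw [Nat.odd_iff] at hodd
    omega
  · iterate 12 right
    exact h

end Cfsg.Agent.S5823
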