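import Cfsg.Statements.S5824
import Cfsg.Agent.S0000
import Cfsg.Agent.H871.Sp8Fin
import Cfsg.Agent.H919.TwoRow

set_option autoImplicit false
open Cfsg

namespace Cfsg.Agent.S5824

/-- The maximal subgroups of Sp_8(q) in the residual class. Let F be a finite field with q elements and characteristic p, and H a maximal subgroup of Sp_8(F) (isometries of the standard alternating form on F^8) lying in the residual class of the symplectic case. Then the perfect socle preimage P of H satisfies one of: P modulo scalars is isomorphic to PSL_2(7), with q = p ≥ 5 and p ≠ 7; or to A_6, with q = p ≡ ±1 or ±9 mod 20, or q = p² with p ≡ ±2 mod 5 and p ≠ 2, 3; or to PSL_2(17), with q = p ≡ ±1, ±2, ±4 or ±8 mod 17 (including p = 2), or q = p² with p ≡ ±3, ±5, ±6 or ±7 mod 17; or to A_10, with q = 2; or to PSL_2(F) itself, with p ≥ 11; or to PSL_2 over the field with q³ elements,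 with q odd. -/
theorem result {F : Type*} [Field F] [Fintype F] (H : Subgroup (Matrix.GeneralLinearGroup (Fin 4 ⊕ Fin 4) F)) (hH : Cfsg.Geo.IsMaximalIn (Cfsg.spGL 4 F) H) (hS : Cfsg.Geo.InSymplecticResidualClass H) :
    ∃ (P : Subgroup (Matrix.GeneralLinearGroup (Fin 4 ⊕ Fin 4) F)) (p : ℕ), Cfsg.Geo.IsResidualCore H P ∧ p.Prime ∧ CharP F p ∧
    ((Nonempty ((P ⧸ (Cfsg.Geo.scalars (Fin 4 ⊕ Fin 4) F).subgroupOf P) ≃* Matrix.ProjectiveSpecialLinearGroup (Fin 2) (ZMod 7)) ∧ Fintype.card F = p ∧ 5 ≤ p ∧ p ≠ 7) ∨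
     (Nonempty ((P ⧸ (Cfsg.Geo.scalars (Fin 4 ⊕ Fin 4) F).subgroupOf P) ≃* alternatingGroup (Fin 6)) ∧ ((Fintype.card F = p ∧ (p % 20 = 1 ∨ p % 20 = 19 ∨ p % 20 = 9 ∨ p % 20 = 11)) ∨ (Fintype.card F = p ^ 2 ∧ p ≠ 2 ∧ p ≠ 3 ∧ (p % 5 = 2 ∨ p % 5 = 3)))) ∨
     (Nonempty ((P ⧸ (Cfsg.Geo.scalars (Fin 4 ⊕ Fin 4) F).subgroupOf P) ≃* Matrix.ProjectiveSpecialLinearGroup (Fin 2) (ZMod 17)) ∧ ((Fintype.card F = p ∧ (p % 17 = 1 ∨ p % 17 = 16 ∨ p % 17 = 2 ∨ p % 17 = 15 ∨ p % 17 = 4 ∨ p % 17 = 13 ∨ p % 17 = 8 ∨ p % 17 = 9)) ∨ (Fintype.card F = p ^ 2 ∧ (p % 17 = 3 ∨ p % 17 = 14 ∨ p % 17 = 5 ∨ p % 17 = 12 ∨ p % 17 = 6 ∨ p % 17 = 11 ∨ p % 17 = 7 ∨ p % 17 = 10)))) ∨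
     (Nonempty ((P ⧸ (Cfsg.Geo.scalars (Fin 4 ⊕ Fin 4) F).subgroupOf P) ≃* alternatingGroup (Fin 10)) ∧ Fintype.card F = 2) ∨
     (Nonempty ((P ⧸ (Cfsg.Geo.scalars (Fin 4 ⊕ Fin 4) F).subgroupOf P) ≃* Matrix.ProjectiveSpecialLinearGroup (Fin 2) F) ∧ 11 ≤ p) ∨
     ((∃ (K : Type) (_ : Field K) (_ : Fintype K), Fintype.card K = Fintype.card F ^ 3 ∧ Nonempty ((P ⧸ (Cfsg.Geo.scalars (Fin 4 ⊕ Fin 4) F).subgroupOf P) ≃* Matrix.ProjectiveSpecialLinearGroup (Fin 2) K)) ∧ Odd (Fintype.card F))) := by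
  refine H871.Sp8.row5824 (fun _ _ _ _ => S0000.result) ?_ hH hS
  intro P hch hC hA hQ hk
  haveI := hch
  exact (H919.TwoRow.two_row hC hA (by rw [Fintype.card_sum, Fintype.card_fin]) hk).resolve_left hQ

end Cfsg.Agent.S5824
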