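import Cfsg.Statements.S1911
import Cfsg.Agent.S1922
import Cfsg.Agent.AschCrit.AC
import Cfsg.Agent.StrongEmb.Main
import Cfsg.Agent.H23.SEmb
import Cfsg.Agent.H23.TightQuot

set_option autoImplicit false
open Cfsg

namespace Cfsg.Agent.S1911

open Subgroup
open Cfsg.Agent.TwoFusion.StronglyEmbeddedBasic Cfsg.Agent.AschCrit.Basic
open Cfsg.Agent.H23.AschKer Cfsg.Agent.H23.SEmb

section

variable {G : Type*} [Group G] {Q : Subgroup G}

/-- an element of even order of `Q` stays in `N(Q)` only under the conjugation by elements of `N(Q)` -/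
theorem mem_of_conj [Finite G]
    (hodd : ∀ g : G, g ∉ Subgroup.normalizer (Q : Set G) →
      Odd (Nat.card ↥(Q.map (MulAut.conj g).toMonoidHom ⊓ Subgroup.normalizer (Q : Set G))))
    {t : G} (ht : t ∈ Q) (ht2 : orderOf t = 2) {g : G}
    (hg : g * t * g⁻¹ ∈ Subgroup.normalizer (Q : Set G)) : g ∈ Subgroup.normalizer (Q : Set G) := by
  by_contra hc
  have h1 := hodd g hc
  have h2 : g * t * g⁻¹ ∈ Q.map (MulAut.conj g).toMonoidHom ⊓ Subgroup.normalizer (Q : Set G) :=
    ⟨⟨t, ht, rfl⟩, hg⟩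
  have h3 : orderOf (g * t * g⁻¹) ∣
      Nat.card ↥(Q.map (MulAut.conj g).toMonoidHom ⊓ Subgroup.normalizer (Q : Set G)) := by
    rw [← Subgroup.orderOf_mk _ h2]; exact orderOf_dvd_natCard _
  rw [orderOf_conj, ht2] at h3
  exact (Nat.not_even_iff_odd.mpr h1) (even_iff_two_dvd.mpr h3)

theorem smul_mk_eq_iff {M : Subgroup G} {x g : G} :
    x • (g : G ⧸ M) = (g : G ⧸ M) ↔ g⁻¹ * x * g ∈ M := by
  have h1 : x • (g : G ⧸ M) = ((x * g : G) : G ⧸ M) := rfl
  rw [h1, eq_comm, QuotientGroup.eq, ← mul_assoc]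

/-- in the product of a normal subgroup and an element of odd order -/
theorem mul_pow_mem {w q : G} (hw : w ∈ Subgroup.normalizer (Q : Set G)) (hq : q ∈ Q) (j : ℕ) :
    (q * w) ^ j * (w ^ j)⁻¹ ∈ Q := by
  induction j with
  | zero => simp
  | succ j ih =>
    have e : (q * w) ^ (j + 1) * (w ^ (j + 1))⁻¹ =
        ((q * w) ^ j * (w ^ j)⁻¹) * (w ^ j * q * (w ^ j)⁻¹) := by
      rw [pow_succ, pow_succ]; group
    rw [e]
    exact Q.mul_mem ih ((Subgroup.mem_normalizer_iff.mp (pow_mem hw j) q).mp hq)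

end

/-- Let Q be a tightly embedded subgroup of a finite group G such that Q^g ∩ N_G(Q) has odd order for every g outside N_G(Q), and let K be the normal closure of Q in G. Then Q is normal in G, or K ∩ N_G(Q) is a strongly embedded subgroup of K. -/
theorem result {G : Type*} [Group G] [Finite G] (Q : Subgroup G) (hQ : Cfsg.IsTightlyEmbedded Q)
    (hodd : ∀ g : G, g ∉ Subgroup.normalizer (Q : Set G) →
      Odd (Nat.card ↥(Q.map (MulAut.conj g).toMonoidHom ⊓ Subgroup.normalizer (Q : Set G)))) :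
    Q.Normal ∨
      Cfsg.IsStronglyEmbedded ((Subgroup.normalizer (Q : Set G)).subgroupOf (Subgroup.normalClosure (Q : Set G))) := by
  set M : Subgroup G := Subgroup.normalizer (Q : Set G) with hM
  by_cases hMt : M = ⊤
  · left
    exact Subgroup.normalizer_eq_top_iff.mp hMt
  right
  have hQM : Q ≤ M := Subgroup.le_normalizer
  have hQK : Q ≤ normalClosure (Q : Set G) := subset_normalClosure
  -- an involution of `Q`
  obtain ⟨⟨z, hzQ⟩, hz2⟩ := exists_prime_orderOf_dvd_card' 2 (even_iff_two_dvd.mp hQ.1)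
  rw [Subgroup.orderOf_mk] at hz2
  obtain ⟨g₀, hg₀⟩ : ∃ g : G, g ∉ M := by
    by_contra hc
    push Not at hc
    exact hMt (Subgroup.eq_top_iff' _ |>.mpr hc)
  have hfix1 : ∀ x : G, x • ((1 : G) : G ⧸ M) = ((1 : G) : G ⧸ M) ↔ x ∈ M := by
    intro x
    rw [smul_mk_eq_iff]
    simp
  have hmk : ∀ g : G, ((g : G) : G ⧸ M) = ((1 : G) : G ⧸ M) ↔ g ∈ M := by
    intro g
    rw [eq_comm, QuotientGroup.eq]
    simp
  -- the involutions of `Q` fix only one point
  have hRi : ∀ r ∈ Q, r * r = 1 → r ≠ 1 → ∀ c : G ⧸ M, r • c = c → c = ((1 : G) : G ⧸ M) := by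
    intro r hr hrr hr1 c hc
    obtain ⟨g, rfl⟩ := QuotientGroup.mk_surjective c
    rw [smul_mk_eq_iff] at hc
    rw [hmk]
    have h1 : g⁻¹ ∈ M := by
      apply mem_of_conj hodd hr (orderOf_eq_two_of_mul_self hrr hr1)
      rw [inv_inv]; exact hc
    simpa using inv_mem h1
  have hz1 : z ≠ 1 := by
    rintro rfl
    rw [orderOf_one] at hz2
    exact absurd hz2 (by norm_num)
  have hzz := mul_self_of_orderOf hz2
  have hKM : ¬ normalClosure (Q : Set G) ≤ M := by
    intro hle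
    apply hg₀
    exact mem_of_conj hodd hzQ hz2 (hle (normalClosure_normal.conj_mem z (hQK hzQ) g₀))
  have hpre : Cfsg.Agent.S1922.Pre G (G ⧸ M) z := by
    refine ⟨hz2, ⟨((1 : G) : G ⧸ M), (g₀ : G ⧸ M), fun hh => hg₀ ((hmk g₀).mp hh.symm)⟩, ?_,
      ⟨((1 : G) : G ⧸ M), (hfix1 z).mpr (hQM hzQ)⟩, ?_, ?_⟩
    · intro c d
      exact MulAction.exists_smul_eq G c d
    · intro c d hc hd
      rw [hRi z hzQ hzz hz1 c hc, hRi z hzQ hzz hz1 d hd]
    · intro g hcom hne c d hc hd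
      have hc1 := hRi z hzQ hzz hz1 c hc
      have h1 : (g * z * g⁻¹) • ((1 : G) : G ⧸ M) = ((1 : G) : G ⧸ M) := by
        apply hRi z hzQ hzz hz1
        rw [smul_smul, hcom.eq, mul_smul, (hfix1 z).mpr (hQM hzQ)]
      have hg : g ∈ M := mem_of_conj hodd hzQ hz2 ((hfix1 _).mp h1)
      have h2 : g * z * g⁻¹ ∈ Q := (Subgroup.mem_normalizer_iff.mp hg z).mp hzQ
      have h3 : (g * z * g⁻¹) * (g * z * g⁻¹) = 1 := by
        calc g * z * g⁻¹ * (g * z * g⁻¹) = g * (z * z) * g⁻¹ := by group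
          _ = 1 := by rw [hzz]; group
      rw [hc1]
      refine hRi (z * (g * z * g⁻¹)) (Q.mul_mem hzQ h2) ?_ ?_ d hd
      · calc z * (g * z * g⁻¹) * (z * (g * z * g⁻¹)) =
            z * ((g * z * g⁻¹) * z) * (g * z * g⁻¹) := by group
          _ = z * (z * (g * z * g⁻¹)) * (g * z * g⁻¹) := by rw [hcom.eq]
          _ = (z * z) * ((g * z * g⁻¹) * (g * z * g⁻¹)) := by group
          _ = 1 := by rw [hzz, h3, one_mul]
      · intro hh
        apply hne
        have : z⁻¹ = g * z * g⁻¹ := inv_eq_of_mul_eq_one_right hh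
        rw [← this]
        exact inv_eq_of_mul_eq_one_right hzz
  have hset : Setup G (G ⧸ M) z :=
    ⟨hz2, hpre.central, hpre.nontriv, hpre.trans, hpre.exists_fix, hpre.fix_unique, hpre.comm⟩
  refine se_of hKM hz2 (hQK hzQ) (hQM hzQ) ?_
  intro v hv hv2 hvM g hg hvg
  by_cases hn : Cfsg.Agent.AschCrit.NonIso.NonIso z
  · have h1 := Cfsg.Agent.H23.TightQuot.not_bad Cfsg.Agent.AschCrit.AC.noBadBelow
      (fun X _ _ => Cfsg.Agent.StrongEmb.Main.bender X) hset hn (a := ((1 : G) : G ⧸ M)) (R := Q)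
      ((hfix1 z).mpr (hQM hzQ)) (fun r hr => (hfix1 r).mpr (hQM hr))
      (fun x hx r hr => (Subgroup.mem_normalizer_iff.mp ((hfix1 x).mp hx) r).mp hr) hzQ hRi hv
    by_contra hgM
    apply h1
    refine ⟨hv2, ((1 : G) : G ⧸ M), (g : G ⧸ M), fun hh => hgM ((hmk g).mp hh.symm),
      (hfix1 v).mpr hvM, smul_mk_eq_iff.mpr hvg⟩
  · -- the isolated case
    have hiso := iso_of hz2 (by
      intro d hd hzd
      by_contra hne
      exact hn ⟨d, hd, hzd, hne⟩)
    set O := pPrimeCore 2 G with hO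
    have hOn : O.Normal := Cfsg.Agent.Lib.Cores.pPrimeCore_normal 2
    have hOodd : Odd (Nat.card O) :=
      Nat.coprime_two_right.mp (Cfsg.Agent.Lib.Cores.pPrimeCore_coprime 2)
    have hzi : z⁻¹ = z := inv_eq_of_mul_eq_one_left hzz
    -- `G = O M`
    have hOM : ∀ x : G, ∃ c ∈ O, c⁻¹ * x ∈ M := by
      intro x
      have h1 := Cfsg.Agent.S0215.iso_commutator z hiso x
      have h2 : z * (x * z * x⁻¹) ∈ O := by
        have e : z * (x * z * x⁻¹) = z * x * z⁻¹ * x⁻¹ := by rw [hzi]; group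
        rw [e]; exact h1
      have h3 : Odd (orderOf (z * (x * z * x⁻¹))) := by
        have : orderOf (z * (x * z * x⁻¹)) ∣ Nat.card O := by
          rw [← Subgroup.orderOf_mk _ h2]; exact orderOf_dvd_natCard _
        exact hOodd.of_dvd_nat this
      obtain ⟨c, hc, hcx⟩ := exists_zpowers_conj hzz (by
        calc x * z * x⁻¹ * (x * z * x⁻¹) = x * (z * z) * x⁻¹ := by group
          _ = 1 := by rw [hzz]; group) h3
      refine ⟨c, (zpowers_le.mpr h2) hc, ?_⟩
      apply mem_of_conj hodd hzQ hz2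
      have e : c⁻¹ * x * z * (c⁻¹ * x)⁻¹ = z := by
        calc c⁻¹ * x * z * (c⁻¹ * x)⁻¹ = c⁻¹ * (x * z * x⁻¹) * c := by group
          _ = c⁻¹ * (c * z * c⁻¹) * c := by rw [hcx]
          _ = z := by group
      rw [e]; exact hQM hzQ
    have hKle : normalClosure (Q : Set G) ≤ Q ⊔ O := by
      rw [normalClosure, closure_le]
      intro x hx
      rw [Group.mem_conjugatesOfSet_iff] at hx
      obtain ⟨r, hr, hrx⟩ := hx
      obtain ⟨w, rfl⟩ := isConj_iff.mp hrx
      obtain ⟨c, hc, hcw⟩ := hOM w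
      have h1 := (Subgroup.mem_normalizer_iff.mp hcw r).mp hr
      set r' := c⁻¹ * w * r * (c⁻¹ * w)⁻¹ with hr'
      have e : w * r * w⁻¹ = (c * (r' * c⁻¹ * r'⁻¹)) * r' := by
        rw [hr']; group
      rw [SetLike.mem_coe, e]
      exact mul_mem (mem_sup_right (O.mul_mem hc (hOn.conj_mem _ (O.inv_mem hc) r')))
        (mem_sup_left h1)
    have hmem : v ∈ ((Q ⊔ O : Subgroup G) : Set G) := hKle hv
    rw [Subgroup.mul_normal] at hmem
    obtain ⟨q, hq, w, hw, hqw⟩ := hmem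
    have hqw' : q * w = v := hqw
    have hwM : w ∈ M := by
      have e : w = q⁻¹ * v := by rw [← hqw']; group
      rw [e]; exact M.mul_mem (M.inv_mem (hQM hq)) hvM
    have hvQ : v ∈ Q := by
      have h1 := mul_pow_mem (Q := Q) hwM hq (orderOf w)
      rw [pow_orderOf_eq_one, inv_one, mul_one, hqw'] at h1
      have h2 : Odd (orderOf w) := by
        have : orderOf w ∣ Nat.card O := by
          rw [← Subgroup.orderOf_mk _ hw]; exact orderOf_dvd_natCard _
        exact hOodd.of_dvd_nat this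
      obtain ⟨j, hj⟩ := h2
      rw [hj, pow_succ, pow_mul, pow_two, mul_self_of_orderOf hv2, one_pow, one_mul] at h1
      exact h1
    have hv1 : v ≠ 1 := by
      rintro rfl
      rw [orderOf_one] at hv2
      exact absurd hv2 (by norm_num)
    have h1 := hRi v hvQ (mul_self_of_orderOf hv2) hv1 (g : G ⧸ M) (smul_mk_eq_iff.mpr hvg)
    exact (hmk g).mp h1

end Cfsg.Agent.S1911
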