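import Cfsg.Statements.S4149
import Mathlib.GroupTheory.Transfer

set_option autoImplicit false
open Cfsg
open scoped Pointwise

namespace Cfsg.Agent.S4149

open scoped Classical in
/-- For a prime `p`, an element whose class size is not divisible by `p` centralizes a Sylow
`p`-subgroup. -/
theorem exists_sylow_le_centralizer {G : Type*} [Group G] [Finite G] (p : ℕ) [Fact p.Prime]
    (C : Subgroup G) (h : ¬ p ∣ C.index) : ∃ Q : Sylow p G, (Q : Subgroup G) ≤ C := by
  obtain ⟨Q0⟩ : Nonempty (Sylow p C) := inferInstance
  have hQ0 : IsPGroup p (Q0 : Subgroup C) := Q0.isPGroup'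
  have hQ0' : IsPGroup p ((Q0 : Subgroup C).map C.subtype) := hQ0.map _
  obtain ⟨Q, hQ⟩ := hQ0'.exists_le_sylow
  refine ⟨Q, ?_⟩
  have hle : ((Q0 : Subgroup C).map C.subtype) ≤ C := Subgroup.map_subtype_le _
  have hcard : Nat.card ((Q0 : Subgroup C).map C.subtype) = Nat.card (Q : Subgroup G) := by
    apply Nat.dvd_antisymm
    · exact Subgroup.card_dvd_of_le hQ
    · have h1 : Nat.card (Q : Subgroup G) = p ^ (Nat.card G).factorization p := Q.card_eq_multiplicity
      have h2 : Nat.card (Q0 : Subgroup C) = p ^ (Nat.card C).factorization p := Q0.card_eq_multiplicity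
      have h3 : Nat.card ((Q0 : Subgroup C).map C.subtype) = Nat.card (Q0 : Subgroup C) :=
        Nat.card_congr (Subgroup.equivMapOfInjective _ _ C.subtype_injective).toEquiv.symm
      rw [h3, h2, h1]
      have h4 : Nat.card G = Nat.card C * C.index := (Subgroup.card_mul_index C).symm
      have h5 : (Nat.card G).factorization p = (Nat.card C).factorization p := by
        rw [h4, Nat.factorization_mul (Nat.card_pos).ne' Subgroup.index_ne_zero_of_finite]
        simp [Nat.factorization_eq_zero_of_not_dvd h]
      rw [h5]
  have := Subgroup.eq_of_le_of_card_ge hQ hcard.ge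
  rw [← this]
  exact hle

open scoped Classical in
theorem card_bound {G : Type*} [Group G] [Finite G] (p : ℕ) [Fact p.Prime]
    (hn : ¬ Cfsg.HasNormalPComplement p G) :
    2 * Nat.card {g : G // ¬ p ∣ (Subgroup.centralizer ({g} : Set G)).index} ≤ Nat.card G := by
  obtain ⟨P⟩ : Nonempty (Sylow p G) := inferInstance
  -- C(P) < N(P)
  have hNC : ¬ Subgroup.normalizer ((P : Subgroup G) : Set G) ≤
      Subgroup.centralizer ((P : Subgroup G) : Set G) := by
    intro h
    apply hn
    exact ⟨P, (MonoidHom.transferSylow P h).ker, inferInstance,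
      MonoidHom.ker_transferSylow_isComplement' P h⟩
  set N := Subgroup.normalizer ((P : Subgroup G) : Set G) with hN
  set C := Subgroup.centralizer ((P : Subgroup G) : Set G) with hC
  have hCN : C ≤ N := Subgroup.centralizer_le_normalizer _
  have h2 : 2 * Nat.card C ≤ Nat.card N := by
    have hd : Nat.card C ∣ Nat.card N := Subgroup.card_dvd_of_le hCN
    obtain ⟨k, hk⟩ := hd
    have hk0 : k ≠ 0 := by
      rintro rfl
      simp at hk
      exact (Nat.card_pos (α := N)).ne' hk
    have hk1 : k ≠ 1 := by
      rintro rfl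
      apply hNC
      have : C = N := Subgroup.eq_of_le_of_card_ge hCN (by omega)
      exact this.ge
    have : 2 ≤ k := by omega
    rw [hk, mul_comm]
    exact Nat.mul_le_mul_left _ this
  -- the injection into Sylow × C
  have hinj : Nat.card {g : G // ¬ p ∣ (Subgroup.centralizer ({g} : Set G)).index} ≤
      Nat.card (Sylow p G) * Nat.card C := by
    have key : ∀ g : {g : G // ¬ p ∣ (Subgroup.centralizer ({g} : Set G)).index},
        ∃ Q : Sylow p G, (Q : Subgroup G) ≤ Subgroup.centralizer ({g.1} : Set G) :=
      fun g => exists_sylow_le_centralizer p _ g.2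
    choose Q hQ using key
    have key2 : ∀ Q : Sylow p G, ∃ x : G, x • P = Q := fun Q => MulAction.exists_smul_eq G P Q
    choose x hx using key2
    let f : {g : G // ¬ p ∣ (Subgroup.centralizer ({g} : Set G)).index} → Sylow p G × C :=
      fun g => ⟨Q g, ⟨(x (Q g))⁻¹ * g.1 * x (Q g), by
        rw [hC, Subgroup.mem_centralizer_iff]
        intro h hh
        have h1 : x (Q g) * h * (x (Q g))⁻¹ ∈ ((Q g : Sylow p G) : Subgroup G) := by
          have h0 : ((Q g : Sylow p G) : Subgroup G) = MulAut.conj (x (Q g)) • (P : Subgroup G) := by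
            rw [← Sylow.coe_subgroup_smul]
            exact congrArg _ (hx (Q g)).symm
          rw [h0]
          have h2 := Subgroup.smul_mem_pointwise_smul h (MulAut.conj (x (Q g))) (P : Subgroup G) hh
          simpa using h2
        have h3 := hQ g h1
        rw [Subgroup.mem_centralizer_singleton_iff] at h3
        have h4 : x (Q g) * h * (x (Q g))⁻¹ * g.1 = g.1 * (x (Q g) * h * (x (Q g))⁻¹) := h3
        calc h * ((x (Q g))⁻¹ * g.1 * x (Q g)) = (x (Q g))⁻¹ * (x (Q g) * h * (x (Q g))⁻¹ * g.1) * x (Q g) := by group
          _ = (x (Q g))⁻¹ * (g.1 * (x (Q g) * h * (x (Q g))⁻¹)) * x (Q g) := by rw [h4]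
          _ = (x (Q g))⁻¹ * g.1 * x (Q g) * h := by group⟩⟩
    have hf : Function.Injective f := by
      intro a b hab
      have h1 : Q a = Q b := congrArg Prod.fst hab
      have h2 : (x (Q a))⁻¹ * a.1 * x (Q a) = (x (Q b))⁻¹ * b.1 * x (Q b) :=
        congrArg (fun z : Sylow p G × C => (z.2 : G)) hab
      rw [h1] at h2
      apply Subtype.ext
      exact mul_left_cancel (mul_right_cancel h2)
    have := Nat.card_le_card_of_injective f hf
    rwa [Nat.card_prod] at this
  have hidx : Nat.card (Sylow p G) = N.index := Sylow.card_eq_index_normalizer P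
  calc 2 * Nat.card {g : G // ¬ p ∣ (Subgroup.centralizer ({g} : Set G)).index}
      ≤ 2 * (Nat.card (Sylow p G) * Nat.card C) := Nat.mul_le_mul_left _ hinj
    _ = N.index * (2 * Nat.card C) := by rw [hidx]; ring
    _ ≤ N.index * Nat.card N := Nat.mul_le_mul_left _ h2
    _ = Nat.card G := Subgroup.index_mul_card N

/-- Let G be a finite group that has a normal p-complement for at most one prime p dividing its order, and let σ be a natural number such that every conjugacy class size of G has at most σ distinct prime divisors. Then the number of primes dividing at least one conjugacy class size of G is at most 2σ. -/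
theorem result {G : Type*} [Group G] [Finite G] (σ : ℕ)
    (hσ : ∀ x : G, ((Subgroup.centralizer ({x} : Set G)).index).primeFactors.card ≤ σ)
    (hnil : ∀ p q : ℕ, p.Prime → q.Prime → p ∣ Nat.card G → q ∣ Nat.card G →
      Cfsg.HasNormalPComplement p G → Cfsg.HasNormalPComplement q G → p = q) :
    Nat.card {p : ℕ | p.Prime ∧ ∃ x : G, p ∣ (Subgroup.centralizer ({x} : Set G)).index} ≤ 2 * σ := by
  classical
  have : Fintype G := Fintype.ofFinite G
  set S : Finset ℕ := (Nat.card G).primeFactors.filter
    (fun p => ∃ x : G, p ∣ (Subgroup.centralizer ({x} : Set G)).index) with hS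
  have hSeq : {p : ℕ | p.Prime ∧ ∃ x : G, p ∣ (Subgroup.centralizer ({x} : Set G)).index} = (S : Set ℕ) := by
    ext p
    simp only [Set.mem_ofPred_eq, hS, Finset.coe_filter, Nat.mem_primeFactors]
    constructor
    · rintro ⟨hp, x, hx⟩
      exact ⟨⟨hp, hx.trans (Subgroup.index_dvd_card _), (Nat.card_pos).ne'⟩, x, hx⟩
    · rintro ⟨⟨hp, _, _⟩, x, hx⟩
      exact ⟨hp, x, hx⟩
  rw [hSeq]
  have hcS : Nat.card (S : Set ℕ) = S.card := by simp
  rw [hcS]
  set n := S.card with hn
  set X : ℕ → Finset G := fun p => Finset.univ.filter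
    (fun g => ¬ p ∣ (Subgroup.centralizer ({g} : Set G)).index) with hX
  have hXc : ∀ p, (X p).card = Nat.card {g : G // ¬ p ∣ (Subgroup.centralizer ({g} : Set G)).index} := by
    intro p
    rw [Nat.card_eq_fintype_card, Fintype.card_subtype]
  have hG : (Finset.univ : Finset G).card = Nat.card G := by
    rw [Nat.card_eq_fintype_card, Finset.card_univ]
  have hlt : ∀ p ∈ S, (X p).card < Nat.card G := by
    intro p hp
    rw [← hG]
    apply Finset.card_lt_card
    rw [Finset.ssubset_univ_iff]
    intro h
    obtain ⟨x, hx⟩ := (Finset.mem_filter.mp hp).2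
    have : x ∈ X p := by rw [h]; exact Finset.mem_univ _
    exact (Finset.mem_filter.mp this).2 hx
  have hhalf : ∀ p ∈ S, ¬ Cfsg.HasNormalPComplement p G → 2 * (X p).card ≤ Nat.card G := by
    intro p hp h
    have : Fact p.Prime := ⟨Nat.prime_of_mem_primeFactors (Finset.mem_filter.mp hp).1⟩
    rw [hXc]
    exact card_bound p h
  -- double counting
  have hdc : ∑ p ∈ S, (X p).card = ∑ g : G, (S.filter (fun p => ¬ p ∣ (Subgroup.centralizer ({g} : Set G)).index)).card := by
    simp only [hX, Finset.card_filter]
    exact Finset.sum_comm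
  have hlow : ∀ g : G, n ≤ (S.filter (fun p => ¬ p ∣ (Subgroup.centralizer ({g} : Set G)).index)).card + σ := by
    intro g
    have h1 := Finset.card_filter_add_card_filter_not (s := S) (fun p => p ∣ (Subgroup.centralizer ({g} : Set G)).index)
    have h2 : (S.filter (fun p => p ∣ (Subgroup.centralizer ({g} : Set G)).index)).card ≤ σ := by
      refine le_trans (Finset.card_le_card ?_) (hσ g)
      intro p hp
      rw [Finset.mem_filter] at hp
      rw [Nat.mem_primeFactors]
      exact ⟨Nat.prime_of_mem_primeFactors (Finset.mem_filter.mp hp.1).1, hp.2,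
        Subgroup.index_ne_zero_of_finite⟩
    omega
  have hsumlow : Nat.card G * n ≤ (∑ p ∈ S, (X p).card) + Nat.card G * σ := by
    rw [hdc]
    calc Nat.card G * n = ∑ g : G, n := by rw [Finset.sum_const, smul_eq_mul, hG]
      _ ≤ ∑ g : G, ((S.filter (fun p => ¬ p ∣ (Subgroup.centralizer ({g} : Set G)).index)).card + σ) :=
        Finset.sum_le_sum (fun g _ => hlow g)
      _ = _ := by rw [Finset.sum_add_distrib, Finset.sum_const, smul_eq_mul, hG]
  -- upper bound
  have hup : 2 * (∑ p ∈ S, (X p).card) < (n + 1) * Nat.card G := by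
    have h1 : 2 * (∑ p ∈ S, (X p).card) ≤ n * Nat.card G +
        ∑ p ∈ S.filter (fun p => Cfsg.HasNormalPComplement p G), (X p).card := by
      have e1 : ∑ p ∈ S.filter (fun p => Cfsg.HasNormalPComplement p G), (X p).card =
          ∑ p ∈ S, if Cfsg.HasNormalPComplement p G then (X p).card else 0 := Finset.sum_filter _ _
      have e2 : 2 * (∑ p ∈ S, (X p).card) = ∑ p ∈ S, 2 * (X p).card := Finset.mul_sum _ _ _
      rw [e1, e2]
      calc ∑ p ∈ S, 2 * (X p).card ≤ ∑ p ∈ S, (Nat.card G + if Cfsg.HasNormalPComplement p G then (X p).card else 0) := by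
            apply Finset.sum_le_sum
            intro p hp
            by_cases h : Cfsg.HasNormalPComplement p G
            · rw [if_pos h]
              have := hlt p hp
              omega
            · rw [if_neg h]
              have := hhalf p hp h
              omega
        _ = _ := by rw [Finset.sum_add_distrib, Finset.sum_const, smul_eq_mul]
    have h2 : ∑ p ∈ S.filter (fun p => Cfsg.HasNormalPComplement p G), (X p).card < Nat.card G := by
      have hone : (S.filter (fun p => Cfsg.HasNormalPComplement p G)).card ≤ 1 := by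
        rw [Finset.card_le_one]
        intro a ha b hb
        rw [Finset.mem_filter] at ha hb
        have ha' := (Finset.mem_filter.mp ha.1).1
        have hb' := (Finset.mem_filter.mp hb.1).1
        exact hnil a b (Nat.prime_of_mem_primeFactors ha') (Nat.prime_of_mem_primeFactors hb')
          (Nat.dvd_of_mem_primeFactors ha') (Nat.dvd_of_mem_primeFactors hb') ha.2 hb.2
      rcases Finset.card_le_one_iff_subset_singleton.mp hone with ⟨a, ha⟩
      rcases Finset.subset_singleton_iff.mp ha with h | h
      · rw [h, Finset.sum_empty]; exact Nat.card_pos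
      · rw [h, Finset.sum_singleton]
        apply hlt
        have : a ∈ S.filter (fun p => Cfsg.HasNormalPComplement p G) := by rw [h]; simp
        exact (Finset.mem_filter.mp this).1
    nlinarith
  have hGpos : 0 < Nat.card G := Nat.card_pos
  by_contra hcon
  push Not at hcon
  have h3 : 2 * (Nat.card G * n) < (n + 1) * Nat.card G + 2 * (Nat.card G * σ) := by omega
  have h4 : Nat.card G * (2 * n) < Nat.card G * (n + 1 + 2 * σ) := by nlinarith
  have h5 := Nat.lt_of_mul_lt_mul_left h4
  omega

end Cfsg.Agent.S4149
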