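import Cfsg.Statements.S3214
import Cfsg.Agent.S0348
import Cfsg.Agent.S1311
import Cfsg.Agent.S0252
import Cfsg.Agent.S0254
import Cfsg.Agent.S1152
import Cfsg.Agent.S1157
import Cfsg.Agent.Transfer.NormalPComplement
import Cfsg.Agent.ThreePrime.Main
import Cfsg.Agent.OddHalf.LieOddFam
import Cfsg.Agent.OddHalf.Known
import Cfsg.Agent.OddHalf.LongSL.Rk
import Cfsg.Agent.GH.AltOut
import Cfsg.Agent.CTwoTab.He
import Cfsg.Agent.SylowL.Compare
import Cfsg.Agent.S0144
import Cfsg.Agent.ClassicalGeometry.PSL2Basic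

set_option autoImplicit false
set_option linter.style.haveILetI false
open Cfsg

namespace Cfsg.Agent.S3214

open Subgroup
open Cfsg.Agent.OddHalf.LieOddFam (Rk OddPow XL27 XL2Big lieOdd_cases)
open Cfsg.Agent.OddHalf.LongSL (HasLong hasLong_of_rk closure_odd_SL)

universe u

/-- an element whose order is odd and a power of two is trivial -/
theorem eq_one_of_odd_two {C : Type*} [Group C] {y : C} {n : ℕ} (hn : Odd n) (h1 : y ^ n = 1) {k : ℕ}
    (h2 : y ^ (2 ^ k) = 1) : y = 1 := by
  have hc : Nat.Coprime n (2 ^ k) := Nat.Coprime.pow_right _ (Nat.coprime_two_right.2 hn)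
  have := Nat.dvd_gcd (orderOf_dvd_of_pow_eq_one h1) (orderOf_dvd_of_pow_eq_one h2)
  rw [hc] at this
  exact orderOf_eq_one_iff.1 (Nat.dvd_one.1 this)

/-- In a group with a normal 2-complement the elements of odd order generate a subgroup of odd order. -/
theorem odd_of_npc {C : Type*} [Group C] [Finite C] (h : HasNormalPComplement 2 C) {x : C}
    (hx : x ∈ closure {g : C | Odd (orderOf g)}) : Odd (orderOf x) := by
  obtain ⟨N, hN, hc, hp⟩ := Transfer.NormalPComplement.hasNormalPComplement_iff.1 h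
  have hle : closure {g : C | Odd (orderOf g)} ≤ N := by
    rw [closure_le]
    intro y hy
    obtain ⟨j, hj⟩ := hp (QuotientGroup.mk y)
    have h1 : (QuotientGroup.mk y : C ⧸ N) ^ (orderOf y) = 1 := by
      rw [← QuotientGroup.mk_pow, pow_orderOf_eq_one, QuotientGroup.mk_one]
    exact (QuotientGroup.eq_one_iff y).1 (eq_one_of_odd_two hy h1 hj)
  have h1 : orderOf x ∣ Nat.card N := by
    have := orderOf_dvd_natCard (⟨x, hle hx⟩ : N)
    rwa [Subgroup.orderOf_mk] at this
  exact Odd.of_dvd_nat (Nat.coprime_two_right.1 hc) h1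

/-- The condition of the statement. -/
def Good (G : Type*) [Group G] : Prop :=
  ∀ t : G, orderOf t = 2 → Cfsg.HasNormalPComplement 2 ↥(Subgroup.centralizer ({t} : Set G))

theorem Good.congr {G : Type*} {H : Type*} [Group G] [Group H] [Finite G] (e : G ≃* H) (h : Good G) : Good H := by
  haveI : Finite H := Finite.of_equiv G e.toEquiv
  intro t ht
  have h1 := h (e.symm t) (by rw [MulEquiv.orderOf_eq, ht])
  have hc : (Subgroup.centralizer ({e.symm t} : Set G)).map e.toMonoidHom = Subgroup.centralizer ({t} : Set H) := by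
    ext y
    rw [Subgroup.mem_map_equiv, Subgroup.mem_centralizer_singleton_iff, Subgroup.mem_centralizer_singleton_iff]
    constructor
    · intro h
      have := congrArg e h
      simpa using this
    · intro h
      apply e.injective
      simpa using h
  exact (Transfer.NormalPComplement.congr ((e.subgroupMap _).trans (MulEquiv.subgroupCongr hc))).1 h1

/-- no long `SL₂(q)` -/
theorem Good.not_long {G : Type*} [Group G] [Finite G] (h : Good G) {q : ℕ} : ¬ HasLong q G := by
  rintro ⟨j, J, hj, hjJ, hJ, -, F, i1, i2, hF, ho, ⟨e⟩⟩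
  have h1 := h j hj
  let f : Matrix.SpecialLinearGroup (Fin 2) F →* ↥(Subgroup.centralizer ({j} : Set G)) :=
    (Subgroup.inclusion hJ).comp e.symm.toMonoidHom
  have hf : Function.Injective f := (Subgroup.inclusion_injective hJ).comp e.symm.injective
  have h2 : HasNormalPComplement 2 (Matrix.SpecialLinearGroup (Fin 2) F) :=
    Transfer.NormalPComplement.of_injective f hf h1
  have h3 : Odd (orderOf (e ⟨j, hjJ⟩)) := by
    refine odd_of_npc h2 ?_
    rw [closure_odd_SL (by rw [hF]; exact ho)]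
    trivial
  rw [MulEquiv.orderOf_eq, Subgroup.orderOf_mk, hj] at h3
  exact (Nat.not_even_iff_odd.2 h3) even_two

/-- the condition passes to subgroups -/
theorem Good.of_injective {G : Type*} {H : Type*} [Group G] [Group H] [Finite G] (f : H →* G)
    (hf : Function.Injective f) (h : Good G) : Good H := by
  haveI : Finite H := Finite.of_injective f hf
  intro t ht
  have h1 := h (f t) (by rw [orderOf_injective f hf, ht])
  let g : ↥(Subgroup.centralizer ({t} : Set H)) →* ↥(Subgroup.centralizer ({f t} : Set G)) :=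
    (f.comp (Subgroup.centralizer ({t} : Set H)).subtype).codRestrict _ (by
      rintro ⟨x, hx⟩
      rw [Subgroup.mem_centralizer_singleton_iff] at hx ⊢
      change f x * f t = f t * f x
      rw [← map_mul, hx, map_mul])
  refine Transfer.NormalPComplement.of_injective g ?_ h1
  intro a b hab
  apply Subtype.ext
  apply hf
  exact congrArg Subtype.val hab

/-- the Ree groups: `C(t) = 2 × L₂(q)` -/
theorem Good.not_ree {G : Type*} [Group G] [Finite G] (h : Good G) : ¬ Lie.IsoRee G := by
  rintro ⟨F, _, _, m, hm, hF, ⟨e⟩⟩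
  have h' : Good ↥(Lie.twistedG2 F (3 ^ m)) := h.congr e
  obtain ⟨a, haH, ha1, ha2⟩ := S1157.exists_involution hF
  obtain ⟨⟨f⟩, -⟩ := S1152.result hF a haH ha1 ha2
  have ha : orderOf a = 2 := orderOf_eq_prime (by rw [pow_two, ha2]) ha1
  haveI : Finite ↥(Lie.twistedG2 F (3 ^ m)) := Finite.of_equiv G e.toEquiv
  have h1 := h' a ha
  have h2 : HasNormalPComplement 2 (Matrix.ProjectiveSpecialLinearGroup (Fin 2) F) :=
    Transfer.NormalPComplement.of_injective
      (f.symm.toMonoidHom.comp (MonoidHom.inr (Multiplicative (ZMod 2)) (Matrix.ProjectiveSpecialLinearGroup (Fin 2) F)))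
      (f.symm.injective.comp (fun x y hxy => (Prod.ext_iff.1 hxy).2)) h1
  have hodd : Odd (Fintype.card F) := by
    rw [hF]; exact Odd.pow (by decide)
  have hmk := QuotientGroup.mk'_surjective (Subgroup.center (Matrix.SpecialLinearGroup (Fin 2) F))
  have hcl : closure {g : Matrix.ProjectiveSpecialLinearGroup (Fin 2) F | Odd (orderOf g)} = ⊤ := by
    rw [eq_top_iff]
    intro x _
    obtain ⟨y, rfl⟩ := hmk x
    have hy : y ∈ closure {g : Matrix.SpecialLinearGroup (Fin 2) F | Odd (orderOf g)} := by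
      rw [closure_odd_SL hodd]; trivial
    have h3 : (closure {g : Matrix.SpecialLinearGroup (Fin 2) F | Odd (orderOf g)}).map
        (QuotientGroup.mk' (Subgroup.center (Matrix.SpecialLinearGroup (Fin 2) F))) ≤
        closure {g : Matrix.ProjectiveSpecialLinearGroup (Fin 2) F | Odd (orderOf g)} := by
      rw [MonoidHom.map_closure]
      refine closure_mono ?_
      rintro _ ⟨g, hg, rfl⟩
      exact Odd.of_dvd_nat hg (orderOf_map_dvd _ g)
    exact h3 (Subgroup.mem_map_of_mem _ hy)
  have h4 : ∀ x : Matrix.ProjectiveSpecialLinearGroup (Fin 2) F, Odd (orderOf x) := by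
    intro x
    exact odd_of_npc h2 (by rw [hcl]; trivial)
  have h5 : 2 ∣ Nat.card (Matrix.ProjectiveSpecialLinearGroup (Fin 2) F) := by
    have h6 := ClassicalGeometry.PSL2Basic.card_PSL2_odd F hodd
    have h7 : 8 ∣ Fintype.card F ^ 2 - 1 := Nat.eight_dvd_sq_sub_one_of_odd hodd
    have h8 : 8 ∣ Nat.card (Matrix.ProjectiveSpecialLinearGroup (Fin 2) F) * 2 := by
      rw [h6]; exact Dvd.dvd.mul_left h7 _
    omega
  obtain ⟨x, hx⟩ := exists_prime_orderOf_dvd_card' 2 h5
  have := h4 x
  rw [hx] at this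
  exact (Nat.not_even_iff_odd.2 this) even_two

/-- the alternating group of degree 8: `C((01)(23))` contains `A₄` -/
theorem not_good_alt8 : ¬ Good (alternatingGroup (Fin 8)) := by
  intro h
  let t : alternatingGroup (Fin 8) := ⟨Equiv.swap 0 1 * Equiv.swap 2 3, Equiv.Perm.mem_alternatingGroup.2 (by decide +kernel)⟩
  let x : alternatingGroup (Fin 8) := ⟨Equiv.swap 4 5 * Equiv.swap 5 6, Equiv.Perm.mem_alternatingGroup.2 (by decide +kernel)⟩
  let v : alternatingGroup (Fin 8) := ⟨Equiv.swap 4 5 * Equiv.swap 6 7, Equiv.Perm.mem_alternatingGroup.2 (by decide +kernel)⟩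
  have ht : orderOf t = 2 := orderOf_eq_prime (by decide +kernel) (by decide +kernel)
  have hx : orderOf x = 3 := orderOf_eq_prime (by decide +kernel) (by decide +kernel)
  have h1 := h t ht
  have hxc : x ∈ Subgroup.centralizer ({t} : Set (alternatingGroup (Fin 8))) := by
    rw [Subgroup.mem_centralizer_singleton_iff]; decide +kernel
  have hvc : v ∈ Subgroup.centralizer ({t} : Set (alternatingGroup (Fin 8))) := by
    rw [Subgroup.mem_centralizer_singleton_iff]; decide +kernel
  -- `x * (v x⁻¹ v⁻¹)` has order 2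
  have hne : orderOf (v * x * v⁻¹ * x⁻¹) = 2 := orderOf_eq_prime (by decide +kernel) (by decide +kernel)
  have h2 : Odd (orderOf ((⟨v, hvc⟩ * ⟨x, hxc⟩ * ⟨v, hvc⟩⁻¹ * ⟨x, hxc⟩⁻¹ :
      ↥(Subgroup.centralizer ({t} : Set (alternatingGroup (Fin 8))))))) := by
    refine odd_of_npc h1 (mul_mem (subset_closure ?_) (subset_closure ?_))
    · change Odd (orderOf _)
      rw [← Subgroup.orderOf_coe]
      change Odd (orderOf (v * x * v⁻¹))
      rw [show orderOf (v * x * v⁻¹) = orderOf x from (MulAut.conj v).orderOf_eq x, hx]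
      decide
    · change Odd (orderOf _)
      rw [← Subgroup.orderOf_coe]
      change Odd (orderOf (x⁻¹))
      rw [orderOf_inv, hx]
      decide
  rw [← Subgroup.orderOf_coe] at h2
  change Odd (orderOf (v * x * v⁻¹ * x⁻¹)) at h2
  rw [hne] at h2
  exact (Nat.not_even_iff_odd.2 h2) even_two

theorem three_lt {G : Type*} [Group G] [Finite G] [IsSimpleGroup G] (hG : ¬ IsMulCommutative G)
    {F : Type} [Field F] [Fintype F] (e : G ≃* Matrix.ProjectiveSpecialLinearGroup (Fin 2) F) : 3 < Fintype.card F := by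
  by_contra hcon
  have h2 : 2 ≤ Fintype.card F := Fintype.one_lt_card
  have h1 := ClassicalGeometry.PSL2Basic.card_PSL2_gcd (F := F)
  rw [← Nat.card_congr e.toEquiv] at h1
  have hsol : Group.IsSolvable G := by
    have h3 : Fintype.card F = 2 ∨ Fintype.card F = 3 := by omega
    rcases h3 with h3 | h3
    · rw [h3] at h1
      have h4 : Nat.card G = 2 ^ 1 * 3 ^ 1 := by
        have : Nat.gcd 2 (2 - 1) = 1 := by decide
        rw [this] at h1
        omega
      exact S0144.result 2 3 1 1 Nat.prime_two Nat.prime_three h4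
    · rw [h3] at h1
      have h4 : Nat.card G = 2 ^ 2 * 3 ^ 1 := by
        have : Nat.gcd 2 (3 - 1) = 2 := by decide
        rw [this] at h1
        omega
      exact S0144.result 2 3 2 1 Nat.prime_two Nat.prime_three h4
  apply hG
  have := IsSimpleGroup.comm_iff_isSolvable.2 hsol
  exact ⟨⟨this⟩⟩

/-- the conclusion -/
def Concl (G : Type u) [Group G] : Prop :=
  (∃ (F : Type) (_ : Field F) (_ : Fintype F), 3 < Fintype.card F ∧
        Nonempty (G ≃* Matrix.ProjectiveSpecialLinearGroup (Fin 2) F)) ∨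
      Cfsg.Lie.IsoSuzuki G ∨ Nonempty (G ≃* ↥(alternatingGroup (Fin 7))) ∨
      (∃ (F : Type) (_ : Field F) (_ : Fintype F), Fintype.card F = 4 ∧
        Nonempty (G ≃* Matrix.ProjectiveSpecialLinearGroup (Fin 3) F))

/-- alternating groups -/
theorem concl_alt {G : Type u} [Group G] [Finite G] (h : Good G) {n : ℕ} (h5 : 5 ≤ n)
    (e : G ≃* ↥(alternatingGroup (Fin n))) : Concl G := by
  rcases Nat.lt_or_ge n 8 with h8 | h8
  · have h3 : n = 5 ∨ n = 6 ∨ n = 7 := by omega
    rcases h3 with rfl | rfl | rfl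
    · haveI : Fact (Nat.Prime 2) := ⟨Nat.prime_two⟩
      letI : Fintype (GaloisField 2 2) := Fintype.ofFinite _
      have hc : Fintype.card (GaloisField 2 2) = 4 := by
        rw [← Nat.card_eq_fintype_card, GaloisField.card 2 2 (by norm_num)]; norm_num
      obtain ⟨f⟩ := S0252.result (F := GaloisField 2 2) hc
      exact Or.inl ⟨GaloisField 2 2, inferInstance, inferInstance, by rw [hc]; norm_num, ⟨e.trans f.symm⟩⟩
    · haveI : Fact (Nat.Prime 3) := ⟨Nat.prime_three⟩
      letI : Fintype (GaloisField 3 2) := Fintype.ofFinite _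
      have hc : Fintype.card (GaloisField 3 2) = 9 := by
        rw [← Nat.card_eq_fintype_card, GaloisField.card 3 2 (by norm_num)]; norm_num
      obtain ⟨f⟩ := S0254.result (F := GaloisField 3 2) hc
      exact Or.inl ⟨GaloisField 3 2, inferInstance, inferInstance, by rw [hc]; norm_num, ⟨e.trans f.symm⟩⟩
    · exact Or.inr (Or.inr (Or.inl ⟨e⟩))
  · exfalso
    obtain ⟨f, hf⟩ := SylowL.Compare.exists_alt_hom h8
    exact not_good_alt8 ((h.congr e).of_injective f hf)

theorem main {G : Type u} [Group G] [Finite G] [IsSimpleGroup G] (hG : ¬ IsMulCommutative G) (h : Good G) :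
    Concl G := by
  have hne : ∃ a b : G, a * b ≠ b * a := by
    by_contra hcon
    push Not at hcon
    exact hG ⟨⟨hcon⟩⟩
  by_cases hcore : ∀ t : G, orderOf t = 2 → centralizerPPrimeCore 2 t = ⊥
  · -- all the centralizers of involutions are 2-groups
    have hcit : ∀ t : G, orderOf t = 2 → IsPGroup 2 (Subgroup.centralizer ({t} : Set G)) := by
      intro t ht
      obtain ⟨N, hN, hc, hp⟩ := Transfer.NormalPComplement.hasNormalPComplement_iff.1 (h t ht)
      have h1 : pPrimeCore 2 ↥(Subgroup.centralizer ({t} : Set G)) = ⊥ := by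
        have h2 := hcore t ht
        unfold centralizerPPrimeCore at h2
        exact (Subgroup.map_eq_bot_iff_of_injective _ (Subgroup.subtype_injective _)).1 h2
      have h3 : N = ⊥ := le_bot_iff.1 (h1 ▸ le_sSup ⟨hN, hc⟩)
      intro x
      obtain ⟨k, hk⟩ := hp (QuotientGroup.mk x)
      refine ⟨k, ?_⟩
      rw [← QuotientGroup.mk_pow, QuotientGroup.eq_one_iff, h3, Subgroup.mem_bot] at hk
      exact hk
    rcases S0348.result hne hcit with ⟨F, i1, i2, -, ⟨e⟩⟩ | h1 | h1
    · exact Or.inl ⟨F, i1, i2, three_lt hG e, ⟨e⟩⟩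
    · exact Or.inr (Or.inr (Or.inr h1))
    · refine Or.inr (Or.inl (ThreePrime.Main.isoSuzuki hne ?_))
      obtain ⟨-, m, -, hm⟩ := h1
      rw [hm]
      intro h3
      have h4 : (2 ^ (2 * m + 1)) % 3 = 2 := by
        rw [pow_succ, pow_mul, Nat.mul_mod, Nat.pow_mod]
        norm_num
      obtain ⟨a, ha⟩ : ∃ a, 2 ^ (2 * m + 1) = 3 * a + 2 := ⟨2 ^ (2 * m + 1) / 3, by omega⟩
      rw [ha] at h3
      have h5 : (3 * a + 2) ^ 2 * ((3 * a + 2) ^ 2 + 1) * (3 * a + 2 - 1) % 3 ≠ 0 := by
        have h6 : 3 * a + 2 - 1 = 3 * a + 1 := by omega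
        rw [h6]
        simp [Nat.mul_mod, Nat.pow_mod, Nat.add_mod]
      exact h5 (Nat.mod_eq_zero_of_dvd h3)
  · push Not at hcore
    obtain ⟨t, ht, hcore⟩ := hcore
    have htop := GH.AltOut.fstar_eq_top hG
    have e0 : ↥(generalizedFittingSubgroup G) ≃* G :=
      (MulEquiv.subgroupCongr htop).trans Subgroup.topEquiv
    have hs : IsSimpleGroup ↥(generalizedFittingSubgroup G) := by
      haveI : Nontrivial ↥(generalizedFittingSubgroup G) := e0.toEquiv.nontrivial
      exact IsSimpleGroup.isSimpleGroup_of_surjective e0.symm.toMonoidHom e0.symm.surjective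
    have hna : ¬ IsMulCommutative ↥(generalizedFittingSubgroup G) := by
      intro h1
      apply hG
      refine ⟨⟨fun a b => ?_⟩⟩
      have h2 := mul_comm' (e0.symm a) (e0.symm b)
      rw [← map_mul, ← map_mul] at h2
      exact e0.symm.injective h2
    rcases S1311.result hs hna t ht hcore with h1 | ⟨n, hn, hn7, ⟨e⟩⟩ | ⟨F, i1, i2, hF, ⟨e⟩⟩ | h1
    · obtain ⟨p, hp, hp2, hL⟩ := h1
      have hL' : OddHalf.Iface.LieOdd G := ⟨p, hp, hp2, OddHalf.Known.isLieTypeChar_congr e0 hL⟩
      by_cases ha : IsAlternating G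
      · obtain ⟨n, h5, ⟨e⟩⟩ := ha
        exact concl_alt h h5 e
      · rcases lieOdd_cases hL' ha with h1 | h1 | h1 | ⟨q, hq, h1⟩
        · obtain ⟨F, i1, i2, hF, he⟩ := h1
          exact Or.inl ⟨F, i1, i2, by rw [hF]; norm_num, he⟩
        · obtain ⟨F, i1, i2, -, hF, he⟩ := h1
          exact Or.inl ⟨F, i1, i2, by omega, he⟩
        · exact absurd h1 h.not_ree
        · exact absurd (hasLong_of_rk hq h1) h.not_long
    · exact concl_alt h (by omega) (e0.symm.trans e)
    · exact Or.inr (Or.inr (Or.inr ⟨F, i1, i2, hF, ⟨e0.symm.trans e⟩⟩))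
    · exfalso
      obtain ⟨e⟩ := h1
      have h2 : Spor.IsoHe G := ⟨e0.symm.trans e⟩
      exact hcore ((CTwoTab.He.compC2_of_iso h2).bal t ht)

/-- Let G be a finite non-abelian simple group in which the centralizer of every involution has a normal 2-complement. Then G is isomorphic to PSL₂(q) for some prime power q > 3, to a Suzuki group Sz(2ⁿ) with n ≥ 3 odd, to the alternating group A₇, or to PSL₃(4). -/
theorem result {G : Type*} [Group G] [Finite G] [IsSimpleGroup G]
    (hG : ¬ IsMulCommutative G)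
    (hI : ∀ t : G, orderOf t = 2 → Cfsg.HasNormalPComplement 2 ↥(Subgroup.centralizer ({t} : Set G))) :
    (∃ (F : Type) (_ : Field F) (_ : Fintype F), 3 < Fintype.card F ∧
        Nonempty (G ≃* Matrix.ProjectiveSpecialLinearGroup (Fin 2) F)) ∨
      Cfsg.Lie.IsoSuzuki G ∨ Nonempty (G ≃* ↥(alternatingGroup (Fin 7))) ∨
      (∃ (F : Type) (_ : Field F) (_ : Fintype F), Fintype.card F = 4 ∧
        Nonempty (G ≃* Matrix.ProjectiveSpecialLinearGroup (Fin 3) F)) :=
  main hG hI

end Cfsg.Agent.S3214
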