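import Cfsg.Statements.S5535
import Cfsg.Agent.H849.FiModel
import Cfsg.Agent.KFacts.FiTF.FrameF
import Cfsg.Agent.MonsterP.Equiv
import Cfsg.Agent.R08.FiTwentyFour

set_option autoImplicit false
open Cfsg

namespace Cfsg.Agent.S5535

/-- The Monster (realised inside the presented Bimonster) has a subgroup X of order 3 whose normalizer N satisfies: N/X is isomorphic to the Fischer group Fi₂₄ (the full 3-transposition group presented in the definitions, whose commutator subgroup of index 2 is the simple group Fi₂₄′), and X has no complement in N. -/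
theorem result : ∃ (X N : Subgroup Cfsg.Spor.Monster), Nat.card ↥X = 3 ∧ N = Subgroup.normalizer (X : Set Cfsg.Spor.Monster) ∧ (∃ _ : (X.subgroupOf N).Normal, Nonempty (↥N ⧸ X.subgroupOf N ≃* Cfsg.Spor.Fi24)) ∧ ∀ L : Subgroup ↥N, ¬ (X.subgroupOf N).IsComplement' L := by
  obtain ⟨x, t, π, D⟩ := Cfsg.Agent.H849.FiModel.exists_data
  obtain ⟨e⟩ := Cfsg.Agent.MonsterP.Equiv.equiv
  obtain ⟨π', D'⟩ := D.exists_map e.symm
  have : Finite ↥Cfsg.Agent.MonsterX.InstData.M.G := Cfsg.Agent.LThreeMB.Row.finite_model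
  have : Finite Cfsg.Spor.Monster := Finite.of_equiv _ e.symm.toEquiv
  have : Finite Cfsg.Spor.Fi24 := Cfsg.Agent.R08.FiTwentyFour.finite_Fi24
  have hs : IsSimpleGroup ↥(_root_.commutator Cfsg.Spor.Fi24) := Cfsg.Agent.R08.FiTwentyFour.isFi24'.1
  refine D'.main Cfsg.Agent.R08.FiTwentyFour.index_commutator ?_ Cfsg.Agent.KFacts.FiTF.exists_conj
  have hc : Nat.card ↥(_root_.commutator Cfsg.Spor.Fi24) = 1255205709190661721292800 :=
    Cfsg.Agent.R08.FiTwentyFour.card_commutator
  rcases (inferInstance : (Subgroup.center ↥(_root_.commutator Cfsg.Spor.Fi24)).Normal).eq_bot_or_eq_top with h | h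
  · exact h
  · exfalso
    have h1 : ∀ a b : ↥(_root_.commutator Cfsg.Spor.Fi24), a * b = b * a := fun a b => by
      have : b ∈ Subgroup.center ↥(_root_.commutator Cfsg.Spor.Fi24) := by rw [h]; trivial
      exact Subgroup.mem_center_iff.1 this a
    letI : CommGroup ↥(_root_.commutator Cfsg.Spor.Fi24) := { (inferInstance : Group _) with mul_comm := h1 }
    have h2 : IsSimpleGroup ↥(_root_.commutator Cfsg.Spor.Fi24) := hs
    have h3 : (Nat.card ↥(_root_.commutator Cfsg.Spor.Fi24)).Prime := IsSimpleGroup.prime_card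
    rw [hc] at h3
    revert h3
    norm_num

end Cfsg.Agent.S5535
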