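import Cfsg.Statements.S4458
import Cfsg.Agent.S4456
import Cfsg.Agent.H597.Taketa
import Cfsg.Agent.H597.Degrees

set_option autoImplicit false
open Cfsg

namespace Cfsg.Agent.S4458

open Cfsg.Agent.H597.Base Cfsg.Agent.H597.Degrees
open Cfsg.Agent.Characters.Core
open Subgroup

/-- If all nonlinear irreducible characters of `G` have the same degree `m`, there is an abelian
normal subgroup with nilpotent quotient. -/
theorem exists_abelian_nilpotent {G : Type*} [Group G] [Finite G] (m : ℕ)
    (hcd : ∀ χ : IrrCharacter G, charDegree (χ : G → ℂ) = 1 ∨ charDegree (χ : G → ℂ) = m)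
    (hm : 1 < m) :
    ∃ (N : Subgroup G) (_ : N.Normal), (∀ a ∈ N, ∀ b ∈ N, a * b = b * a) ∧
      Group.IsNilpotent (G ⧸ N) := by
  classical
  have := Fintype.ofFinite G
  obtain ⟨N, hN, h1, h2, -⟩ := exists_inter_complements (G := G) m.primeFactors
    (fun p hp => Nat.prime_of_mem_primeFactors hp) (fun p hp => by
      apply S4456.result p (Nat.prime_of_mem_primeFactors hp)
      intro χ hχ
      rcases hcd χ with h | h
      · exact absurd h hχ
      · rw [h]; exact Nat.dvd_of_mem_primeFactors hp)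
  refine ⟨N, hN, ?_, h2⟩
  have := Fintype.ofFinite N
  have hcop : Nat.Coprime m (Nat.card N) := by
    apply Nat.coprime_of_dvd
    intro p hp hpm hpN
    have := h1 p (Nat.mem_primeFactors.2 ⟨hp, hpm, by omega⟩)
    rw [Nat.coprime_comm, hp.coprime_iff_not_dvd] at this
    exact this hpN
  have hab := comm_of_forall_one (G := N) (fun θ hθ => by
    obtain ⟨χ, hχ, hne⟩ := CharDeep.PowerDegrees.exists_irr_over N hθ
    obtain ⟨c, hc, -⟩ := degree_over N hχ hθ hne
    rcases hcd ⟨χ, hχ⟩ with h | h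
    · have h' : charDegree χ = 1 := h
      rw [h'] at hc
      exact Nat.dvd_one.1 ⟨c, hc⟩
    · have h' : charDegree χ = m := h
      rw [h'] at hc
      exact Nat.dvd_one.1 (hcop ▸ Nat.dvd_gcd ⟨c, hc⟩ (charDegree_dvd_card hθ)))
  intro a ha b hb
  exact congrArg Subtype.val (hab ⟨a, ha⟩ ⟨b, hb⟩)

/-- If a finite group has exactly two irreducible character degrees, 1 and m with m ≠ 1, then its commutator subgroup is abelian. -/
theorem result {G : Type*} [Group G] [Finite G] (m : ℕ) (hcd : ∀ χ : Cfsg.IrrCharacter G, Cfsg.charDegree (χ : G → ℂ) = 1 ∨ Cfsg.charDegree (χ : G → ℂ) = m) (hm : ∃ χ : Cfsg.IrrCharacter G, Cfsg.charDegree (χ : G → ℂ) = m) (hm1 : m ≠ 1) : ∀ a ∈ commutator G, ∀ b ∈ commutator G, a * b = b * a := by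
  classical
  have := Fintype.ofFinite G
  obtain ⟨χ₀, h₀⟩ := hm
  have hpos := Blocks.Basic.charDegree_pos χ₀.2
  have hm2 : 1 < m := by omega
  obtain ⟨N, hN, hab, hnil⟩ := exists_abelian_nilpotent m hcd hm2
  have h2 : derivedSeries G 2 = ⊥ := by
    apply H597.Taketa.derivedSeries_eq_bot
    · intro χ hχ
      obtain ⟨H, f, -, hf⟩ := H597.Taketa.exists_linear_of_abelian_nilpotent N hab hnil hχ
      exact ⟨H, f, hf⟩
    · have hsub : {n : ℕ | ∃ χ : IrrCharacter G, charDegree (χ : G → ℂ) = n} ⊆ {1, m} := by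
        rintro _ ⟨χ, rfl⟩
        exact hcd χ
      have h3 := Set.ncard_le_ncard hsub (Set.toFinite _)
      exact h3.trans ((Set.ncard_insert_le _ _).trans (by rw [Set.ncard_singleton]))
  intro a ha b hb
  have h3 : a * b * a⁻¹ * b⁻¹ ∈ derivedSeries G 2 := by
    rw [derivedSeries_succ, derivedSeries_one]
    exact commutator_mem_commutator ha hb
  rw [h2, mem_bot] at h3
  have h4 : a * b = b * a := by
    have h5 : a * b * a⁻¹ = b := mul_inv_eq_one.1 h3
    calc a * b = (a * b * a⁻¹) * a := by group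
      _ = b * a := by rw [h5]
  exact h4

end Cfsg.Agent.S4458
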