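import Cfsg.Statements.S4888
import Cfsg.Agent.S4455
import Cfsg.Agent.S4456
import Cfsg.Agent.S4491
import Cfsg.Agent.S0939
import Cfsg.Agent.S0966
import Cfsg.Agent.Transfer.NormalPComplement
import Cfsg.Agent.Blocks.PrincipalSection
import Cfsg.Agent.Blocks.Fong

/-!
# Equal height zero degrees in the principal block (Isaacs–Smith)

`N = O^p(G)`. The sum of the squares of the degrees over the principal block of `N` is congruent
modulo `p` to the sum over the `G`-invariant members of degree prime to `p`. These extend to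
members of the principal block of `G`, so they are linear; they form a group of order prime to `p`.
-/

set_option autoImplicit false
open Cfsg

namespace Cfsg.Agent.S4888

open Cfsg.Agent.Characters.Core Cfsg.Agent.Characters.Linear
open Cfsg.Agent.CharactersDeep.ExtUnique
open Cfsg.Agent.Blocks Cfsg.Agent.Blocks.Basic Cfsg.Agent.Blocks.Local

/-- In the principal block the height is the exponent of `p` in the degree. -/
theorem blockHeight_principal {G : Type*} [Group G] (p : ℕ) {M : Ideal AlgInt}
    (hM : IsPModular p M) (χ : G → ℂ) :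
    blockHeight p (principalBlock M G) χ = (charDegree χ).factorization p := by
  have := isPrime_of_isPModular hM
  rw [blockHeight_def]
  have h : sInf ((fun ψ : IrrCharacter G => (charDegree (ψ : G → ℂ)).factorization p) ''
      principalBlock M G) = 0 := by
    rw [Nat.sInf_eq_zero]
    left
    refine ⟨⟨fun _ => 1, isIrrCharacter_one⟩, PrincipalSection.one_mem_principalBlock, ?_⟩
    show (charDegree (fun _ : G => (1 : ℂ))).factorization p = 0
    rw [charDegree_of_eq (n := 1) (by simp)]
    simp
  rw [h, Nat.sub_zero]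

theorem factorization_eq_zero_iff' {p n : ℕ} (hp : p.Prime) (hn : 0 < n) :
    n.factorization p = 0 ↔ ¬ p ∣ n := by
  rw [Nat.factorization_eq_zero_iff]
  constructor
  · rintro (h | h | h)
    · exact absurd hp h
    · exact h
    · exact absurd h hn.ne'
  · intro h
    exact Or.inr (Or.inl h)

/-- The defect of the principal block. -/
theorem blockDefect_principal {G : Type*} [Group G] (p : ℕ) {M : Ideal AlgInt}
    (hM : IsPModular p M) :
    blockDefect p (principalBlock M G) = (Nat.card G).factorization p := by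
  have := isPrime_of_isPModular hM
  rw [blockDefect_def]
  have h : sInf ((fun ψ : IrrCharacter G => (charDegree (ψ : G → ℂ)).factorization p) ''
      principalBlock M G) = 0 := by
    rw [Nat.sInf_eq_zero]
    left
    refine ⟨⟨fun _ => 1, isIrrCharacter_one⟩, PrincipalSection.one_mem_principalBlock, ?_⟩
    show (charDegree (fun _ : G => (1 : ℂ))).factorization p = 0
    rw [charDegree_of_eq (n := 1) (by simp)]
    simp
  rw [h, Nat.sub_zero]

theorem isIntegral_hom {H : Type*} [Group H] [Finite H] (f : H →* ℂˣ) (h : H) :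
    IsIntegral ℤ ((f h : ℂˣ) : ℂ) := by
  refine IsIntegral.of_pow (n := Nat.card H) Nat.card_pos ?_
  have h1 : ((f h : ℂˣ) : ℂ) ^ Nat.card H = 1 := by
    rw [← Units.val_pow_eq_pow_val, ← map_pow, pow_card_eq_one', map_one, Units.val_one]
  rw [h1]
  exact isIntegral_one

theorem memLocalIdeal_hom {H : Type*} [Group H] {M : Ideal AlgInt} {f : H →* ℂˣ}
    (hf : SameBlock M (fun _ : H => (1 : ℂ)) (fun h => (f h : ℂ))) (h : H) :
    MemLocalIdeal M (((Subgroup.centralizer ({h} : Set H)).index : ℂ) * (1 - (f h : ℂ))) := by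
  have h1 := hf h
  rw [centralChar_def, centralChar_def] at h1
  simp only [map_one, Units.val_one, div_one, mul_one] at h1
  rwa [mul_sub, mul_one]

theorem sameBlock_hom {H : Type*} [Group H] {M : Ideal AlgInt} {f : H →* ℂˣ}
    (hf : ∀ h : H, MemLocalIdeal M
      (((Subgroup.centralizer ({h} : Set H)).index : ℂ) * (1 - (f h : ℂ)))) :
    SameBlock M (fun _ : H => (1 : ℂ)) (fun h => (f h : ℂ)) := by
  intro h
  have h1 := hf h
  rw [centralChar_def, centralChar_def]
  simp only [map_one, Units.val_one, div_one, mul_one]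
  rwa [mul_sub, mul_one] at h1

/-- The linear characters in the principal block, as a subgroup. -/
def linB (H : Type*) [Group H] [Finite H] (M : Ideal AlgInt) [M.IsPrime] :
    Subgroup (H →* ℂˣ) where
  carrier := {f | SameBlock M (fun _ : H => (1 : ℂ)) (fun h => (f h : ℂ))}
  one_mem' := by
    show SameBlock M (fun _ : H => (1 : ℂ)) (fun h => (((1 : H →* ℂˣ) h : ℂˣ) : ℂ))
    simpa using sameBlock_refl (M := M) (fun _ : H => (1 : ℂ))
  mul_mem' := by
    intro a b ha hb
    refine sameBlock_hom fun g => ?_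
    have h1 := memLocalIdeal_hom ha g
    have h2 := memLocalIdeal_hom hb g
    have h3 := memLocalIdeal_add (memLocalIdeal_mul_right h1
      (memLocalRing_of_isIntegral (isIntegral_hom b g))) h2
    convert h3 using 1
    rw [MonoidHom.mul_apply, Units.val_mul]
    ring
  inv_mem' := by
    intro a ha
    refine sameBlock_hom fun g => ?_
    have h1 := memLocalIdeal_hom ha g
    have h3 := memLocalIdeal_neg (memLocalIdeal_mul_right h1
      (memLocalRing_of_isIntegral (isIntegral_hom a⁻¹ g)))
    convert h3 using 1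
    have h4 : ((a g : ℂˣ) : ℂ) * ((a⁻¹ g : ℂˣ) : ℂ) = 1 := by
      rw [← Units.val_mul, ← MonoidHom.mul_apply, mul_inv_cancel, MonoidHom.one_apply,
        Units.val_one]
    linear_combination (-((Subgroup.centralizer ({g} : Set H)).index : ℂ)) * h4

/-- A function composed with a conjugation in the principal block. -/
theorem sameBlock_comp_equiv {H : Type*} [Group H] {M : Ideal AlgInt} (e : H ≃* H) {θ : H → ℂ}
    (h : SameBlock M (fun _ : H => (1 : ℂ)) θ) : SameBlock M (fun _ : H => (1 : ℂ)) (θ ∘ e) := by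
  intro g
  have h1 := h (e g)
  have h2 : centralChar (θ ∘ e) g = centralChar θ (e g) := Fong.centralChar_comp_equiv e θ g
  have h3 : centralChar (fun _ : H => (1 : ℂ)) g = centralChar (fun _ : H => (1 : ℂ)) (e g) :=
    Fong.centralChar_comp_equiv e (fun _ => (1 : ℂ)) g
  rw [h2, h3]
  exact h1

/-- The linear characters of the normal subgroup `N` in its principal block that are invariant. -/
def linInv {G : Type*} [Group G] (N : Subgroup G) [hN : N.Normal] [Finite N] (M : Ideal AlgInt)
    [M.IsPrime] : Subgroup (N →* ℂˣ) where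
  carrier := {f | f ∈ linB N M ∧ ∀ (g : G) (n : N), f ⟨g * n * g⁻¹, hN.conj_mem (n : G) n.2 g⟩ = f n}
  one_mem' := ⟨one_mem _, fun g n => rfl⟩
  mul_mem' := fun {a b} ha hb => ⟨mul_mem ha.1 hb.1, fun g n => by
    rw [MonoidHom.mul_apply, MonoidHom.mul_apply, ha.2, hb.2]⟩
  inv_mem' := fun {a} ha => ⟨inv_mem ha.1, fun g n => by
    rw [MonoidHom.inv_apply, MonoidHom.inv_apply, ha.2]⟩

theorem not_dvd_card {G : Type*} [Group G] [Finite G] (p : ℕ) [hp : Fact p.Prime]
    (M : Ideal AlgInt) (hM : IsPModular p M)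
    (h : ∀ χ : IrrCharacter G, χ ∈ principalBlock M G → ¬ p ∣ charDegree (χ : G → ℂ) →
      charDegree (χ : G → ℂ) = 1) : ¬ p ∣ Nat.card (pResidual p G) := by
  classical
  have := isPrime_of_isPModular hM
  have := Fintype.ofFinite G
  have hNn : (Cfsg.pResidual p G).Normal := Transfer.Residual.pResidual_normal p
  obtain ⟨k, hk⟩ := Transfer.Residual.exists_index_pResidual_eq_pow (G := G) p
  have hNN := S4455.pResidual_pResidual (G := G) p
  set N : Subgroup G := Cfsg.pResidual p G with hN
  have := Fintype.ofFinite N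
  have := finite_irr (G := G)
  have := finite_irr (G := N)
  have := Fintype.ofFinite (IrrCharacter G)
  have := Fintype.ofFinite (IrrCharacter N)
  have := S4456.finite_hom N
  -- determinantal orders of characters of `N` are prime to `p`
  have hdet : ∀ θ : IrrCharacter N, ¬ p ∣ detOrder (θ : N → ℂ) := by
    intro θ
    obtain ⟨δ, hδ⟩ := exists_hom_detChar θ.2
    obtain ⟨m, hm, hm'⟩ := S4455.orderOf_hom_coprime p hNN δ
    have h1 : detOrder (θ : N → ℂ) ∣ m := by
      show orderOf (detChar (θ : N → ℂ)) ∣ m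
      rw [orderOf_dvd_iff_pow_eq_one]
      funext n
      rw [Pi.pow_apply, hδ, Pi.one_apply, ← Units.val_pow_eq_pow_val, hm', Units.val_one]
    exact fun h => hm (h.trans h1)
  have hpk : ∀ m : ℕ, ¬ p ∣ m → Nat.Coprime N.index m := fun m hm => by
    rw [hk]; exact Nat.Coprime.pow_left k ((hp.out.coprime_iff_not_dvd).2 hm)
  set b : Set (IrrCharacter N) := principalBlock M N with hb
  -- invariant members of degree prime to `p` are linear
  have hlin : ∀ θ ∈ b, (∀ (g : G) (n : N),
      (θ : N → ℂ) ⟨g * n * g⁻¹, hNn.conj_mem (n : G) n.2 g⟩ = (θ : N → ℂ) n) →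
      ¬ p ∣ charDegree (θ : N → ℂ) → charDegree (θ : N → ℂ) = 1 := by
    intro θ hθ hinv hdeg
    obtain ⟨ξ, ⟨h1, h2, h3⟩, -⟩ := S0867.result N (θ : N → ℂ) θ.2 hinv
        (charDegree (θ : N → ℂ)) (irr_one_eq_charDegree θ.2)
        (Nat.Coprime.mul_right (hpk _ (hdet _)) (hpk _ hdeg))
    have hd : charDegree ξ = charDegree (θ : N → ℂ) := by
      apply charDegree_of_eq
      rw [← irr_one_eq_charDegree θ.2]; exact h2 1
    have hmem : (⟨ξ, h1⟩ : IrrCharacter G) ∈ principalBlock M G := by
      obtain ⟨B, -, hB⟩ := S0966.result p M hM N ⟨k, hk⟩ b PrincipalSection.isPBlock_principalBlock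
      have e1 : blockOf M ξ = B := by
        refine hB _ ⟨isPBlock_blockOf ⟨ξ, h1⟩, ⟨ξ, h1⟩, mem_blockOf_self ⟨ξ, h1⟩, θ, hθ, ?_⟩
        have : (fun n : N => ξ n) = (θ : N → ℂ) := funext h2
        show classInner (fun n : N => ξ n) (θ : N → ℂ) ≠ 0
        rw [this, classInner_irr_self θ.2]
        exact one_ne_zero
      have e2 : principalBlock M G = B := by
        refine hB _ ⟨PrincipalSection.isPBlock_principalBlock, ⟨fun _ => 1, isIrrCharacter_one⟩,
          PrincipalSection.one_mem_principalBlock, ⟨fun _ => 1, isIrrCharacter_one⟩,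
          PrincipalSection.one_mem_principalBlock, ?_⟩
        show classInner (fun n : N => (1 : ℂ)) (fun _ : N => (1 : ℂ)) ≠ 0
        rw [classInner_irr_self isIrrCharacter_one]
        exact one_ne_zero
      rw [e2, ← e1]
      exact mem_blockOf_self ⟨ξ, h1⟩
    have := h ⟨ξ, h1⟩ hmem (by show ¬ p ∣ charDegree ξ; rw [hd]; exact hdeg)
    rw [← hd]
    exact this
  -- the invariant members of degree prime to `p`
  let A : Set (IrrCharacter N) := {θ | θ ∈ b ∧ (∀ (g : G) (n : N),
    (θ : N → ℂ) ⟨g * n * g⁻¹, hNn.conj_mem (n : G) n.2 g⟩ = (θ : N → ℂ) n) ∧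
    ¬ p ∣ charDegree (θ : N → ℂ)}
  have hdeg1 : ∀ f : N →* ℂˣ, charDegree (fun g => (f g : ℂ)) = 1 := fun f =>
    charDegree_of_eq (by simp)
  have hA : A.ncard = Nat.card (linInv N M) := by
    rw [← Nat.card_coe_set_eq]
    refine (Nat.card_congr (Equiv.ofBijective
      (fun f : linInv N M => (⟨⟨fun g => (f.1 g : ℂ), isIrrCharacter_hom f.1⟩, ?_, ?_, ?_⟩ : A))
      ⟨?_, ?_⟩)).symm
    · exact f.2.1
    · intro g n
      show ((f.1 _ : ℂˣ) : ℂ) = ((f.1 _ : ℂˣ) : ℂ)
      rw [f.2.2 g n]
    · show ¬ p ∣ charDegree (fun g => (f.1 g : ℂ))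
      rw [hdeg1]; exact hp.out.not_dvd_one
    · intro f f' hff
      apply Subtype.ext
      ext g
      exact congrFun (congrArg (fun x : A => ((x : IrrCharacter N) : N → ℂ)) hff) g
    · rintro ⟨χ, hχ⟩
      have hd1 : charDegree (χ : N → ℂ) = 1 := hlin χ hχ.1 hχ.2.1 hχ.2.2
      obtain ⟨f, hf⟩ := exists_hom_of_isIrrCharacter χ.2
        (by rw [irr_one_eq_charDegree χ.2, hd1, Nat.cast_one])
      have hf' : (fun g => ((f g : ℂˣ) : ℂ)) = (χ : N → ℂ) := hf.symm
      refine ⟨⟨f, ?_, ?_⟩, ?_⟩
      · show SameBlock M (fun _ : N => (1 : ℂ)) (fun h => (f h : ℂ))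
        rw [hf']
        exact hχ.1
      · intro g n
        have h1 := hχ.2.1 g n
        rw [← hf'] at h1
        exact Units.ext h1
      · apply Subtype.ext
        apply Subtype.ext
        exact hf'
  have hndvd : ¬ p ∣ Nat.card (linInv N M) := by
    intro hdvd
    obtain ⟨f, hf⟩ := exists_prime_orderOf_dvd_card' p hdvd
    obtain ⟨m, hm, hm'⟩ := S4455.orderOf_hom_coprime p hNN (f : N →* ℂˣ)
    rw [← Subgroup.orderOf_coe] at hf
    apply hm
    rw [← hf, orderOf_dvd_iff_pow_eq_one]
    ext n
    rw [MonoidHom.pow_apply, hm']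
    rfl
  -- counting
  let P : Sylow p G := default
  let act : MulAction G (IrrCharacter N) := S4455.conjAction N
  have hact : ∀ (g : G) (θ : IrrCharacter N), ((g • θ : IrrCharacter N) : N → ℂ) =
    (θ : N → ℂ) ∘ (MulAut.conjNormal g⁻¹ : MulAut N) := fun g θ => rfl
  have hfix : ∀ θ : IrrCharacter N, (∀ g : (P : Subgroup G), g • θ = θ) ↔ (∀ (g : G) (n : N),
    (θ : N → ℂ) ⟨g * n * g⁻¹, hNn.conj_mem (n : G) n.2 g⟩ = (θ : N → ℂ) n) := by
    intro θ
    constructor
    · intro h
      have hst : MulAction.stabilizer G θ = ⊤ := by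
        rw [eq_top_iff, ← Transfer.Residual.pResidual_sup_sylow P, sup_le_iff]
        constructor
        · intro x hx
          rw [MulAction.mem_stabilizer_iff]
          apply Subtype.ext
          funext n
          rw [hact, Function.comp_apply]
          have h1 := isIrr_isClassFunction θ.2 n ⟨x, hx⟩⁻¹
          rw [← h1]
          congr 1
        · intro x hx
          exact h ⟨x, hx⟩
      intro g n
      have h1 : g⁻¹ ∈ MulAction.stabilizer G θ := hst ▸ Subgroup.mem_top _
      rw [MulAction.mem_stabilizer_iff] at h1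
      have h2 := congrFun (congrArg Subtype.val h1) n
      rw [hact, inv_inv] at h2
      exact h2
    · intro h g
      apply Subtype.ext
      funext n
      exact h (g⁻¹ : G) n
  have hstab : ∀ (g : G) (θ : IrrCharacter N), θ ∈ b → g • θ ∈ b := by
    intro g θ hθ
    exact sameBlock_comp_equiv (MulAut.conjNormal g⁻¹ : MulAut N) hθ
  have hstab' : ∀ (g : G) (θ : IrrCharacter N), g • θ ∈ b ↔ θ ∈ b := by
    intro g θ
    refine ⟨fun h => ?_, hstab g θ⟩
    have := hstab g⁻¹ _ h
    rwa [inv_smul_smul] at this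
  let w : IrrCharacter N → ℕ := fun θ => if θ ∈ b then charDegree (θ : N → ℂ) ^ 2 else 0
  have hw := H596.sum_modEq_sum_fixed P.isPGroup' (α := IrrCharacter N) w (fun g θ => by
      have h1 : ((g • θ : IrrCharacter N) : N → ℂ) 1 = (θ : N → ℂ) 1 := by
        show (θ : N → ℂ) (MulAut.conjNormal (g : G)⁻¹ 1) = _
        rw [map_one]
      have h2 : charDegree ((g • θ : IrrCharacter N) : N → ℂ) = charDegree (θ : N → ℂ) :=
        charDegree_of_eq (n := charDegree (θ : N → ℂ)) (by rw [h1, irr_one_eq_charDegree θ.2])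
      have h3 : (g • θ ∈ b) ↔ θ ∈ b := hstab' (g : G) θ
      show (if g • θ ∈ b then charDegree ((g • θ : IrrCharacter N) : N → ℂ) ^ 2 else 0) = _
      rw [h2]
      simp only [h3, w])
  have hsum : (∑ᶠ χ ∈ b, charDegree (χ : N → ℂ) ^ 2) = ∑ θ : IrrCharacter N, w θ := by
    rw [finsum_mem_eq_finite_toFinset_sum _ (Set.toFinite b), ← Finset.sum_filter]
    refine Finset.sum_congr ?_ fun _ _ => rfl
    ext θ
    simp
  let F : Finset (IrrCharacter N) :=
    Finset.univ.filter (fun θ : IrrCharacter N => ∀ g : (P : Subgroup G), g • θ = θ)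
  have hw1 : ∑ θ : IrrCharacter N, w θ ≡ ∑ θ ∈ F, w θ [MOD p] := by
    convert hw using 2
    ext θ
    simp only [F, Finset.mem_filter]
  have e3 := Finset.sum_filter_add_sum_filter_not F
    (fun θ : IrrCharacter N => θ ∈ b ∧ ¬ p ∣ charDegree (θ : N → ℂ)) w
  have e4 : ∑ θ ∈ F.filter (fun θ : IrrCharacter N => ¬ (θ ∈ b ∧ ¬ p ∣ charDegree (θ : N → ℂ))),
      w θ ≡ 0 [MOD p] := by
    rw [Nat.modEq_zero_iff_dvd]
    refine Finset.dvd_sum fun θ hθ => ?_
    rw [Finset.mem_filter, not_and, not_not] at hθ
    by_cases hb' : θ ∈ b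
    · simp only [w, if_pos hb']
      exact dvd_pow (hθ.2 hb') two_ne_zero
    · simp only [w, if_neg hb']
      exact dvd_zero p
  have e5 : ∑ θ ∈ F.filter (fun θ : IrrCharacter N => θ ∈ b ∧ ¬ p ∣ charDegree (θ : N → ℂ)), w θ
      = Nat.card (linInv N M) := by
    rw [← hA, Set.ncard_eq_toFinset_card _ (Set.toFinite A), Finset.card_eq_sum_ones]
    have : F.filter (fun θ : IrrCharacter N => θ ∈ b ∧ ¬ p ∣ charDegree (θ : N → ℂ)) =
        (Set.toFinite A).toFinset := by
      ext θ
      simp only [Set.Finite.mem_toFinset, Finset.mem_filter, Finset.mem_univ, true_and, hfix, F, A,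
        Set.mem_ofPred_eq]
      tauto
    rw [this]
    refine Finset.sum_congr rfl fun θ hθ => ?_
    rw [Set.Finite.mem_toFinset] at hθ
    simp only [w, if_pos hθ.1]
    rw [hlin θ hθ.1 hθ.2.1 hθ.2.2, one_pow]
  intro hdvd
  have hfac := S4491.result p M hM b PrincipalSection.isPBlock_principalBlock
  rw [blockDefect_principal p hM, hsum] at hfac
  have hpos : 0 < (Nat.card N).factorization p :=
    hp.out.factorization_pos_of_dvd Nat.card_pos.ne' hdvd
  have h6 : p ∣ ∑ θ : IrrCharacter N, w θ := by
    apply Nat.dvd_of_factorization_pos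
    omega
  apply hndvd
  have h7 : ∑ θ : IrrCharacter N, w θ ≡ Nat.card (linInv N M) [MOD p] := by
    refine hw1.trans ?_
    rw [← e3, e5]
    exact Nat.ModEq.add_left _ e4
  exact (h7.dvd_iff dvd_rfl).1 h6

/-- Let G be a finite group, p a prime and M a maximal ideal of the algebraic integers containing p. Then all height-zero irreducible characters of the principal p-block of G (equivalently, all its characters of degree prime to p) have the same degree if and only if G has a normal p-complement. -/
theorem result {G : Type*} [Group G] [Finite G] (p : ℕ) [Fact p.Prime] (M : Ideal Cfsg.AlgInt) (hM : Cfsg.IsPModular p M) : (∃ d : ℕ, ∀ χ : Cfsg.IrrCharacter G, χ ∈ (Cfsg.principalBlock M G) → Cfsg.blockHeight p (Cfsg.principalBlock M G) (χ : G → ℂ) = 0 → Cfsg.charDegree (χ : G → ℂ) = d) ↔ Cfsg.HasNormalPComplement p G := by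
  classical
  have hp : p.Prime := Fact.out
  have := isPrime_of_isPModular hM
  have := Fintype.ofFinite G
  constructor
  · rintro ⟨d, hd⟩
    have h1 : d = 1 := by
      have h2 := hd ⟨fun _ => 1, isIrrCharacter_one⟩ PrincipalSection.one_mem_principalBlock (by
        rw [blockHeight_principal p hM]
        show (charDegree (fun _ : G => (1 : ℂ))).factorization p = 0
        rw [charDegree_of_eq (n := 1) (by simp)]
        simp)
      rw [← h2]
      exact charDegree_of_eq (by simp)
    rw [Transfer.NormalPComplement.hasNormalPComplement_iff_coprime, Nat.coprime_comm,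
      hp.coprime_iff_not_dvd]
    refine not_dvd_card p M hM fun χ hχ hdeg => ?_
    rw [← h1]
    refine hd χ hχ ?_
    rw [blockHeight_principal p hM, factorization_eq_zero_iff' hp (charDegree_pos χ.2)]
    exact hdeg
  · intro h
    refine ⟨1, fun χ hχ h0 => ?_⟩
    rw [blockHeight_principal p hM, factorization_eq_zero_iff' hp (charDegree_pos χ.2)] at h0
    rw [Transfer.NormalPComplement.hasNormalPComplement_iff_coprime, Nat.coprime_comm,
      hp.coprime_iff_not_dvd] at h
    have hNn : (Cfsg.pResidual p G).Normal := Transfer.Residual.pResidual_normal p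
    obtain ⟨k, hk⟩ := Transfer.Residual.exists_index_pResidual_eq_pow (G := G) p
    set N : Subgroup G := Cfsg.pResidual p G with hN
    have := Fintype.ofFinite N
    have h2 : ∀ n ∈ N, (χ : G → ℂ) n = (χ : G → ℂ) 1 := fun n hn =>
      PrincipalKernel.principalBlock_apply_eq hM h hχ hn
    have h3 : classInner (fun n : N => (χ : G → ℂ) n) (fun _ : N => (1 : ℂ)) ≠ 0 := by
      have h4 : (fun n : N => (χ : G → ℂ) n) = ((χ : G → ℂ) 1) • (fun _ : N => (1 : ℂ)) := by
        funext n
        rw [h2 n n.2, Pi.smul_apply, smul_eq_mul, mul_one]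
      rw [h4, classInner_smul_left, classInner_irr_self isIrrCharacter_one, mul_one]
      exact irr_one_ne_zero χ.2
    obtain ⟨-, h5⟩ := S0887.result N (χ : G → ℂ) χ.2 (fun _ => 1) isIrrCharacter_one h3
      (charDegree (χ : G → ℂ)) 1 (irr_one_eq_charDegree χ.2) (by simp)
    rw [Nat.div_one, hk] at h5
    obtain ⟨j, -, hj⟩ := (Nat.dvd_prime_pow hp).1 h5
    rw [hj] at h0 ⊢
    rcases Nat.eq_zero_or_pos j with rfl | hj0
    · rw [pow_zero]
    · exact absurd (dvd_pow_self p hj0.ne') h0

end Cfsg.Agent.S4888
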