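import Cfsg.Statements.S4582
import Cfsg.Agent.TwoFusion.PResidual

set_option autoImplicit false
open Cfsg

namespace Cfsg.Agent.S4582

open Subgroup MonoidHom
open scoped commutatorElement

/-- The transfer commutes with homomorphisms of the target. -/
theorem transfer_comp {G : Type*} [Group G] {H : Subgroup G} {A B : Type*} [CommGroup A]
    [CommGroup B] (ϕ : H →* A) (f : A →* B) [H.FiniteIndex] (g : G) :
    transfer (f.comp ϕ) g = f (transfer ϕ g) := by
  rw [transfer_def (f.comp ϕ) default, transfer_def ϕ default]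
  unfold Subgroup.leftTransversals.diff
  rw [map_prod]
  rfl

/-- The main step, for `G = NP`. -/
theorem main {G : Type*} [Group G] [Finite G] (N : Subgroup G) [N.Normal] (P : Subgroup G)
    (hPG : IsPGroup 2 P) (hidx : Odd P.index) (htop : N ⊔ P = ⊤)
    (hP : ∀ x ∈ P, x ^ 2 ∈ (P ⊓ N) ⊔ ⁅P, P⁆)
    (hQ : ∀ x ∈ P ⊓ N, x ^ 2 ∈ ⁅P, P⁆)
    (hodd : Odd (Nat.card (Abelianization N))) :
    ∀ x ∈ P, x ^ 2 ∈ ⁅P, P⁆ := by
  -- membership in the commutator
  have hmem : ∀ y : P, Abelianization.of y = 1 ↔ (y : G) ∈ ⁅P, P⁆ := by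
    intro y
    rw [← Subgroup.map_subtype_commutator]
    constructor
    · intro h
      refine ⟨y, ?_, rfl⟩
      have h1 : y ∈ (Abelianization.of : P →* Abelianization P).ker := h
      rwa [Abelianization.ker_of] at h1
    · rintro ⟨z, hz, hzy⟩
      have : z = y := Subtype.ext hzy
      subst this
      have h1 : z ∈ (Abelianization.of : P →* Abelianization P).ker := by
        rw [Abelianization.ker_of]
        exact hz
      exact h1
  have hA2 : IsPGroup 2 (Abelianization P) :=
    hPG.of_surjective Abelianization.of (by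
      intro a
      obtain ⟨x, rfl⟩ := QuotientGroup.mk_surjective a
      exact ⟨x, rfl⟩)
  -- `N` has no nontrivial homomorphism to `P / P'`
  have hN : ∀ f : N →* Abelianization P, f = 1 := by
    intro f
    ext n
    have h1 : Abelianization.lift f (Abelianization.of n) = f n := Abelianization.lift_apply_of f n
    have h2 : (f n) ^ Nat.card (Abelianization N) = 1 := by
      rw [← h1, ← map_pow, pow_card_eq_one', map_one]
    obtain ⟨k, hk⟩ := hA2 (f n)
    have h3 : orderOf (f n) ∣ Nat.gcd (2 ^ k) (Nat.card (Abelianization N)) :=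
      Nat.dvd_gcd (orderOf_dvd_of_pow_eq_one hk) (orderOf_dvd_of_pow_eq_one h2)
    have h4 : Nat.gcd (2 ^ k) (Nat.card (Abelianization N)) = 1 :=
      Nat.Coprime.pow_left k ((Nat.coprime_two_left).2 hodd)
    rw [h4, Nat.dvd_one, orderOf_eq_one_iff] at h3
    rw [h3]
    rfl
  -- the squaring map extends to `G`
  let s : P →* Abelianization P := (powMonoidHom 2).comp Abelianization.of
  let f : P →* G ⧸ N := (QuotientGroup.mk' N).comp P.subtype
  have hfs : Function.Surjective f := by
    intro q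
    obtain ⟨g, rfl⟩ := QuotientGroup.mk'_surjective N q
    have hg : g ∈ N ⊔ P := htop ▸ mem_top g
    rw [Subgroup.mem_sup_of_normal_left] at hg
    obtain ⟨n, hn, x, hx, rfl⟩ := hg
    refine ⟨⟨x, hx⟩, ?_⟩
    change (QuotientGroup.mk' N) x = (QuotientGroup.mk' N) (n * x)
    rw [map_mul, show (QuotientGroup.mk' N) n = 1 from (QuotientGroup.eq_one_iff _).2 hn, one_mul]
  have hker : f.ker ≤ s.ker := by
    intro x hx
    have h1 : (x : G) ∈ N := (QuotientGroup.eq_one_iff _).1 hx
    have h2 := hQ x ⟨x.2, h1⟩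
    have h3 : Abelianization.of (x ^ 2) = 1 := (hmem (x ^ 2)).2 h2
    change (Abelianization.of x) ^ 2 = 1
    rw [← map_pow, h3]
  let ν' : G ⧸ N →* Abelianization P := f.liftOfSurjective hfs ⟨s, hker⟩
  let ν : G →* Abelianization P := ν'.comp (QuotientGroup.mk' N)
  have hν : ν.comp P.subtype = s := by
    ext x
    exact MonoidHom.liftOfRightInverse_comp_apply f _ (Function.rightInverse_surjInv hfs) ⟨s, hker⟩ x
  -- the transfer of the squaring map
  have ht1 : ∀ x : P, transfer s (x : G) = s x ^ P.index := by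
    intro x
    apply Cfsg.Agent.TwoFusion.PResidual.transfer_eq_pow_index_of_fusion
    intro k g₀ h
    rw [← hν]
    change ν (g₀⁻¹ * (x : G) ^ k * g₀) = ν ((x : G) ^ k)
    rw [map_mul, map_mul, map_inv, mul_comm (ν g₀)⁻¹, mul_assoc, inv_mul_cancel, mul_one]
  have ht2 : ∀ g : G, transfer s g = (transfer (Abelianization.of : P →* Abelianization P) g) ^ 2 :=
    fun g => transfer_comp Abelianization.of (powMonoidHom 2) g
  set V : G →* Abelianization P := transfer (Abelianization.of : P →* Abelianization P) with hV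
  have hVN : N ≤ V.ker := by
    intro n hn
    have := hN (V.comp N.subtype)
    exact DFunLike.congr_fun this (⟨n, hn⟩ : N)
  have hVC : ⁅P, P⁆ ≤ V.ker := by
    rw [Subgroup.commutator_le]
    intro a _ b _
    rw [MonoidHom.mem_ker, map_commutatorElement, commutatorElement_eq_one_iff_mul_comm, mul_comm]
  intro x hx
  have h1 : V (x ^ 2) = 1 := by
    have h2 := hP x hx
    have h3 : (P ⊓ N) ⊔ ⁅P, P⁆ ≤ V.ker := sup_le (inf_le_right.trans hVN) hVC
    exact h3 h2
  have h2 : s ⟨x, hx⟩ ^ P.index = 1 := by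
    rw [← ht1 ⟨x, hx⟩, ht2]
    change V x ^ 2 = 1
    rw [← map_pow, h1]
  obtain ⟨k, hk⟩ := hA2 (s ⟨x, hx⟩)
  have h3 : orderOf (s ⟨x, hx⟩) ∣ Nat.gcd (2 ^ k) P.index :=
    Nat.dvd_gcd (orderOf_dvd_of_pow_eq_one hk) (orderOf_dvd_of_pow_eq_one h2)
  have h4 : Nat.gcd (2 ^ k) P.index = 1 := Nat.Coprime.pow_left k ((Nat.coprime_two_left).2 hidx)
  rw [h4, Nat.dvd_one, orderOf_eq_one_iff] at h3
  have h5 : Abelianization.of ((⟨x, hx⟩ : P) ^ 2) = 1 := by
    rw [map_pow]
    exact h3
  exact (hmem _).1 h5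

/-- Let N be a normal subgroup of the finite group G, P a Sylow 2-subgroup of G and Q = P ∩ N. Suppose that P/QP' and Q/Q' are elementary abelian (every square of an element of P lies in the subgroup generated by Q and the derived subgroup of P, and every square of an element of Q lies in the derived subgroup of Q), and that the commutator factor group N/N' has odd order. Then P/P' is elementary abelian. -/
theorem result {G : Type*} [Group G] [Finite G] (N : Subgroup G) [N.Normal] (P : Sylow 2 G)
    (hP : ∀ x ∈ (P : Subgroup G), x ^ 2 ∈ ((P : Subgroup G) ⊓ N) ⊔ ⁅(P : Subgroup G), (P : Subgroup G)⁆)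
    (hQ : ∀ x ∈ (P : Subgroup G) ⊓ N, x ^ 2 ∈ ⁅(P : Subgroup G) ⊓ N, (P : Subgroup G) ⊓ N⁆)
    (hodd : Odd (Nat.card (Abelianization N))) :
    ∀ x ∈ (P : Subgroup G), x ^ 2 ∈ ⁅(P : Subgroup G), (P : Subgroup G)⁆ := by
  set L : Subgroup G := N ⊔ (P : Subgroup G) with hL
  set N' : Subgroup L := N.subgroupOf L with hN'
  set P' : Subgroup L := (P : Subgroup G).subgroupOf L with hP'
  have hNL : N ≤ L := le_sup_left
  have hPL : (P : Subgroup G) ≤ L := le_sup_right
  have hmapP : P'.map L.subtype = (P : Subgroup G) := by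
    rw [hP', Subgroup.subgroupOf_map_subtype, inf_eq_left.2 hPL]
  have hmapN : N'.map L.subtype = N := by
    rw [hN', Subgroup.subgroupOf_map_subtype, inf_eq_left.2 hNL]
  have hmapC : (⁅P', P'⁆ : Subgroup L).map L.subtype = ⁅(P : Subgroup G), (P : Subgroup G)⁆ := by
    rw [Subgroup.map_commutator, hmapP]
  have hinj : Function.Injective L.subtype := Subgroup.subtype_injective L
  have hmem : ∀ (K : Subgroup L) (y : L), (y : G) ∈ K.map L.subtype ↔ y ∈ K := by
    intro K y
    exact Subgroup.mem_map_iff_mem hinj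
  have hPG : IsPGroup 2 P' := P.2.comap_of_injective L.subtype hinj
  have hidx : Odd P'.index := by
    have h1 : P'.index ∣ (P : Subgroup G).index := by
      have := Subgroup.relIndex_mul_index hPL
      exact ⟨L.index, this.symm⟩
    have h2 : ¬ 2 ∣ (P : Subgroup G).index := P.not_dvd_index
    rw [← Nat.not_even_iff_odd, even_iff_two_dvd]
    exact fun h => h2 (h.trans h1)
  have htop : N' ⊔ P' = ⊤ := by
    apply Subgroup.map_injective hinj
    rw [Subgroup.map_sup, hmapP, hmapN, ← MonoidHom.range_eq_map, Subgroup.range_subtype]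
  have hinf : (P' ⊓ N' : Subgroup L).map L.subtype = (P : Subgroup G) ⊓ N := by
    rw [Subgroup.map_inf _ _ _ hinj, hmapP, hmapN]
  have h := main N' P' hPG hidx htop (by
    intro x hx
    rw [← hmem, Subgroup.map_sup, hinf, hmapC]
    exact hP x hx) (by
    intro x hx
    rw [← hmem, hmapC]
    have hx' : (x : G) ∈ (P : Subgroup G) ⊓ N := ⟨hx.1, hx.2⟩
    exact Subgroup.commutator_mono inf_le_left inf_le_left (hQ x hx')) (by
    have e : N' ≃* N := Subgroup.subgroupOfEquivOfLe hNL
    rwa [Nat.card_congr (e.abelianizationCongr).toEquiv])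
  intro x hx
  have h1 := h ⟨x, hPL hx⟩ hx
  rw [← hmem, hmapC] at h1
  exact h1

end Cfsg.Agent.S4582
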