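import Cfsg.Statements.S2510
import Cfsg.Agent.H159.PslDich
import Cfsg.Agent.H159.Orders

set_option autoImplicit false
open Cfsg

namespace Cfsg.Agent.S2510

open Module Cfsg.Agent.H159

/-- The Singer element. -/
theorem exists_singer_order {F : Type*} [Field F] [Fintype F] (p n : ℕ) [Fact p.Prime] [CharP F p]
    (hn : n ≠ 0) :
    ∃ x : Matrix.ProjectiveSpecialLinearGroup (Fin n) F,
      (Fintype.card F ^ n - 1) / (Fintype.card F - 1) / Nat.gcd n (Fintype.card F - 1) ∣
        orderOf x := by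
  set q := Fintype.card F with hq
  have hq2 : 2 ≤ q := Fintype.one_lt_card
  obtain ⟨K, _, _, _, _, a, hK, ha, hcard⟩ := exists_field_gen F p n hn
  have hnorm : Algebra.norm F ((a ^ (q - 1) : Kˣ) : K) = 1 := by
    rw [Units.val_pow_eq_pow_val, map_pow, hq]
    exact FiniteField.pow_card_sub_one_eq_one _ ((a.isUnit.map (Algebra.norm F)).ne_zero)
  obtain ⟨x, hx⟩ := exists_psl_of_alg_eq hK (a ^ (q - 1)) hnorm
  refine ⟨x, dvd_trans ?_ hx⟩
  -- the order modulo scalars
  obtain ⟨c, hc⟩ := (scPow_iff_pord_dvd (F := F) (a ^ (q - 1)) (pord F (a ^ (q - 1)))).2 dvd_rfl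
  set m := pord F (a ^ (q - 1)) with hm
  have hc0 : c ≠ 0 := by
    rintro rfl
    rw [map_zero, ← Units.val_pow_eq_pow_val] at hc
    exact ((a ^ (q - 1)) ^ m).ne_zero hc
  have hcn : c ^ n = 1 := by
    have h1 := congrArg (Algebra.norm F) hc
    rw [map_pow, hnorm, one_pow, Algebra.norm_algebraMap, hK] at h1
    exact h1.symm
  have hcq : c ^ (q - 1) = 1 := FiniteField.pow_card_sub_one_eq_one c hc0
  have hcg : c ^ Nat.gcd n (q - 1) = 1 := by
    rw [← orderOf_dvd_iff_pow_eq_one] at hcn hcq ⊢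
    exact Nat.dvd_gcd hcn hcq
  have h2 : a ^ ((q - 1) * (m * Nat.gcd n (q - 1))) = 1 := by
    apply Units.ext
    have h3 := congrArg (fun z => z ^ Nat.gcd n (q - 1)) hc
    simp only [← map_pow, hcg, map_one] at h3
    rw [Units.val_one, pow_mul, pow_mul, Units.val_pow_eq_pow_val, Units.val_pow_eq_pow_val]
    exact h3
  rw [← orderOf_dvd_iff_pow_eq_one, ha] at h2
  obtain ⟨b, hb⟩ := geom_dvd q n
  have hq1 : 0 < q - 1 := by omega
  have h4 : (q ^ n - 1) / (q - 1) = b := by
    rw [hb, Nat.mul_div_cancel_left _ hq1]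
  rw [hb] at h2
  have h5 : b ∣ m * Nat.gcd n (q - 1) := Nat.dvd_of_mul_dvd_mul_left hq1 h2
  rw [h4]
  have h6 : Nat.gcd n (q - 1) ∣ b := by
    rw [← h4]; exact gcd_dvd_geom hq2
  obtain ⟨s, hs⟩ := h6
  have hg : 0 < Nat.gcd n (q - 1) := Nat.gcd_pos_of_pos_left _ (Nat.pos_of_ne_zero hn)
  rw [hs, Nat.mul_div_cancel_left _ hg]
  rw [hs, mul_comm m] at h5
  exact Nat.dvd_of_mul_dvd_mul_left hg h5
  
theorem exists_unip_order {F : Type*} [Field F] [Fintype F] (p n : ℕ) [Fact p.Prime] [CharP F p]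
    (hn : 2 ≤ n) :
    ∃ x : Matrix.ProjectiveSpecialLinearGroup (Fin n) F, p ^ Nat.clog p n ∣ orderOf x := by
  obtain ⟨a, ha1, ha2⟩ := exists_unipotent_alg F p n (by omega)
  have hne : (Polynomial.X ^ n : Polynomial F) ≠ 0 := pow_ne_zero _ Polynomial.X_ne_zero
  have : FiniteDimensional F (AdjoinRoot (Polynomial.X ^ n : Polynomial F)) :=
    (AdjoinRoot.powerBasis hne).finite
  have : Nontrivial (AdjoinRoot (Polynomial.X ^ n : Polynomial F)) := AdjoinRoot.nontrivial _ (by
    rw [Polynomial.degree_X_pow]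
    exact_mod_cast (by omega : n ≠ 0))
  obtain ⟨x, hx⟩ := exists_psl_of_alg_eq (n := n) (by
    rw [(AdjoinRoot.powerBasis hne).finrank, AdjoinRoot.powerBasis_dim, Polynomial.natDegree_X_pow])
      a ha1
  exact ⟨x, ha2 ▸ hx⟩

/-- For `n - 1` not a power of `p` there is an element of order divisible by `r p^e`. -/
theorem exists_mixed {F : Type*} [Field F] [Fintype F] (p n r : ℕ) [Fact p.Prime] [CharP F p]
    (hn : 2 ≤ n) (hr : r.Prime) (hrq : r ∣ Fintype.card F - 1) (hrn : ¬ r ∣ n)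
    (hj : ¬ ∃ j : ℕ, n - 1 = p ^ j) :
    ∃ x : Matrix.ProjectiveSpecialLinearGroup (Fin n) F, p ^ Nat.clog p n ∣ orderOf x ∧
      r ∣ orderOf x := by
  have hp : p.Prime := Fact.out
  have hn3 : 3 ≤ n := by
    by_contra h
    exact hj ⟨0, by rw [pow_zero]; omega⟩
  obtain ⟨a, ha1, ha2⟩ := exists_unipotent_alg F p (n - 1) (by omega)
  have hne : (Polynomial.X ^ (n - 1) : Polynomial F) ≠ 0 := pow_ne_zero _ Polynomial.X_ne_zero
  have : FiniteDimensional F (AdjoinRoot (Polynomial.X ^ (n - 1) : Polynomial F)) :=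
    (AdjoinRoot.powerBasis hne).finite
  have : Nontrivial (AdjoinRoot (Polynomial.X ^ (n - 1) : Polynomial F)) :=
    AdjoinRoot.nontrivial _ (by
      rw [Polynomial.degree_X_pow]
      exact_mod_cast (by omega : n - 1 ≠ 0))
  have hfr : finrank F (AdjoinRoot (Polynomial.X ^ (n - 1) : Polynomial F)) < n := by
    rw [(AdjoinRoot.powerBasis hne).finrank, AdjoinRoot.powerBasis_dim, Polynomial.natDegree_X_pow]
    omega
  obtain ⟨h, e, h1, h2, h3, h4, h5, h6, h7⟩ := exists_end_of_alg hfr a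
  obtain ⟨y, hy1, hy2⟩ := exists_mul_r h7 hr hrq hrn h e h1 h2 h3 h4 h5
  refine ⟨y, ?_, hy2⟩
  have h8 := h6 _ (hy1 _ (pow_orderOf_eq_one y))
  rw [scPow_iff_pord_dvd, ha2] at h8
  refine dvd_trans ?_ h8
  apply pow_dvd_pow
  -- `clog p n ≤ clog p (n-1)`
  have h9 : n - 1 ≤ p ^ Nat.clog p (n - 1) := Nat.le_pow_clog hp.one_lt _
  have h10 : n - 1 ≠ p ^ Nat.clog p (n - 1) := fun h => hj ⟨_, h⟩
  exact (Nat.clog_le_iff_le_pow hp.one_lt).2 (by omega)

/-- Let F be a finite field with q = p^a elements, n ≥ 2 (with q ≥ 4 when n = 2), L = PSL(n, F), and let r be a prime dividing q − 1 and not dividing n. Then for every m the direct product L × L × L × (ℤ/r)^m has the same set of element orders as L × L × L; and if n − 1 ≠ p^j for every j ≥ 0 (so never when n = 2, since 1 = p^0), then already L × L × (ℤ/r)^m has the same set of element orders as L × L. -/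
theorem result {F : Type*} [Field F] [Fintype F] (p a n r m : ℕ) (hp : p.Prime) (ha : 1 ≤ a) (hF : Fintype.card F = p ^ a)
    (hn : 2 ≤ n) (hn2 : n = 2 → 4 ≤ Fintype.card F) (hr : r.Prime) (hrq : r ∣ Fintype.card F - 1) (hrn : ¬ r ∣ n) :
    Set.range (orderOf : Matrix.ProjectiveSpecialLinearGroup (Fin n) F × Matrix.ProjectiveSpecialLinearGroup (Fin n) F × Matrix.ProjectiveSpecialLinearGroup (Fin n) F × Multiplicative (Fin m → ZMod r) → ℕ) =
      Set.range (orderOf : Matrix.ProjectiveSpecialLinearGroup (Fin n) F × Matrix.ProjectiveSpecialLinearGroup (Fin n) F × Matrix.ProjectiveSpecialLinearGroup (Fin n) F → ℕ) ∧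
    ((¬ ∃ j : ℕ, n - 1 = p ^ j) →
      Set.range (orderOf : Matrix.ProjectiveSpecialLinearGroup (Fin n) F × Matrix.ProjectiveSpecialLinearGroup (Fin n) F × Multiplicative (Fin m → ZMod r) → ℕ) =
        Set.range (orderOf : Matrix.ProjectiveSpecialLinearGroup (Fin n) F × Matrix.ProjectiveSpecialLinearGroup (Fin n) F → ℕ)) := by
  have : Fact p.Prime := ⟨hp⟩
  have : CharP F p := charP_of_card_eq_prime_pow hF
  have hfin : Finite (Matrix.ProjectiveSpecialLinearGroup (Fin n) F) := by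
    have : Finite (Matrix.SpecialLinearGroup (Fin n) F) :=
      Finite.of_injective (fun g => (g : Matrix (Fin n) (Fin n) F)) Subtype.val_injective
    exact Quotient.finite _
  have hcop : Nat.Coprime ((Fintype.card F ^ n - 1) / (Fintype.card F - 1) /
      Nat.gcd n (Fintype.card F - 1)) (p ^ Nat.clog p n) := by
    apply Nat.Coprime.pow_right
    rw [Nat.coprime_comm, Nat.Prime.coprime_iff_not_dvd hp]
    intro h
    have h1 : p ∣ Fintype.card F ^ n - 1 :=
      (h.trans (Nat.div_dvd_of_dvd (gcd_dvd_geom Fintype.one_lt_card))).trans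
        (Nat.div_dvd_of_dvd (geom_dvd _ _))
    have h2 : p ∣ Fintype.card F ^ n := by
      rw [hF]; exact dvd_pow (dvd_pow_self p (by omega)) (by omega)
    have h3 : 0 < Fintype.card F ^ n := pow_pos Fintype.card_pos _
    have h4 : p ∣ 1 := by
      have := (Nat.dvd_sub h2 h1)
      rwa [Nat.sub_sub_self h3] at this
    exact hp.one_lt.ne' (Nat.dvd_one.1 h4)
  have hdich := psl_dich (F := F) (p := p) (Nat.le_pow_clog hp.one_lt n) hr hrq hrn
  obtain ⟨h1, h2⟩ := both_of r m _ _ hcop hdich (exists_singer_order p n (by omega))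
    (exists_unip_order p n hn) (by
      obtain ⟨h, e, h1, h2, h3, h4, h5, h6, h7⟩ := exists_end_of_alg (F := F) (A := F) (n := n)
        (by rw [finrank_self]; omega) 1
      obtain ⟨y, -, hy2⟩ := exists_mul_r h7 hr hrq hrn h e h1 h2 h3 h4 h5
      exact ⟨y, hy2⟩)
  exact ⟨h1, fun hj => h2 (exists_mixed p n r hn hr hrq hrn hj)⟩

end Cfsg.Agent.S2510
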