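import Cfsg.Statements.S5854
import Cfsg.Agent.H218.ElevFin

set_option autoImplicit false
open Cfsg

namespace Cfsg.Agent.S5854

/-- The maximal subgroups of SL_11(q) in the residual class. Let F be a finite field with q elements and H a maximal subgroup of SL_11(F) lying in the residual class of the linear case. Then q = p is prime and the perfect socle preimage P of H satisfies one of: P modulo scalars is isomorphic to PSL_2(23), with p ≠ 2 and p a non-zero square modulo 23 (p ≡ 1, 2, 3, 4, 6, 8, 9, 12, 13, 16 or 18 mod 23); or to U_5(2) (PSU_5 over the field with 4 elements), with p ≡ 1 mod 3; or to the Mathieu group M_24, with p = 2. (A residual-class subgroup with socle PSL_2(23) is not maximal in SL_11(2) itself.) -/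
theorem result {F : Type*} [Field F] [Fintype F] (H : Subgroup (Matrix.GeneralLinearGroup (Fin 11) F)) (hH : Cfsg.Geo.IsMaximalIn (Cfsg.Geo.specialLinear (Fin 11) F) H) (hS : Cfsg.Geo.InLinearResidualClass H) :
    ∃ (P : Subgroup (Matrix.GeneralLinearGroup (Fin 11) F)) (p : ℕ), Cfsg.Geo.IsResidualCore H P ∧ p.Prime ∧ Fintype.card F = p ∧
    ((Nonempty ((P ⧸ (Cfsg.Geo.scalars (Fin 11) F).subgroupOf P) ≃* Matrix.ProjectiveSpecialLinearGroup (Fin 2) (ZMod 23)) ∧ p ≠ 2 ∧ (p % 23 = 1 ∨ p % 23 = 2 ∨ p % 23 = 3 ∨ p % 23 = 4 ∨ p % 23 = 6 ∨ p % 23 = 8 ∨ p % 23 = 9 ∨ p % 23 = 12 ∨ p % 23 = 13 ∨ p % 23 = 16 ∨ p % 23 = 18)) ∨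
     ((∃ (K : Type) (_ : Field K) (_ : Fintype K), Fintype.card K = 4 ∧ Nonempty ((P ⧸ (Cfsg.Geo.scalars (Fin 11) F).subgroupOf P) ≃* Cfsg.PSU 5 K 2)) ∧ p % 3 = 1) ∨
     (Cfsg.Spor.IsoM24 (P ⧸ (Cfsg.Geo.scalars (Fin 11) F).subgroupOf P) ∧ p = 2)) := by
  exact Cfsg.Agent.H218.Elev.sl11 Cfsg.Agent.H218.Elev.todo_all Cfsg.Agent.H218.Elev.known H hH hS

end Cfsg.Agent.S5854
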