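import Cfsg.Statements.S5857
import Cfsg.Agent.H218.ElevFin

set_option autoImplicit false
open Cfsg

namespace Cfsg.Agent.S5857

/-- The maximal subgroups of SU_11(q) in the residual class. Let F be the field with q² elements and H a maximal subgroup of SU_11(q) (determinant-one isometries of the standard unitary form on F^11) lying in the residual class of the unitary case. Then q = p is prime and the perfect socle preimage P of H satisfies one of: P modulo scalars is isomorphic to PSL_2(23), with p a non-square modulo 23 (p ≡ 5, 7, 10, 11, 14, 15, 17, 19, 20, 21 or 22 mod 23); or to U_5(2) (PSU_5 over the field with 4 elements), with p ≡ 2 mod 3 and p ≠ 2. -/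
theorem result {F : Type*} [Field F] [Fintype F] (q : ℕ) (hF : Fintype.card F = q ^ 2) (H : Subgroup (Matrix.GeneralLinearGroup (Fin 11) F)) (hH : Cfsg.Geo.IsMaximalIn (Cfsg.GU 11 F q ⊓ Cfsg.Geo.specialLinear (Fin 11) F) H) (hS : Cfsg.Geo.InUnitaryResidualClass H) :
    ∃ P : Subgroup (Matrix.GeneralLinearGroup (Fin 11) F), Cfsg.Geo.IsResidualCore H P ∧ q.Prime ∧
    ((Nonempty ((P ⧸ (Cfsg.Geo.scalars (Fin 11) F).subgroupOf P) ≃* Matrix.ProjectiveSpecialLinearGroup (Fin 2) (ZMod 23)) ∧ (q % 23 = 5 ∨ q % 23 = 7 ∨ q % 23 = 10 ∨ q % 23 = 11 ∨ q % 23 = 14 ∨ q % 23 = 15 ∨ q % 23 = 17 ∨ q % 23 = 19 ∨ q % 23 = 20 ∨ q % 23 = 21 ∨ q % 23 = 22)) ∨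
     ((∃ (K : Type) (_ : Field K) (_ : Fintype K), Fintype.card K = 4 ∧ Nonempty ((P ⧸ (Cfsg.Geo.scalars (Fin 11) F).subgroupOf P) ≃* Cfsg.PSU 5 K 2)) ∧ q % 3 = 2 ∧ q ≠ 2)) := by
  exact Cfsg.Agent.H218.Elev.su11 Cfsg.Agent.H218.Elev.todo_all Cfsg.Agent.H218.Elev.known
    Cfsg.Agent.H218.Elev.not_psu q hF H hH hS

end Cfsg.Agent.S5857
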