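import Cfsg.Statements.S2174
import Cfsg.Agent.H81.FFourConj
import Cfsg.Agent.H81.FFourNC

set_option autoImplicit false
open Cfsg

namespace Cfsg.Agent.S2174

open Cfsg.Lie Cfsg.Agent.ChevalleyStructure.Elts Cfsg.Agent.ChevalleyStructure.TwF4.Bits
  Cfsg.Agent.ChevalleyStructure.TwF4.Tables Cfsg.Agent.H81.FFourCode

/-- the matrix of a word -/
theorem coe_word {F : Type*} [Field F] [CharP F 2] (a : ℕ) : ((wG F [a] : GL chevF4.Idx F) :
    Matrix chevF4.Idx chevF4.Idx F) = chevF4.x F a 1 := by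
  rw [wG_cons, wG_nil, mul_one, coe_xG]

theorem coe_word_two {F : Type*} [Field F] [CharP F 2] (a b : ℕ) : ((wG F [a, b] : GL chevF4.Idx F) :
    Matrix chevF4.Idx chevF4.Idx F) = chevF4.x F a 1 * chevF4.x F b 1 := by
  rw [wG_cons, wG_cons, wG_nil, mul_one, Units.val_mul, coe_xG, coe_xG]

/-- the list of matrices is the list of the representatives -/
theorem mem_iff {F : Type*} [Field F] [CharP F 2] (y : GL chevF4.Idx F) :
    ((y : GL Cfsg.Lie.chevF4.Idx F) : Matrix Cfsg.Lie.chevF4.Idx Cfsg.Lie.chevF4.Idx F) ∈ [Cfsg.Lie.chevF4.x F 47 1, Cfsg.Lie.chevF4.x F 44 1, Cfsg.Lie.chevF4.x F 47 1 * Cfsg.Lie.chevF4.x F 44 1, Cfsg.Lie.chevF4.x F 39 1 * Cfsg.Lie.chevF4.x F 45 1] ↔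
      ∃ b ∈ Cfsg.Agent.H81.FFourFus.reps, y = wG F b := by
  rw [← coe_word_two, ← coe_word_two, ← coe_word, ← coe_word]
  simp only [List.mem_cons, List.not_mem_nil, or_false, Cfsg.Agent.H81.FFourFus.reps, exists_eq_or_imp,
    exists_eq_left, Units.ext_iff]


/-- Conjugacy classes of involutions in the Chevalley group of type F₄ over a finite field F of characteristic two (the matrix group generated by the root elements x_r(t)). In this problem's root numbering for type F₄ (the Chevalley data module; fundamental roots p₁, p₂ short and p₃, p₄ long; roots indexed by their coefficient vectors in increasing order) let r = 47 be the highest root (2,4,3,2), s = 44 the highest short root (2,3,2,1), and α = 39 = (1,2,2,1), β = 45 = (2,4,2,1), an orthogonal short/long pair; consider the four elements x_r(1), x_s(1), x_r(1)x_s(1), x_α(1)x_β(1). Then: each invertible matrix equal to one of these four products lies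 in the group and has order 2; every element of order 2 of the group is conjugate in the group to one of them; and no two of them are conjugate in the group (so, the four matrices being distinct, the group has exactly four conjugacy classes of involutions). -/
theorem result {F : Type*} [Field F] [Fintype F] [CharP F 2] :
    (∀ y : GL Cfsg.Lie.chevF4.Idx F, ((y : GL Cfsg.Lie.chevF4.Idx F) : Matrix Cfsg.Lie.chevF4.Idx Cfsg.Lie.chevF4.Idx F) ∈ [Cfsg.Lie.chevF4.x F 47 1, Cfsg.Lie.chevF4.x F 44 1, Cfsg.Lie.chevF4.x F 47 1 * Cfsg.Lie.chevF4.x F 44 1, Cfsg.Lie.chevF4.x F 39 1 * Cfsg.Lie.chevF4.x F 45 1] → y ∈ Cfsg.Lie.chevF4.group F ∧ orderOf y = 2) ∧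
    (∀ g ∈ Cfsg.Lie.chevF4.group F, orderOf g = 2 → ∃ y ∈ Cfsg.Lie.chevF4.group F, ((y : GL Cfsg.Lie.chevF4.Idx F) : Matrix Cfsg.Lie.chevF4.Idx Cfsg.Lie.chevF4.Idx F) ∈ [Cfsg.Lie.chevF4.x F 47 1, Cfsg.Lie.chevF4.x F 44 1, Cfsg.Lie.chevF4.x F 47 1 * Cfsg.Lie.chevF4.x F 44 1, Cfsg.Lie.chevF4.x F 39 1 * Cfsg.Lie.chevF4.x F 45 1] ∧ ∃ h ∈ Cfsg.Lie.chevF4.group F, h * g * h⁻¹ = y) ∧
    (∀ y₁ ∈ Cfsg.Lie.chevF4.group F, ∀ y₂ ∈ Cfsg.Lie.chevF4.group F, ((y₁ : GL Cfsg.Lie.chevF4.Idx F) : Matrix Cfsg.Lie.chevF4.Idx Cfsg.Lie.chevF4.Idx F) ∈ [Cfsg.Lie.chevF4.x F 47 1, Cfsg.Lie.chevF4.x F 44 1, Cfsg.Lie.chevF4.x F 47 1 * Cfsg.Lie.chevF4.x F 44 1, Cfsg.Lie.chevF4.x F 39 1 * Cfsg.Lie.chevF4.x F 45 1] → ((y₂ : GL Cfsg.Lie.chevF4.Idx F) : Matrix Cfsg.Lie.chevF4.Idx Cfsg.Lie.chevF4.Idx F) ∈ [Cfsg.Lie.chevF4.x F 47 1, Cfsg.Lie.chevF4.x F 44 1, Cfsg.Lie.chevF4.x F 47 1 * Cfsg.Lie.chevF4.x F 44 1, Cfsg.Lie.chevF4.x F 39 1 * Cfsg.Lie.chevF4.x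 F 45 1] →
      (∃ h ∈ Cfsg.Lie.chevF4.group F, h * y₁ * h⁻¹ = y₂) → ((y₁ : GL Cfsg.Lie.chevF4.Idx F) : Matrix Cfsg.Lie.chevF4.Idx Cfsg.Lie.chevF4.Idx F) = ((y₂ : GL Cfsg.Lie.chevF4.Idx F) : Matrix Cfsg.Lie.chevF4.Idx Cfsg.Lie.chevF4.Idx F)) := by
  have hne : ∀ b ∈ Cfsg.Agent.H81.FFourFus.reps, wG F b ≠ 1 := by
    intro b hb h1
    have h : (Cfsg.Agent.H81.FFourFus.reps.all fun b => okW b &&
        (List.range 52).any fun i => (List.range 52).any fun j =>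
          (wc b idN ^^^ idN).testBit (52 * i + j)) = true := by decide +kernel
    rw [List.all_eq_true] at h
    have h2 := h b hb
    rw [Bool.and_eq_true, List.any_eq_true] at h2
    obtain ⟨h3, i, hi, h4⟩ := h2
    rw [List.any_eq_true] at h4
    obtain ⟨j, hj, h5⟩ := h4
    obtain ⟨i', rfl⟩ := posOK.surj i (List.mem_range.1 hi)
    obtain ⟨j', rfl⟩ := posOK.surj j (List.mem_range.1 hj)
    have h6 : sem pos F (wc b idN ^^^ idN) = 0 := by
      rw [sem_xor, ← coe_wG h3, h1, sem_idN, Units.val_one]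
      ext i j
      rw [Matrix.add_apply, Matrix.zero_apply, CharTwo.add_self_eq_zero]
    have h7 := congrFun (congrFun h6 i') j'
    rw [sem_apply, if_pos h5, Matrix.zero_apply] at h7
    exact one_ne_zero h7
  refine ⟨?_, ?_, ?_⟩
  · intro y hy
    obtain ⟨b, hb, rfl⟩ := (mem_iff y).1 hy
    refine ⟨wG_mem b, orderOf_eq_prime ?_ (hne b hb)⟩
    rw [pow_two]
    exact Cfsg.Agent.H81.FFourConj.sq_reps hb
  · intro g hg ho
    have h1 : g ≠ 1 := by
      rintro rfl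
      rw [orderOf_one] at ho
      exact absurd ho (by norm_num)
    have h2 : g * g = 1 := by
      rw [← pow_two, ← ho, pow_orderOf_eq_one]
    obtain ⟨h, hh, b, hb, e⟩ := Cfsg.Agent.H81.FFourConj.exists_rep hg h2 h1
    exact ⟨wG F b, wG_mem b, (mem_iff _).2 ⟨b, hb, rfl⟩, h, hh, e⟩
  · rintro y₁ - y₂ - h1 h2 ⟨h, hh, e⟩
    obtain ⟨a, ha, rfl⟩ := (mem_iff _).1 h1
    obtain ⟨b, hb, rfl⟩ := (mem_iff _).1 h2
    rw [Cfsg.Agent.H81.FFourNC.eq_of_conj ha hb hh e]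

end Cfsg.Agent.S2174
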