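import Cfsg.Statements.S5580
import Cfsg.Agent.H854.JM.Local
import Cfsg.Agent.H856.JM.AltRows
import Cfsg.Agent.H878.JM.E2
import Cfsg.Agent.H111.JM.Rows
import Cfsg.Agent.H814.JM.Rows
import Cfsg.Agent.H868.JM.L34
import Cfsg.Agent.H820.JM.TyCard
import Cfsg.Agent.H382.JM.L52
import Cfsg.Agent.H831.JM.RowsM
import Cfsg.Agent.H831.JM.M22
import Cfsg.Agent.H265.JM.L223
import Cfsg.Agent.H763.JM.L232
import Cfsg.Agent.H179.JM.UEleven
import Cfsg.Agent.S5581
import Cfsg.Agent.S0000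
import Cfsg.Agent.OrdDiv.Table

/-!
# S5580: the maximal subgroups of the fourth Janko group (final assembly: helper854)

Plan: helper860. Parts I and II: helper854, helper866. Rows of Part III: helper856, helper878 (alternating groups),
helper111 (`L_2(7)`, `U_3(3)`), helper814 (`L_2(11)`, `M_11`, `M_23`, `M_24`), helper868, helper820 (`L_3(4)`), helper382
(`L_5(2)`), helper831 (`M_12`, `M_22`), helper265 (`L_2(23)`), helper763 (`L_2(32)`), helper179 (`U_3(11)`).
-/

set_option autoImplicit false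
open Cfsg

namespace Cfsg.Agent.S5580

/-- all the rows of Part III -/
theorem rows : Cfsg.Agent.H854.JM.Rows where
  a5 := Cfsg.Agent.H856.JM.AltRows.excl_A5 Cfsg.Agent.H878.JM.E2.e2
  a6 := Cfsg.Agent.H856.JM.AltRows.excl_A6 Cfsg.Agent.H878.JM.E2.e2
  a7 := Cfsg.Agent.H856.JM.AltRows.excl_A7 Cfsg.Agent.H878.JM.E2.e2
  a8 := Cfsg.Agent.H856.JM.AltRows.excl_A8 Cfsg.Agent.H878.JM.E2.e2
  l27 := fun h => Cfsg.Agent.H111.JM.excl_L27 h
  l211 := fun h => Cfsg.Agent.H814.JM.excl_L211 h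
  l34 := fun h => Cfsg.Agent.H868.JM.L34.excl Cfsg.Agent.H820.JM.card_TY h
  l52 := fun h => Cfsg.Agent.H382.JM.L52.excl_L52 h
  m11 := Cfsg.Agent.H814.JM.excl_M11
  m12 := Cfsg.Agent.H831.JM.excl_M12
  m23 := Cfsg.Agent.H831.JM.excl_M23
  m24 := Cfsg.Agent.H831.JM.excl_M24
  m22 := Cfsg.Agent.H831.JM.one_M22
  l223 := fun h => Cfsg.Agent.H265.JM.L223.one_L223 h
  l232 := fun h => Cfsg.Agent.H763.JM.one_L232 Cfsg.Agent.H854.JM.facts h
  u33 := fun h => Cfsg.Agent.H111.JM.one_U33 h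
  u311 := fun h => Cfsg.Agent.H179.JM.UEleven.one_U311 h

/-- Let G be a finite non-abelian simple group of Janko-four type (Janko's involution-centralizer conditions; such a group is the fourth Janko group). Then G has exactly 13 conjugacy classes of maximal subgroups: there are 13 pairwise non-conjugate maximal subgroups such that every maximal subgroup is conjugate to one of them. -/
theorem result {G : Type*} [Group G] [Finite G] [IsSimpleGroup G] (hG : ¬ IsMulCommutative G) (hJ : Cfsg.IsOfJankoFourType G) :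
    ∃ S : Finset (Subgroup G), S.card = 13 ∧ (∀ M ∈ S, IsCoatom M) ∧
      (∀ M₁ ∈ S, ∀ M₂ ∈ S, ∀ g : G, M₂ = M₁.map (MulAut.conj g).toMonoidHom → M₁ = M₂) ∧
      ∀ M : Subgroup G, IsCoatom M → ∃ M₀ ∈ S, ∃ g : G, M = M₀.map (MulAut.conj g).toMonoidHom := by
  have := Cfsg.Agent.H854.JM.simple_J
  exact Cfsg.Agent.H854.JM.stmt_of
    (Cfsg.Agent.H854.JM.thirteen' rows Cfsg.Agent.OrdDiv.table
      (fun X _ _ _ => Cfsg.Agent.S0000.result)
      (Cfsg.Agent.S5581.result Cfsg.Agent.H854.JM.noncomm_J Cfsg.Agent.H854.JM.janko)) hJ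

end Cfsg.Agent.S5580
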