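import Cfsg.Statements.S3375

set_option autoImplicit false
open Cfsg

namespace Cfsg.Agent.S3375

theorem fpf {H : Type*} [Group H] [Finite H] (γ : MulAut H) (hγ : ∀ h, γ (γ h) = h)
    (hfix : ∀ h : H, γ h = h → h = 1) : (∀ a b : H, a * b = b * a) ∧ ∀ h : H, γ h = h⁻¹ := by
  have hinj : Function.Injective (fun h : H => h⁻¹ * γ h) := by
    intro h k hk
    have hk' : h⁻¹ * γ h = k⁻¹ * γ k := hk
    have h1 : γ (k * h⁻¹) = k * h⁻¹ := by
      rw [map_mul, map_inv]
      have : γ k = k * (h⁻¹ * γ h) := by rw [hk']; group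
      rw [this]; group
    have h2 := hfix _ h1
    exact (mul_inv_eq_one.1 h2).symm
  have hsurj := Finite.surjective_of_injective hinj
  have hinv : ∀ h : H, γ h = h⁻¹ := by
    intro h
    obtain ⟨k, rfl⟩ := hsurj h
    simp only [map_mul, map_inv, hγ, mul_inv_rev, inv_inv]
  refine ⟨?_, hinv⟩
  intro a b
  have h1 : γ (a * b) = γ a * γ b := map_mul _ _ _
  rw [hinv, hinv, hinv, mul_inv_rev, ← mul_inv_rev, ← mul_inv_rev] at h1
  exact inv_injective h1

theorem index_two {H : Type*} [Group H] [Finite H] (γ : MulAut H) (hγ : ∀ h, γ (γ h) = h)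
    (hcard : Nat.card {h : H // γ h = h} = 2) (N : Subgroup H) (hN : N.index = 2)
    (hinv : ∀ h, γ h ∈ N ↔ h ∈ N) :
    IsMulCommutative N ∧ (∀ a ∈ N, γ a ∈ N) ∧ ∀ a ∈ N, γ a = a⁻¹ := by
  let F : Subgroup H :=
    { carrier := {h | γ h = h}
      one_mem' := map_one _
      mul_mem' := by
        intro a b ha hb
        simp only [Set.mem_ofPred_eq] at ha hb ⊢
        rw [map_mul, ha, hb]
      inv_mem' := by
        intro a ha
        simp only [Set.mem_ofPred_eq] at ha ⊢
        rw [map_inv, ha] }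
  have hF : ∀ h, h ∈ F ↔ γ h = h := fun h => Iff.rfl
  have hFc : Nat.card F = 2 := hcard
  have hmem : ∀ h : H, h * γ h⁻¹ ∈ N := by
    intro h
    rw [Subgroup.mul_mem_iff_of_index_two hN, map_inv, inv_mem_iff, hinv]
  let f : H ⧸ F → N := Quotient.lift (fun h : H => (⟨h * γ h⁻¹, hmem h⟩ : N)) (by
    intro a b hab
    have h1 : a⁻¹ * b ∈ F := QuotientGroup.leftRel_apply.1 hab
    rw [hF, map_mul, map_inv] at h1
    apply Subtype.ext
    show a * γ a⁻¹ = b * γ b⁻¹
    have h2 : γ b = γ a * (a⁻¹ * b) := by rw [← h1]; group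
    rw [map_inv, map_inv, h2]; group)
  have hinj : Function.Injective f := by
    intro x y
    induction x using QuotientGroup.induction_on with | _ x => ?_
    induction y using QuotientGroup.induction_on with | _ y => ?_
    intro h
    have h1 : x * γ x⁻¹ = y * γ y⁻¹ := congrArg Subtype.val h
    apply QuotientGroup.eq.2
    rw [hF, map_mul, map_inv]
    rw [map_inv, map_inv] at h1
    have h2 : (γ x)⁻¹ = x⁻¹ * (y * (γ y)⁻¹) := by rw [← h1]; group
    rw [h2]; group
  have hc : Nat.card (H ⧸ F) = Nat.card N := by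
    have h1 := F.card_mul_index
    have h2 := N.card_mul_index
    rw [hFc] at h1
    rw [hN] at h2
    have h3 : F.index = Nat.card (H ⧸ F) := rfl
    rw [h3] at h1
    omega
  have hsurj : Function.Surjective f := by
    have : Nat.card (H ⧸ F) = Nat.card N := hc
    exact ((Nat.bijective_iff_injective_and_card f).2 ⟨hinj, hc⟩).2
  have hi : ∀ a ∈ N, γ a = a⁻¹ := by
    intro a ha
    obtain ⟨x, hx⟩ := hsurj ⟨a, ha⟩
    induction x using QuotientGroup.induction_on with | _ x => ?_
    have h1 : x * γ x⁻¹ = a := congrArg Subtype.val hx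
    rw [← h1]
    simp only [map_mul, map_inv, hγ, mul_inv_rev, inv_inv]
  refine ⟨⟨⟨?_⟩⟩, fun a ha => (hinv a).2 ha, hi⟩
  intro a b
  apply Subtype.ext
  show (a : H) * b = b * a
  have h1 : γ ((a : H) * b) = γ a * γ b := map_mul _ _ _
  rw [hi _ (mul_mem a.2 b.2), hi _ a.2, hi _ b.2, ← mul_inv_rev] at h1
  exact inv_injective h1

/-- Let γ be an automorphism of order 2 of a finite group H. (i) If γ fixes only the identity, then H is abelian and γ inverts every element. (ii) If γ has exactly two fixed points and H has a subgroup of index 2, then H has a γ-invariant abelian subgroup of index 2 on which γ acts by inversion. -/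
theorem result {H : Type*} [Group H] [Finite H] (γ : MulAut H) (hγ : orderOf γ = 2) :
    ((∀ h : H, γ h = h → h = 1) → (∀ a b : H, a * b = b * a) ∧ ∀ h : H, γ h = h⁻¹) ∧
    ((Nat.card {h : H // γ h = h} = 2 ∧ ∃ M : Subgroup H, M.index = 2) →
      ∃ A : Subgroup H, A.index = 2 ∧ IsMulCommutative A ∧ (∀ a ∈ A, γ a ∈ A) ∧ ∀ a ∈ A, γ a = a⁻¹) := by
  have h2 : ∀ h, γ (γ h) = h := by
    intro h
    have h1 : γ ^ 2 = 1 := by rw [← hγ]; exact pow_orderOf_eq_one γ
    rw [pow_two] at h1
    have := congrArg (fun e : MulAut H => e h) h1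
    simpa using this
  refine ⟨fpf γ h2, ?_⟩
  rintro ⟨hcard, M, hM⟩
  by_cases hMi : ∀ h, γ h ∈ M ↔ h ∈ M
  · exact ⟨M, hM, index_two γ h2 hcard M hM hMi⟩
  · push Not at hMi
    let N : Subgroup H :=
      { carrier := {h | γ h ∈ M ↔ h ∈ M}
        one_mem' := by simp [M.one_mem]
        mul_mem' := by
          intro a b ha hb
          simp only [Set.mem_ofPred_eq] at ha hb ⊢
          rw [map_mul, Subgroup.mul_mem_iff_of_index_two hM,
            Subgroup.mul_mem_iff_of_index_two hM, ha, hb]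
        inv_mem' := by
          intro a ha
          simp only [Set.mem_ofPred_eq] at ha ⊢
          rw [map_inv, inv_mem_iff, inv_mem_iff, ha] }
    have hN : ∀ h, h ∈ N ↔ (γ h ∈ M ↔ h ∈ M) := fun h => Iff.rfl
    obtain ⟨a, ha⟩ := hMi
    have haN : a ∉ N := by
      rw [hN]
      tauto
    have hNi : N.index = 2 := by
      rw [Subgroup.index_eq_two_iff]
      refine ⟨a, fun b => ?_⟩
      rw [hN, hN, map_mul, Subgroup.mul_mem_iff_of_index_two hM,
            Subgroup.mul_mem_iff_of_index_two hM]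
      rw [hN] at haN
      rw [xor_iff_not_iff]
      tauto
    refine ⟨N, hNi, index_two γ h2 hcard N hNi ?_⟩
    intro h
    rw [hN, hN, h2]
    tauto

end Cfsg.Agent.S3375
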