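import Cfsg.Statements.S5869
import Cfsg.Agent.H922.S12.Final
import Cfsg.Agent.H931.A7D.PathC
import Cfsg.Agent.S0000

set_option autoImplicit false
open Cfsg

namespace Cfsg.Agent.S5869

/-- The maximal subgroups of Sp_12(q) in the residual class. Let F be a finite field with q elements and characteristic p, and H a maximal subgroup of Sp_12(F) (isometries of the standard alternating form on F^12) lying in the residual class of the symplectic case. Then the perfect socle preimage P of H satisfies one of: P modulo scalars is isomorphic to PSL_2(11), with q = p ≡ ±1 or ±9 mod 20 and p ≠ 11, or q = p² with p ≡ ±2 mod 5 and p ≠ 2; or to PSL_2(13), with q = p ≡ ±1 or ±13 mod 28 and p ≠ 13, or q = p³ with p ≡ ±2 or ±3 mod 7 and p ≠ 2; or to PSL_2(25), with q = p ≡ ±2 mod 5 and p ≠ 3; or to PSp_4(5), with q = p ≡ ±1 mod 5 or q = p² with p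 ≡ ±2 mod 5; or to G_2(4) (automorphisms of the split octonions over the field with 4 elements), with q = p an odd prime, p ≠ 3; or to A_14, with q = 2; or to the Suzuki sporadic group Suz, with q = 3; or to PSL_2(F) itself, with p ≥ 13; or to PSp_4(F), with p = 5. -/
theorem result {F : Type*} [Field F] [Fintype F] (H : Subgroup (Matrix.GeneralLinearGroup (Fin 6 ⊕ Fin 6) F)) (hH : Cfsg.Geo.IsMaximalIn (Cfsg.spGL 6 F) H) (hS : Cfsg.Geo.InSymplecticResidualClass H) :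
    ∃ (P : Subgroup (Matrix.GeneralLinearGroup (Fin 6 ⊕ Fin 6) F)) (p : ℕ), Cfsg.Geo.IsResidualCore H P ∧ p.Prime ∧ CharP F p ∧
    ((Nonempty ((P ⧸ (Cfsg.Geo.scalars (Fin 6 ⊕ Fin 6) F).subgroupOf P) ≃* Matrix.ProjectiveSpecialLinearGroup (Fin 2) (ZMod 11)) ∧ ((Fintype.card F = p ∧ p ≠ 11 ∧ (p % 20 = 9 ∨ p % 20 = 11 ∨ p % 20 = 1 ∨ p % 20 = 19)) ∨ (Fintype.card F = p ^ 2 ∧ p ≠ 2 ∧ (p % 5 = 2 ∨ p % 5 = 3)))) ∨
     (Nonempty ((P ⧸ (Cfsg.Geo.scalars (Fin 6 ⊕ Fin 6) F).subgroupOf P) ≃* Matrix.ProjectiveSpecialLinearGroup (Fin 2) (ZMod 13)) ∧ ((Fintype.card F = p ∧ p ≠ 13 ∧ (p % 28 = 13 ∨ p % 28 = 15 ∨ p % 28 = 1 ∨ p % 28 = 27)) ∨ (Fintype.card F = p ^ 3 ∧ p ≠ 2 ∧ (p % 7 = 2 ∨ p % 7 = 5 ∨ p % 7 = 3 ∨ p % 7 = 4)))) ∨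
     ((∃ (K : Type) (_ : Field K) (_ : Fintype K), Fintype.card K = 25 ∧ Nonempty ((P ⧸ (Cfsg.Geo.scalars (Fin 6 ⊕ Fin 6) F).subgroupOf P) ≃* Matrix.ProjectiveSpecialLinearGroup (Fin 2) K)) ∧ Fintype.card F = p ∧ p ≠ 3 ∧ (p % 5 = 2 ∨ p % 5 = 3)) ∨
     ((∃ (K : Type) (_ : Field K) (_ : Fintype K), Fintype.card K = 5 ∧ Nonempty ((P ⧸ (Cfsg.Geo.scalars (Fin 6 ⊕ Fin 6) F).subgroupOf P) ≃* Cfsg.PSp 2 K)) ∧ ((Fintype.card F = p ∧ (p % 5 = 1 ∨ p % 5 = 4)) ∨ (Fintype.card F = p ^ 2 ∧ (p % 5 = 2 ∨ p % 5 = 3)))) ∨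
     ((∃ (K : Type) (_ : Field K) (_ : Fintype K), Fintype.card K = 4 ∧ Nonempty ((P ⧸ (Cfsg.Geo.scalars (Fin 6 ⊕ Fin 6) F).subgroupOf P) ≃* Cfsg.Lie.G2 K)) ∧ Fintype.card F = p ∧ Odd p ∧ p ≠ 3) ∨
     (Nonempty ((P ⧸ (Cfsg.Geo.scalars (Fin 6 ⊕ Fin 6) F).subgroupOf P) ≃* alternatingGroup (Fin 14)) ∧ Fintype.card F = 2) ∨
     (Cfsg.Spor.IsoSuz (P ⧸ (Cfsg.Geo.scalars (Fin 6 ⊕ Fin 6) F).subgroupOf P) ∧ Fintype.card F = 3) ∨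
     (Nonempty ((P ⧸ (Cfsg.Geo.scalars (Fin 6 ⊕ Fin 6) F).subgroupOf P) ≃* Matrix.ProjectiveSpecialLinearGroup (Fin 2) F) ∧ 13 ≤ p) ∨
     (Nonempty ((P ⧸ (Cfsg.Geo.scalars (Fin 6 ⊕ Fin 6) F).subgroupOf P) ≃* Cfsg.PSp 2 F) ∧ p = 5)) := by
  obtain ⟨P, p, hc, hp, hch, h⟩ := Cfsg.Agent.H922.S12.final (fun H _ h1 _ h3 h4 h5 => H.path_c h1 h3 h4 h5)
    (fun T => Cfsg.Agent.S0000.result) hH hS
  exact ⟨P, p, hc, hp, hch, h⟩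

end Cfsg.Agent.S5869
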