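import Cfsg.Statements.S5746
import Cfsg.Agent.H899.G24Prim
import Cfsg.Agent.SporRec.G24Match
import Cfsg.Agent.ChevStructure.FieldMap

set_option autoImplicit false
open Cfsg

namespace Cfsg.Agent.S5746

open Cfsg.Agent.SporRec Cfsg.Agent.SporRec.GF4 Cfsg.Agent.SporRec.G24Mat
  Cfsg.Agent.SporRec.G24Match Cfsg.Agent.SporRec.G24Rel

/-- the generators inside the group -/
def Ag (i : Fin 6) : Gp := ⟨A i, A_mem i⟩

theorem closure_Ag : Subgroup.closure (Set.range Ag) = ⊤ := by
  have h := closure_A
  have h2 : (Subgroup.closure (Set.range Ag)).map Gp.subtype = Gp := by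
    rw [MonoidHom.map_closure, ← Set.range_comp]
    exact h
  have h3 := congrArg (Subgroup.comap Gp.subtype) h2
  rw [Subgroup.comap_map_eq_self_of_injective Gp.subtype_injective] at h3
  rw [h3]
  exact Subgroup.subgroupOf_self Gp

theorem rel_Ag : ∀ w ∈ R6, (w.map Ag).prod = 1 := by
  intro w hw
  have h := A_rel w hw
  apply Subtype.ext
  rw [← Subgroup.coe_subtype, map_list_prod, List.map_map]
  exact h

/-- The Chevalley group G₂(4) (over the field with 4 elements) has a maximal subgroup H isomorphic to the Hall–Janko group J₂ such that for every x outside H the intersection H ∩ xHx⁻¹ is a maximal subgroup of H; that is, the action of G₂(4) on the cosets of H is extremely primitive. -/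
theorem result {F : Type*} [Field F] [Fintype F] (hF : Fintype.card F = 4) :
    ∃ H : Subgroup (Cfsg.Lie.chevG2.group F), IsCoatom H ∧ Cfsg.Spor.IsoJ2 H ∧
      ∀ x : Cfsg.Lie.chevG2.group F, x ∉ H → IsCoatom ((H ⊓ H.map (MulAut.conj x).toMonoidHom).subgroupOf H) := by
  have hcard : Fintype.card F4 = Fintype.card F := by rw [hF]; exact F4.card_F4
  let e0 : F4 ≃+* F := FiniteField.ringEquivOfCardEq hcard
  let e : Gp ≃* Cfsg.Lie.chevG2.group F :=
    Cfsg.Agent.ChevStructure.FieldMap.groupEquivOfRingEquiv Cfsg.Lie.chevG2 e0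
  refine Cfsg.Agent.H899.G24Prim.main (fun i => e (Ag i)) ?_ ?_ ?_
  · intro w hw
    have h := congrArg e (rel_Ag w hw)
    rw [map_list_prod, List.map_map, map_one] at h
    exact h
  · have h := congrArg (Subgroup.map e.toMonoidHom) closure_Ag
    rw [MonoidHom.map_closure, ← Set.range_comp, ← MonoidHom.range_eq_map,
      MonoidHom.range_eq_top.2 e.surjective] at h
    exact h
  · rw [← Nat.card_congr e.toEquiv]
    exact card_Gp_ge

end Cfsg.Agent.S5746
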