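import Cfsg.Statements.S2207
import Cfsg.Agent.H90.R3.Exist
import Cfsg.Agent.H90.R3.EvenLine2
import Cfsg.Agent.H90.R3.OddLine2
import Cfsg.Agent.H352.Order120
import Cfsg.Agent.S0547
import Cfsg.Agent.S0144

set_option autoImplicit false
open Cfsg

namespace Cfsg.Agent.S2207

open H90.R3 in
/-- the possible parameters -/
theorem params {G X : Type*} [Group G] [Finite G] [Fintype X] [MulAction G X] {D : Dat G X} {n k l f d : ℕ}
    (N : Num D n k l f d) : (n = 10 ∧ k = 3 ∧ f = 2) ∨ (n = 16 ∧ k = 5 ∧ f = 4) ∨ (n = 16 ∧ k = 9 ∧ f = 4) := by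
  classical
  by_cases hf : Even f
  · by_cases hD : ∀ {P Q : X} {x : G}, x ∈ D.K P → x • Q = Q → P ≠ Q → x = 1
    · by_cases hd : Even d
      · exact Or.inr (Or.inl (free_even N hf hD hd))
      · exact Or.inl (free_odd N hf hD (Nat.not_even_iff_odd.1 hd))
    · push Not at hD
      obtain ⟨P, Q, x, hx, hxQ, hPQ, hx1⟩ := hD
      exact Or.inr (Or.inr (line_even N hf hx hxQ hPQ hx1))
  · exfalso
    by_cases hD : ∀ {P Q : X} {x : G}, x ∈ D.K P → x • Q = Q → P ≠ Q → x = 1
    · exact odd_free N hf hD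
    · push Not at hD
      obtain ⟨P, Q, x, hx, hxQ, hPQ, hx1⟩ := hD
      refine odd_line N hf ?_
      have hadj := N.clique hx hx1 (D.K_le hx) hxQ
      obtain ⟨j, hj⟩ := N.exists_j
      have hj2 : 2 ≤ j := by
        rw [← hj hPQ hadj]
        have : Nontrivial (D.L P Q) := ⟨⟨⟨x, hx, N.fix_mem hx hxQ⟩, 1, fun h => hx1 (congrArg Subtype.val h)⟩⟩
        exact Finite.one_lt_card
      intro P Q h1 h2 h3
      have h4 := hj h1 h2
      rw [h3, Subgroup.card_bot] at h4
      omega

theorem exists_min_normal (G : Type*) [Group G] [Finite G] [Nontrivial G] :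
    ∃ N : Subgroup G, N.Normal ∧ N ≠ ⊥ ∧ ∀ M : Subgroup G, M.Normal → M ≤ N → M = ⊥ ∨ M = N := by
  let S : Set (Subgroup G) := {N | N.Normal ∧ N ≠ ⊥}
  have hS : S.Nonempty := ⟨⊤, inferInstance, top_ne_bot⟩
  obtain ⟨N, hN⟩ := S.toFinite.exists_minimal hS
  refine ⟨N, hN.prop.1, hN.prop.2, ?_⟩
  intro M hM hMN
  by_cases h : M = ⊥
  · exact Or.inl h
  · exact Or.inr (le_antisymm hMN (hN.le_of_le ⟨hM, h⟩ hMN))

theorem regular {G X : Type*} [Group G] [Finite G] [Fintype X] [MulAction G X] [FaithfulSMul G X] [Nonempty X]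
    (hprim : MulAction.IsPreprimitive G X) (hs : Group.IsSolvable G) (hX : 1 < Nat.card X) :
    ∃ N : Subgroup G, N.Normal ∧ Nat.card N = Nat.card X ∧ (∀ x y : X, ∃! n : ↥N, (n : G) • x = y) ∧
      ∃ p d : ℕ, p.Prime ∧ Nat.card X = p ^ d := by
  have hnt : Nontrivial G := by
    by_contra hcon
    rw [not_nontrivial_iff_subsingleton] at hcon
    have : Nontrivial X := Finite.one_lt_card_iff_nontrivial.1 hX
    obtain ⟨x, y, hxy⟩ := exists_pair_ne X
    obtain ⟨g, hg⟩ := MulAction.exists_smul_eq G x y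
    apply hxy
    rw [← hg, Subsingleton.elim g 1, one_smul]
  obtain ⟨M, hM, hM1, hmin⟩ := exists_min_normal G
  obtain ⟨h1, h2, p, d, hp, hd, h3, h4⟩ := S0547.result hprim M hM1 hmin
  refine ⟨M, hM, h4.trans h3.symm, ?_, p, d, hp, h3⟩
  intro x y
  obtain ⟨m, hm⟩ := h1.exists_smul_eq x y
  refine ⟨m, hm, ?_⟩
  intro m' hm'
  have h5 : m⁻¹ * m' ∈ MulAction.stabilizer M x := by
    rw [MulAction.mem_stabilizer_iff, mul_smul]
    have : m' • x = y := hm'
    rw [this, ← hm, inv_smul_smul]
  rw [h2, Subgroup.mem_bot] at h5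
  exact (inv_mul_eq_one.1 h5).symm

/-- Primitive rank 3 groups whose point stabilizer acts as a Frobenius group on one of its two non-trivial orbits. Let a finite group G of even order act faithfully and primitively on a finite set X so that the stabilizer of a point A has exactly three orbits, and suppose that on one of its non-trivial orbits I the stabilizer of A acts faithfully as a Frobenius group: transitively, some non-identity element fixing a point of I, and no non-identity element fixing two points of I. Then either G ≅ A₅ and X has 10 points (the action on unordered pairs), or G is solvable and has a normal subgroup of order 16 acting regularly on X. -/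
theorem result {G X : Type*} [Group G] [Finite G] [Fintype X] [MulAction G X] [FaithfulSMul G X] (heven : Even (Nat.card G)) (hprim : MulAction.IsPreprimitive G X) (A : X)
    (h3 : Nat.card (MulAction.orbitRel.Quotient ↥(MulAction.stabilizer G A) X) = 3) (B : X) (hBA : B ≠ A)
    (hfaith : ∀ g ∈ MulAction.stabilizer G A, (∀ h ∈ MulAction.stabilizer G A, g • (h • B) = h • B) → g = 1)
    (hfix : ∃ g ∈ MulAction.stabilizer G A, g ≠ 1 ∧ g • B = B)
    (hfrob : ∀ g ∈ MulAction.stabilizer G A, ∀ h ∈ MulAction.stabilizer G A, g • B = B → g • (h • B) = h • B → h • B ≠ B → g = 1) :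
    (Nonempty (G ≃* ↥(alternatingGroup (Fin 5))) ∧ Fintype.card X = 10) ∨
    (IsSolvable G ∧ ∃ N : Subgroup G, N.Normal ∧ Nat.card N = 16 ∧ ∀ x y : X, ∃! n : ↥N, (n : G) • x = y) := by
  obtain ⟨D, n, k, l, f, d, N⟩ := H90.R3.exists_dat heven hprim A h3 B hBA hfix hfrob
  have hne : Nonempty X := ⟨A⟩
  have hcG := N.cG
  have hcX := N.cX
  rcases params N with ⟨hn, hk, hf⟩ | h
  · left
    rw [hn, hk, hf] at hcG
    refine ⟨H352.Order120.alt5_of_card_60 (by rw [hcG]) ?_, by rw [← Nat.card_eq_fintype_card, hcX, hn]⟩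
    intro hs
    obtain ⟨-, -, -, -, p, e, hp, he⟩ := regular hprim hs (by rw [hcX, hn]; norm_num)
    rw [hcX, hn] at he
    have h2 : 2 ∣ p ^ e := by rw [← he]; norm_num
    have h5 : 5 ∣ p ^ e := by rw [← he]; norm_num
    have h2' := (Nat.prime_dvd_prime_iff_eq Nat.prime_two hp).1 (Nat.prime_two.dvd_of_dvd_pow h2)
    have h5' := (Nat.prime_dvd_prime_iff_eq Nat.prime_five hp).1 (Nat.prime_five.dvd_of_dvd_pow h5)
    omega
  · right
    have hn : n = 16 := by omega
    have hs : Group.IsSolvable G := by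
      rcases h with ⟨h1, h2, h3⟩ | ⟨h1, h2, h3⟩
      · exact S0144.result 2 5 6 1 Nat.prime_two Nat.prime_five (by rw [hcG, h1, h2, h3]; norm_num)
      · exact S0144.result 2 3 6 2 Nat.prime_two Nat.prime_three (by rw [hcG, h1, h2, h3]; norm_num)
    obtain ⟨M, hM, h1, h2, -⟩ := regular hprim hs (by rw [hcX, hn]; norm_num)
    exact ⟨hs, M, hM, by rw [h1, hcX, hn], h2⟩

end Cfsg.Agent.S2207
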