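import Cfsg.Statements.S5060
import Cfsg.Agent.S0801
import Cfsg.Agent.H731.SL2Pair
import Cfsg.Agent.H732.GenericWord

set_option autoImplicit false
open Cfsg
open Cfsg.Agent.H731

namespace Cfsg.Agent.S5060

section aux

variable {K : Type*} [Field K]

/-- The automorphism of `SL₂(K)` given by conjugation with `(0 s; 1 0)`. -/
def psi (s : K) (hs : s ≠ 0) : Matrix.SpecialLinearGroup (Fin 2) K →* Matrix.SpecialLinearGroup (Fin 2) K where
  toFun g := ⟨!![(g : Matrix (Fin 2) (Fin 2) K) 1 1, s * (g : Matrix (Fin 2) (Fin 2) K) 1 0;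
      s⁻¹ * (g : Matrix (Fin 2) (Fin 2) K) 0 1, (g : Matrix (Fin 2) (Fin 2) K) 0 0], by
    rw [Matrix.det_fin_two_of]
    have := sl2_det g
    field_simp
    linear_combination this⟩
  map_one' := by
    apply sl2_ext
    · change ((1 : Matrix.SpecialLinearGroup (Fin 2) K) : Matrix (Fin 2) (Fin 2) K) 1 1 = _
      rw [one_11, one_00]
    · change s * ((1 : Matrix.SpecialLinearGroup (Fin 2) K) : Matrix (Fin 2) (Fin 2) K) 1 0 = _
      rw [one_10, one_01, mul_zero]
    · change s⁻¹ * ((1 : Matrix.SpecialLinearGroup (Fin 2) K) : Matrix (Fin 2) (Fin 2) K) 0 1 = _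
      rw [one_01, one_10, mul_zero]
    · change ((1 : Matrix.SpecialLinearGroup (Fin 2) K) : Matrix (Fin 2) (Fin 2) K) 0 0 = _
      rw [one_11, one_00]
  map_mul' g h := by
    apply sl2_ext
    · refine Eq.trans ?_ (sl2_mul _ _ 0 0).symm
      refine Eq.trans (sl2_mul g h 1 1) ?_
      change _ = (g : Matrix (Fin 2) (Fin 2) K) 1 1 * (h : Matrix (Fin 2) (Fin 2) K) 1 1 +
          s * (g : Matrix (Fin 2) (Fin 2) K) 1 0 * (s⁻¹ * (h : Matrix (Fin 2) (Fin 2) K) 0 1)
      field_simp; ring
    · refine Eq.trans ?_ (sl2_mul _ _ 0 1).symm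
      refine Eq.trans (congrArg (fun t => s * t) (sl2_mul g h 1 0)) ?_
      change _ = (g : Matrix (Fin 2) (Fin 2) K) 1 1 * (s * (h : Matrix (Fin 2) (Fin 2) K) 1 0) +
          s * (g : Matrix (Fin 2) (Fin 2) K) 1 0 * (h : Matrix (Fin 2) (Fin 2) K) 0 0
      ring
    · refine Eq.trans ?_ (sl2_mul _ _ 1 0).symm
      refine Eq.trans (congrArg (fun t => s⁻¹ * t) (sl2_mul g h 0 1)) ?_
      change _ = s⁻¹ * (g : Matrix (Fin 2) (Fin 2) K) 0 1 * (h : Matrix (Fin 2) (Fin 2) K) 1 1 +
          (g : Matrix (Fin 2) (Fin 2) K) 0 0 * (s⁻¹ * (h : Matrix (Fin 2) (Fin 2) K) 0 1)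
      ring
    · refine Eq.trans ?_ (sl2_mul _ _ 1 1).symm
      refine Eq.trans (sl2_mul g h 0 0) ?_
      change _ = s⁻¹ * (g : Matrix (Fin 2) (Fin 2) K) 0 1 * (s * (h : Matrix (Fin 2) (Fin 2) K) 1 0) +
          (g : Matrix (Fin 2) (Fin 2) K) 0 0 * (h : Matrix (Fin 2) (Fin 2) K) 0 0
      field_simp; ring

theorem psi_lo (s : K) (hs : s ≠ 0) (r : K) : psi s hs (lo K r) = up K (s * r) := by
  apply sl2_ext
  · rfl
  · rfl
  · change s⁻¹ * (0 : K) = 0; rw [mul_zero]
  · rfl

theorem psi_up (s : K) (hs : s ≠ 0) (r : K) : psi s hs (up K r) = lo K (s⁻¹ * r) := by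
  apply sl2_ext
  · rfl
  · change s * (0 : K) = 0; rw [mul_zero]
  · rfl
  · rfl

/-- conversion of `u(L)` into `l(L)`. -/
theorem w_conj_up (a r : K) (ha : a ≠ 0) :
    (up K (-a⁻¹) * lo K a * up K (-a⁻¹)) * up K r * (up K (-a⁻¹) * lo K a * up K (-a⁻¹))⁻¹ = lo K (-(a ^ 2 * r)) := by
  rw [mul_inv_eq_iff_eq_mul]
  apply sl2_ext <;> simp only [sl2_mul, lo_00, lo_01, lo_10, lo_11, up_00, up_01, up_10, up_11] <;>
    field_simp <;> ring

end aux

/-- Step 1: the upper unitriangular matrices with entries in `k(α)`. -/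
theorem up_mem_of_infinite {k K : Type*} [Field k] [Field K] [Algebra k K] [Infinite k] (hk2 : ringChar k ≠ 2)
    (α : K) (hα : IsAlgebraic k α) (hα0 : α ≠ 0) (H : Subgroup (Matrix.SpecialLinearGroup (Fin 2) K))
    (hu : ∀ c : k, up K (algebraMap k K c) ∈ H) (hl : ∀ c : k, lo K (algebraMap k K c * α) ∈ H) :
    ∀ z ∈ IntermediateField.adjoin k ({α} : Set K), up K z ∈ H := by
  set L := IntermediateField.adjoin k ({α} : Set K) with hL
  have h2 : (2 : K) ≠ 0 := by
    have h1 : (2 : k) ≠ 0 := Ring.two_ne_zero hk2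
    have := (map_ne_zero (algebraMap k K)).2 h1
    rwa [map_ofNat] at this
  -- diagonal type elements
  have key : ∀ y ∈ L, y ≠ 0 → ∃ t ∈ H, (t : Matrix (Fin 2) (Fin 2) K) 1 0 = 0 ∧
      (t : Matrix (Fin 2) (Fin 2) K) 1 1 = y := by
    intro y hy hy0
    obtain ⟨x₁, x₂, ⟨h, hh, h10, h11⟩, ⟨h', hh', h10', h11'⟩⟩ := H732.exists_pair (k := k) hα.isIntegral hα0
      (R := fun x₁ x₂ => ∃ h ∈ H, (h : Matrix (Fin 2) (Fin 2) K) 1 0 = x₁ ∧ (h : Matrix (Fin 2) (Fin 2) K) 1 1 = x₂)
      ⟨1, H.one_mem, one_10, one_11⟩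
      (by
        rintro x₁ x₂ c ⟨h, hh, h10, h11⟩
        refine ⟨h * up K (algebraMap k K c), H.mul_mem hh (hu c), ?_, ?_⟩
        · rw [sl2_mul, up_00, up_10, h10, h11]; ring
        · rw [sl2_mul, up_01, up_11, h10, h11]; ring)
      (by
        rintro x₁ x₂ c ⟨h, hh, h10, h11⟩
        refine ⟨h * lo K (algebraMap k K c * α), H.mul_mem hh (hl c), ?_, ?_⟩
        · rw [sl2_mul, lo_00, lo_10, h10, h11]; ring
        · rw [sl2_mul, lo_01, lo_11, h10, h11]; ring) hy hy0
    obtain ⟨t, ht⟩ : ∃ t, t = h' * h⁻¹ := ⟨_, rfl⟩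
    have hth : t * h = h' := by rw [ht, inv_mul_cancel_right]
    have htH : t ∈ H := ht ▸ H.mul_mem hh' (H.inv_mem hh)
    have e1 : (t : Matrix (Fin 2) (Fin 2) K) 1 0 * (h : Matrix (Fin 2) (Fin 2) K) 0 0 +
        (t : Matrix (Fin 2) (Fin 2) K) 1 1 * (h : Matrix (Fin 2) (Fin 2) K) 1 0 = y * x₁ := by
      rw [← sl2_mul, hth, h10']
    have e2 : (t : Matrix (Fin 2) (Fin 2) K) 1 0 * (h : Matrix (Fin 2) (Fin 2) K) 0 1 +
        (t : Matrix (Fin 2) (Fin 2) K) 1 1 * (h : Matrix (Fin 2) (Fin 2) K) 1 1 = y * x₂ := by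
      rw [← sl2_mul, hth, h11']
    have hdet := sl2_det h
    rw [h10, h11] at hdet
    rw [h10] at e1
    rw [h11] at e2
    refine ⟨t, htH, ?_, ?_⟩
    · linear_combination x₂ * e1 - x₁ * e2 - (t : Matrix (Fin 2) (Fin 2) K) 1 0 * hdet
    · linear_combination (h : Matrix (Fin 2) (Fin 2) K) 0 0 * e2 - (h : Matrix (Fin 2) (Fin 2) K) 0 1 * e1 +
        (y - (t : Matrix (Fin 2) (Fin 2) K) 1 1) * hdet
  have hsq : ∀ z ∈ L, up K (z ^ 2) ∈ H := by
    intro z hz
    by_cases hz0 : z = 0
    · rw [hz0, zero_pow two_ne_zero, up_zero]; exact H.one_mem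
    obtain ⟨t, htH, t10, t11⟩ := key z⁻¹ (L.inv_mem hz) (inv_ne_zero hz0)
    have hdet := sl2_det t
    rw [t10, t11, mul_zero, sub_zero] at hdet
    have t00 : (t : Matrix (Fin 2) (Fin 2) K) 0 0 = z := by
      field_simp at hdet
      linear_combination hdet
    have h1 : t * up K 1 * t⁻¹ = up K (z ^ 2) := by
      rw [mul_inv_eq_iff_eq_mul]
      apply sl2_ext <;> simp only [sl2_mul, up_00, up_01, up_10, up_11, t00, t10, t11] <;> field_simp <;> ring
    rw [← h1]
    have h3 := hu 1
    rw [map_one] at h3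
    exact H.mul_mem (H.mul_mem htH h3) (H.inv_mem htH)
  intro z hz
  have e : z = ((z + 1) / 2) ^ 2 + -((z - 1) / 2) ^ 2 := by field_simp; ring
  have hL2 : (2 : K) ∈ L := by
    have := L.add_mem L.one_mem L.one_mem
    rwa [one_add_one_eq_two] at this
  rw [e, up_add, up_neg]
  exact H.mul_mem (hsq _ (L.div_mem (L.add_mem hz L.one_mem) hL2))
    (H.inv_mem (hsq _ (L.div_mem (L.sub_mem hz L.one_mem) hL2)))

theorem up_mem_of_finite {k K : Type*} [Field k] [Field K] [Algebra k K] [Finite k] (hk2 : ringChar k ≠ 2)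
    (hk3 : Nat.card k ≠ 3)
    (α : K) (hα : IsAlgebraic k α) (hα0 : α ≠ 0) (H : Subgroup (Matrix.SpecialLinearGroup (Fin 2) K))
    (hu : ∀ c : k, up K (algebraMap k K c) ∈ H) (hl : ∀ c : k, lo K (algebraMap k K c * α) ∈ H) :
    ∀ z ∈ IntermediateField.adjoin k ({α} : Set K), up K z ∈ H := by
  classical
  set L := IntermediateField.adjoin k ({α} : Set K) with hL
  have h2k : (2 : k) ≠ 0 := Ring.two_ne_zero hk2
  have h2 : (2 : K) ≠ 0 := by
    have := (map_ne_zero (algebraMap k K)).2 h2k
    rwa [map_ofNat] at this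
  -- a good `d`
  have hd : ∃ d : k, d ≠ 0 ∧ (algebraMap k K d * α) ^ 2 ≠ -1 := by
    by_cases hα2 : α ^ 2 = -1
    · obtain ⟨d, hd0, hd1, hd2⟩ : ∃ d : k, d ≠ 0 ∧ d ≠ 1 ∧ d ≠ -1 := by
        by_contra hcon
        push Not at hcon
        apply hk3
        have huniv : (Set.univ : Set k) = {0, 1, -1} := by
          ext x
          simp only [Set.mem_univ, Set.mem_insert_iff, Set.mem_singleton_iff, true_iff]
          by_cases h1 : x = 0
          · exact Or.inl h1
          · by_cases h2 : x = 1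
            · exact Or.inr (Or.inl h2)
            · exact Or.inr (Or.inr (hcon x h1 h2))
        have h11 : (1 : k) ≠ -1 := by
          intro h
          apply h2k
          linear_combination h
        rw [← Set.ncard_univ, huniv, Set.ncard_eq_three]
        exact ⟨0, 1, -1, zero_ne_one, by simp, h11, rfl⟩
      refine ⟨d, hd0, ?_⟩
      intro h
      rw [mul_pow, hα2] at h
      have h3 : (algebraMap k K) (d ^ 2) = algebraMap k K 1 := by
        rw [map_pow, map_one]; linear_combination -h
      have h4 := (algebraMap k K).injective h3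
      have h5 : (d - 1) * (d + 1) = 0 := by linear_combination h4
      rcases mul_eq_zero.1 h5 with h6 | h6
      · exact hd1 (by linear_combination h6)
      · exact hd2 (by linear_combination h6)
    · exact ⟨1, one_ne_zero, by rw [map_one, one_mul]; exact hα2⟩
  obtain ⟨d, hd0, hdα⟩ := hd
  have hαL : α ∈ L := IntermediateField.mem_adjoin_simple_self k α
  have hdK : algebraMap k K d ≠ 0 := (map_ne_zero (algebraMap k K)).2 hd0
  obtain ⟨β, hβ⟩ : ∃ β, β = algebraMap k K d * α := ⟨_, rfl⟩
  have hβL : β ∈ L := hβ ▸ L.mul_mem (L.algebraMap_mem d) hαL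
  have hβ0 : β ≠ 0 := hβ ▸ mul_ne_zero hdK hα0
  -- the subfield generated by β
  let F : Subfield K := Subfield.closure {β}
  have hβF : β ∈ F := Subfield.subset_closure rfl
  have hFL : F ≤ L.toSubfield := by
    rw [Subfield.closure_le]
    rintro x rfl
    exact hβL
  have hfd : FiniteDimensional k L := IntermediateField.adjoin.finiteDimensional hα.isIntegral
  have hLfin : Finite L := Module.finite_of_finite k
  have hFfin : Finite F := by
    have : Finite L.toSubfield := hLfin
    exact Finite.of_injective (Subfield.inclusion hFL) (Subfield.inclusion hFL).injective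
  have hFt := Fintype.ofFinite F
  have hgen : Subfield.closure ({⟨β, hβF⟩} : Set F) = ⊤ := by
    rw [eq_top_iff]
    intro x _
    have h1 : (Subfield.closure ({⟨β, hβF⟩} : Set F)).map F.subtype = F := by
      rw [RingHom.map_field_closure]
      simp only [Set.image_singleton]
      rfl
    have h3 : (x : K) ∈ (Subfield.closure ({⟨β, hβF⟩} : Set F)).map F.subtype := by rw [h1]; exact x.2
    obtain ⟨x', hx', hx''⟩ := h3
    have : x' = x := Subtype.ext hx''
    rwa [← this]
  have h2F : (2 : F) ≠ 0 := by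
    intro h
    apply h2
    have h3 : F.subtype 2 = 0 := by rw [h, map_zero]
    rwa [map_ofNat] at h3
  have hD := S0801.result (F := F) h2F ⟨β, hβF⟩ (fun h => hβ0 (congrArg Subtype.val h)) hgen
  have htop : Subgroup.closure {g : Matrix.SpecialLinearGroup (Fin 2) F |
      (g : Matrix (Fin 2) (Fin 2) F) = !![1, 0; 1, 1] ∨ (g : Matrix (Fin 2) (Fin 2) F) = !![1, ⟨β, hβF⟩; 0, 1]} = ⊤ := by
    rcases hD with h | h
    · exact h.1
    · exfalso
      have h3 := congrArg (fun x : F => (x : K)) h.2.1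
      simp only [SubmonoidClass.mk_pow, NegMemClass.coe_neg, OneMemClass.coe_one] at h3
      exact hdα (hβ ▸ h3)
  -- images in SL₂(K)
  let ι : Matrix.SpecialLinearGroup (Fin 2) F →* Matrix.SpecialLinearGroup (Fin 2) K :=
    Matrix.SpecialLinearGroup.map F.subtype
  have hιlo : ∀ r : F, ι (lo F r) = lo K (r : K) := by
    intro r
    apply sl2_ext
    · change ((1 : F) : K) = 1; rfl
    · change ((0 : F) : K) = 0; rfl
    · rfl
    · change ((1 : F) : K) = 1; rfl
  have hιup : ∀ r : F, ι (up F r) = up K (r : K) := by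
    intro r
    apply sl2_ext
    · change ((1 : F) : K) = 1; rfl
    · rfl
    · change ((0 : F) : K) = 0; rfl
    · change ((1 : F) : K) = 1; rfl
  have hcr : ∀ c : k, c ≠ 0 → ∀ r : F, up K (algebraMap k K c * (r : K)) ∈ H := by
    intro c hc r
    have hcK : algebraMap k K c ≠ 0 := (map_ne_zero (algebraMap k K)).2 hc
    have hle : (⊤ : Subgroup (Matrix.SpecialLinearGroup (Fin 2) F)) ≤
        H.comap ((psi (algebraMap k K c) hcK).comp ι) := by
      rw [← htop, Subgroup.closure_le]
      rintro g (hg | hg)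
      · have hg' : g = lo F 1 := Subtype.ext hg
        rw [hg']
        change psi (algebraMap k K c) hcK (ι (lo F 1)) ∈ H
        rw [hιlo, psi_lo]
        change up K (algebraMap k K c * (1 : K)) ∈ H
        rw [mul_one]
        exact hu c
      · have hg' : g = up F ⟨β, hβF⟩ := Subtype.ext hg
        rw [hg']
        change psi (algebraMap k K c) hcK (ι (up F ⟨β, hβF⟩)) ∈ H
        rw [hιup, psi_up]
        have h4 : (algebraMap k K c)⁻¹ * β = algebraMap k K (c⁻¹ * d) * α := by
          rw [hβ, map_mul, map_inv₀]; ring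
        change lo K ((algebraMap k K c)⁻¹ * β) ∈ H
        rw [h4]
        exact hl _
    have h5 : lo F r ∈ H.comap ((psi (algebraMap k K c) hcK).comp ι) := hle (Subgroup.mem_top _)
    have h6 : psi (algebraMap k K c) hcK (ι (lo F r)) ∈ H := h5
    rwa [hιlo, psi_lo] at h6
  have hmono : ∀ (c : k) (i : ℕ), up K (algebraMap k K c * α ^ i) ∈ H := by
    intro c i
    by_cases hc : c = 0
    · rw [hc, map_zero, zero_mul, up_zero]; exact H.one_mem
    have h4 := hcr (c * (d ^ i)⁻¹) (mul_ne_zero hc (inv_ne_zero (pow_ne_zero i hd0))) (⟨β, hβF⟩ ^ i)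
    have h5 : algebraMap k K (c * (d ^ i)⁻¹) * (((⟨β, hβF⟩ : F) ^ i : F) : K) = algebraMap k K c * α ^ i := by
      rw [SubmonoidClass.coe_pow]
      change algebraMap k K (c * (d ^ i)⁻¹) * β ^ i = _
      rw [hβ, map_mul, map_inv₀, map_pow, mul_pow]
      have : (algebraMap k K d) ^ i ≠ 0 := pow_ne_zero i hdK
      field_simp
    rwa [h5] at h4
  intro z hz
  obtain ⟨P, -, hP⟩ := H732.exists_bounded hα.isIntegral hz
  rw [← hP]
  clear hP
  induction P using Polynomial.induction_on' with
  | add p q hp hq =>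
    rw [map_add, up_add]
    exact H.mul_mem hp hq
  | monomial i c =>
    rw [Polynomial.aeval_monomial]
    exact hmono c i

/-- Let k ⊆ K be fields with the characteristic of k not 2 and k not of order 3, and let α ∈ K be a non-zero element algebraic over k. Then the subgroup of SL₂(K) generated by the upper unitriangular matrices with entry c and the lower unitriangular matrices with entry cα, c ranging over k, is exactly the group of matrices of SL₂(K) with all entries in k(α). -/
theorem result {k K : Type*} [Field k] [Field K] [Algebra k K] (hk2 : ringChar k ≠ 2) (hk3 : Nat.card k ≠ 3)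
    (α : K) (hα : IsAlgebraic k α) (hα0 : α ≠ 0) :
    (Subgroup.closure ({g : Matrix.SpecialLinearGroup (Fin 2) K | ∃ c : k, (g : Matrix (Fin 2) (Fin 2) K) = !![1, algebraMap k K c; 0, 1]} ∪
        {g : Matrix.SpecialLinearGroup (Fin 2) K | ∃ c : k, (g : Matrix (Fin 2) (Fin 2) K) = !![1, 0; algebraMap k K c * α, 1]}) :
      Set (Matrix.SpecialLinearGroup (Fin 2) K)) =
    {g : Matrix.SpecialLinearGroup (Fin 2) K | ∀ i j : Fin 2, (g : Matrix (Fin 2) (Fin 2) K) i j ∈ IntermediateField.adjoin k ({α} : Set K)} := by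
  set L := IntermediateField.adjoin k ({α} : Set K) with hL
  set H := Subgroup.closure ({g : Matrix.SpecialLinearGroup (Fin 2) K | ∃ c : k, (g : Matrix (Fin 2) (Fin 2) K) = !![1, algebraMap k K c; 0, 1]} ∪
        {g : Matrix.SpecialLinearGroup (Fin 2) K | ∃ c : k, (g : Matrix (Fin 2) (Fin 2) K) = !![1, 0; algebraMap k K c * α, 1]}) with hH
  have hu : ∀ c : k, up K (algebraMap k K c) ∈ H := fun c => Subgroup.subset_closure (Or.inl ⟨c, rfl⟩)
  have hl : ∀ c : k, lo K (algebraMap k K c * α) ∈ H := fun c => Subgroup.subset_closure (Or.inr ⟨c, rfl⟩)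
  have hαL : α ∈ L := IntermediateField.mem_adjoin_simple_self k α
  have hup : ∀ z ∈ L, up K z ∈ H := by
    rcases finite_or_infinite k with hk | hk
    · exact up_mem_of_finite hk2 hk3 α hα hα0 H hu hl
    · exact up_mem_of_infinite hk2 α hα hα0 H hu hl
  have hlo : ∀ z ∈ L, lo K z ∈ H := by
    intro z hz
    have h1 := w_conj_up α (-(z / α ^ 2)) hα0
    have h2 : -(α ^ 2 * -(z / α ^ 2)) = z := by field_simp
    rw [h2] at h1
    rw [← h1]
    have hα1 : lo K α ∈ H := by
      have := hl 1
      rwa [map_one, one_mul] at this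
    have h3 : up K (-α⁻¹) ∈ H := hup _ (L.neg_mem (L.inv_mem hαL))
    have h4 := H.mul_mem (H.mul_mem h3 hα1) h3
    exact H.mul_mem (H.mul_mem h4 (hup _ (L.neg_mem (L.div_mem hz (pow_mem hαL 2))))) (H.inv_mem h4)
  ext g
  constructor
  · intro hg
    -- the subgroup of matrices with entries in L
    have hle : H ≤ { carrier := {g | ∀ i j : Fin 2, (g : Matrix (Fin 2) (Fin 2) K) i j ∈ L}
                     one_mem' := by
                       intro i j
                       rw [Matrix.SpecialLinearGroup.coe_one, Matrix.one_apply]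
                       split_ifs
                       · exact L.one_mem
                       · exact L.zero_mem
                     mul_mem' := by
                       intro a b ha hb i j
                       rw [sl2_mul]
                       exact L.add_mem (L.mul_mem (ha i 0) (hb 0 j)) (L.mul_mem (ha i 1) (hb 1 j))
                     inv_mem' := by
                       intro a ha i j
                       rw [Matrix.SpecialLinearGroup.coe_inv, Matrix.adjugate_fin_two]
                       fin_cases i <;> fin_cases j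
                       · exact ha 1 1
                       · exact L.neg_mem (ha 0 1)
                       · exact L.neg_mem (ha 1 0)
                       · exact ha 0 0 : Subgroup (Matrix.SpecialLinearGroup (Fin 2) K) } := by
      rw [hH, Subgroup.closure_le]
      rintro g (⟨c, hc⟩ | ⟨c, hc⟩)
      · intro i j
        rw [hc]
        fin_cases i <;> fin_cases j
        · exact L.one_mem
        · exact L.algebraMap_mem c
        · exact L.zero_mem
        · exact L.one_mem
      · intro i j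
        rw [hc]
        fin_cases i <;> fin_cases j
        · exact L.one_mem
        · exact L.zero_mem
        · exact L.mul_mem (L.algebraMap_mem c) hαL
        · exact L.one_mem
    exact hle hg
  · intro hg
    have hg' : ∀ i j : Fin 2, (g : Matrix (Fin 2) (Fin 2) K) i j ∈ L := hg
    have key : ∀ g : Matrix.SpecialLinearGroup (Fin 2) K, (∀ i j : Fin 2, (g : Matrix (Fin 2) (Fin 2) K) i j ∈ L) →
        (g : Matrix (Fin 2) (Fin 2) K) 1 0 ≠ 0 → g ∈ H := by
      intro g hg hc
      rw [sl2_decomp g hc]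
      exact H.mul_mem (H.mul_mem (hup _ (L.div_mem (L.sub_mem (hg 0 0) L.one_mem) (hg 1 0))) (hlo _ (hg 1 0)))
        (hup _ (L.div_mem (L.sub_mem (hg 1 1) L.one_mem) (hg 1 0)))
    change g ∈ H
    by_cases hc : (g : Matrix (Fin 2) (Fin 2) K) 1 0 = 0
    · have hdet := sl2_det g
      rw [hc, mul_zero, sub_zero] at hdet
      have hd : (g : Matrix (Fin 2) (Fin 2) K) 1 1 ≠ 0 := right_ne_zero_of_mul_eq_one hdet
      have h1 : g * lo K 1 ∈ H := by
        apply key
        · intro i j
          rw [sl2_mul]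
          fin_cases j
          · exact L.add_mem (L.mul_mem (hg' i 0) L.one_mem) (L.mul_mem (hg' i 1) L.one_mem)
          · exact L.add_mem (L.mul_mem (hg' i 0) L.zero_mem) (L.mul_mem (hg' i 1) L.one_mem)
        · rw [sl2_mul, lo_00, lo_10, hc]
          simpa using hd
      have h2 : g = (g * lo K 1) * (lo K 1)⁻¹ := by simp
      rw [h2]
      exact H.mul_mem h1 (H.inv_mem (hlo _ L.one_mem))
    · exact key g hg' hc

end Cfsg.Agent.S5060
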