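import Cfsg.Statements.S2152
import Cfsg.Agent.H77.Final

set_option autoImplicit false
open Cfsg

namespace Cfsg.Agent.S2152

/-- Minimal index of a proper subgroup of the unitary groups of even dimension n ≥ 6: for a field F with q² elements, q ≥ 3, every proper subgroup of PSU_n(q) has index at least (q^n − 1)(q^(n−1) + 1)/(q² − 1), and that index is attained (the isotropic points). -/
theorem result {F : Type*} [Field F] [Fintype F] (q : ℕ) (hF : Fintype.card F = q ^ 2) (hq : 3 ≤ q) (n : ℕ) (hn : 6 ≤ n) (heven : Even n) : (∀ H : Subgroup (Cfsg.PSU n F q), H ≠ ⊤ → (q ^ n - 1) * (q ^ (n - 1) + 1) / (q ^ 2 - 1) ≤ H.index) ∧ (∃ H : Subgroup (Cfsg.PSU n F q), H.index = (q ^ n - 1) * (q ^ (n - 1) + 1) / (q ^ 2 - 1)) := by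
  have hq1 : 1 ≤ q ^ 2 := Nat.one_le_pow _ _ (by omega)
  have hq2 : 0 < q ^ 2 - 1 := by
    have : 2 ^ 2 ≤ q ^ 2 := Nat.pow_le_pow_left (by omega) 2
    omega
  have hcast : ((q ^ 2 - 1 : ℕ) : ℤ) = (q : ℤ) ^ 2 - 1 := by
    rw [Nat.cast_sub hq1]; push_cast; ring
  have hn1 : (q : ℤ) ^ n = (q : ℤ) ^ 2 * (q : ℤ) ^ (n - 2) := by
    rw [← pow_add]; congr 1; omega
  have hn2 : (q : ℤ) ^ (n - 1) = (q : ℤ) * (q : ℤ) ^ (n - 2) := by
    rw [← pow_succ']; congr 1; omega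
  have hB : (((q ^ n - 1) * (q ^ (n - 1) + 1) : ℕ) : ℤ) = Cfsg.Agent.H77.Step1.In q n := by
    have h1 : 1 ≤ q ^ n := Nat.one_le_pow _ _ (by omega)
    rw [Nat.cast_mul, Nat.cast_sub h1]
    push_cast
    rw [hn1, hn2, Cfsg.Agent.H77.Step1.In, heven.neg_one_pow]
  constructor
  · intro H hH
    apply Nat.div_le_of_le_mul
    rcases Cfsg.Agent.H77.Final.lower hF (by omega) H hH with h | ⟨h2, -, -⟩
    · rw [← hB, ← hcast] at h
      rw [mul_comm (q ^ 2 - 1)]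
      exact_mod_cast h
    · omega
  · obtain ⟨H, hH⟩ := Cfsg.Agent.H77.Final.exists_iso_index (F := F) hF (by omega : 5 ≤ n)
    refine ⟨H, ?_⟩
    rw [← hB] at hH
    rw [← Nat.cast_inj.1 hH, Nat.mul_div_cancel _ hq2]

end Cfsg.Agent.S2152
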