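import Cfsg.Statements.S3675
import Cfsg.Agent.H427.CsMain
import Cfsg.Agent.H367.ClsMain
import Cfsg.Agent.S0000
import Cfsg.Agent.OrdDiv.Table

set_option autoImplicit false
open Cfsg

namespace Cfsg.Agent.S3675

/-- For every n, a finite group with the same order as the alternating group A_n and the same set of conjugacy class sizes as A_n is isomorphic to A_n. -/
theorem result (n : ℕ) {G : Type*} [Group G] [Finite G]
    (hcard : Nat.card G = Nat.card (alternatingGroup (Fin n))) (hcs : Set.range (fun g : G => (Subgroup.centralizer ({g} : Set G)).index) = Set.range (fun g : (alternatingGroup (Fin n)) => (Subgroup.centralizer ({g} : Set (alternatingGroup (Fin n)))).index)) :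
    Nonempty (G ≃* alternatingGroup (Fin n)) := by
  rcases Nat.lt_or_ge 12 n with h12 | h12
  · exact Cfsg.Agent.H427.Cs.alt_large Cfsg.Agent.OrdDiv.table h12 hcard hcs
      (fun S _ _ _ => Cfsg.Agent.S0000.result (G := S))
  · exact Cfsg.Agent.H367.ClsMain.alt_small Cfsg.Agent.OrdDiv.table
      (fun S _ _ _ => Cfsg.Agent.S0000.result (G := S)) h12 hcard hcs

end Cfsg.Agent.S3675
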