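import Cfsg.Statements.S5794
import Cfsg.Agent.H912.FiveFinal
import Cfsg.Agent.S0000

set_option autoImplicit false
open Cfsg

namespace Cfsg.Agent.S5794

/-- The maximal subgroups of SL_5(q) in the residual class. Let F be a finite field with q elements and H a maximal subgroup of SL_5(F) lying in the residual class of the linear case. Then q = p is prime and the perfect socle preimage P of H satisfies one of: P modulo scalars is isomorphic to PSL_2(11) and p ≡ 1, 3, 4, 5 or 9 mod 11 with p ≠ 3; or P modulo scalars is isomorphic to the Mathieu group M_11 and p = 3; or P modulo scalars is isomorphic to U_4(2) (PSU_4 over the field with 4 elements) and p ≡ 1 mod 6. -/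
theorem result {F : Type*} [Field F] [Fintype F] (H : Subgroup (Matrix.GeneralLinearGroup (Fin 5) F)) (hH : Cfsg.Geo.IsMaximalIn (Cfsg.Geo.specialLinear (Fin 5) F) H) (hS : Cfsg.Geo.InLinearResidualClass H) :
    ∃ (P : Subgroup (Matrix.GeneralLinearGroup (Fin 5) F)) (p : ℕ), Cfsg.Geo.IsResidualCore H P ∧ p.Prime ∧ Fintype.card F = p ∧
    ((Nonempty ((P ⧸ (Cfsg.Geo.scalars (Fin 5) F).subgroupOf P) ≃* Matrix.ProjectiveSpecialLinearGroup (Fin 2) (ZMod 11)) ∧ p ≠ 3 ∧ (p % 11 = 1 ∨ p % 11 = 3 ∨ p % 11 = 4 ∨ p % 11 = 5 ∨ p % 11 = 9)) ∨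
     (Cfsg.Spor.IsoM11 (P ⧸ (Cfsg.Geo.scalars (Fin 5) F).subgroupOf P) ∧ p = 3) ∨
     ((∃ (K : Type) (_ : Field K) (_ : Fintype K), Fintype.card K = 4 ∧ Nonempty ((P ⧸ (Cfsg.Geo.scalars (Fin 5) F).subgroupOf P) ≃* Cfsg.PSU 4 K 2)) ∧ p % 6 = 1)) := by
  exact H912.Five.row5794 (fun _ _ _ _ => S0000.result) hH hS

end Cfsg.Agent.S5794
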