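import Cfsg.Statements.S2143
import Cfsg.Agent.H75.Transfer

set_option autoImplicit false
open Cfsg

namespace Cfsg.Agent.S2143

/-- Minimal index of a proper subgroup of the odd-dimensional orthogonal groups: for m ≥ 3 and a field F with q elements, q odd and q ≥ 5, every proper subgroup of PΩ_(2m+1)(F) (for the form x₀² + Σ xᵢyᵢ) has index at least (q^(2m) − 1)/(q − 1), and that index is attained. -/
theorem result {F : Type*} [Field F] [Fintype F] {q : ℕ} (hF : Fintype.card F = q) (hodd : Odd q) (h5 : 5 ≤ q) (m : ℕ) (hm : 3 ≤ m) : (∀ H : Subgroup (Cfsg.POmega F (Cfsg.quadFormOdd m F)), H ≠ ⊤ → (q ^ (2 * m) - 1) / (q - 1) ≤ H.index) ∧ (∃ H : Subgroup (Cfsg.POmega F (Cfsg.quadFormOdd m F)), H.index = (q ^ (2 * m) - 1) / (q - 1)) := by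
  classical
  have hcF : Nat.card F = q := by rw [Nat.card_eq_fintype_card, hF]
  have h2 : (2 : F) ≠ 0 := by
    intro h
    have h3 : CharP F 2 := CharTwo.of_one_ne_zero_of_two_eq_zero one_ne_zero h
    have h4 := FiniteField.even_card_of_char_two (F := F) (ringChar.eq_iff.2 h3)
    rw [hF] at h4
    rcases hodd with ⟨k, hk⟩
    omega
  have hC := Cfsg.Agent.H75.OrthIdx.odd_count (F := F) m hm h2
  have hG := Cfsg.Agent.H75.OrthIdx.good_oddForm (F := F) m hm h2
  have hz := Cfsg.Agent.H75.OrthIdx.ncard_ne_zero_sing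
    (Cfsg.Agent.LieClassical.OrthForms.oddForm m F)
  rw [hC.zero, hcF] at hz
  rw [← Cfsg.Agent.LieClassical.OrthForms.coe_oddForm]
  refine ⟨Cfsg.Agent.H75.OrthIdx.lower_transfer hG ?_, ?_⟩
  · intro H hHE hne
    have h1 := Cfsg.Agent.H75.OrthIdx.odd_lower hG hC hHE hne
    rw [hcF] at h1
    apply Nat.div_le_of_le_mul
    rw [mul_comm (q - 1)]
    rcases h1 with h1 | h1
    · omega
    · obtain ⟨q', rfl⟩ : ∃ q', q = q' + 5 := ⟨q - 5, by omega⟩
      have e1 : q' + 5 - 1 = q' + 4 := by omega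
      rw [e1]
      set n := H.relIndex (Cfsg.Agent.LieClassical.OrthCore.E
        (Cfsg.Agent.LieClassical.OrthForms.oddForm m F))
      set Y := (q' + 5) ^ m with hY
      have e2 : (q' + 5) ^ (2 * m) = Y * Y := by rw [hY]; ring
      rw [e2] at h1 ⊢
      have hY2 : 2 ≤ Y := by
        calc 2 ≤ (q' + 5) ^ 1 := by rw [pow_one]; omega
          _ ≤ Y := Nat.pow_le_pow_right (by omega) (by omega)
      have h3 : 4 * n ≤ n * (q' + 4) := by nlinarith
      have h4 : 2 * Y ≤ Y * Y := Nat.mul_le_mul_right _ hY2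
      omega
  · obtain ⟨t, ht0, htQ⟩ := hG.sing
    obtain ⟨H, hH⟩ := Cfsg.Agent.H75.OrthIdx.exists_transfer hG (Submodule.span F {t})
    refine ⟨H, ?_⟩
    have h3 := Cfsg.Agent.H75.OrthIdx.relIndex_StT_sing hG ht0 htQ
    rw [← hH, hcF] at h3
    symm
    apply Nat.div_eq_of_eq_mul_left (by omega)
    rw [h3]
    omega

end Cfsg.Agent.S2143
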