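import Cfsg.Statements.S2145
import Cfsg.Agent.H75.PlusFinal

set_option autoImplicit false
open Cfsg

namespace Cfsg.Agent.S2145

/-- Minimal index of a proper subgroup of the even-dimensional orthogonal groups of plus type: for m ≥ 4 and a field F with q ≥ 4 elements, every proper subgroup of PΩ⁺_2m(F) (for the form Σ xᵢyᵢ) has index at least (q^m − 1)(q^(m−1) + 1)/(q − 1), and that index is attained (the singular points). -/
theorem result {F : Type*} [Field F] [Fintype F] {q : ℕ} (hF : Fintype.card F = q) (hq : 4 ≤ q) (m : ℕ) (hm : 4 ≤ m) : (∀ H : Subgroup (Cfsg.POmega F (Cfsg.quadFormPlus m F)), H ≠ ⊤ → (q ^ m - 1) * (q ^ (m - 1) + 1) / (q - 1) ≤ H.index) ∧ (∃ H : Subgroup (Cfsg.POmega F (Cfsg.quadFormPlus m F)), H.index = (q ^ m - 1) * (q ^ (m - 1) + 1) / (q - 1)) := by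
  classical
  have hcF : Nat.card F = q := by rw [Nat.card_eq_fintype_card, hF]
  have hC := Cfsg.Agent.H75.OrthIdx.plus_count (F := F) m hm
  have hG := Cfsg.Agent.H75.OrthIdx.good_plusForm (F := F) m hm
  have hz := hC.sing
  rw [hcF] at hz
  rw [← Cfsg.Agent.LieClassical.OrthForms.coe_plusForm]
  refine ⟨Cfsg.Agent.H75.OrthIdx.lower_transfer hG ?_, ?_⟩
  · intro H hHE hne
    have h1 := Cfsg.Agent.H75.OrthIdx.plus_lower hG hC (by rw [hcF]; exact hq) hHE hne
    rw [hcF] at h1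
    exact Nat.div_le_of_le_mul h1
  · obtain ⟨t, ht0, htQ⟩ := hG.sing
    obtain ⟨H, hH⟩ := Cfsg.Agent.H75.OrthIdx.exists_transfer hG (Submodule.span F {t})
    refine ⟨H, ?_⟩
    have h3 := Cfsg.Agent.H75.OrthIdx.relIndex_StT_sing hG ht0 htQ
    rw [← hH, hcF, hz] at h3
    symm
    apply Nat.div_eq_of_eq_mul_left (by omega)
    exact h3.symm

end Cfsg.Agent.S2145
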