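import Cfsg.Statements.S5742
import Cfsg.Agent.H898.Three
import Cfsg.Agent.H898.SqInner
import Cfsg.Agent.H898.FiCase
import Cfsg.Agent.OddHalf.Table.OutFi22

set_option autoImplicit false
open Cfsg

namespace Cfsg.Agent.S5742

open Cfsg.Agent.TwoESix.Iso Cfsg.Agent.TwoESix.FiInst Cfsg.Agent.H898.Diag Cfsg.Agent.H898.NotIn
open Cfsg.Agent.H898.FiCase

/-- The simple group ²E₆(2) (the twisted group of type E₆ over the field with 4 elements) contains at least three pairwise non-conjugate subgroups isomorphic to the Fischer group Fi₂₂. -/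
theorem result {K : Type*} [Field K] [Fintype K] (hK : Fintype.card K = 4) :
    ∃ H : Fin 3 → Subgroup (Cfsg.Lie.twistedE6 K 2),
      (∀ i, Cfsg.Spor.IsoFi22 (H i)) ∧
      (∀ i j, i ≠ j → ∀ g : (Cfsg.Lie.twistedE6 K 2), (H i).map (MulAut.conj g).toMonoidHom ≠ H j) := by
  obtain ⟨w, f, -, -, hf, hmap, -⟩ := exists_phi K hK
  have hinj := fiHom_injective K hK
  have hle : fiHom.range ≤ Gam := by
    rintro _ ⟨g, rfl⟩
    exact fiHom_mem g
  have ha : Cfsg.Agent.H898.SqInner.AutSq fiHom.range :=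
    Cfsg.Agent.H898.SqInner.congr (MonoidHom.ofInjective hinj).symm
      (Cfsg.Agent.H898.SqInner.of_mul_outer Cfsg.Agent.OddHalf.Table.OutFi22.mul_outer)
  have hb : ∀ c : GL (Fin 78) (ZMod 2), (∀ h ∈ fiHom.range, c * h = h * c) → c * c = 1 := by
    intro c hc
    rw [eq_one_of_gens fun x _ => hc _ ⟨_, rfl⟩, one_mul]
  obtain ⟨S, hS1, hS2⟩ := Cfsg.Agent.H898.Three.exists_three Gam fiHom.range Dg Dg_pow (fun e he => Dg_conj_mem he)
    (Dg_not_mem K hK) hle ha hb f hf (Cfsg.Lie.twistedE6 K 2) hmap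
  exact ⟨S, fun i => ⟨(hS1 i).some.trans (MonoidHom.ofInjective hinj).symm⟩, hS2⟩

end Cfsg.Agent.S5742
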