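import Cfsg.Statements.S2690
import Cfsg.Agent.ClassicalGeometry.AutPSL.Main

set_option autoImplicit false
open Cfsg

namespace Cfsg.Agent.S2690

open Cfsg.Agent.ClassicalGeometry.AutPSL.Auto Cfsg.Agent.ClassicalGeometry.AutPSL.Main
open Cfsg.Agent.ClassicalGeometry.AutPSL.Root

theorem isInnerDiagonal_cj {F : Type*} [Field F] {n : ℕ} (A : GL (Fin n) F) :
    Cfsg.IsInnerDiagonalAutPSL (lift (cj A)) := by
  refine ⟨A, ?_⟩
  intro s s' h
  change pr (cj A s) = pr s'
  congr 1
  exact Subtype.ext h.symm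

theorem isStdField_fld {F : Type*} [Field F] {n : ℕ} (σ : F ≃+* F) :
    Cfsg.IsStdFieldAutPSL (n := n) σ (lift (fld σ)) := by
  intro s s' h
  change pr (fld σ s) = pr s'
  congr 1
  exact Subtype.ext h.symm

theorem isInverseTranspose_itr {F : Type*} [Field F] {n : ℕ} :
    Cfsg.IsInverseTransposeAutPSL (n := n) (F := F) (lift itr) := by
  intro s s' h
  change pr (itr s) = pr s'
  congr 1
  exact Subtype.ext h.symm

/-- Every automorphism of a simple projective special linear group PSL_n(F) over a finite field (n ≥ 2; |F| ≥ 4 when n = 2) is a product δ φ γ of an inner-diagonal automorphism δ (induced by an invertible matrix), a standard field automorphism φ (one automorphism of F applied to every entry, possibly the identity) and γ either the identity or the inverse-transpose automorphism. -/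
theorem result {F : Type*} [Field F] [Fintype F] {p f : ℕ} [Fact p.Prime] (hF : Fintype.card F = p ^ f) (hf : 1 ≤ f) {n : ℕ} (hn : 2 ≤ n) (hs : n = 2 → 4 ≤ Fintype.card F) (β : MulAut (Matrix.ProjectiveSpecialLinearGroup (Fin n) F)) :
    ∃ (δ φ γ : MulAut (Matrix.ProjectiveSpecialLinearGroup (Fin n) F)) (σ : F ≃+* F), Cfsg.IsInnerDiagonalAutPSL δ ∧ Cfsg.IsStdFieldAutPSL σ φ ∧ (γ = 1 ∨ Cfsg.IsInverseTransposeAutPSL γ) ∧ β = δ * φ * γ := by
  have hp : CharP F p := by
    obtain ⟨p', hp'⟩ := CharP.exists F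
    obtain ⟨k, hpp, hk⟩ := FiniteField.card F p'
    have h1 : p' ∣ p ^ f := by
      rw [← hF, hk]
      exact dvd_pow_self p' k.ne_zero
    have h2 : p' = p := (Nat.prime_dvd_prime_iff_eq hpp Fact.out).1 (hpp.dvd_of_dvd_pow h1)
    rw [← h2]
    exact hp'
  rcases Nat.lt_or_ge n 3 with h3 | h3
  · obtain rfl : n = 2 := by omega
    obtain ⟨A, σ, rfl⟩ := surj_two p β
    refine ⟨lift (cj A), lift (fld σ), 1, σ, isInnerDiagonal_cj A, isStdField_fld σ, Or.inl rfl, ?_⟩
    rw [mul_one, ← map_mul]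
  · rcases surj_three p h3 β with ⟨A, σ, rfl⟩ | ⟨A, σ, rfl⟩
    · refine ⟨lift (cj A), lift (fld σ), 1, σ, isInnerDiagonal_cj A, isStdField_fld σ, Or.inl rfl, ?_⟩
      rw [mul_one, ← map_mul]
    · refine ⟨lift (cj A), lift (fld σ), lift itr, σ, isInnerDiagonal_cj A, isStdField_fld σ,
        Or.inr isInverseTranspose_itr, ?_⟩
      rw [← map_mul, ← map_mul]

end Cfsg.Agent.S2690
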