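import Cfsg.Statements.S4640
import Cfsg.Agent.H646.Restrict

set_option autoImplicit false
open Cfsg

namespace Cfsg.Agent.S4640

/-- Let N be a normal subgroup of the finite group G of index a power of the prime p, M a maximal ideal of the algebraic integers containing p, b a block of N stabilized by every element of G, and B a block of G covering b (some member of B has a member of b as a constituent of its restriction to N). Suppose that B has a commutative defect group P. Then G = NP and P ∩ N is a defect group of b; every member of B restricts to a member of b; every member of b is the restriction of exactly [G : N] members of B; B contains exactly [G : N] times as many irreducible characters as b; and B and b have the same p-regular rank. -/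
theorem result {G : Type*} [Group G] [Fintype G] (p : ℕ) [Fact p.Prime] (M : Ideal Cfsg.AlgInt) (hM : Cfsg.IsPModular p M) (N : Subgroup G) [N.Normal] [Fintype N] (hNi : ∃ k : ℕ, N.index = p ^ k) (b : Set (Cfsg.IrrCharacter N)) (hb : Cfsg.IsPBlock M b) (hstab : ∀ g : G, Cfsg.StabilizesBlock N b g) (B : Set (Cfsg.IrrCharacter G)) (hB : Cfsg.IsPBlock M B) (hcov : ∃ χ ∈ B, ∃ θ ∈ b, Cfsg.classInner (fun n : N => (χ : G → ℂ) n) (θ : N → ℂ) ≠ 0) (P : Subgroup G) (hPD : Cfsg.IsDefectGroup p M B P) (hPab : ∀ x ∈ P, ∀ y ∈ P, x * y = y * x) : N ⊔ P = ⊤ ∧ Cfsg.IsDefectGroup p M b ((P ⊓ N).subgroupOf N) ∧ (∀ χ ∈ B, ∃ θ ∈ b, ∀ n : N, (χ : G → ℂ) n = (θ : N → ℂ) n) ∧ (∀ θ ∈ b, Nat.card {χ : Cfsg.IrrCharacter G // χ ∈ B ∧ ∀ n : N, (χ : G → ℂ) n = (θ : N → ℂ) n} = N.index) ∧ Nat.card B = N.index * Nat.card b ∧ Cfsg.blockRank p B = Cfsg.blockRank p b := by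
  classical
  have hprime : M.IsPrime := hM.2.1.isPrime
  obtain ⟨h1, h2, h3⟩ := H646.PIndex.sup_eq_top_and_defect N hM hNi hb hstab hB hcov hPD
  have hU := H646.UCov.ucov_of_index hM N hNi
  obtain ⟨χ0, hχ0, θ0, hθ0, hne⟩ := hcov
  have hunder : H646.NormalSupport.underSet N B = b :=
    H646.UCov.underSet_eq_of_stable N hM hU hB hb hθ0 ⟨χ0, hχ0, hne⟩ hstab
  -- every element of `G/N` is the image of an element of `P`
  have hrep : ∀ a : G ⧸ N, ∃ u ∈ P, (u : G ⧸ N) = a := by
    intro a
    obtain ⟨g, rfl⟩ := QuotientGroup.mk_surjective a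
    have hg : g ∈ P ⊔ N := by rw [sup_comm, h1]; trivial
    rw [Subgroup.mem_sup_of_normal_right] at hg
    obtain ⟨u, hu, n, hn, rfl⟩ := hg
    refine ⟨u, hu, ?_⟩
    rw [QuotientGroup.mk_mul, (QuotientGroup.eq_one_iff n).mpr hn, mul_one]
  have hcomm : ∀ a b : G ⧸ N, a * b = b * a := by
    intro a b
    obtain ⟨u, hu, rfl⟩ := hrep a
    obtain ⟨v, hv, rfl⟩ := hrep b
    rw [← QuotientGroup.mk_mul, hPab u hu v hv, QuotientGroup.mk_mul]
  obtain ⟨y, hy⟩ := H646.Restrict.exists_apply_ne_zero hM hB hPD hPab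
  have hirr : ∀ χ ∈ B, IsIrrCharacter N fun n : N => (χ : G → ℂ) n := by
    intro χ hχ
    refine H646.Restrict.isIrr_restrict hcomm χ.2 fun μ hμ => ?_
    have e : ∀ u ∈ P, μ ((u : G) : G ⧸ N) * μ (y : G ⧸ N) = 1 := by
      intro u hu
      have := hμ (u * y)
      rw [QuotientGroup.mk_mul, map_mul] at this
      exact mul_left_cancel₀ (hy u hu χ hχ) (by rw [this, mul_one])
    have e1 := e 1 P.one_mem
    rw [QuotientGroup.mk_one, map_one, one_mul] at e1
    refine MonoidHom.ext fun a => ?_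
    obtain ⟨u, hu, rfl⟩ := hrep a
    have e2 := e u hu
    rw [e1, mul_one] at e2
    rw [e2, MonoidHom.one_apply]
  have hmem : ∀ χ (hχ : χ ∈ B), (⟨_, hirr χ hχ⟩ : IrrCharacter N) ∈ b := by
    intro χ hχ
    rw [← hunder]
    refine ⟨χ, hχ, ?_⟩
    rw [Characters.Core.classInner_irr_self (hirr χ hχ)]
    exact one_ne_zero
  have hover : ∀ θ ∈ b, ∀ χ : IrrCharacter G,
      classInner (fun n : N => (χ : G → ℂ) n) (θ : N → ℂ) ≠ 0 → χ ∈ B := by
    intro θ hθ χ hχ
    rw [← H646.UCov.lyingOver_underSet N hU hB, hunder, Blocks.Fong.mem_lyingOver]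
    exact ⟨θ, hθ, hχ⟩
  have hcount : ∀ θ ∈ b, Nat.card {χ : IrrCharacter G // χ ∈ B ∧
      ∀ n : N, (χ : G → ℂ) n = (θ : N → ℂ) n} = N.index := fun θ hθ =>
    H646.Restrict.card_extensions θ.2 B hirr (hover θ hθ)
  refine ⟨h1, h2, fun χ hχ => ⟨_, hmem χ hχ, fun n => rfl⟩, hcount, ?_, ?_⟩
  · have : Finite (IrrCharacter G) := Characters.Core.finite_irr
    have : Finite (IrrCharacter N) := Characters.Core.finite_irr
    have : Fintype b := Fintype.ofFinite b
    let F : B → b := fun χ => ⟨⟨_, hirr χ.1 χ.2⟩, hmem χ.1 χ.2⟩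
    have e1 : Nat.card B = Nat.card (Σ θ : b, {χ : B // F χ = θ}) :=
      Nat.card_congr (Equiv.sigmaFiberEquiv F).symm
    rw [e1, Nat.card_sigma]
    have e2 : ∀ θ : b, Nat.card {χ : B // F χ = θ} = N.index := by
      intro θ
      rw [← hcount θ.1 θ.2]
      refine Nat.card_congr
        { toFun := fun χ => ⟨χ.1.1, χ.1.2, fun n => ?_⟩
          invFun := fun χ => ⟨⟨χ.1, χ.2.1⟩, ?_⟩
          left_inv := fun χ => rfl
          right_inv := fun χ => rfl }
      · have := congrArg (fun z : b => ((z : IrrCharacter N) : N → ℂ) n) χ.2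
        exact this
      · apply Subtype.ext
        apply Subtype.ext
        funext n
        exact χ.2.2 n
    rw [Finset.sum_congr rfl fun θ _ => e2 θ, Finset.sum_const,
      smul_eq_mul, Finset.card_univ, ← Nat.card_eq_fintype_card, mul_comm]
  · rw [H646.RankTrace.blockRank_eq_finrank, H646.RankTrace.blockRank_eq_finrank]
    have hregN : ∀ g : G, IsPRegular p g → g ∈ N := by
      intro g hg
      obtain ⟨k, hk⟩ := hNi
      have h1 : orderOf (g : G ⧸ N) ∣ p ^ k := by
        rw [← hk, Subgroup.index_eq_card]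
        exact orderOf_dvd_natCard _
      have h2 : orderOf (g : G ⧸ N) ∣ orderOf g := orderOf_map_dvd (QuotientGroup.mk' N) g
      have h3 : Nat.Coprime (orderOf g) (p ^ k) :=
        Nat.Coprime.pow_right k (((Nat.Prime.coprime_iff_not_dvd Fact.out).2 hg).symm)
      have h4 : orderOf (g : G ⧸ N) = 1 := Nat.eq_one_of_dvd_coprimes h3 h2 h1
      rw [orderOf_eq_one_iff] at h4
      exact (QuotientGroup.eq_one_iff g).1 h4
    let R : (G → ℂ) →ₗ[ℂ] (N → ℂ) := LinearMap.funLeft ℂ ℂ (Subtype.val : N → G)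
    have hRp : ∀ f : G → ℂ, R (pRegularPart p f) = pRegularPart p fun n : N => f n := by
      intro f
      funext n
      show pRegularPart p f (n : G) = pRegularPart p (fun n : N => f n) n
      rw [H646.RegInner.pRegularPart_apply, H646.RegInner.pRegularPart_apply,
        Subgroup.orderOf_coe]
    have hmap : (H646.RankTrace.regSpan p B).map R = H646.RankTrace.regSpan p b := by
      unfold H646.RankTrace.regSpan
      rw [Submodule.map_span]
      congr 1
      ext f
      constructor
      · rintro ⟨_, ⟨χ, hχ, rfl⟩, rfl⟩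
        exact ⟨_, hmem χ hχ, (hRp _).symm⟩
      · rintro ⟨θ, hθ, rfl⟩
        have hpos : 0 < Nat.card {χ : IrrCharacter G // χ ∈ B ∧
            ∀ n : N, (χ : G → ℂ) n = (θ : N → ℂ) n} := by
          rw [hcount θ hθ]
          exact Nat.pos_of_ne_zero Subgroup.index_ne_zero_of_finite
        obtain ⟨χ, hχ, hχθ⟩ := (Nat.card_pos_iff.mp hpos).1
        refine ⟨_, ⟨χ, hχ, rfl⟩, ?_⟩
        simp only
        rw [hRp]
        congr 1
        exact funext hχθ
    rw [← hmap, ← LinearMap.range_domRestrict]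
    refine (LinearMap.finrank_range_of_inj ?_).symm
    rw [← LinearMap.ker_eq_bot, LinearMap.ker_eq_bot']
    rintro ⟨f, hf⟩ h0
    apply Subtype.ext
    have hsupp : ∀ g : G, g ∉ N → f g = 0 := by
      intro g hg
      refine Submodule.span_induction (p := fun f _ => f g = 0) ?_ rfl ?_ ?_ hf
      · rintro _ ⟨χ, -, rfl⟩
        simp only
        rw [H646.RegInner.pRegularPart_apply, if_pos (by_contra fun h => hg (hregN g h))]
      · intro a b _ _ ha hb
        rw [Pi.add_apply, ha, hb, add_zero]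
      · intro c a _ ha
        rw [Pi.smul_apply, ha, smul_zero]
    funext g
    by_cases hg : g ∈ N
    · have := congrFun h0 ⟨g, hg⟩
      exact this
    · exact hsupp g hg

end Cfsg.Agent.S4640
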