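import Cfsg.Statements.S3387
import Cfsg.Agent.S0000
import Cfsg.Agent.H354.FourTrans
import Cfsg.Agent.H384.TwoTransMain

set_option autoImplicit false
open Cfsg

namespace Cfsg.Agent.S3387

/-- The quadruply transitive groups (a consequence of the classification of the finite simple groups). Let G be a finite group acting faithfully and 4-transitively on a finite set Ω with at least 4 points. Then the action is the full symmetric group or the alternating group of Ω (the image of G in the permutation group of Ω is all of it or its alternating subgroup), or Ω has 11, 12, 23 or 24 points and G is isomorphic to the Mathieu group M₁₁, M₁₂, M₂₃ or M₂₄ respectively. -/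
theorem result {G : Type*} [Group G] [Finite G] {Ω : Type*} [Fintype Ω] [DecidableEq Ω] [MulAction G Ω] [FaithfulSMul G Ω]
    (h4 : 4 ≤ Fintype.card Ω) (ht : MulAction.IsMultiplyPretransitive G Ω 4) :
    (MulAction.toPermHom G Ω).range = ⊤ ∨ (MulAction.toPermHom G Ω).range = alternatingGroup Ω ∨
      (Fintype.card Ω = 11 ∧ Cfsg.Spor.IsoM11 G) ∨ (Fintype.card Ω = 12 ∧ Cfsg.Spor.IsoM12 G) ∨
      (Fintype.card Ω = 23 ∧ Cfsg.Spor.IsoM23 G) ∨ (Fintype.card Ω = 24 ∧ Cfsg.Spor.IsoM24 G) := by
  exact Cfsg.Agent.H354.Four.four
    (fun G Ω _ _ T A => Cfsg.Agent.H384.TwoTransMain.main (fun _ _ _ _ => Cfsg.Agent.S0000.result) A) h4 ht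

end Cfsg.Agent.S3387
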