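import Cfsg.Statements.S3543
import Cfsg.Agent.H488.ThreeMain
import Cfsg.Agent.H384.TwoTransMain
import Cfsg.Agent.S0000

set_option autoImplicit false
open Cfsg

namespace Cfsg.Agent.S3543

theorem result {G Ω : Type*} [Group G] [Finite G] [MulAction G Ω] [FaithfulSMul G Ω] [Finite Ω]
    (hn : 4 ≤ Nat.card Ω) (htrans : MulAction.IsMultiplyPretransitive G Ω 3)
    (hhalf : ∀ s : Fin 3 ↪ Ω, ∀ b c : Ω, b ∉ Set.range s → c ∉ Set.range s →
      Nat.card (MulAction.orbit (↥(⨅ i, MulAction.stabilizer G (s i))) b) = Nat.card (MulAction.orbit (↥(⨅ i, MulAction.stabilizer G (s i))) c)) :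
    MulAction.IsMultiplyPretransitive G Ω 4 ∨
    (∀ s : Fin 3 ↪ Ω, (⨅ i, MulAction.stabilizer G (s i)) = ⊥) ∨
    (∃ p : ℕ, p.Prime ∧ p ≠ 2 ∧ Nat.card Ω = 2 ^ p + 1 ∧
      ∃ N : Subgroup G, N.Normal ∧ N.index = p ∧
        Nonempty (↥N ≃* Matrix.ProjectiveSpecialLinearGroup (Fin 2) (GaloisField 2 p))) := by
  have hstab := Cfsg.Agent.H392.MultTrans.iInf_stab (G := G) (Ω := Ω) (k := 3)
  rcases Cfsg.Agent.H488.ThreeHalf.main hn htrans (fun s b c hb hc => by
    have := hhalf s b c hb hc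
    rwa [hstab s] at this) (fun T A =>
      Cfsg.Agent.H384.TwoTransMain.main (fun _ _ _ _ => Cfsg.Agent.S0000.result) A) with (h | h) | h
  · exact Or.inl h
  · exact Or.inr (Or.inl fun s => (hstab s).trans (h s))
  · obtain ⟨p, hp, hp2, hΩ, N, hN, hi, hK⟩ := h
    have := Fact.mk hp
    let _ : Fintype (GaloisField 2 p) := Fintype.ofFinite _
    refine Or.inr (Or.inr ⟨p, hp, hp2, hΩ, N, hN, hi, hK (GaloisField 2 p) ?_⟩)
    rw [← Nat.card_eq_fintype_card]
    exact GaloisField.card 2 p hp.ne_zero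

end Cfsg.Agent.S3543
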