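import Cfsg.Statements.S4219

set_option autoImplicit false
open Cfsg

namespace Cfsg.Agent.S4219

open MulAction

/-- Jordan's lemma for a Sylow subgroup of a point stabilizer. -/
theorem jordan {G X : Type*} [Group G] [Finite G] [MulAction G X] [IsPretransitive G X]
    {p : ℕ} [Fact p.Prime] (P : Subgroup G) (x : X) (hP : P ≤ stabilizer G x)
    (hcard : Nat.card P = p ^ (Nat.card (stabilizer G x)).factorization p) (a b : X)
    (ha : P ≤ stabilizer G a) (hb : P ≤ stabilizer G b) :
    ∃ g ∈ Subgroup.normalizer (P : Set G), g • a = b := by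
  obtain ⟨g, hg⟩ := exists_smul_eq G a b
  have hst : Nat.card (stabilizer G b) = Nat.card (stabilizer G x) := by
    obtain ⟨k, hk⟩ := exists_smul_eq G x b
    have h1 : stabilizer G b = (stabilizer G x).map (MulAut.conj k).toMonoidHom := by
      rw [← hk, stabilizer_smul_eq_stabilizer_map_conj]
    rw [h1]
    exact Nat.card_congr ((stabilizer G x).equivMapOfInjective _
      (MulAut.conj k).injective).symm.toEquiv
  set Q : Subgroup G := P.map (MulAut.conj g).toMonoidHom with hQ
  have hQb : Q ≤ stabilizer G b := by
    rintro _ ⟨y, hy, rfl⟩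
    rw [mem_stabilizer_iff]
    change (g * y * g⁻¹) • b = b
    have h1 : y • a = a := ha hy
    rw [← hg, mul_smul, mul_smul, inv_smul_smul, h1]
  have hQc : Nat.card Q = Nat.card P :=
    Nat.card_congr (P.equivMapOfInjective _ (MulAut.conj g).injective).symm.toEquiv
  have hc1 : Nat.card (P.subgroupOf (stabilizer G b)) =
      p ^ (Nat.card (stabilizer G b)).factorization p := by
    rw [hst, ← hcard]
    exact Nat.card_congr (Subgroup.subgroupOfEquivOfLe hb).toEquiv
  have hc2 : Nat.card (Q.subgroupOf (stabilizer G b)) =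
      p ^ (Nat.card (stabilizer G b)).factorization p := by
    rw [hst, ← hcard, ← hQc]
    exact Nat.card_congr (Subgroup.subgroupOfEquivOfLe hQb).toEquiv
  obtain ⟨h, hh⟩ := exists_smul_eq (stabilizer G b)
    (Sylow.ofCard _ hc2 : Sylow p (stabilizer G b)) (Sylow.ofCard _ hc1)
  have hh2 := congrArg (fun S : Sylow p (stabilizer G b) => (S : Subgroup (stabilizer G b))) hh
  simp only [Sylow.coe_subgroup_smul, Sylow.coe_ofCard] at hh2
  refine ⟨h * g, ?_, ?_⟩
  · -- normalizes
    have key : ∀ y ∈ P, (h * g) * y * (h * g)⁻¹ ∈ P := by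
      intro y hy
      have h1 : (⟨g * y * g⁻¹, hQb ⟨y, hy, rfl⟩⟩ : stabilizer G b) ∈
          Q.subgroupOf (stabilizer G b) := by
        rw [Subgroup.mem_subgroupOf]
        exact ⟨y, hy, rfl⟩
      have h2 := Subgroup.smul_mem_pointwise_smul _ (MulAut.conj h) _ h1
      rw [hh2, Subgroup.mem_subgroupOf] at h2
      simpa [mul_assoc] using h2
    rw [Subgroup.mem_normalizer_iff]
    intro y
    refine ⟨key y, fun hy => ?_⟩
    -- finiteness
    have h3 : P.map (MulAut.conj ((h : G) * g)).toMonoidHom = P := by
      apply Subgroup.eq_of_le_of_card_ge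
      · rintro _ ⟨z, hz, rfl⟩
        exact key z hz
      · exact le_of_eq (Nat.card_congr (P.equivMapOfInjective _
          (MulAut.conj ((h : G) * g)).injective).toEquiv)
    have h4 : ((h : G) * g) * y * ((h : G) * g)⁻¹ ∈
        P.map (MulAut.conj ((h : G) * g)).toMonoidHom := by rw [h3]; exact hy
    obtain ⟨z, hz, hzy⟩ := h4
    have h5 : z = y := (MulAut.conj ((h : G) * g)).injective hzy
    rwa [← h5]
  · rw [mul_smul, hg]
    exact h.2

/-- Let a finite group `G` act `t`-fold transitively on a finite set, let `H` be the stabilizer of `t` distinct points and `P` a Sylow `p`-subgroup of `H`. Then the normalizer of `P` in `G` is `t`-fold transitive on the fixed points of `P`: any `t` distinct fixed points of `P` can be carried to any other `t` distinct fixed points of `P` by an element normalizing `P`. -/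
theorem result {G : Type*} [Group G] [Finite G] {α : Type*} [Fintype α] [MulAction G α] {t : ℕ} (hG : MulAction.IsMultiplyPretransitive G α t) (x : Fin t ↪ α) {p : ℕ} [Fact p.Prime] (P : Sylow p (MulAction.stabilizer G x)) (a b : Fin t ↪ α) (ha : ∀ i, a i ∈ MulAction.fixedPoints ((P : Subgroup (MulAction.stabilizer G x)).map (MulAction.stabilizer G x).subtype) α) (hb : ∀ i, b i ∈ MulAction.fixedPoints ((P : Subgroup (MulAction.stabilizer G x)).map (MulAction.stabilizer G x).subtype) α) : ∃ g ∈ Subgroup.normalizer ((((P : Subgroup (MulAction.stabilizer G x)).map (MulAction.stabilizer G x).subtype) : Subgroup G) : Set G), g • a = b := by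
  have : IsPretransitive G (Fin t ↪ α) := hG
  have hle : ∀ c : Fin t ↪ α, (∀ i, c i ∈ MulAction.fixedPoints
      ((P : Subgroup (MulAction.stabilizer G x)).map (MulAction.stabilizer G x).subtype) α) →
      ((P : Subgroup (MulAction.stabilizer G x)).map (MulAction.stabilizer G x).subtype) ≤
        stabilizer G c := by
    intro c hc y hy
    rw [mem_stabilizer_iff]
    ext i
    exact hc i ⟨y, hy⟩
  refine jordan (p := p) _ x (Subgroup.map_subtype_le _) ?_ a b (hle a ha) (hle b hb)
  rw [← Sylow.card_eq_multiplicity P]
  exact Nat.card_congr ((P : Subgroup (MulAction.stabilizer G x)).equivMapOfInjective _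
    (MulAction.stabilizer G x).subtype_injective).symm.toEquiv

end Cfsg.Agent.S4219
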