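import Cfsg.Statements.S5812
import Cfsg.Agent.H48.SevenF
import Cfsg.Agent.S0000

set_option autoImplicit false
open Cfsg

namespace Cfsg.Agent.S5812

/-- The maximal subgroups of SU_7(q) in the residual class. Let F be the field with q² elements and H a maximal subgroup of SU_7(q) (determinant-one isometries of the standard unitary form on F^7) lying in the residual class of the unitary case. Then q = p is a prime with p ≡ 3 mod 4 and p ≠ 3, and the perfect socle preimage P of H is, modulo scalars, isomorphic to U_3(3) (PSU_3 over the field with 9 elements). -/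
theorem result {F : Type*} [Field F] [Fintype F] (q : ℕ) (hF : Fintype.card F = q ^ 2) (H : Subgroup (Matrix.GeneralLinearGroup (Fin 7) F)) (hH : Cfsg.Geo.IsMaximalIn (Cfsg.GU 7 F q ⊓ Cfsg.Geo.specialLinear (Fin 7) F) H) (hS : Cfsg.Geo.InUnitaryResidualClass H) :
    ∃ P : Subgroup (Matrix.GeneralLinearGroup (Fin 7) F), Cfsg.Geo.IsResidualCore H P ∧ q.Prime ∧ q % 4 = 3 ∧ q ≠ 3 ∧ (∃ (K : Type) (_ : Field K) (_ : Fintype K), Fintype.card K = 9 ∧ Nonempty ((P ⧸ (Cfsg.Geo.scalars (Fin 7) F).subgroupOf P) ≃* Cfsg.PSU 3 K 3)) := by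
  exact Cfsg.Agent.H48.Seven.seven_unitary (fun P hC => by have := hC.simple; exact Cfsg.Agent.S0000.result) q hF H hH hS

end Cfsg.Agent.S5812
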