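import Cfsg.Statements.S2189
import Cfsg.Agent.H86.SubK

set_option autoImplicit false
open Cfsg

namespace Cfsg.Agent.S2189

/-- Finite subgroups of an adjoint Chevalley group over an algebraically closed field that contain the group over a finite subfield. Let k be an algebraically closed field of prime characteristic p, G the Chevalley group of type G₂, B₂, D₄, F₄, E₆, E₇ or E₈ over k (the matrix group generated by the root elements x_s(t), t ∈ k), and q = p^a with a ≥ 1. Let L be the subgroup generated by the root elements x_s(t) with t^q = t (the Chevalley group over the field of q elements inside G), and let M be a finite subgroup of G containing L. Then for some r ≥ 1, M contains every root element x_s(t) with t^(q^r) = t and every element of M is a matrix all of whose entries c satisfy c^(q^r) = c (so M lies between the Chevalley group over the field with q^r elements and the group of points of G fixed by the q^r-th power map). -/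
theorem result {k : Type*} [Field k] [IsAlgClosed k] (p : ℕ) [Fact p.Prime] [CharP k p] (D : Cfsg.Lie.ChevalleyDatum) (hD : D ∈ [Cfsg.Lie.chevG2, Cfsg.Lie.chevB2, Cfsg.Lie.chevD4, Cfsg.Lie.chevF4, Cfsg.Lie.chevE6, Cfsg.Lie.chevE7, Cfsg.Lie.chevE8]) (a : ℕ) (ha : 1 ≤ a) (M : Subgroup (GL D.Idx k)) (hMfin : Finite ↥M) (hMG : M ≤ D.group k)
    (hLM : Subgroup.closure {g : GL D.Idx k | ∃ (s : ℕ) (t : k), t ^ (p ^ a) = t ∧ (g : Matrix D.Idx D.Idx k) = D.x k s t} ≤ M) :
    ∃ r : ℕ, 1 ≤ r ∧ Subgroup.closure {g : GL D.Idx k | ∃ (s : ℕ) (t : k), t ^ ((p ^ a) ^ r) = t ∧ (g : Matrix D.Idx D.Idx k) = D.x k s t} ≤ M ∧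
      ∀ g ∈ M, ∀ i j : D.Idx, ((g : Matrix D.Idx D.Idx k) i j) ^ ((p ^ a) ^ r) = (g : Matrix D.Idx D.Idx k) i j := by
  have hp : p.Prime := Fact.out
  have hD' : Cfsg.Agent.ChevalleyStructure.Elts.InList D := hD
  have h1 : Cfsg.Agent.H86.Par.HasOne hD' M := fun r _ =>
    hLM (Subgroup.subset_closure ⟨r, 1, one_pow _, Cfsg.Agent.ChevalleyStructure.Elts.coe_xG hD' r 1⟩)
  obtain ⟨K, m, hKfin, hm, hcard, hfix, hK, hent⟩ := Cfsg.Agent.H86.Par.finite_overgroup hD' p hMG h1
  obtain ⟨E, hE, hEfix⟩ := Cfsg.Agent.H86.SubK.exists_subfield_closed (F := k) p (a := a) ha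
  have hEK : E ≤ K := by
    intro t ht
    rw [hEfix] at ht
    rw [← hK _ (Cfsg.Agent.H86.Par.top_lt hD') t]
    exact hLM (Subgroup.subset_closure ⟨_, t, ht, Cfsg.Agent.ChevalleyStructure.Elts.coe_xG hD' _ t⟩)
  obtain ⟨r, hr⟩ := Cfsg.Agent.H86.SubK.card_pow hEK hp.one_lt hE hcard
  have hr1 : 1 ≤ r := by
    rcases Nat.eq_zero_or_pos r with h | h
    · rw [h] at hr; omega
    · exact h
  have hfix' : ∀ t : k, t ^ ((p ^ a) ^ r) = t ↔ t ∈ K := by
    intro t
    rw [← pow_mul, ← hr]
    exact hfix t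
  refine ⟨r, hr1, ?_, fun g hg i j => (hfix' _).2 (hent g hg i j)⟩
  refine (Subgroup.closure_le _).2 ?_
  rintro g ⟨s, t, ht, hg⟩
  by_cases hs : s < D.nroots
  · rw [(Cfsg.Agent.ChevalleyStructure.Elts.eq_xG_iff hD' g s t).2 hg]
    exact (hK s hs t).2 ((hfix' t).1 ht)
  · rw [(Cfsg.Agent.ChevalleyStructure.Elts.eq_xG_iff hD' g s t).2 hg,
      Cfsg.Agent.ChevalleyStructure.Elts.xG_of_not_lt hD' hs]
    exact M.one_mem

end Cfsg.Agent.S2189
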