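import Cfsg.Statements.S2546
import Cfsg.Agent.Nodes.RGDClass
import Cfsg.Agent.H167.HasSt
import Cfsg.Agent.S0281
import Cfsg.Agent.LieClassical.FieldTransfer

set_option autoImplicit false
open Cfsg

namespace Cfsg.Agent.S2546

/-- Let F be a finite field of characteristic p and consider the projective special unitary group PSU_n(q), n ≥ 2, realised over the field F with q² elements. This group has an irreducible complex character χ whose degree equals the order of a Sylow p-subgroup (namely q^(n(n−1)/2)) and whose restriction to any Sylow p-subgroup P is the regular character of P: χ vanishes on the non-identity elements of P. (This is the Steinberg character.) -/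
theorem result {F : Type*} [Field F] [Fintype F] (p : ℕ) [Fact p.Prime] [CharP F p] (n q : ℕ) (hn : 2 ≤ n) (hF : Fintype.card F = q ^ 2) : ∃ χ : Cfsg.PSU n F q → ℂ, Cfsg.IsIrrCharacter (Cfsg.PSU n F q) χ ∧ ∀ P : Sylow p (Cfsg.PSU n F q), χ 1 = Nat.card P ∧ ∀ x : Cfsg.PSU n F q, x ∈ P → x ≠ 1 → χ x = 0 := by
  have hp : p.Prime := Fact.out
  rcases Nat.eq_or_lt_of_le hn with rfl | hn3
  · -- `PSU_2(q) ≅ PSL_2(q)`
    obtain ⟨m, -, hm⟩ := FiniteField.card F p
    have hq : q ∣ p ^ (m : ℕ) := by rw [← hm, hF, pow_two]; exact dvd_mul_left q q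
    obtain ⟨k, -, hk⟩ := (Nat.dvd_prime_pow hp).1 hq
    have hk0 : k ≠ 0 := by
      rintro rfl
      rw [hk, pow_zero, one_pow] at hF
      have := Fintype.one_lt_card (α := F)
      omega
    let K := GaloisField p k
    have hKf : Fintype K := Fintype.ofFinite K
    have hK : Fintype.card K = q := by
      rw [← Nat.card_eq_fintype_card, GaloisField.card p k hk0, hk]
    obtain ⟨e⟩ := Cfsg.Agent.S0281.result (K := K) hF hK
    have e' : Cfsg.PSU 2 F q ≃* Matrix.ProjectiveSpecialLinearGroup (Fin 2) K :=
      Cfsg.Agent.LieClassical.FieldTransfer.centralQuotientCongr e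
    exact Cfsg.Agent.H167.SteinbergRGD.steinberg_of_hasRGD
      ((Cfsg.Agent.Nodes.RGDClass.hasRGD_PSL (F := K) 1 (p := p)).of_equiv e'.symm)
  · exact Cfsg.Agent.H167.SteinbergRGD.steinberg_of_hasRGD (Cfsg.Agent.Nodes.WittInst.hasRGD_PSU hF hn3)

end Cfsg.Agent.S2546
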