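import Cfsg.Statements.S5069
import Cfsg.Agent.H742.SigmaSplit
import Cfsg.Agent.H742.CoreOf
-- import your own Cfsg.Agent.* helpers here

set_option autoImplicit false
universe u
open Cfsg

namespace Cfsg.Agent.S5069

/-- Let k be a field of characteristic not 2 with k not of order 3, M a finite-dimensional k-vector space and G ≤ GL(M) such that (G, M) is a quadratic pair (M irreducible for G, and G generated by its quadratically acting elements σ whose scalar family 1 + c(σ − 1), c ∈ k, lies in G). Write 𝒬_d for the quadratic elements of G of minimal commutator rank, E(σ) for the subgroup generated by the members of 𝒬_d with the same fixed space and commutator space as σ, and Σ for the set of these subgroups. Then Σ is a disjoint union of finitely many parts Σ₁, …, Σ_r such that the subgroups G_i generated by the Σ_i commute pairwise, each G_i is quasisimple, and inside G_i the members of Σ_i form a class of abstract root subgroups in which every rank one pair A, B contains subgroups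 A₀ ≤ A, B₀ ≤ B generating an image of SL₂(k₁) with central kernel on unitriangular subgroups for some field k₁ with at least four elements. -/
theorem result {k : Type u} [Field k] (hk2 : ringChar k ≠ 2) (hk3 : Nat.card k ≠ 3)
    {M : Type u} [AddCommGroup M] [Module k M] [FiniteDimensional k M]
    {G : Subgroup (LinearMap.GeneralLinearGroup k M)} (hG : Cfsg.IsQuadraticPair G) :
    ∃ (r : ℕ) (part : Fin r → Set (Subgroup (LinearMap.GeneralLinearGroup k M))),
      (⋃ i, part i) = Cfsg.quadraticRootSubgroups G ∧ (∀ i j, i ≠ j → Disjoint (part i) (part j)) ∧ (∀ i, (part i).Nonempty) ∧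
      (∀ i j, i ≠ j → ⁅(⨆ A ∈ part i, A), (⨆ A ∈ part j, A)⁆ = ⊥) ∧
      (∀ i, Cfsg.IsQuasisimple ↥(⨆ A ∈ part i, A) ∧
        Cfsg.IsRootSubgroupClass ((fun A : Subgroup (LinearMap.GeneralLinearGroup k M) => A.subgroupOf (⨆ B ∈ part i, B)) '' (part i)) ∧
        ∀ A ∈ part i, ∀ B ∈ Cfsg.rankOnePartners (part i) A, ∃ A₀ B₀ : Subgroup (LinearMap.GeneralLinearGroup k M), A₀ ≤ A ∧ B₀ ≤ B ∧
          ∃ (k₁ : Type u) (_ : Field k₁), 3 < ENat.card k₁ ∧ Cfsg.IsPSL2PairOver k₁ A₀ B₀) := by
  have hNU : Cfsg.Agent.H742.NoUnip G := Cfsg.Agent.H742.noUnip_of_irreducible hG.1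
  have hC := Cfsg.Agent.H742.core (G := G) hk2 hk3
  have hO := Cfsg.Agent.H742.hasOpp_of_noUnip hC hNU
  have hfam := Cfsg.Agent.H742.sigma_fam hC hO
  have hpart := Cfsg.Agent.H742.sigma_partner hC hO
  have hfin := Cfsg.Agent.H742.finite_components hC hO
  obtain ⟨r, ⟨e⟩⟩ := @Finite.exists_equiv_fin _ hfin.to_subtype
  have hpt : ∀ i, ∃ A ∈ quadraticRootSubgroups G, (e.symm i).1 =
      componentOf (FAdj (quadraticRootSubgroups G)) (quadraticRootSubgroups G) A := fun i => (e.symm i).2
  have hne : ∀ i j, i ≠ j → (e.symm i).1 ≠ (e.symm j).1 := fun i j hij h => hij (e.symm.injective (Subtype.ext h))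
  refine ⟨r, fun i => (e.symm i).1, ?_, ?_, ?_, ?_, ?_⟩
  · ext A
    simp only [Set.mem_iUnion]
    constructor
    · rintro ⟨i, hi⟩
      obtain ⟨B, hB, h⟩ := hpt i
      rw [h] at hi
      exact hi.1
    · intro hA
      refine ⟨e ⟨_, A, hA, rfl⟩, ?_⟩
      rw [Equiv.symm_apply_apply]
      exact Cfsg.Agent.H742.self_mem_componentOf hA
  · intro i j hij
    have h := hne i j hij
    obtain ⟨A, hA, hi⟩ := hpt i
    obtain ⟨B, hB, hj⟩ := hpt j
    simp only
    rw [hi, hj] at h ⊢
    exact Cfsg.Agent.H742.disjoint_components h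
  · intro i
    obtain ⟨A, hA, hi⟩ := hpt i
    simp only
    rw [hi]
    exact ⟨A, Cfsg.Agent.H742.self_mem_componentOf hA⟩
  · intro i j hij
    have h := hne i j hij
    obtain ⟨A, hA, hi⟩ := hpt i
    obtain ⟨B, hB, hj⟩ := hpt j
    simp only
    rw [hi, hj] at h ⊢
    exact Cfsg.Agent.H742.commutator_iSup_eq_bot fun C hC D hD => hfam.commute_of_not_reach hpart h hC hD
  · have key : ∀ D : Set (Subgroup (LinearMap.GeneralLinearGroup k M)), (∃ A ∈ quadraticRootSubgroups G, D =
        componentOf (FAdj (quadraticRootSubgroups G)) (quadraticRootSubgroups G) A) →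
        Cfsg.IsQuasisimple ↥(⨆ A ∈ D, A) ∧
        Cfsg.IsRootSubgroupClass ((fun A : Subgroup (LinearMap.GeneralLinearGroup k M) => A.subgroupOf (⨆ B ∈ D, B)) '' D) ∧
        ∀ A ∈ D, ∀ B ∈ Cfsg.rankOnePartners D A, ∃ A₀ B₀ : Subgroup (LinearMap.GeneralLinearGroup k M), A₀ ≤ A ∧ B₀ ≤ B ∧
          ∃ (k₁ : Type u) (_ : Field k₁), 3 < ENat.card k₁ ∧ Cfsg.IsPSL2PairOver k₁ A₀ B₀ := by
      rintro _ ⟨A, hA, rfl⟩
      refine ⟨Cfsg.Agent.H742.quasisimple_component hk2 hk3 hC hNU hA, ?_, ?_⟩
      · exact (hfam.component hpart).rootClass (Cfsg.Agent.H742.component_partner hpart)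
          ⟨A, Cfsg.Agent.H742.self_mem_componentOf hA⟩ Cfsg.Agent.H742.component_connected
      · rintro B hB C ⟨hC', hBC⟩
        obtain ⟨A₀, B₀, h1, h2, h3⟩ := Cfsg.Agent.H742.sigma_psl2 hC hO hB.1 hC'.1 hBC
        exact ⟨A₀, B₀, h1, h2, k, inferInstance, Cfsg.Agent.H742.three_lt_card hk2 hk3, h3⟩
    exact fun i => key _ (hpt i)

end Cfsg.Agent.S5069
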