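import Cfsg.Statements.S2186
import Cfsg.Agent.ChevalleyStructure.BruhatSplit
import Cfsg.Agent.ChevalleyStructure.NPerm
import Cfsg.Agent.S1025
import Cfsg.Agent.S1027
import Cfsg.Agent.S1043
import Cfsg.Agent.S1100

set_option autoImplicit false
open Cfsg

namespace Cfsg.Agent.S2186

open Cfsg.Lie Cfsg.Agent.ChevalleyStructure.Elts Cfsg.Agent.ChevalleyStructure.RootCombGood
  Cfsg.Agent.ChevalleyStructure.RootWord Cfsg.Agent.ChevalleyStructure.BruhatSplit

universe u

variable {D : ChevalleyDatum} {F : Type u} [Field F]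

/-- The combinatorial facts about the highest root `r = nroots - 1`. -/
structure Dat (D : ChevalleyDatum) (W : List (List ℕ)) : Prop where
  hU : ∀ s < D.nroots, D.nroots / 2 ≤ s → s ≠ D.nroots - 1 → s ≠ D.neg (D.nroots - 1) ∧
    (D.commTerms (D.nroots - 1) s).isEmpty = true
  hN : ∀ s < D.nroots / 2, s ≠ 0 → (∃ i < D.rank, D.cartan i (D.nroots - 1) = 0 ∧ D.cartan i s < 0) ∨
    (∃ w ∈ W, D.nroots / 2 ≤ wact D w s ∧ D.nroots / 2 ≤ wact D w (D.nroots - 1))
  hW : ∀ w ∈ W, ∀ a ∈ w, a < D.rank

theorem datG2 : Dat chevG2 [[0], [1], [0, 1], [1, 0]] where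
  hU := by decide +kernel
  hN := by decide +kernel
  hW := by decide +kernel

theorem datD4 : Dat chevD4 [[0], [1], [2], [3]] where
  hU := by decide +kernel
  hN := by decide +kernel
  hW := by decide +kernel

theorem datE6 : Dat chevE6 [[0], [1], [2], [3], [4], [5]] where
  hU := by decide +kernel
  hN := by decide +kernel
  hW := by decide +kernel

theorem datE7 : Dat chevE7 [[0], [1], [2], [3], [4], [5], [6]] where
  hU := by decide +kernel
  hN := by decide +kernel
  hW := by decide +kernel

theorem datE8 : Dat chevE8 [[0], [1], [2], [3], [4], [5], [6], [7]] where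
  hU := by decide +kernel
  hN := by decide +kernel
  hW := by decide +kernel

theorem exists_pos_word (G : Good D) {W : List (List ℕ)} (T : Dat D W) : ∀ k s : ℕ, D.nroots - s = k → s < D.nroots →
    s ≠ 0 → ∃ w : List ℕ, (∀ a ∈ w, a < D.rank) ∧ D.IsPosRoot (wact D w (D.nroots - 1)) ∧
      D.IsPosRoot (wact D w s) := by
  have hn0 := G.nroots_pos
  have hn2 := G.nroots_eq
  intro k
  induction k using Nat.strong_induction_on with
  | _ k ih =>
    intro s hk hs hs0
    by_cases hp : D.nroots / 2 ≤ s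
    · refine ⟨[], by simp, ?_, ?_⟩
      · rw [wact_nil, G.isPosRoot_iff]
        omega
      · rw [wact_nil, G.isPosRoot_iff]
        exact ⟨hp, hs⟩
    · rcases T.hN s (by omega) hs0 with ⟨i, hi, h1, h2⟩ | ⟨w, hw, h1, h2⟩
      · have h3 : s < D.reflectRoot i s := by
          have h4 := (G.reflect_lt_iff hi hs).not.2 (by omega)
          have h5 := (G.reflect_eq_iff hi hs).not.2 (by omega)
          omega
        have h4 := G.reflect_lt hi hs
        obtain ⟨w, hw, h5, h6⟩ := ih (D.nroots - D.reflectRoot i s) (by omega) _ rfl h4 (by omega)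
        have h7 : D.reflectRoot i (D.nroots - 1) = D.nroots - 1 := (G.reflect_eq_iff hi (by omega)).2 h1
        refine ⟨w ++ [i], ?_, ?_, ?_⟩
        · intro a ha
          rcases List.mem_append.1 ha with ha | ha
          · exact hw a ha
          · rw [List.mem_singleton.1 ha]
            exact hi
        · rw [wact_append, wact_cons, wact_nil, h7]
          exact h5
        · rw [wact_append, wact_cons, wact_nil]
          exact h6
      · have hw' := T.hW w hw
        refine ⟨w, hw', ?_, ?_⟩
        · rw [G.isPosRoot_iff]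
          exact ⟨h2, wact_lt G hw' (by omega)⟩
        · rw [G.isPosRoot_iff]
          exact ⟨h1, wact_lt G hw' hs⟩

theorem exists_acts_of_word (hD : InList D) (G : Good D) (w : List ℕ) (hw : ∀ a ∈ w, a < D.rank) :
    ∃ g : GL D.Idx F, g ∈ D.group F ∧ Acts g w := by
  induction w with
  | nil => exact ⟨1, Subgroup.one_mem _, acts_one⟩
  | cons i w ih =>
    obtain ⟨g, hg, h⟩ := ih fun a ha => hw a (List.mem_cons_of_mem _ ha)
    refine ⟨nG hD (D.simple i) 1 * g, Subgroup.mul_mem _ (nG_mem_group hD _ _) hg, ?_⟩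
    exact Acts.mul (w := [i]) G (acts_nG_simple hD (hw i List.mem_cons_self)) h
      fun a ha => hw a (List.mem_cons_of_mem _ ha)

theorem isPGroup_pos [Fintype F] [CharP F 2] (hD : InList D) : IsPGroup 2 ↥(D.posUnipotent F) := by
  have : Fact (Nat.Prime 2) := ⟨Nat.prime_two⟩
  obtain ⟨n, -, hn⟩ := FiniteField.card F 2
  apply IsPGroup.of_card (n := n * (D.nroots / 2))
  rw [Cfsg.Agent.S1027.result (F := F) D hD, hn, pow_mul]

theorem isPGroup_of_conj {A : Type*} [Group A] {p : ℕ} (g : A) {H K : Subgroup A} (hK : IsPGroup p K)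
    (h : H.map (MulAut.conj g).toMonoidHom ≤ K) : IsPGroup p H := by
  have h1 : IsPGroup p (H.map (MulAut.conj g).toMonoidHom) := hK.to_le h
  exact h1.of_equiv (H.equivMapOfInjective (MulAut.conj g).toMonoidHom (MulAut.conj g).injective).symm

theorem isPGroup_pair [Fintype F] [CharP F 2] (hD : InList D) {W : List (List ℕ)} (T : Dat D W) {s : ℕ}
    (hs : s < D.nroots) (hs0 : s ≠ 0) :
    IsPGroup 2 ↥(D.rootSubgroup F (D.nroots - 1) ⊔ D.rootSubgroup F s) := by
  have G : Good D := Cfsg.Agent.ChevalleyStructure.RootComb.good_of_mem hD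
  have hn0 := G.nroots_pos
  obtain ⟨w, hw, h1, h2⟩ := exists_pos_word G T _ s rfl hs hs0
  obtain ⟨g, -, hg⟩ := exists_acts_of_word (F := F) hD G w hw
  refine isPGroup_of_conj g (isPGroup_pos hD) ?_
  rw [Subgroup.map_sup, hg _ (by omega), hg _ hs]
  exact sup_le (rootSubgroup_le_pos hD h1) (rootSubgroup_le_pos hD h2)

theorem map_conj_eq_of_mem_normalizer {A : Type*} [Group A] {X : Subgroup A} {g : A}
    (h : g ∈ Subgroup.normalizer (X : Set A)) : X.map (MulAut.conj g).toMonoidHom = X := by
  ext x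
  rw [Subgroup.mem_map]
  constructor
  · rintro ⟨y, hy, rfl⟩
    exact (Subgroup.mem_normalizer_iff.1 h y).1 hy
  · intro hx
    refine ⟨g⁻¹ * x * g, ?_, ?_⟩
    · refine (Subgroup.mem_normalizer_iff.1 h _).2 ?_
      have e : g * (g⁻¹ * x * g) * g⁻¹ = x := by group
      rw [e]
      exact hx
    · show g * (g⁻¹ * x * g) * g⁻¹ = x
      group

theorem commute_of (hD : InList D) {r s : ℕ} (hr : r < D.nroots) (hs : s < D.nroots) (hrs : s ≠ r)
    (hneg : s ≠ D.neg r) (h : (D.commTerms r s).isEmpty = true) (t v : F) :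
    xG hD s v * xG hD r t = xG hD r t * xG hD s v := by
  apply Units.ext
  have h1 := Cfsg.Agent.S1025.result (F := F) D hD r s hr hs hrs hneg t v
  have h2 : D.commWord F r s t v = [] := by
    unfold ChevalleyDatum.commWord
    rw [List.isEmpty_iff.1 h]
    rfl
  rw [h2, wordMat_nil, mul_one] at h1
  exact h1

theorem borel_conj (hD : InList D) {W : List (List ℕ)} (T : Dat D W) {b : GL D.Idx F} (hb : b ∈ D.borelSubgroup F) :
    (D.rootSubgroup F (D.nroots - 1)).map (MulAut.conj b).toMonoidHom = D.rootSubgroup F (D.nroots - 1) := by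
  have G : Good D := Cfsg.Agent.ChevalleyStructure.RootComb.good_of_mem hD
  have hn0 := G.nroots_pos
  have hr : D.nroots - 1 < D.nroots := by omega
  obtain ⟨u, hu, h, hh, rfl⟩ := Cfsg.Agent.S1100.exists_mul_of_mem_borel hD hb
  rw [map_conj_mul, acts_of_mem_diagonal hD G hh _ hr, wact_nil]
  refine map_conj_eq_of_mem_normalizer ?_
  have hle : D.posUnipotent F ≤ Subgroup.centralizer (D.rootSubgroup F (D.nroots - 1) : Set (GL D.Idx F)) := by
    refine (posUnipotent_le_iff hD _).2 fun s hs c => ?_
    rw [Subgroup.mem_centralizer_iff]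
    intro x hx
    obtain ⟨t, rfl⟩ := (mem_rootSubgroup_iff hD _ x).1 hx
    by_cases h : s = D.nroots - 1
    · subst h
      rw [xG_add, xG_add, add_comm]
    · obtain ⟨h1, h2⟩ := T.hU s hs.1 (G.isPosRoot_iff.1 hs).1 h
      exact (commute_of hD hr hs.1 h h1 h2 t c).symm
  have hu' := Subgroup.mem_centralizer_iff.1 (hle hu)
  rw [Subgroup.mem_normalizer_iff]
  intro x
  constructor
  · intro hx
    rw [← hu' x hx, mul_inv_cancel_right]
    exact hx
  · intro hx
    have h3 := hu' _ hx
    have e : x = u * x * u⁻¹ := by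
      have h4 : u * x * u⁻¹ * u = u * (u * x * u⁻¹) := h3
      have h5 : u * x * u⁻¹ * u = u * x := by group
      rw [h5] at h4
      exact mul_left_cancel h4
    rw [e]
    exact hx

theorem main [Fintype F] [CharP F 2] (hD : InList D) {W : List (List ℕ)} (T : Dat D W) (g : GL D.Idx F)
    (hg : g ∈ D.group F) :
    IsPGroup 2 ↥(D.rootSubgroup F (D.nroots - 1) ⊔ (D.rootSubgroup F (D.nroots - 1)).map (MulAut.conj g).toMonoidHom) ∨
    ∃ h ∈ D.group F, (D.rootSubgroup F (D.nroots - 1) ⊔ (D.rootSubgroup F (D.nroots - 1)).map (MulAut.conj g).toMonoidHom).map (MulAut.conj h).toMonoidHom = D.rootSubgroup F (D.nroots - 1) ⊔ D.rootSubgroup F 0 := by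
  have G : Good D := Cfsg.Agent.ChevalleyStructure.RootComb.good_of_mem hD
  have hn0 := G.nroots_pos
  have hr : D.nroots - 1 < D.nroots := by omega
  obtain ⟨b, hb, n, hn, b', hb', rfl⟩ := Cfsg.Agent.S1100.exists_bruhat hD hg
  obtain ⟨w, hw, hact⟩ := exists_acts hD hn
  have hwr := wact_lt G hw hr
  have hbG : b ∈ D.group F := (Cfsg.Agent.S1043.result (F := F) D hD).1 hb
  have e1 : (D.rootSubgroup F (D.nroots - 1)).map (MulAut.conj (b * n * b')).toMonoidHom =
      (D.rootSubgroup F (wact D w (D.nroots - 1))).map (MulAut.conj b).toMonoidHom := by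
    rw [map_conj_mul, borel_conj hD T hb', map_conj_mul, hact _ hr]
  have e2 : D.rootSubgroup F (D.nroots - 1) ⊔ (D.rootSubgroup F (D.nroots - 1)).map (MulAut.conj (b * n * b')).toMonoidHom
      = (D.rootSubgroup F (D.nroots - 1) ⊔ D.rootSubgroup F (wact D w (D.nroots - 1))).map (MulAut.conj b).toMonoidHom := by
    rw [e1, Subgroup.map_sup, borel_conj hD T hb]
  have e3 : (D.rootSubgroup F (D.nroots - 1) ⊔ (D.rootSubgroup F (D.nroots - 1)).map (MulAut.conj (b * n * b')).toMonoidHom).map
      (MulAut.conj b⁻¹).toMonoidHom = D.rootSubgroup F (D.nroots - 1) ⊔ D.rootSubgroup F (wact D w (D.nroots - 1)) := by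
    rw [e2, map_conj_inv_map]
  by_cases h0 : wact D w (D.nroots - 1) = 0
  · right
    refine ⟨b⁻¹, Subgroup.inv_mem _ hbG, ?_⟩
    rw [e3, h0]
  · left
    refine isPGroup_of_conj b⁻¹ (isPGroup_pair hD T hwr h0) ?_
    rw [e3]

/-- Let G be the Chevalley group of type G₂ (over a field with at least four elements), D₄, E₆, E₇ or E₈ over a finite field F of characteristic two, and let X be the root subgroup of the highest root (the last root index) — a long root subgroup, of order |F|. For every g in G, the subgroup generated by X and its conjugate g X g⁻¹ is either a 2-group or is conjugate by an element of G to the subgroup generated by X and the root subgroup of the lowest root (index 0, the negative of the highest root), which is a copy of SL₂(F). -/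
theorem result {F : Type*} [Field F] [Fintype F] [CharP F 2] (D : Cfsg.Lie.ChevalleyDatum) (hD : D ∈ [Cfsg.Lie.chevG2, Cfsg.Lie.chevD4, Cfsg.Lie.chevE6, Cfsg.Lie.chevE7, Cfsg.Lie.chevE8]) (hF : D = Cfsg.Lie.chevG2 → 4 ≤ Fintype.card F) (g : GL D.Idx F) (hg : g ∈ D.group F) :
    IsPGroup 2 ↥(D.rootSubgroup F (D.nroots - 1) ⊔ (D.rootSubgroup F (D.nroots - 1)).map (MulAut.conj g).toMonoidHom) ∨
    ∃ h ∈ D.group F, (D.rootSubgroup F (D.nroots - 1) ⊔ (D.rootSubgroup F (D.nroots - 1)).map (MulAut.conj g).toMonoidHom).map (MulAut.conj h).toMonoidHom = D.rootSubgroup F (D.nroots - 1) ⊔ D.rootSubgroup F 0 := by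
  simp only [List.mem_cons, List.not_mem_nil, or_false] at hD
  rcases hD with rfl | rfl | rfl | rfl | rfl
  · exact main (by simp [InList]) datG2 g hg
  · exact main (by simp [InList]) datD4 g hg
  · exact main (by simp [InList]) datE6 g hg
  · exact main (by simp [InList]) datE7 g hg
  · exact main (by simp [InList]) datE8 g hg

end Cfsg.Agent.S2186
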