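import Cfsg.Statements.S3608
import Cfsg.Agent.S0000
import Cfsg.Agent.OrdDiv.Table
import Cfsg.Agent.H408.PPFinal

set_option autoImplicit false
open Cfsg

namespace Cfsg.Agent.S3608

/-- Let G be a finite non-abelian simple group with a subgroup of index p^k, where p is prime and k ≥ 1. Then one of the following holds: p^k ≥ 5 and G is isomorphic to the alternating group of degree p^k; G is isomorphic to PSL(d, q) for some d ≥ 2 and some finite field with q elements, where (q^d - 1)/(q - 1) = p^k; p^k = 11 and G is isomorphic to PSL(2, 11) or is simple of order 7920 (the order of the Mathieu group of degree 11); p^k = 23 and G is simple of order 10200960 (the order of the Mathieu group of degree 23); or p^k = 27 and G is isomorphic to PSp(4, 3). -/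
theorem result {G : Type*} [Group G] [Finite G] (hs : IsSimpleGroup G) (hna : ¬ IsMulCommutative G)
    (H : Subgroup G) (p k : ℕ) (hp : p.Prime) (hk : 1 ≤ k) (hH : H.index = p ^ k) :
    (5 ≤ p ^ k ∧ Nonempty (G ≃* alternatingGroup (Fin (p ^ k)))) ∨
    (∃ (d : ℕ) (F : Type) (_ : Field F) (_ : Fintype F), 2 ≤ d ∧
      Fintype.card F ^ d - 1 = p ^ k * (Fintype.card F - 1) ∧
      Nonempty (G ≃* Matrix.ProjectiveSpecialLinearGroup (Fin d) F)) ∨
    (p ^ k = 11 ∧ (Nonempty (G ≃* Matrix.ProjectiveSpecialLinearGroup (Fin 2) (ZMod 11)) ∨ Cfsg.IsM11 G)) ∨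
    (p ^ k = 23 ∧ Cfsg.IsM23 G) ∨
    (p ^ k = 27 ∧ Nonempty (G ≃* Cfsg.PSp 2 (ZMod 3))) :=
  Cfsg.Agent.H408.PPFinal.main Cfsg.Agent.OrdDiv.table (fun _ _ _ _ => Cfsg.Agent.S0000.result)
    hs hna (@Cfsg.Agent.S0000.result G _ _ hs) H p k hp hk hH

end Cfsg.Agent.S3608
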