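import Cfsg.Statements.S5836
import Cfsg.Agent.H879.Nine.Asm
import Cfsg.Agent.S0000

set_option autoImplicit false
open Cfsg

namespace Cfsg.Agent.S5836

/-- The maximal subgroups of Ω_9(q), q odd, in the residual class. Let F be a finite field of odd order q and characteristic p, Q the standard quadratic form x₀² + Σ x_i y_i on F^9, Ω the commutator subgroup of its isometry group, and H a maximal subgroup of Ω lying in the residual class of the orthogonal case. Then the perfect socle preimage P of H satisfies one of: P modulo scalars is isomorphic to PSL_2(8), with q = p ≡ ±1 mod 7 or q = p³ with p ≡ ±2 or ±3 mod 7; or to PSL_2(17), with q = p ≡ ±1, ±2, ±4 or ±8 mod 17 or q = p² with p ≡ ±3, ±5, ±6 or ±7 mod 17; or to A_10, with q = p prime, p ≠ 5 and p ≠ 11; or to A_11, with q = 11; or to PSL_2(F) itself, with p ≥ 11; or to PSL_2 over the field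 with q² elements, with q ≠ 3. -/
theorem result {F : Type*} [Field F] [Fintype F] (hodd : Odd (Fintype.card F)) (H : Subgroup (Matrix.GeneralLinearGroup (Unit ⊕ (Fin 4 ⊕ Fin 4)) F)) (hH : Cfsg.Geo.IsMaximalIn (Cfsg.Geo.omegaGL (Cfsg.quadFormOdd 4 F)) H) (hS : Cfsg.Geo.InOrthogonalResidualClass H) :
    ∃ (P : Subgroup (Matrix.GeneralLinearGroup (Unit ⊕ (Fin 4 ⊕ Fin 4)) F)) (p : ℕ), Cfsg.Geo.IsResidualCore H P ∧ p.Prime ∧ CharP F p ∧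
    (((∃ (K : Type) (_ : Field K) (_ : Fintype K), Fintype.card K = 8 ∧ Nonempty ((P ⧸ (Cfsg.Geo.scalars (Unit ⊕ (Fin 4 ⊕ Fin 4)) F).subgroupOf P) ≃* Matrix.ProjectiveSpecialLinearGroup (Fin 2) K)) ∧ ((Fintype.card F = p ∧ (p % 7 = 1 ∨ p % 7 = 6)) ∨ (Fintype.card F = p ^ 3 ∧ (p % 7 = 2 ∨ p % 7 = 5 ∨ p % 7 = 3 ∨ p % 7 = 4)))) ∨
     (Nonempty ((P ⧸ (Cfsg.Geo.scalars (Unit ⊕ (Fin 4 ⊕ Fin 4)) F).subgroupOf P) ≃* Matrix.ProjectiveSpecialLinearGroup (Fin 2) (ZMod 17)) ∧ ((Fintype.card F = p ∧ (p % 17 = 1 ∨ p % 17 = 16 ∨ p % 17 = 2 ∨ p % 17 = 15 ∨ p % 17 = 4 ∨ p % 17 = 13 ∨ p % 17 = 8 ∨ p % 17 = 9)) ∨ (Fintype.card F = p ^ 2 ∧ (p % 17 = 3 ∨ p % 17 = 14 ∨ p % 17 = 5 ∨ p % 17 = 12 ∨ p % 17 = 6 ∨ p % 17 = 11 ∨ p % 17 = 7 ∨ p % 17 = 10)))) ∨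
     (Nonempty ((P ⧸ (Cfsg.Geo.scalars (Unit ⊕ (Fin 4 ⊕ Fin 4)) F).subgroupOf P) ≃* alternatingGroup (Fin 10)) ∧ Fintype.card F = p ∧ p ≠ 5 ∧ p ≠ 11) ∨
     (Nonempty ((P ⧸ (Cfsg.Geo.scalars (Unit ⊕ (Fin 4 ⊕ Fin 4)) F).subgroupOf P) ≃* alternatingGroup (Fin 11)) ∧ Fintype.card F = 11) ∨
     (Nonempty ((P ⧸ (Cfsg.Geo.scalars (Unit ⊕ (Fin 4 ⊕ Fin 4)) F).subgroupOf P) ≃* Matrix.ProjectiveSpecialLinearGroup (Fin 2) F) ∧ 11 ≤ p) ∨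
     ((∃ (K : Type) (_ : Field K) (_ : Fintype K), Fintype.card K = Fintype.card F ^ 2 ∧ Nonempty ((P ⧸ (Cfsg.Geo.scalars (Unit ⊕ (Fin 4 ⊕ Fin 4)) F).subgroupOf P) ≃* Matrix.ProjectiveSpecialLinearGroup (Fin 2) K)) ∧ Fintype.card F ≠ 3)) := by
  have hk : Cfsg.Agent.H879.Nine.Known := fun T _ _ hs => Cfsg.Agent.S0000.result
  exact Cfsg.Agent.H879.Nine.final hk hodd H hH hS

end Cfsg.Agent.S5836
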