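import Cfsg.Statements.S5842
import Cfsg.Agent.H923.Ten.Asm
import Cfsg.Agent.S0000

set_option autoImplicit false
open Cfsg

namespace Cfsg.Agent.S5842

/-- The maximal subgroups of SU_10(q) in the residual class. Let F be the field with q² elements (characteristic p) and H a maximal subgroup of SU_10(q) (determinant-one isometries of the standard unitary form on F^10) lying in the residual class of the unitary case. Then the perfect socle preimage P of H satisfies one of: P modulo scalars is isomorphic to PSL_2(19), with q = p prime, p ≠ 2 and p a non-square modulo 19; or to M_12, with q = p ≡ 5 or 7 mod 8; or to M_22, with q = p prime, p ≡ 3, 5, 13, 17, 19 or 27 mod 28; or to U_3(q) (PSU_3 over F), with p ≥ 5; or to U_4(q) (PSU_4 over F), with p ≥ 3; or to U_5(q) (PSU_5 over F), no condition. (Residual-class subgroups with socle PSL_3(4) are never maximal in SU_10(q) itself.) -/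
theorem result {F : Type*} [Field F] [Fintype F] (q : ℕ) (hF : Fintype.card F = q ^ 2) (H : Subgroup (Matrix.GeneralLinearGroup (Fin 10) F)) (hH : Cfsg.Geo.IsMaximalIn (Cfsg.GU 10 F q ⊓ Cfsg.Geo.specialLinear (Fin 10) F) H) (hS : Cfsg.Geo.InUnitaryResidualClass H) :
    ∃ (P : Subgroup (Matrix.GeneralLinearGroup (Fin 10) F)) (p : ℕ), Cfsg.Geo.IsResidualCore H P ∧ p.Prime ∧ CharP F p ∧
    ((Nonempty ((P ⧸ (Cfsg.Geo.scalars (Fin 10) F).subgroupOf P) ≃* Matrix.ProjectiveSpecialLinearGroup (Fin 2) (ZMod 19)) ∧ q = p ∧ p ≠ 2 ∧ (p % 19 = 2 ∨ p % 19 = 3 ∨ p % 19 = 8 ∨ p % 19 = 10 ∨ p % 19 = 12 ∨ p % 19 = 13 ∨ p % 19 = 14 ∨ p % 19 = 15 ∨ p % 19 = 18)) ∨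
     (Cfsg.Spor.IsoM12 (P ⧸ (Cfsg.Geo.scalars (Fin 10) F).subgroupOf P) ∧ q = p ∧ (p % 8 = 5 ∨ p % 8 = 7)) ∨
     (Cfsg.Spor.IsoM22 (P ⧸ (Cfsg.Geo.scalars (Fin 10) F).subgroupOf P) ∧ q = p ∧ (p % 28 = 5 ∨ p % 28 = 13 ∨ p % 28 = 17 ∨ p % 28 = 3 ∨ p % 28 = 19 ∨ p % 28 = 27)) ∨
     (Nonempty ((P ⧸ (Cfsg.Geo.scalars (Fin 10) F).subgroupOf P) ≃* Cfsg.PSU 3 F q) ∧ 5 ≤ p) ∨
     (Nonempty ((P ⧸ (Cfsg.Geo.scalars (Fin 10) F).subgroupOf P) ≃* Cfsg.PSU 4 F q) ∧ 3 ≤ p) ∨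
     Nonempty ((P ⧸ (Cfsg.Geo.scalars (Fin 10) F).subgroupOf P) ≃* Cfsg.PSU 5 F q)) := by
  exact Cfsg.Agent.H923.Ten.Asm.uni (fun P hC => by have := hC.simple; exact Cfsg.Agent.S0000.result) q hF H hH hS

end Cfsg.Agent.S5842
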