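import Cfsg.Statements.S5948
import Cfsg.Agent.S0000
import Cfsg.Agent.H100.Ppd.Main

set_option autoImplicit false
open scoped MatrixGroups
open Cfsg

namespace Cfsg.Agent.S5948

/-- Overgroups of elements of large primitive-prime-divisor order in general linear groups, large-dimension form. Let `F` be a field with `q` elements, `n ≥ 10`, and `n/2 < k`. Let `g ∈ GL_n(F)` have order greater than `2k + 1`, dividing `q^k − 1` and coprime to `q^i − 1` for every `1 ≤ i < k` (so the order of `g` divides the primitive part of `q^k − 1`). If a subgroup `H` of GL_n(F) containing `g` acts irreducibly on `F^n`, then one of the following holds: `H` lies in a subfield group (the conjugate of the invertible matrices over a proper subfield of prime index times the scalars); or `H` normalizes a field of matrices of prime degree `r` over `F` with `r` dividing `gcd(n, k)` (an extension-field group); or `H` contains the special linear group, or all isometries of some non-degenerate symplectic form, or all determinant-one isometries of some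 non-degenerate unitary form, or the subgroup Ω of some non-degenerate quadratic form. (In dimension at most 9 there are further exceptions, not stated here.) -/
theorem result {F : Type*} [Field F] [Fintype F] {q : ℕ}
    (hF : Fintype.card F = q) (n k : ℕ) (hn : 10 ≤ n) (hk : n < 2 * k) (g : GL (Fin n) F)
    (hg1 : 2 * k + 1 < orderOf g) (hg2 : orderOf g ∣ q ^ k - 1)
    (hg3 : ∀ i : ℕ, 1 ≤ i → i < k → Nat.Coprime (orderOf g) (q ^ i - 1))
    (H : Subgroup (GL (Fin n) F)) (hgH : g ∈ H) (hirr : Cfsg.Geo.ActsIrreducibly (Cfsg.Geo.matrixSet H)) :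
    (∃ (F₀ : Subfield F) (r : ℕ) (P : GL (Fin n) F), r.Prime ∧ Fintype.card F = Nat.card F₀ ^ r ∧ H ≤ Cfsg.Geo.subfieldSubgroup F₀ P) ∨
    (∃ (r : ℕ) (E : Subalgebra F (Matrix (Fin n) (Fin n) F)), r.Prime ∧ r ∣ Nat.gcd n k ∧ Cfsg.Geo.IsFieldSubalgebra r E ∧
        H ≤ Cfsg.Geo.subalgebraNormalizer E) ∨
    Cfsg.Geo.specialLinear (Fin n) F ≤ H ∨
    (∃ f : (Fin n → F) → (Fin n → F) → F, Cfsg.Geo.IsSymplecticForm f ∧
        ∀ x : GL (Fin n) F, Cfsg.Geo.FixesForm {(x : Matrix (Fin n) (Fin n) F)} f → x ∈ H) ∨
    (∃ (τ : F ≃+* F) (f : (Fin n → F) → (Fin n → F) → F), Cfsg.Geo.IsUnitaryForm τ f ∧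
        ∀ x : GL (Fin n) F, Cfsg.Geo.FixesForm {(x : Matrix (Fin n) (Fin n) F)} f → Matrix.GeneralLinearGroup.det x = 1 → x ∈ H) ∨
    (∃ Q : (Fin n → F) → F, Cfsg.Geo.IsNondegenerateQuadraticForm Q ∧ Cfsg.Geo.omegaGL Q ≤ H) := by
  exact H100.Ppd.main (fun T => S0000.result) hF n k hn hk g hg1 hg2 hg3 H hgH hirr

end Cfsg.Agent.S5948
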