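import Cfsg.Statements.S4571
-- import your own Cfsg.Agent.* helpers here
import Mathlib
import Cfsg.Agent.S0941
import Cfsg.Agent.S0952

set_option autoImplicit false
open Cfsg

namespace Cfsg.Agent.S4571

open scoped ComplexConjugate
open Module

section lift

variable {G : Type*} [Group G]

theorem isPRegular_mk {p : ℕ} {g : G} (h : IsPRegular p g) (Q : Subgroup G) [Q.Normal] :
    IsPRegular p (QuotientGroup.mk g : G ⧸ Q) := by
  intro hd
  exact h (hd.trans (orderOf_map_dvd (QuotientGroup.mk' Q) g))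

theorem isPRegular_conj {p : ℕ} {g : G} (h : IsPRegular p g) (c : G) :
    IsPRegular p (c * g * c⁻¹) := by
  unfold IsPRegular at h ⊢
  have : orderOf (c * g * c⁻¹) = orderOf g := by
    simpa using (orderOf_injective (MulAut.conj c).toMonoidHom (MulAut.conj c).injective g)
  rwa [this]

/-- The `p`-regular lift of a `p`-regular element of `G ⧸ Q` is unique. -/
theorem lift_unique {p : ℕ} (hp : p.Prime) (Q : Subgroup G) [Q.Normal] (hQ : IsPGroup p Q) {k : ℕ}
    (hC : (Subgroup.centralizer (Q : Set G)).index = p ^ k) {g h : G} (hg : IsPRegular p g)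
    (hh : IsPRegular p h) (e : (QuotientGroup.mk g : G ⧸ Q) = QuotientGroup.mk h) [Finite G] :
    g = h := by
  have hgC := S0941.mem_centralizer_of_isPRegular hp Q hC hg
  rw [QuotientGroup.eq] at e
  set u := g⁻¹ * h with hu
  have h3 : g * u = u * g := (Subgroup.mem_centralizer_iff.1 hgC u e).symm
  have h4 : h = g * u := by rw [hu]; group
  obtain ⟨m, hm⟩ := hQ ⟨u, e⟩
  have hm' : u ^ p ^ m = 1 := by
    have := congrArg Subtype.val hm
    simpa using this
  have h5 : u ^ (orderOf g * orderOf h) = 1 := by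
    have h6 : (g * u) ^ (orderOf g * orderOf h) = 1 := by
      rw [← h4, mul_comm, pow_mul, pow_orderOf_eq_one, one_pow]
    rw [Commute.mul_pow h3, pow_mul, pow_orderOf_eq_one, one_pow, one_mul] at h6
    exact h6
  have h7 : Nat.Coprime (p ^ m) (orderOf g * orderOf h) := by
    apply Nat.Coprime.pow_left m
    rw [Nat.Prime.coprime_iff_not_dvd hp, Nat.Prime.dvd_mul hp, not_or]
    exact ⟨hg, hh⟩
  have h8 := Nat.dvd_gcd (orderOf_dvd_of_pow_eq_one hm') (orderOf_dvd_of_pow_eq_one h5)
  rw [h7, Nat.dvd_one, orderOf_eq_one_iff] at h8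
  rw [h4, h8, mul_one]

open Classical in
/-- Inflation of the part of a function on the `p`-regular elements. -/
noncomputable def infl (p : ℕ) (Q : Subgroup G) [Q.Normal] : (G ⧸ Q → ℂ) →ₗ[ℂ] (G → ℂ) where
  toFun θ g := if IsPRegular p g then θ (QuotientGroup.mk g) else 0
  map_add' θ θ' := by
    funext g
    by_cases h : IsPRegular p g <;> simp [h]
  map_smul' c θ := by
    funext g
    by_cases h : IsPRegular p g <;> simp [h]

theorem infl_of {p : ℕ} {Q : Subgroup G} [Q.Normal] {g : G} (h : IsPRegular p g)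
    (θ : G ⧸ Q → ℂ) : infl p Q θ g = θ (QuotientGroup.mk g) := if_pos h

theorem infl_of_not {p : ℕ} {Q : Subgroup G} [Q.Normal] {g : G} (h : ¬ IsPRegular p g)
    (θ : G ⧸ Q → ℂ) : infl p Q θ g = 0 := if_neg h

theorem pRegularPart_of {p : ℕ} {g : G} (h : IsPRegular p g) (θ : G → ℂ) :
    pRegularPart p θ g = θ g := by
  unfold pRegularPart
  exact if_pos h

theorem pRegularPart_of_not {p : ℕ} {g : G} (h : ¬ IsPRegular p g) (θ : G → ℂ) :
    pRegularPart p θ g = 0 := by
  unfold pRegularPart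
  exact if_neg h

theorem infl_eq (p : ℕ) (Q : Subgroup G) [Q.Normal] (θ : G ⧸ Q → ℂ) :
    infl p Q θ = pRegularPart p (θ ∘ (QuotientGroup.mk : G → G ⧸ Q)) := by
  funext g
  by_cases h : IsPRegular p g
  · rw [infl_of h, pRegularPart_of h]
    rfl
  · rw [infl_of_not h, pRegularPart_of_not h]

theorem infl_pRegularPart (p : ℕ) (Q : Subgroup G) [Q.Normal] (θ : G ⧸ Q → ℂ) :
    infl p Q (pRegularPart p θ) = pRegularPart p (θ ∘ (QuotientGroup.mk : G → G ⧸ Q)) := by
  funext g
  by_cases h : IsPRegular p g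
  · rw [infl_of h, pRegularPart_of h, pRegularPart_of (isPRegular_mk h Q)]
    rfl
  · rw [infl_of_not h, pRegularPart_of_not h]

end lift

section main

variable {G : Type*} [Group G] [Finite G]

open Classical in
/-- The class function on `G ⧸ Q` attached to a class function on `G`. -/
noncomputable def defl (p : ℕ) (Q : Subgroup G) [Q.Normal] : (G → ℂ) →ₗ[ℂ] (G ⧸ Q → ℂ) where
  toFun θ x := if h : ∃ g : G, IsPRegular p g ∧ (QuotientGroup.mk g : G ⧸ Q) = x then
    θ h.choose else 0
  map_add' θ θ' := by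
    funext x
    by_cases h : ∃ g : G, IsPRegular p g ∧ (QuotientGroup.mk g : G ⧸ Q) = x
    · simp only [Pi.add_apply]
      rw [dif_pos h, dif_pos h, dif_pos h]
    · simp only [Pi.add_apply]
      rw [dif_neg h, dif_neg h, dif_neg h, add_zero]
  map_smul' c θ := by
    funext x
    by_cases h : ∃ g : G, IsPRegular p g ∧ (QuotientGroup.mk g : G ⧸ Q) = x
    · simp only [Pi.smul_apply, RingHom.id_apply]
      rw [dif_pos h, dif_pos h]
    · simp only [Pi.smul_apply, RingHom.id_apply]
      rw [dif_neg h, dif_neg h, smul_zero]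

theorem defl_of {p : ℕ} (hp : p.Prime) (Q : Subgroup G) [Q.Normal] (hQ : IsPGroup p Q) {k : ℕ}
    (hC : (Subgroup.centralizer (Q : Set G)).index = p ^ k) {g : G} (hg : IsPRegular p g)
    (θ : G → ℂ) : defl p Q θ (QuotientGroup.mk g) = θ g := by
  have h : ∃ g' : G, IsPRegular p g' ∧ (QuotientGroup.mk g' : G ⧸ Q) = QuotientGroup.mk g :=
    ⟨g, hg, rfl⟩
  have h1 : defl p Q θ (QuotientGroup.mk g) = θ h.choose := dif_pos h
  rw [h1, lift_unique hp Q hQ hC h.choose_spec.1 hg h.choose_spec.2]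

omit [Finite G] in
theorem defl_of_not {p : ℕ} [Fact p.Prime] (Q : Subgroup G) [Q.Normal] {x : G ⧸ Q}
    (hx : ¬ IsPRegular p x) (θ : G → ℂ) : defl p Q θ x = 0 := by
  apply dif_neg
  rintro ⟨g, hg, rfl⟩
  exact hx (isPRegular_mk hg Q)

theorem defl_isClassFunction {p : ℕ} [Fact p.Prime] (Q : Subgroup G) [Q.Normal]
    (hQ : IsPGroup p Q) {k : ℕ} (hC : (Subgroup.centralizer (Q : Set G)).index = p ^ k)
    {θ : G → ℂ} (hθ : IsClassFunction G θ) : IsClassFunction (G ⧸ Q) (defl p Q θ) := by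
  have hp : p.Prime := Fact.out
  intro x y
  by_cases hx : IsPRegular p x
  · obtain ⟨g, hg, rfl⟩ := Blocks.PRegular.exists_isPRegular_lift G p Q hx
    obtain ⟨c, rfl⟩ := QuotientGroup.mk_surjective y
    have : (QuotientGroup.mk c * QuotientGroup.mk g * (QuotientGroup.mk c)⁻¹ : G ⧸ Q) =
      QuotientGroup.mk (c * g * c⁻¹) := rfl
    rw [this, defl_of hp Q hQ hC hg, defl_of hp Q hQ hC (isPRegular_conj hg c), hθ]
  · rw [defl_of_not Q hx, defl_of_not Q]
    intro h
    apply hx
    have := isPRegular_conj h y⁻¹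
    rwa [inv_inv, show y⁻¹ * (y * x * y⁻¹) * y = x by group] at this

/-- Orthogonality of the parts on the `p`-regular elements. -/
theorem orth [Fintype G] {p : ℕ} [Fact p.Prime] {M : Ideal AlgInt} (hM : IsPModular p M)
    (χ ψ : IrrCharacter G) (h : ¬ SameBlock M (χ : G → ℂ) (ψ : G → ℂ)) :
    ∑ x : G, pRegularPart p (χ : G → ℂ) x * conj (pRegularPart p (ψ : G → ℂ) x) = 0 := by
  classical
  have h1 := S0952.result p M hM χ ψ h
  rw [finsum_mem_def, finsum_eq_sum_of_fintype] at h1
  rw [← h1]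
  refine Finset.sum_congr rfl fun x _ => ?_
  by_cases hx : IsPRegular p x
  · rw [pRegularPart_of hx, pRegularPart_of hx, Set.indicator_of_mem]
    exact hx
  · rw [pRegularPart_of_not hx, Set.indicator_of_notMem, zero_mul]
    exact hx

/-- The inflation of an irreducible character. -/
noncomputable def inflChar (Q : Subgroup G) [Q.Normal] (χ : IrrCharacter (G ⧸ Q)) :
    IrrCharacter G :=
  ⟨(χ : G ⧸ Q → ℂ) ∘ (QuotientGroup.mk' Q), Cfsg.Agent.Characters.Core.isIrr_comp
    (QuotientGroup.mk' Q) (QuotientGroup.mk'_surjective Q) χ.2⟩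

omit [Finite G] in
theorem infl_irr (p : ℕ) (Q : Subgroup G) [Q.Normal] (χ : IrrCharacter (G ⧸ Q)) :
    infl p Q (χ : G ⧸ Q → ℂ) = pRegularPart p (inflChar Q χ : G → ℂ) := infl_eq p Q _

theorem map_span_eq [Fintype G] {p : ℕ} [Fact p.Prime] {M : Ideal AlgInt} (hM : IsPModular p M)
    (Q : Subgroup G) [Q.Normal] (hQ : IsPGroup p Q) {k : ℕ}
    (hC : (Subgroup.centralizer (Q : Set G)).index = p ^ k)
    (B : Set (IrrCharacter G)) (B' : Set (IrrCharacter (G ⧸ Q)))
    (hB' : ∀ χ, χ ∈ B' ↔ inflChar Q χ ∈ B)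
    (hB : ∀ χ ψ : IrrCharacter G, SameBlock M (χ : G → ℂ) (ψ : G → ℂ) → χ ∈ B → ψ ∈ B) :
    (Submodule.span ℂ ((fun χ : IrrCharacter (G ⧸ Q) => pRegularPart p (χ : G ⧸ Q → ℂ)) '' B')).map
      (infl p Q) = Submodule.span ℂ ((fun χ : IrrCharacter G => pRegularPart p (χ : G → ℂ)) '' B) := by
  classical
  have hp : p.Prime := Fact.out
  have hMp : M.IsPrime := hM.2.1.isPrime
  have := Fintype.ofFinite (G ⧸ Q)
  have := Characters.Core.finite_irr (G := G ⧸ Q)
  have : Fintype (IrrCharacter (G ⧸ Q)) := Fintype.ofFinite _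
  apply le_antisymm
  · rw [Submodule.map_span_le]
    rintro _ ⟨χ, hχ, rfl⟩
    simp only
    rw [infl_pRegularPart]
    exact Submodule.subset_span ⟨inflChar Q χ, (hB' χ).1 hχ, rfl⟩
  · rw [Submodule.span_le]
    rintro _ ⟨ψ, hψ, rfl⟩
    simp only [SetLike.mem_coe]
    set F := defl p Q (ψ : G → ℂ) with hF
    set c : IrrCharacter (G ⧸ Q) → ℂ := fun χ => classInner F (χ : G ⧸ Q → ℂ) with hc
    have hFs : F = ∑ χ : IrrCharacter (G ⧸ Q), c χ • (χ : G ⧸ Q → ℂ) :=
      Characters.Core.classFunction_eq_sum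
        (defl_isClassFunction Q hQ hC (Blocks.Basic.irr_isClassFunction ψ.2))
    have h1 : pRegularPart p (ψ : G → ℂ) = infl p Q F := by
      funext g
      by_cases h : IsPRegular p g
      · rw [infl_of h, pRegularPart_of h, hF, defl_of hp Q hQ hC h]
      · rw [infl_of_not h, pRegularPart_of_not h]
    have h2 : pRegularPart p (ψ : G → ℂ) =
        ∑ χ : IrrCharacter (G ⧸ Q), c χ • pRegularPart p (inflChar Q χ : G → ℂ) := by
      rw [h1, hFs, map_sum]
      refine Finset.sum_congr rfl fun χ _ => ?_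
      rw [map_smul, infl_irr]
    set D1 : G → ℂ := ∑ χ : IrrCharacter (G ⧸ Q) with χ ∈ B',
      c χ • pRegularPart p (inflChar Q χ : G → ℂ) with hD1
    set D2 : G → ℂ := ∑ χ : IrrCharacter (G ⧸ Q) with χ ∉ B',
      c χ • pRegularPart p (inflChar Q χ : G → ℂ) with hD2
    have h3 : pRegularPart p (ψ : G → ℂ) = D1 + D2 := by
      rw [h2, hD1, hD2, Finset.sum_filter_add_sum_filter_not]
    have h4 : ∀ χ : IrrCharacter (G ⧸ Q), χ ∉ B' →
        ∑ x : G, D2 x * conj (pRegularPart p (inflChar Q χ : G → ℂ) x) = 0 := by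
      intro χ hχ
      have e1 : D2 = pRegularPart p (ψ : G → ℂ) - D1 := by rw [h3]; abel
      have e2 : ∑ x : G, pRegularPart p (ψ : G → ℂ) x *
          conj (pRegularPart p (inflChar Q χ : G → ℂ) x) = 0 := by
        apply orth hM
        intro h
        exact hχ ((hB' χ).2 (hB _ _ h hψ))
      have e3 : ∑ x : G, D1 x * conj (pRegularPart p (inflChar Q χ : G → ℂ) x) = 0 := by
        simp only [hD1, Finset.sum_apply, Finset.sum_mul]
        rw [Finset.sum_comm]
        refine Finset.sum_eq_zero fun χ' hχ' => ?_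
        have hχ'' : χ' ∈ B' := (Finset.mem_filter.1 hχ').2
        have := orth hM (inflChar Q χ') (inflChar Q χ) (fun h =>
          hχ ((hB' χ).2 (hB _ _ h ((hB' χ').1 hχ''))))
        simp only [Pi.smul_apply, smul_eq_mul, mul_assoc]
        rw [← Finset.mul_sum, this, mul_zero]
      rw [e1]
      simp only [Pi.sub_apply, sub_mul, Finset.sum_sub_distrib]
      rw [e2, e3, sub_zero]
    have h5 : ∑ x : G, D2 x * conj (D2 x) = 0 := by
      have : ∀ x, conj (D2 x) = ∑ χ : IrrCharacter (G ⧸ Q) with χ ∉ B',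
          conj (c χ) * conj (pRegularPart p (inflChar Q χ : G → ℂ) x) := by
        intro x
        simp only [hD2, Finset.sum_apply, map_sum, Pi.smul_apply, smul_eq_mul, map_mul]
      simp only [this, Finset.mul_sum]
      rw [Finset.sum_comm]
      refine Finset.sum_eq_zero fun χ hχ => ?_
      have hχ' : χ ∉ B' := (Finset.mem_filter.1 hχ).2
      have e := h4 χ hχ'
      calc ∑ x : G, D2 x * (conj (c χ) * conj (pRegularPart p (inflChar Q χ : G → ℂ) x))
          = conj (c χ) * ∑ x : G, D2 x * conj (pRegularPart p (inflChar Q χ : G → ℂ) x) := by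
            rw [Finset.mul_sum]
            exact Finset.sum_congr rfl fun x _ => by ring
        _ = 0 := by rw [e, mul_zero]
    have h6 : D2 = 0 := by
      funext x
      have e : ∑ x : G, Complex.normSq (D2 x) = 0 := by
        have : ((∑ x : G, Complex.normSq (D2 x) : ℝ) : ℂ) = 0 := by
          rw [← h5]
          push_cast
          exact Finset.sum_congr rfl fun x _ => (Complex.mul_conj (D2 x)).symm
        exact_mod_cast this
      rw [Finset.sum_eq_zero_iff_of_nonneg (fun x _ => Complex.normSq_nonneg _)] at e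
      exact Complex.normSq_eq_zero.1 (e x (Finset.mem_univ x))
    rw [h3, h6, add_zero, hD1]
    refine Submodule.sum_mem _ fun χ hχ => ?_
    have hχ' : χ ∈ B' := (Finset.mem_filter.1 hχ).2
    refine Submodule.smul_mem _ _ ?_
    exact ⟨pRegularPart p (χ : G ⧸ Q → ℂ), Submodule.subset_span ⟨χ, hχ', rfl⟩,
      infl_pRegularPart p Q _⟩

theorem rank_eq {p : ℕ} [Fact p.Prime] {M : Ideal AlgInt} (hM : IsPModular p M)
    (Q : Subgroup G) [Q.Normal] (hQ : IsPGroup p Q) {k : ℕ}
    (hC : (Subgroup.centralizer (Q : Set G)).index = p ^ k)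
    (B : Set (IrrCharacter G)) (B' : Set (IrrCharacter (G ⧸ Q)))
    (hB' : ∀ χ, χ ∈ B' ↔ inflChar Q χ ∈ B)
    (hB : ∀ χ ψ : IrrCharacter G, SameBlock M (χ : G → ℂ) (ψ : G → ℂ) → χ ∈ B → ψ ∈ B) :
    blockRank p B = blockRank p B' := by
  classical
  have hp : p.Prime := Fact.out
  have := Fintype.ofFinite G
  have h := map_span_eq hM Q hQ hC B B' hB' hB
  unfold blockRank
  rw [← h]
  set V := Submodule.span ℂ
    ((fun χ : IrrCharacter (G ⧸ Q) => pRegularPart p (χ : G ⧸ Q → ℂ)) '' B') with hV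
  have : FiniteDimensional ℂ V := inferInstance
  apply le_antisymm
  · exact Submodule.finrank_map_le _ _
  · have h1 : (V.map (infl p Q)).map (defl p Q) = V := by
      rw [hV, Submodule.map_span, Submodule.map_span]
      congr 1
      rw [Set.image_image, Set.image_image]
      refine Set.image_congr fun χ _ => ?_
      funext x
      by_cases hx : IsPRegular p x
      · obtain ⟨g, hg, rfl⟩ := Blocks.PRegular.exists_isPRegular_lift G p Q hx
        rw [defl_of hp Q hQ hC hg, infl_of hg]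
      · rw [defl_of_not Q hx, pRegularPart_of_not hx]
    calc finrank ℂ V = finrank ℂ ((V.map (infl p Q)).map (defl p Q)) := by rw [h1]
      _ ≤ finrank ℂ (V.map (infl p Q)) := Submodule.finrank_map_le _ _

end main

/-- Let Q be a normal p-subgroup of the finite group G with G = Q·C_G(Q), and M a maximal ideal of the algebraic integers containing p. Then the principal p-blocks of G and of G/Q have the same p-regular rank (the same number of irreducible Brauer characters). -/
theorem result {G : Type*} [Group G] [Finite G] (p : ℕ) [Fact p.Prime] (M : Ideal Cfsg.AlgInt) (hM : Cfsg.IsPModular p M) (Q : Subgroup G) [Q.Normal] (hQ : IsPGroup p Q) (hsup : Q ⊔ Subgroup.centralizer (Q : Set G) = ⊤) : Cfsg.blockRank p (Cfsg.principalBlock M G) = Cfsg.blockRank p (Cfsg.principalBlock M (G ⧸ Q)) := by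
  have hMp : M.IsPrime := hM.2.1.isPrime
  have hC : ∃ k : ℕ, (Subgroup.centralizer (Q : Set G)).index = p ^ k := by
    obtain ⟨m, hm⟩ := IsPGroup.iff_card.1 hQ
    have h1 : (Subgroup.centralizer (Q : Set G)).index =
        (Subgroup.centralizer (Q : Set G)).relIndex Q := by
      rw [← Subgroup.relIndex_top_right, ← hsup, Subgroup.relIndex_sup_right]
    have h2 : (Subgroup.centralizer (Q : Set G)).relIndex Q ∣ Nat.card Q :=
      Subgroup.index_dvd_card _
    rw [hm] at h2
    obtain ⟨k, -, hk⟩ := (Nat.dvd_prime_pow Fact.out).1 h2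
    exact ⟨k, by rw [h1, hk]⟩
  have hmain := (S0941.result p M hM Q hQ hC).1
  obtain ⟨k, hC⟩ := hC
  have h1irr : IsIrrCharacter (G ⧸ Q) (fun _ => (1 : ℂ)) := Blocks.Basic.isIrrCharacter_one
  apply rank_eq hM Q hQ hC
  · intro χ
    exact hmain ⟨_, h1irr⟩ χ
  · intro χ ψ h hχ
    exact Blocks.Basic.sameBlock_trans hχ h

end Cfsg.Agent.S4571
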