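import Cfsg.Statements.S5841
import Cfsg.Agent.S5663
import Cfsg.Agent.H918.UWrap
import Cfsg.Agent.H918.TransvWreath
import Cfsg.Agent.H930.UnitaryTwo
import Cfsg.Agent.H930.UnitaryTensor
-- import your own Cfsg.Agent.* helpers here

set_option autoImplicit false
open Cfsg

namespace Cfsg.Agent.S5841

/-- Every maximal subgroup of SU_10(q) is of one of the listed geometric types or lies in the residual class. Let F be the field with q² elements (characteristic p), f the standard unitary form Σ u_i v_i^q on F^10, and H a maximal subgroup of SU_10(q) (inside GL_10(F)). Then H is the intersection with SU_10(q) of one of: the stabiliser of a non-zero totally isotropic subspace; the stabiliser of a non-zero non-degenerate subspace W with 2 dim W < 10; the stabiliser of a decomposition into 10 mutually orthogonal non-degenerate 1-spaces; for q ≥ 3, the stabiliser of a decomposition into 5 mutually orthogonal non-degenerate 2-spaces;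 the stabiliser of a decomposition into 2 mutually orthogonal non-degenerate 5-spaces; of a decomposition into two totally isotropic 5-spaces; the normaliser of an adjoint-closed degree-5 subfield of the matrix algebra; for q ≥ 3, the stabiliser of a tensor decomposition of f into unitary forms on F^2 and F^5; a subfield group of odd prime index whose F₀-structure carries f; a subfield group of index 2 and symplectic type; for q odd, a subfield group of index 2 whose F₀-structure carries f — or else H lies in the residual class of the unitary case (modulo scalars H is almost simple, with absolutely irreducible perfect socle preimage realisable over no proper subfield and fixing no non-degenerate quadratic or symplectic form). -/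
theorem result {F : Type*} [Field F] [Fintype F] (q : ℕ) (hF : Fintype.card F = q ^ 2) (H : Subgroup (Matrix.GeneralLinearGroup (Fin 10) F)) (hH : Cfsg.Geo.IsMaximalIn (Cfsg.GU 10 F q ⊓ Cfsg.Geo.specialLinear (Fin 10) F) H) :
    (∃ W : Submodule F (Fin 10 → F), W ≠ ⊥ ∧ Cfsg.Geo.IsTotallySingularFor (Cfsg.hermForm 10 F q) W ∧ H = Cfsg.Geo.subspaceStabilizer W ⊓ (Cfsg.GU 10 F q ⊓ Cfsg.Geo.specialLinear (Fin 10) F)) ∨
    (∃ W : Submodule F (Fin 10 → F), W ≠ ⊥ ∧ Cfsg.Geo.IsNondegenerateOn (Cfsg.hermForm 10 F q) W ∧ 2 * Module.finrank F W < 10 ∧ H = Cfsg.Geo.subspaceStabilizer W ⊓ (Cfsg.GU 10 F q ⊓ Cfsg.Geo.specialLinear (Fin 10) F)) ∨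
    (∃ D : Fin 10 → Submodule F (Fin 10 → F), Cfsg.Geo.IsNondegenerateMDecomposition (Cfsg.hermForm 10 F q) 1 D ∧ H = Cfsg.Geo.decompositionStabilizer D ⊓ (Cfsg.GU 10 F q ⊓ Cfsg.Geo.specialLinear (Fin 10) F)) ∨
    (3 ≤ q ∧ ∃ D : Fin 5 → Submodule F (Fin 10 → F), Cfsg.Geo.IsNondegenerateMDecomposition (Cfsg.hermForm 10 F q) 2 D ∧ H = Cfsg.Geo.decompositionStabilizer D ⊓ (Cfsg.GU 10 F q ⊓ Cfsg.Geo.specialLinear (Fin 10) F)) ∨
    (∃ D : Fin 2 → Submodule F (Fin 10 → F), Cfsg.Geo.IsNondegenerateMDecomposition (Cfsg.hermForm 10 F q) 5 D ∧ H = Cfsg.Geo.decompositionStabilizer D ⊓ (Cfsg.GU 10 F q ⊓ Cfsg.Geo.specialLinear (Fin 10) F)) ∨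
    (∃ D : Fin 2 → Submodule F (Fin 10 → F), Cfsg.Geo.IsMDecomposition 5 D ∧ (∀ i, Cfsg.Geo.IsTotallySingularFor (Cfsg.hermForm 10 F q) (D i)) ∧ H = Cfsg.Geo.decompositionStabilizer D ⊓ (Cfsg.GU 10 F q ⊓ Cfsg.Geo.specialLinear (Fin 10) F)) ∨
    (∃ K : Subalgebra F (Matrix (Fin 10) (Fin 10) F), Cfsg.Geo.IsFieldSubalgebra 5 K ∧ Cfsg.Geo.IsAdjointClosedFor (Cfsg.hermForm 10 F q) K ∧ H = Cfsg.Geo.subalgebraNormalizer K ⊓ (Cfsg.GU 10 F q ⊓ Cfsg.Geo.specialLinear (Fin 10) F)) ∨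
    (3 ≤ q ∧ ∃ (e : Fin 10 ≃ Fin 2 × Fin 5) (P : Matrix.GeneralLinearGroup (Fin 10) F) (f₁ : (Fin 2 → F) → (Fin 2 → F) → F) (f₂ : (Fin 5 → F) → (Fin 5 → F) → F), Cfsg.Geo.IsUnitaryFormPow q f₁ ∧ Cfsg.Geo.IsUnitaryFormPow q f₂ ∧ Cfsg.Geo.IsTensorFormStructure (fun x : F => x ^ q) (Cfsg.hermForm 10 F q) f₁ f₂ e P ∧ H = Cfsg.Geo.tensorProductSubgroup 2 5 e P ⊓ (Cfsg.GU 10 F q ⊓ Cfsg.Geo.specialLinear (Fin 10) F)) ∨
    (∃ (F₀ : Subfield F) (r : ℕ) (P : Matrix.GeneralLinearGroup (Fin 10) F), r.Prime ∧ Odd r ∧ Fintype.card F = Nat.card F₀ ^ r ∧ Cfsg.Geo.IsFormRationalStructure (Cfsg.hermForm 10 F q) F₀ 1 P ∧ H = Cfsg.Geo.subfieldSubgroup F₀ P ⊓ (Cfsg.GU 10 F q ⊓ Cfsg.Geo.specialLinear (Fin 10) F)) ∨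
    (∃ (F₀ : Subfield F) (P : Matrix.GeneralLinearGroup (Fin 10) F) (ζ : F), Fintype.card F = Nat.card F₀ ^ 2 ∧ ζ ≠ 0 ∧ ζ + ζ ^ q = 0 ∧ Cfsg.Geo.IsFormRationalStructure (Cfsg.hermForm 10 F q) F₀ ζ P ∧ (∀ u : Fin 10 → F, (∀ i, u i ∈ F₀) → (Cfsg.hermForm 10 F q) (Matrix.mulVec (P : Matrix (Fin 10) (Fin 10) F) u) (Matrix.mulVec (P : Matrix (Fin 10) (Fin 10) F) u) = 0) ∧ H = Cfsg.Geo.subfieldSubgroup F₀ P ⊓ (Cfsg.GU 10 F q ⊓ Cfsg.Geo.specialLinear (Fin 10) F)) ∨
    (Odd q ∧ ∃ (F₀ : Subfield F) (P : Matrix.GeneralLinearGroup (Fin 10) F), Fintype.card F = Nat.card F₀ ^ 2 ∧ Cfsg.Geo.IsFormRationalStructure (Cfsg.hermForm 10 F q) F₀ 1 P ∧ H = Cfsg.Geo.subfieldSubgroup F₀ P ⊓ (Cfsg.GU 10 F q ⊓ Cfsg.Geo.specialLinear (Fin 10) F)) ∨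
    Cfsg.Geo.InUnitaryResidualClass H := by
  classical
  have hn : 3 ≤ 10 := by norm_num
  have h32 : ¬ (10 = 3 ∧ q = 2) := by omega
  have hq2 : 2 ≤ q := by
    have h1 := Fintype.one_lt_card (α := F)
    rw [hF] at h1
    by_contra h
    have : q ≤ 1 := by omega
    have : q ^ 2 ≤ 1 ^ 2 := Nat.pow_le_pow_left this 2
    omega
  -- overgroups which stabilise a decomposition are equal to `H`
  have hup : ∀ (t k : ℕ) (E : Fin t → Submodule F (Fin 10 → F)),
      Cfsg.Geo.IsNondegenerateMDecomposition (Cfsg.hermForm 10 F q) k E → H ≤ Cfsg.Geo.decompositionStabilizer E →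
      H = Cfsg.Geo.decompositionStabilizer E ⊓ (Cfsg.GU 10 F q ⊓ Cfsg.Geo.specialLinear (Fin 10) F) := by
    intro t k E hE hle
    rcases hH.2 _ (le_inf hle hH.1.le) inf_le_right with h | h
    · exact h.symm
    · exact absurd (inf_eq_right.mp h)
        (Cfsg.Agent.H918.SUg_not_le_decompositionStabilizer hF hn h32 hE.decomp)
  rcases Cfsg.Agent.H918.unitary_maximal_cases hF hn h32 hH (by
      intro k t e P hk ht _
      obtain ⟨g, hg, hg'⟩ := Cfsg.Agent.H918.exists_rankOne_mem hF hn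
      exact Cfsg.Agent.H918.not_le_tensorWreathSubgroup hg hg' hk ht e P)
    (Cfsg.Agent.S5663.result 10 q hF (by norm_num) h32 H hH.1.le (Cfsg.Agent.H918.sup_scalars_ne hF hn h32 hH)) with
    h | h | h | h | h | h | h | h | h | h | h | h | h
  · exact Or.inl h
  · exact Or.inr (Or.inl h)
  · -- orthogonal decompositions
    obtain ⟨t, k, D, htk, ht, hD, hHD⟩ := h
    have hk0 : 0 < k := hD.decomp.pos
    have htd : t ∣ 10 := ⟨k, htk.symm⟩
    have ht10 : t ≤ 10 := Nat.le_of_dvd (by norm_num) htd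
    have hcases : (t = 2 ∧ k = 5) ∨ (t = 5 ∧ k = 2) ∨ (t = 10 ∧ k = 1) := by
      interval_cases t <;> omega
    rcases hcases with ⟨rfl, rfl⟩ | ⟨rfl, rfl⟩ | ⟨rfl, rfl⟩
    · exact Or.inr (Or.inr (Or.inr (Or.inr (Or.inl ⟨D, hD, hHD⟩))))
    · by_cases hq : 3 ≤ q
      · exact Or.inr (Or.inr (Or.inr (Or.inl ⟨hq, D, hD, hHD⟩)))
      · obtain rfl : q = 2 := by omega
        obtain ⟨E, hE, hle⟩ := Cfsg.Agent.H930.exists_refinement hF
          (Cfsg.Agent.H930.hermForm_isUnitaryFormPow hF 10) hD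
        refine Or.inr (Or.inr (Or.inl ⟨E, hE, hup _ _ E hE ?_⟩))
        intro g hg
        have hg1 := hg
        rw [hHD] at hg
        exact hle g (fun u v => (hH.1.le hg1).1 u v) hg.1
    · exact Or.inr (Or.inr (Or.inl ⟨D, hD, hHD⟩))
  · obtain ⟨k, D, hk, h1, h2, h3⟩ := h
    obtain rfl : k = 5 := by omega
    exact Or.inr (Or.inr (Or.inr (Or.inr (Or.inr (Or.inl ⟨D, h1, h2, h3⟩)))))
  · exact Or.inr (Or.inr (Or.inr (Or.inr (Or.inr (Or.inr (Or.inr (Or.inr (Or.inl h))))))))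
  · obtain ⟨F₀, P, h1, h2, h3, h4⟩ := h
    exact Or.inr (Or.inr (Or.inr (Or.inr (Or.inr (Or.inr (Or.inr (Or.inr (Or.inr (Or.inr (Or.inl
      ⟨h1, F₀, P, h2, h3, h4⟩))))))))))
  · obtain ⟨F₀, P, ζ, _, h2, h3, h4, h5, h6, h7⟩ := h
    exact Or.inr (Or.inr (Or.inr (Or.inr (Or.inr (Or.inr (Or.inr (Or.inr (Or.inr (Or.inl
      ⟨F₀, P, ζ, h2, h3, h4, h5, h6, h7⟩)))))))))
  · exfalso
    obtain ⟨r, R, p, e, k, hR, _, _, _, _, _, _, hk, _, h10, _⟩ := h
    have hr := hR.prime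
    have hk1 : r ∣ 10 := by rw [h10]; exact dvd_pow_self r (by omega)
    have h2 : r = 2 ∨ r = 5 := by
      have : r ∣ 2 * 5 := by simpa using hk1
      rcases (Nat.Prime.dvd_mul hr).mp this with h | h
      · exact Or.inl ((Nat.prime_dvd_prime_iff_eq hr Nat.prime_two).mp h)
      · exact Or.inr ((Nat.prime_dvd_prime_iff_eq hr Nat.prime_five).mp h)
    rcases h2 with rfl | rfl
    · have h4 : k ≤ 3 := by
        by_contra h
        have : 2 ^ 4 ≤ 2 ^ k := Nat.pow_le_pow_right (by norm_num) (by omega)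
        omega
      interval_cases k <;> omega
    · have h4 : k ≤ 1 := by
        by_contra h
        have : 5 ^ 2 ≤ 5 ^ k := Nat.pow_le_pow_right (by norm_num) (by omega)
        omega
      interval_cases k <;> omega
  · exfalso
    obtain ⟨R, p, k, _, _, _, _, _, _, _, _, h10, _⟩ := h
    have h4 : k ≤ 3 := by
      by_contra h
      have : 2 ^ 4 ≤ 2 ^ k := Nat.pow_le_pow_right (by norm_num) (by omega)
      omega
    interval_cases k <;> omega
  · obtain ⟨r, K, hr, hodd, hrd, h1, h2, h3⟩ := h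
    have h5 : r = 5 := by
      have : r ∣ 2 * 5 := by simpa using hrd
      rcases (Nat.Prime.dvd_mul hr).mp this with h | h
      · exfalso
        have := (Nat.prime_dvd_prime_iff_eq hr Nat.prime_two).mp h
        subst this
        exact absurd hodd (by decide)
      · exact (Nat.prime_dvd_prime_iff_eq hr Nat.prime_five).mp h
    subst h5
    exact Or.inr (Or.inr (Or.inr (Or.inr (Or.inr (Or.inr (Or.inl ⟨K, h1, h2, h3⟩))))))
  · -- tensor products
    obtain ⟨n₁, n₂, e, P, f₁, f₂, h10, h2, hlt, hf₁, hf₂, hstr, hHT⟩ := h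
    have hn₁ : n₁ = 2 ∧ n₂ = 5 := by
      have hd : n₁ ∣ 10 := ⟨n₂, h10.symm⟩
      have hle : n₁ ≤ 10 := Nat.le_of_dvd (by norm_num) hd
      interval_cases n₁ <;> omega
    obtain ⟨rfl, rfl⟩ := hn₁
    by_cases hq : 3 ≤ q
    · exact Or.inr (Or.inr (Or.inr (Or.inr (Or.inr (Or.inr (Or.inr (Or.inl
        ⟨hq, e, P, f₁, f₂, hf₁, hf₂, hstr, hHT⟩)))))))
    · obtain rfl : q = 2 := by omega
      obtain ⟨E, hE, hle⟩ := Cfsg.Agent.H930.exists_decomposition_of_tensor_two hF (by norm_num) hf₁ hf₂ hstr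
      refine Or.inr (Or.inr (Or.inr (Or.inr (Or.inl ⟨E, hE, hup _ _ E hE ?_⟩))))
      intro g hg
      have hg1 := hg
      rw [hHT] at hg
      exact hle g (fun u v => (hH.1.le hg1).1 u v) hg.1
  · exfalso
    obtain ⟨k, t, e, P, f₁, hkt, hk, ht, _⟩ := h
    have ht2 : t ≤ 2 := by
      by_contra h
      have h5 : 3 ^ 3 ≤ 3 ^ t := Nat.pow_le_pow_right (by norm_num) (by omega)
      have h6 : 3 ^ t ≤ k ^ t := Nat.pow_le_pow_left hk t
      omega
    obtain rfl : t = 2 := by omega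
    have hk3 : k ≤ 3 := by
      by_contra h
      have : 4 ^ 2 ≤ k ^ 2 := Nat.pow_le_pow_left (by omega) 2
      omega
    obtain rfl : k = 3 := by omega
    omega
  · exact Or.inr (Or.inr (Or.inr (Or.inr (Or.inr (Or.inr (Or.inr (Or.inr (Or.inr (Or.inr (Or.inr h))))))))))

end Cfsg.Agent.S5841
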