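import Cfsg.Statements.S5875
import Cfsg.Agent.H114.O12.Final
import Cfsg.Agent.S0000

set_option autoImplicit false
open Cfsg

namespace Cfsg.Agent.S5875

/-- The maximal subgroups of Ω_12^-(q) in the residual class. Let F be a finite field with q elements and characteristic p, Q a non-degenerate quadratic form on F^12 of minus type, Ω the commutator subgroup of its isometry group, and H a maximal subgroup of Ω lying in the residual class of the orthogonal case. Then the perfect socle preimage P of H satisfies one of: P modulo scalars is isomorphic to PSL_2(11), with q = p ≡ ±4, ±6, ±9, ±14 or ±21 mod 55, or q = p² with p ≡ ±2 mod 5; or to PSL_2(13), with q = p ≡ ±1 mod 7 and p ≡ ±2, ±5 or ±6 mod 13, or q = p³ with p ≡ ±2, ±5, ±11, ±18, ±19, ±24, ±31, ±32, ±33, ±37, ±44 or ±45 mod 91; or to PSL_3(3), with q = p ≡ ±2, ±5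 or ±6 mod 13 and p ≡ 1, 2 or 11 mod 12; or to A_13, with q = p ≡ ±2, ±5 or ±6 mod 13 and p ≠ 7; or to A_14, with q = 7. (One further class with socle PSL_3(3) is never maximal in Ω_12^-(q) itself.) -/
theorem result {F : Type*} [Field F] [Fintype F] (Q : (Fin 12 → F) → F) (hQ : Cfsg.Geo.IsNondegenerateQuadraticForm Q) (hminus : ¬ Cfsg.Geo.IsPlusTypeOn Q ⊤) (H : Subgroup (Matrix.GeneralLinearGroup (Fin 12) F)) (hH : Cfsg.Geo.IsMaximalIn (Cfsg.Geo.omegaGL Q) H) (hS : Cfsg.Geo.InOrthogonalResidualClass H) :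
    ∃ (P : Subgroup (Matrix.GeneralLinearGroup (Fin 12) F)) (p : ℕ), Cfsg.Geo.IsResidualCore H P ∧ p.Prime ∧ CharP F p ∧
    ((Nonempty ((P ⧸ (Cfsg.Geo.scalars (Fin 12) F).subgroupOf P) ≃* Matrix.ProjectiveSpecialLinearGroup (Fin 2) (ZMod 11)) ∧ ((Fintype.card F = p ∧ (p % 55 = 4 ∨ p % 55 = 51 ∨ p % 55 = 6 ∨ p % 55 = 49 ∨ p % 55 = 9 ∨ p % 55 = 46 ∨ p % 55 = 14 ∨ p % 55 = 41 ∨ p % 55 = 21 ∨ p % 55 = 34)) ∨ (Fintype.card F = p ^ 2 ∧ (p % 5 = 2 ∨ p % 5 = 3)))) ∨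
     (Nonempty ((P ⧸ (Cfsg.Geo.scalars (Fin 12) F).subgroupOf P) ≃* Matrix.ProjectiveSpecialLinearGroup (Fin 2) (ZMod 13)) ∧ ((Fintype.card F = p ∧ (p % 7 = 1 ∨ p % 7 = 6) ∧ (p % 13 = 2 ∨ p % 13 = 11 ∨ p % 13 = 5 ∨ p % 13 = 8 ∨ p % 13 = 6 ∨ p % 13 = 7)) ∨ (Fintype.card F = p ^ 3 ∧ (p % 91 = 2 ∨ p % 91 = 89 ∨ p % 91 = 5 ∨ p % 91 = 86 ∨ p % 91 = 11 ∨ p % 91 = 80 ∨ p % 91 = 18 ∨ p % 91 = 73 ∨ p % 91 = 19 ∨ p % 91 = 72 ∨ p % 91 = 24 ∨ p % 91 = 67 ∨ p % 91 = 31 ∨ p % 91 = 60 ∨ p % 91 = 32 ∨ p % 91 = 59 ∨ p % 91 = 33 ∨ p % 91 = 58 ∨ p % 91 = 37 ∨ p % 91 = 54 ∨ p % 91 = 44 ∨ p % 91 = 47 ∨ p % 91 = 45 ∨ p % 91 = 46)))) ∨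
     (Nonempty ((P ⧸ (Cfsg.Geo.scalars (Fin 12) F).subgroupOf P) ≃* Matrix.ProjectiveSpecialLinearGroup (Fin 3) (ZMod 3)) ∧ Fintype.card F = p ∧ (p % 13 = 2 ∨ p % 13 = 11 ∨ p % 13 = 5 ∨ p % 13 = 8 ∨ p % 13 = 6 ∨ p % 13 = 7) ∧ (p % 12 = 1 ∨ p % 12 = 11 ∨ p % 12 = 2)) ∨
     (Nonempty ((P ⧸ (Cfsg.Geo.scalars (Fin 12) F).subgroupOf P) ≃* alternatingGroup (Fin 13)) ∧ Fintype.card F = p ∧ p ≠ 7 ∧ (p % 13 = 2 ∨ p % 13 = 11 ∨ p % 13 = 5 ∨ p % 13 = 8 ∨ p % 13 = 6 ∨ p % 13 = 7)) ∨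
     (Nonempty ((P ⧸ (Cfsg.Geo.scalars (Fin 12) F).subgroupOf P) ≃* alternatingGroup (Fin 14)) ∧ Fintype.card F = 7)) := by
  obtain ⟨P, p, hc, hp, hch, h⟩ := Cfsg.Agent.H114.O12.final (fun T => Cfsg.Agent.S0000.result) hQ hH hS
  exact ⟨P, p, hc, hp, hch, h.2 hminus⟩

end Cfsg.Agent.S5875
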