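import Cfsg.Statements.S1942
import Cfsg.Agent.S1938
import Cfsg.Agent.H28.FromZStar

set_option autoImplicit false
open Cfsg

namespace Cfsg.Agent.S1942

/-- Let p be an odd prime and G a finite nonabelian simple group of order divisible by p. Every automorphism of G of p-power order that fixes a Sylow p-subgroup of G elementwise is inner. (The simple case of the corresponding statement for groups with no nontrivial normal subgroup of order prime to p; its proof runs through the classification of finite simple groups.) -/
theorem result {G : Type*} [Group G] [Finite G] [IsSimpleGroup G] (hG : ¬ IsMulCommutative G) {p : ℕ} [Fact p.Prime]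
    (hp : p ≠ 2) (hdiv : p ∣ Nat.card G) (P : Sylow p G) (α : MulAut G) (hα : ∃ j : ℕ, orderOf α = p ^ j)
    (hfix : ∀ x ∈ (P : Subgroup G), α x = x) : ∃ g : G, ∀ x : G, α x = g * x * g⁻¹ := by
  refine H28.FromZStar.inner P α (fun S x h1 h2 => S1938.result S x h1 h2) hp ?_ hα hfix
  rcases (Lib.Cores.pPrimeCore_normal (G := G) p).eq_bot_or_eq_top with h | h
  · exact h
  · exfalso
    have h1 := Lib.Cores.pPrimeCore_coprime (G := G) p
    rw [h, Subgroup.card_top] at h1
    exact (Nat.Prime.coprime_iff_not_dvd Fact.out).1 h1.symm hdiv

end Cfsg.Agent.S1942
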