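import Cfsg.Statements.S5851
import Cfsg.Agent.H933.O10.Main
import Cfsg.Agent.S0000

set_option autoImplicit false
open Cfsg

namespace Cfsg.Agent.S5851

/-- The maximal subgroups of Ω_10^-(q) in the residual class. Let F be a finite field with q elements, Q a non-degenerate quadratic form on F^10 of minus type, Ω the commutator subgroup of its isometry group, and H a maximal subgroup of Ω lying in the residual class of the orthogonal case. Then the perfect socle preimage P of H satisfies one of: P modulo scalars is isomorphic to PSL_2(11), with q = p prime, p ≠ 2, p ≠ 7 and p a non-square modulo 11 (p ≡ 2, 6, 7, 8 or 10 mod 11); or to the Mathieu group M_22, with q = 7; or to A_11, with q = p prime, p ≠ 2 and p a non-square modulo 11; or to A_12, with q = 2; or to the symplectic group PSp_4(F), with q ≡ 3 mod 4. (Residual-class subgroups with socle A_6, PSL_3(4) or M_12, and one further class with socle PSL_2(11), are never maximal in Ω_10^-(q) itself.)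 -/
theorem result {F : Type*} [Field F] [Fintype F] (Q : (Fin 10 → F) → F) (hQ : Cfsg.Geo.IsNondegenerateQuadraticForm Q) (hminus : ¬ Cfsg.Geo.IsPlusTypeOn Q ⊤) (H : Subgroup (Matrix.GeneralLinearGroup (Fin 10) F)) (hH : Cfsg.Geo.IsMaximalIn (Cfsg.Geo.omegaGL Q) H) (hS : Cfsg.Geo.InOrthogonalResidualClass H) :
    ∃ P : Subgroup (Matrix.GeneralLinearGroup (Fin 10) F), Cfsg.Geo.IsResidualCore H P ∧
    ((Nonempty ((P ⧸ (Cfsg.Geo.scalars (Fin 10) F).subgroupOf P) ≃* Matrix.ProjectiveSpecialLinearGroup (Fin 2) (ZMod 11)) ∧ (Fintype.card F).Prime ∧ Fintype.card F ≠ 2 ∧ Fintype.card F ≠ 7 ∧ (Fintype.card F % 11 = 2 ∨ Fintype.card F % 11 = 6 ∨ Fintype.card F % 11 = 7 ∨ Fintype.card F % 11 = 8 ∨ Fintype.card F % 11 = 10)) ∨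
     (Cfsg.Spor.IsoM22 (P ⧸ (Cfsg.Geo.scalars (Fin 10) F).subgroupOf P) ∧ Fintype.card F = 7) ∨
     (Nonempty ((P ⧸ (Cfsg.Geo.scalars (Fin 10) F).subgroupOf P) ≃* alternatingGroup (Fin 11)) ∧ (Fintype.card F).Prime ∧ Fintype.card F ≠ 2 ∧ (Fintype.card F % 11 = 2 ∨ Fintype.card F % 11 = 6 ∨ Fintype.card F % 11 = 7 ∨ Fintype.card F % 11 = 8 ∨ Fintype.card F % 11 = 10)) ∨
     (Nonempty ((P ⧸ (Cfsg.Geo.scalars (Fin 10) F).subgroupOf P) ≃* alternatingGroup (Fin 12)) ∧ Fintype.card F = 2) ∨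
     (Nonempty ((P ⧸ (Cfsg.Geo.scalars (Fin 10) F).subgroupOf P) ≃* Cfsg.PSp 2 F) ∧ Fintype.card F % 4 = 3)) := by
  obtain ⟨P, hP, -, h1⟩ := H933.O10.main (fun _ _ _ _ => S0000.result) hQ hH hS
  exact ⟨P, hP, h1 hminus⟩

end Cfsg.Agent.S5851
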