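import Cfsg.Statements.S4459
import Cfsg.Agent.S4458
import Cfsg.Agent.H597.IndexP
import Cfsg.Agent.H597.PPart
import Cfsg.Agent.S0179

set_option autoImplicit false
open Cfsg

namespace Cfsg.Agent.S4459

open Cfsg.Agent.H597.Base Cfsg.Agent.H597.Degrees Cfsg.Agent.H597.Norm Cfsg.Agent.H597.IndexP
open Cfsg.Agent.Characters.Core Cfsg.Agent.Characters.Clifford
open Subgroup

/-- An irreducible character with the commutator subgroup in its kernel is linear. -/
theorem charDegree_eq_one {G : Type*} [Group G] [Finite G] {χ : G → ℂ} (hχ : IsIrrCharacter G χ)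
    (h : ∀ k ∈ commutator G, χ k = χ 1) : charDegree χ = 1 := by
  classical
  have := Fintype.ofFinite G
  have h1 := sum_normSq_irr hχ
  rw [Finset.sum_congr rfl (fun z _ => normSq_eq_of_central hχ (z := z) fun g => h _ (by
    have := commutator_mem_commutator (mem_top g) (mem_top z)
    rw [commutator_def]
    simpa [commutatorElement_def] using this)), Finset.sum_const, nsmul_eq_mul, Finset.card_univ,
    ← Nat.card_eq_fintype_card] at h1
  have h2 : Nat.card G * (charDegree χ) ^ 2 = Nat.card G := by exact_mod_cast h1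
  have h3 : 0 < Nat.card G := Nat.card_pos
  have h4 : (charDegree χ) ^ 2 = 1 := by nlinarith
  exact (Nat.pow_eq_one.1 h4).resolve_right (by norm_num)

/-- A subgroup of prime index above `N`, `G / N` nilpotent, is normal. -/
theorem normal_of_index_prime {G : Type*} [Group G] [Finite G] (N H : Subgroup G) [N.Normal]
    (hnil : Group.IsNilpotent (G ⧸ N)) (hNH : N ≤ H) {p : ℕ} (hp : p.Prime) (hH : H.index = p) :
    H.Normal := by
  have h1 : (H.map (QuotientGroup.mk' N)).comap (QuotientGroup.mk' N) = H := by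
    rw [comap_map_eq, QuotientGroup.ker_mk']
    exact sup_eq_left.2 hNH
  have h2 : (H.map (QuotientGroup.mk' N)).index = p := by
    rw [← index_comap_of_surjective _ (QuotientGroup.mk'_surjective N), h1, hH]
  have h3 : IsCoatom (H.map (QuotientGroup.mk' N)) := by
    refine ⟨fun h => ?_, fun K hK => ?_⟩
    · rw [h, index_top] at h2
      exact hp.one_lt.ne h2
    · have h4 := relIndex_mul_index hK.le
      rw [h2] at h4
      rcases (Nat.dvd_prime hp).1 (Dvd.intro_left _ h4) with h5 | h5
      · exact index_eq_one.1 h5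
      · exfalso
        have h6 : (H.map (QuotientGroup.mk' N)).relIndex K = 1 := by
          rw [h5] at h4
          exact Nat.eq_of_mul_eq_mul_right hp.pos (by rw [h4, one_mul])
        exact absurd (relIndex_eq_one.1 h6) (not_le_of_gt hK)
  have h4 := Subgroup.NormalizerCondition.normal_of_coatom _
    Group.normalizerCondition_of_isNilpotent h3
  rw [← h1]
  exact h4.comap _

/-- If `H / H'` is central in `G / H'` and `G / H` has prime order, then `G' ≤ H'`. -/
theorem not_le_Y {G : Type*} [Group G] [Finite G] (H : Subgroup G) [H.Normal] {p : ℕ}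
    (hp : p.Prime) (hH : H.index = p) (hle : H ≤ Y H) : commutator G ≤ ⁅H, H⁆ := by
  have := Fact.mk hp
  have hcyc : IsCyclic (G ⧸ H) := isCyclic_of_prime_card (p := p) (by rw [← index_eq_card]; exact hH)
  have hDH : ⁅H, H⁆ ≤ H := commutator_le_left H H
  let f : G ⧸ ⁅H, H⁆ →* G ⧸ H := QuotientGroup.map _ _ (MonoidHom.id G) hDH
  have hker : f.ker ≤ center (G ⧸ ⁅H, H⁆) := by
    intro z hz
    obtain ⟨y, rfl⟩ := QuotientGroup.mk_surjective z
    have hy : y ∈ H := (QuotientGroup.eq_one_iff y).1 hz
    exact (hle hy).2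
  have hcomm := commutative_of_cyclic_center_quotient f hker
  rw [commutator_def, commutator_le]
  intro a _ b _
  rw [← QuotientGroup.eq_one_iff]
  have h1 := hcomm (QuotientGroup.mk a) (QuotientGroup.mk b)
  rw [commutatorElement_def, QuotientGroup.mk_mul, QuotientGroup.mk_mul, QuotientGroup.mk_mul,
    QuotientGroup.mk_inv, QuotientGroup.mk_inv, h1]
  group

theorem forward {G : Type*} [Group G] [Finite G] (p : ℕ) (hp : p.Prime)
    (hcd : ∀ χ : IrrCharacter G, charDegree (χ : G → ℂ) = 1 ∨ charDegree (χ : G → ℂ) = p)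
    (hex : ∃ χ : IrrCharacter G, charDegree (χ : G → ℂ) = p)
    (hno : ¬ ∃ A : Subgroup G, A.Normal ∧ (∀ a ∈ A, ∀ b ∈ A, a * b = b * a) ∧ A.index = p) :
    (center G).index = p ^ 3 := by
  classical
  have := Fintype.ofFinite G
  obtain ⟨N, hN, hab, hnil⟩ := S4458.exists_abelian_nilpotent p hcd hp.one_lt
  obtain ⟨χ₀, h₀⟩ := hex
  obtain ⟨H, f, hNH, hf⟩ := H597.Taketa.exists_linear_of_abelian_nilpotent N hab hnil χ₀.2
  have hidx : H.index = p := by
    rw [← h₀]
    symm
    apply Blocks.Basic.charDegree_of_eq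
    rw [← hf, H597.Broline.indFun_apply_one, map_one]
    simp
  have hHn : H.Normal := normal_of_index_prime N H hnil hNH hp hidx
  have := Fintype.ofFinite H
  -- `G' ⊄ H'`
  have hGD : ¬ commutator G ≤ ⁅H, H⁆ := by
    intro hle
    have h1 : charDegree (χ₀ : G → ℂ) = 1 := by
      apply charDegree_eq_one χ₀.2
      intro k hk
      rw [← hf, H597.Broline.indFun_apply_one, indFun_apply, map_one]
      have h4 : ∀ x : G, extendByZero H (fun h => (f h : ℂ)) (x⁻¹ * k * x) = 1 := by
        intro x
        have hx : x⁻¹ * k * x ∈ ⁅H, H⁆ := by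
          apply hle
          have hn : (commutator G).Normal := inferInstance
          have := hn.conj_mem k hk x⁻¹
          rwa [inv_inv] at this
        have hxH : x⁻¹ * k * x ∈ H := commutator_le_left H H hx
        rw [extendByZero_of_mem H _ hxH, H597.Taketa.hom_eq_one_of_commutator f le_rfl hx hxH]
        simp
      rw [Finset.sum_congr rfl fun x _ => h4 x, Finset.sum_const, nsmul_eq_mul, Finset.card_univ,
        ← Nat.card_eq_fintype_card, ← H.index_mul_card]
      have h0 : (Nat.card H : ℂ) ≠ 0 := Nat.cast_ne_zero.2 Nat.card_pos.ne'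
      push_cast
      field_simp
    rw [h₀] at h1
    exact hp.one_lt.ne' h1
  -- characters of `H`
  have hover : ∀ θ : H → ℂ, IsIrrCharacter H θ → ∃ χ : G → ℂ, IsIrrCharacter G χ ∧
      classInner (fun h : H => χ h) θ ≠ 0 ∧ charDegree θ ∣ charDegree χ := by
    intro θ hθ
    obtain ⟨χ, hχ, hne⟩ := CharDeep.PowerDegrees.exists_irr_over H hθ
    obtain ⟨c, hc, -⟩ := degree_over H hχ hθ hne
    exact ⟨χ, hχ, hne, ⟨c, hc⟩⟩
  have hdeg : ∀ θ : H → ℂ, IsIrrCharacter H θ → charDegree θ = 1 ∨ charDegree θ = p := by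
    intro θ hθ
    obtain ⟨χ, hχ, -, hd⟩ := hover θ hθ
    rcases hcd ⟨χ, hχ⟩ with h | h
    · left
      have h' : charDegree χ = 1 := h
      rw [h'] at hd
      exact Nat.dvd_one.1 hd
    · have h' : charDegree χ = p := h
      rw [h'] at hd
      exact (Nat.dvd_prime hp).1 hd
  have hI : H597.IndexP.Inv H := by
    intro θ hθ hne g h
    obtain ⟨χ, hχ, hin, hd⟩ := hover θ hθ
    have hθp : charDegree θ = p := (hdeg θ hθ).resolve_left hne
    have hχp : charDegree χ = p := by
      rcases hcd ⟨χ, hχ⟩ with h1 | h1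
      · have h' : charDegree χ = 1 := h1
        rw [h', hθp] at hd
        exact absurd (Nat.dvd_one.1 hd) hp.one_lt.ne'
      · exact h1
    have heq := eq_of_degree_eq (isCharacter_restrict H (isIrr_isCharacter hχ)) hθ hin (by
      show χ 1 = θ 1
      rw [Blocks.Basic.irr_one_eq_charDegree hχ, Blocks.Basic.irr_one_eq_charDegree hθ, hθp, hχp])
    rw [← heq]
    exact isIrr_isClassFunction hχ h g
  have hY1 : (Y H).relIndex H ≠ 1 := fun h => hGD (not_le_Y H hp hidx (relIndex_eq_one.1 h))
  have hZY := center_le_Y (H := H) hp hidx hGD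
  -- `H` has a nonlinear irreducible character
  have hθ : ∃ θ : H → ℂ, IsIrrCharacter H θ ∧ charDegree θ = p := by
    by_contra hcon
    push Not at hcon
    apply hno
    refine ⟨H, hHn, fun a ha b hb => ?_, hidx⟩
    have := comm_of_forall_one (G := H) (fun θ hθ => (hdeg θ hθ).resolve_right (hcon θ hθ))
      ⟨a, ha⟩ ⟨b, hb⟩
    exact congrArg Subtype.val this
  obtain ⟨θ, hθ, hθp⟩ := hθ
  have := Fintype.ofFinite ((Y H).subgroupOf H)
  rcases (constituents_Y hI hp hθ hθp hY1).2 with h | h
  · exfalso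
    apply hno
    have hconf : H597.PPart.Conf p H (Y H) :=
      { prime := hp
        hHn := hHn
        hYn := inferInstance
        hH := hidx
        hY := h
        hYH := Y_le H
        hab := Y_comm hI hp hdeg hY1
        hZ := hZY
        hconj := fun y hy g => exists_conj hI (Y_le H hy) (((mem_Y H).1 hy).2 g) }
    exact hconf.exists_abelian
  · have h1 : center G = Y H := le_antisymm hZY (Y_le_center hI hp hdeg h)
    rw [h1, ← relIndex_mul_index (Y_le H), h, hidx]
    ring

/-- Let G be a non-abelian finite group and p a prime. Then the irreducible character degrees of G are exactly 1 and p if and only if either G has an abelian normal subgroup of index p or the centre of G has index p³. -/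
theorem result {G : Type*} [Group G] [Finite G] (hG : ∃ a b : G, a * b ≠ b * a) (p : ℕ) (hp : p.Prime) : ((∀ χ : Cfsg.IrrCharacter G, Cfsg.charDegree (χ : G → ℂ) = 1 ∨ Cfsg.charDegree (χ : G → ℂ) = p) ∧ ∃ χ : Cfsg.IrrCharacter G, Cfsg.charDegree (χ : G → ℂ) = p) ↔ ((∃ A : Subgroup G, A.Normal ∧ (∀ a ∈ A, ∀ b ∈ A, a * b = b * a) ∧ A.index = p) ∨ (Subgroup.center G).index = p ^ 3) := by
  classical
  constructor
  · rintro ⟨hcd, hex⟩
    by_cases hno : ∃ A : Subgroup G, A.Normal ∧ (∀ a ∈ A, ∀ b ∈ A, a * b = b * a) ∧ A.index = p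
    · exact Or.inl hno
    · exact Or.inr (forward p hp hcd hex hno)
  · intro h
    have hall : ∀ χ : IrrCharacter G, charDegree (χ : G → ℂ) = 1 ∨ charDegree (χ : G → ℂ) = p := by
      intro χ
      obtain ⟨χ, n, ρ, hρ, hc⟩ := χ
      have hn : charDegree χ = Module.finrank ℂ (Fin n → ℂ) := by
        apply Blocks.Basic.charDegree_of_eq
        rw [← hc, Representation.char_one]
      show charDegree χ = 1 ∨ charDegree χ = p
      rcases h with ⟨A, hA, hab, hidx⟩ | hidx
      · have h1 := Cfsg.Agent.S0169.result ρ A hab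
        rw [← hn, hidx] at h1
        exact (Nat.dvd_prime hp).1 h1
      · have h1 := Cfsg.Agent.S0179.result ρ
        rw [← hn, hidx] at h1
        obtain ⟨k, hk, hk'⟩ := (Nat.dvd_prime_pow hp).1 h1
        have h2 := sq_degree_le_index_center ⟨n, ρ, hρ, hc⟩
        rw [hidx, hk', ← pow_mul] at h2
        have h3 : k * 2 ≤ 3 := (Nat.pow_le_pow_iff_right hp.one_lt).1 h2
        have h4 : k = 0 ∨ k = 1 := by omega
        rcases h4 with h4 | h4
        · left; rw [hk', h4, pow_zero]
        · right; rw [hk', h4, pow_one]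
    refine ⟨hall, ?_⟩
    by_contra hcon
    push Not at hcon
    obtain ⟨a, b, hab⟩ := hG
    exact hab (comm_of_forall_one (fun χ hχ => (hall ⟨χ, hχ⟩).resolve_right (hcon ⟨χ, hχ⟩)) a b)

end Cfsg.Agent.S4459
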