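import Mathlib
import Cfsg.Statements.S4493
import Cfsg.Agent.CharDeep.PowerDegrees
import Cfsg.Agent.CharactersDeep.NormalInd
import Cfsg.Agent.LieRecognition.FT61.O3
import Cfsg.Agent.Solvable.SchurZassenhausConj
import Cfsg.Agent.Blocks.Basic
import Cfsg.Agent.Lib.NormalHall
import Cfsg.Agent.S0135
import Cfsg.Agent.S0148
import Cfsg.Agent.S0169
import Cfsg.Agent.S0173
import Cfsg.Agent.S0187
import Cfsg.Agent.S0193

/-!
# Ito's theorem on normal abelian Sylow subgroups of solvable groups
-/

set_option autoImplicit false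
open Cfsg

namespace Cfsg.Agent.S4493

open Cfsg.Agent.Characters.Core Cfsg.Agent.CharDeep.PowerDegrees

universe u

/-- irreducible characters of a normal subgroup of prime index `p` are invariant if all degrees
are prime to `p` -/
theorem invariant_of_prime_index {G : Type u} [Group G] [Fintype G] {p : ℕ} (hp : p.Prime)
    (N : Subgroup G) [hN : N.Normal] (hidx : N.index = p)
    (hdeg : ∀ χ : IrrCharacter G, ¬ p ∣ charDegree (χ : G → ℂ)) (θ : N → ℂ)
    (hθ : IsIrrCharacter N θ) (g : G) (n : N) :
    θ ⟨g * n * g⁻¹, hN.conj_mem n n.2 g⟩ = θ n := by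
  classical
  have := Fintype.ofFinite N
  -- the stabilizer
  let S : Subgroup G :=
    { carrier := {g : G | ∀ h : N, θ ⟨g * h * g⁻¹, hN.conj_mem h h.2 g⟩ = θ h}
      one_mem' := by
        intro h
        congr 1
        apply Subtype.ext
        simp
      mul_mem' := by
        intro a b ha hb h
        have h1 := hb h
        have h2 := ha ⟨b * h * b⁻¹, hN.conj_mem h h.2 b⟩
        rw [← h1, ← h2]
        congr 1
        apply Subtype.ext
        simp [mul_assoc]
      inv_mem' := by
        intro a ha h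
        have h2 := ha ⟨a⁻¹ * h * a⁻¹⁻¹, hN.conj_mem h h.2 a⁻¹⟩
        rw [← h2]
        congr 1
        apply Subtype.ext
        simp [mul_assoc] }
  have hNS : N ≤ S := by
    intro a ha h
    have h1 := isIrr_isClassFunction hθ h ⟨a, ha⟩
    exact h1
  have hcardS : Nat.card S = Nat.card {g : G // ∀ h : N, θ ⟨g * h * g⁻¹, hN.conj_mem h h.2 g⟩ = θ h} :=
    rfl
  have h193 := Cfsg.Agent.S0193.result N θ hθ
  rw [← hcardS] at h193
  have hmul : N.relIndex S * S.index = p := by
    rw [← hidx]
    exact Subgroup.relIndex_mul_index hNS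
  rcases (Nat.dvd_prime hp).1 (Dvd.intro_left _ hmul : S.index ∣ p) with h | h
  · have hS : S = ⊤ := Subgroup.index_eq_one.1 h
    have hg : g ∈ S := hS ▸ Subgroup.mem_top g
    exact hg n
  · exfalso
    have h1 : N.relIndex S = 1 := by
      rw [h] at hmul
      exact Nat.eq_of_mul_eq_mul_right hp.pos (by rw [hmul, one_mul])
    have h2 : S ≤ N := Subgroup.relIndex_eq_one.1 h1
    have h3 : S = N := le_antisymm h2 hNS
    rw [h3] at h193
    have hc : (Nat.card N : ℂ) ≠ 0 := card_ne_zero_complex
    have h4 : classInner (indFun N θ) (indFun N θ) = 1 := by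
      have := mul_left_cancel₀ hc (h193.trans (mul_one _).symm)
      exact this
    have h5 : IsIrrCharacter G (indFun N θ) :=
      isIrr_of_classInner_self (Cfsg.Agent.S0148.result N θ (isIrr_isCharacter hθ)) h4
    obtain ⟨d, hd0, hd⟩ := isIrr_apply_one hθ
    have h6 : indFun N θ 1 = ((p * d : ℕ) : ℂ) := by
      rw [Cfsg.Agent.CharactersDeep.NormalInd.indFun_one, hd, hidx]
      push_cast
      rfl
    apply hdeg ⟨indFun N θ, h5⟩
    show p ∣ charDegree (indFun N θ)
    rw [Cfsg.Agent.Blocks.Basic.charDegree_of_eq h6]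
    exact dvd_mul_right p d

/-- if an element of order dividing `p` fixes all the irreducible characters of a normal
`p'`-subgroup, it centralizes it -/
theorem commute_of_invariant {G : Type u} [Group G] [Fintype G] {p : ℕ} [hp : Fact p.Prime]
    (N : Subgroup G) [hN : N.Normal] (hcard : ¬ p ∣ Nat.card N)
    (hinv : ∀ (θ : N → ℂ), IsIrrCharacter N θ → ∀ (g : G) (n : N),
      θ ⟨g * n * g⁻¹, hN.conj_mem n n.2 g⟩ = θ n) (x : G) (k : ℕ) (hx : x ^ p ^ k = 1) (n : G)
    (hn : n ∈ N) : x * n = n * x := by
  classical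
  have := Fintype.ofFinite N
  have hfin : Finite (IrrCharacter N) := finite_irr
  let α : N ≃* N := MulAut.conjNormal x
  have hα : ∀ n : N, ((α n : N) : G) = x * n * x⁻¹ := fun n => MulAut.conjNormal_apply x n
  have h173 := Cfsg.Agent.S0173.result α
  have h1 : Nat.card {χ : IrrCharacter N // (χ : N → ℂ) ∘ α = (χ : N → ℂ)} =
      Nat.card (IrrCharacter N) := by
    refine Nat.card_congr (Equiv.subtypeUnivEquiv fun χ => ?_)
    funext n
    have h2 := hinv χ χ.2 x n
    rw [← h2]
    rfl
  rw [h1, card_irr] at h173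
  have hall : ∀ C : ConjClasses N, ConjClasses.map α.toMonoidHom C = C := by
    by_contra hcon
    push Not at hcon
    obtain ⟨C, hC⟩ := hcon
    have : Fintype (ConjClasses N) := Fintype.ofFinite _
    rw [Nat.card_eq_fintype_card, Nat.card_eq_fintype_card] at h173
    exact (Fintype.card_subtype_lt (p := fun C => ConjClasses.map α.toMonoidHom C = C) hC).ne h173
  -- the centralizer of `x` in `N` meets every class
  let D : Subgroup N := (Subgroup.centralizer ({x} : Set G)).subgroupOf N
  have hD : ∀ y : N, y ∈ D ↔ (y : G) * x = x * y := by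
    intro y
    rw [Subgroup.mem_subgroupOf, Subgroup.mem_centralizer_singleton_iff]
  have hmeet : ∀ n : N, ∃ h : N, h⁻¹ * n * h ∈ D := by
    intro n
    -- action of `x` on the class of `n`
    have hcl : ∀ y : {y : N | IsConj n y}, IsConj n (α y) := by
      rintro ⟨y, hy⟩
      have h2 := hall (ConjClasses.mk n)
      have h3 : ConjClasses.mk (α n) = ConjClasses.mk n := h2
      rw [ConjClasses.mk_eq_mk_iff_isConj] at h3
      exact h3.symm.trans (MonoidHom.map_isConj (α : N →* N) hy)
    have hcl' : ∀ y : {y : N | IsConj n y}, IsConj n (α.symm y) := by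
      rintro ⟨y, hy⟩
      have h2 := hall (ConjClasses.mk (α.symm n))
      have h3 : ConjClasses.mk (α (α.symm n)) = ConjClasses.mk (α.symm n) := h2
      rw [MulEquiv.apply_symm_apply, eq_comm, ConjClasses.mk_eq_mk_iff_isConj] at h3
      exact h3.symm.trans (MonoidHom.map_isConj (α.symm : N →* N) hy)
    let σ : Equiv.Perm {y : N | IsConj n y} :=
      { toFun := fun y => ⟨α y, hcl y⟩
        invFun := fun y => ⟨α.symm y, hcl' y⟩
        left_inv := fun y => by simp
        right_inv := fun y => by simp }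
    have hσpow : ∀ (j : ℕ) (y : {y : N | IsConj n y}),
        ((((σ ^ j) y : {y : N | IsConj n y}) : N) : G) = x ^ j * (y : N) * (x ^ j)⁻¹ := by
      intro j
      induction j with
      | zero => intro y; simp
      | succ j ih =>
        intro y
        rw [pow_succ', Equiv.Perm.mul_apply]
        show ((α ((σ ^ j) y : N) : N) : G) = _
        rw [hα, ih y, pow_succ']
        group
    have hσ : σ ^ p ^ k = 1 := by
      ext y
      rw [hσpow, hx]
      simp
    have := Fintype.ofFinite {y : N | IsConj n y}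
    have hnd : ¬ p ∣ Fintype.card {y : N | IsConj n y} := by
      intro h
      apply hcard
      rw [← Nat.card_eq_fintype_card, Nat.card_coe_set_eq,
        ← Cfsg.Agent.Blocks.Basic.index_centralizer_eq_ncard] at h
      exact h.trans (Subgroup.index_dvd_card _)
    obtain ⟨y, hy⟩ := Equiv.Perm.exists_fixed_point_of_prime hnd hσ
    have hy' : α (y : N) = y := congrArg Subtype.val hy
    obtain ⟨c, hc⟩ := isConj_iff.1 y.2
    refine ⟨c⁻¹, ?_⟩
    rw [inv_inv, hc, hD]
    have h2 := congrArg (Subtype.val) hy'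
    rw [hα] at h2
    exact (mul_inv_eq_iff_eq_mul.1 h2).symm
  have hDtop : D = ⊤ := by
    by_contra hne
    obtain ⟨g, hg⟩ := Cfsg.Agent.LieRecognition.FT61.O3.exists_not_conj D hne
    obtain ⟨h, hh⟩ := hmeet g
    exact hg h hh
  have h2 : (⟨n, hn⟩ : N) ∈ D := hDtop ▸ Subgroup.mem_top _
  rw [hD] at h2
  exact h2.symm

/-- degrees of a normal subgroup divide those of the group -/
theorem degrees_normal {G : Type u} [Group G] [Finite G] {p : ℕ} 
    (N : Subgroup G) [hN : N.Normal]
    (hdeg : ∀ χ : IrrCharacter G, ¬ p ∣ charDegree (χ : G → ℂ)) (θ : IrrCharacter N) :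
    ¬ p ∣ charDegree (θ : N → ℂ) := by
  have := Fintype.ofFinite G
  have := Fintype.ofFinite N
  obtain ⟨χ, hχ, hne⟩ := exists_irr_over N θ.2
  obtain ⟨m, hm⟩ := degree_dvd N hχ θ.2 hne
  intro h
  apply hdeg ⟨χ, hχ⟩
  have h1 := Cfsg.Agent.Blocks.Basic.irr_one_eq_charDegree hχ
  have h2 := Cfsg.Agent.Blocks.Basic.irr_one_eq_charDegree θ.2
  rw [h1, h2] at hm
  have hm' : charDegree χ = m * charDegree (θ : N → ℂ) := by exact_mod_cast hm
  show p ∣ charDegree χ
  rw [hm']
  exact Dvd.dvd.mul_left h m

/-- degrees of a quotient are degrees of the group -/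
theorem degrees_quotient {G H : Type u} [Group G] [Group H] [Finite G] {p : ℕ} 
    (f : G →* H) (hf : Function.Surjective f)
    (hdeg : ∀ χ : IrrCharacter G, ¬ p ∣ charDegree (χ : G → ℂ)) (θ : IrrCharacter H) :
    ¬ p ∣ charDegree (θ : H → ℂ) := by
  intro h
  apply hdeg ⟨(θ : H → ℂ) ∘ f, isIrr_comp f hf θ.2⟩
  have : charDegree ((θ : H → ℂ) ∘ f) = charDegree (θ : H → ℂ) := by
    unfold charDegree
    simp
  show p ∣ charDegree ((θ : H → ℂ) ∘ f)
  rw [this]
  exact h

/-- all degrees prime to `p` : there is a normal Sylow `p`-subgroup -/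
theorem exists_normal_sylow (p : ℕ) (hp : p.Prime) : ∀ (n : ℕ) (G : Type u) [Group G] [Finite G],
    Nat.card G = n → Group.IsSolvable G → (∀ χ : IrrCharacter G, ¬ p ∣ charDegree (χ : G → ℂ)) →
    ∃ P : Subgroup G, P.Normal ∧ IsPGroup p P ∧ ¬ p ∣ P.index := by
  intro n
  induction n using Nat.strong_induction_on with
  | _ n ih =>
  intro G _ _ hn hsolv hdeg
  have hpf : Fact p.Prime := ⟨hp⟩
  have := Fintype.ofFinite G
  rcases subsingleton_or_nontrivial G with hsub | hnt
  · refine ⟨⊥, inferInstance, IsPGroup.of_bot, ?_⟩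
    have h1 : (⊥ : Subgroup G).index = 1 := Subgroup.index_eq_one.2 (Subsingleton.elim _ _)
    rw [h1]
    exact fun h => hp.one_lt.ne' (Nat.dvd_one.1 h)
  obtain ⟨N, hN, -, hNp⟩ := Cfsg.Agent.Solvable.SchurZassenhausConj.exists_normal_prime_index
    (⊥ : Subgroup G) bot_ne_top (Group.isSolvable_of_surjective (QuotientGroup.mk'_surjective _))
  have hcardmul := N.card_mul_index
  have hcardN : Nat.card N < n := by
    rw [hn] at hcardmul
    have h2 : 0 < Nat.card N := Nat.card_pos
    rw [← hcardmul]
    exact (Nat.lt_mul_iff_one_lt_right h2).2 hNp.one_lt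
  obtain ⟨Q, hQn, hQp, hQi⟩ := ih _ hcardN N rfl inferInstance (degrees_normal N hdeg)
  -- `Q` as a subgroup of `G`
  have hHall : (Nat.card Q).Coprime Q.index := by
    obtain ⟨j, hj⟩ := IsPGroup.iff_card.1 hQp
    rw [hj]
    exact Nat.Coprime.pow_left j ((hp.coprime_iff_not_dvd).2 hQi)
  let R : Subgroup G := Q.map N.subtype
  have hRn : R.Normal := Cfsg.Agent.Lib.NormalHall.normal_map_subtype_of_coprime N Q hHall
  have hRp : IsPGroup p R := hQp.map N.subtype
  have hRi : R.index = Q.index * N.index := by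
    show (Q.map N.subtype).index = _
    rw [Subgroup.index_map_subtype]
  by_cases hq : N.index = p
  swap
  · refine ⟨R, hRn, hRp, ?_⟩
    rw [hRi, hp.dvd_mul]
    rintro (h | h)
    · exact hQi h
    · exact hq ((Nat.prime_dvd_prime_iff_eq hp hNp).1 h).symm
  by_cases hQ : Q = ⊥
  · -- `N` is a `p'`-group
    have hNcop : ¬ p ∣ Nat.card N := by
      rw [hQ, Subgroup.index_bot] at hQi
      exact hQi
    obtain ⟨P⟩ : Nonempty (Sylow p G) := inferInstance
    have hcomm : ∀ x ∈ (P : Subgroup G), ∀ n ∈ N, x * n = n * x := by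
      intro x hx n hn
      obtain ⟨k, hk⟩ := P.2 ⟨x, hx⟩
      have hk' : x ^ p ^ k = 1 := congrArg Subtype.val hk
      exact commute_of_invariant N hNcop
        (fun θ hθ => invariant_of_prime_index hp N hq hdeg θ hθ) x k hk' n hn
    refine ⟨(P : Subgroup G), ?_, P.2, P.not_dvd_index⟩
    -- `P` is normal
    have hNP : N ⊔ (P : Subgroup G) = ⊤ := by
      have h1 : (N ⊔ (P : Subgroup G)).index ∣ p :=
        (Subgroup.index_dvd_of_le le_sup_left).trans (dvd_of_eq hq)
      have h2 : ¬ p ∣ (N ⊔ (P : Subgroup G)).index := fun h =>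
        P.not_dvd_index (h.trans (Subgroup.index_dvd_of_le le_sup_right))
      rcases (Nat.dvd_prime hp).1 h1 with h | h
      · exact Subgroup.index_eq_one.1 h
      · exact absurd (dvd_of_eq h.symm) h2
    rw [← Subgroup.normalizer_eq_top_iff]
    rw [eq_top_iff, ← hNP, sup_le_iff]
    constructor
    · intro n hn
      rw [Subgroup.mem_normalizer_iff]
      intro h
      constructor
      · intro hh
        have := hcomm h hh n hn
        rw [← this]
        simpa using hh
      · intro hh
        have := hcomm _ hh n hn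
        have h3 : n * h * n⁻¹ = h := by
          have h4 : n * h * n⁻¹ * n = n * (n * h * n⁻¹) := this
          have h5 : n * h = n * (n * h * n⁻¹) := by
            rw [← h4]
            group
          exact (mul_left_cancel h5).symm
        rw [h3] at hh
        exact hh
    · exact Subgroup.le_normalizer
  · -- pass to the quotient
    have hRne : R ≠ ⊥ := by
      intro h
      apply hQ
      exact (Subgroup.map_eq_bot_iff_of_injective Q N.subtype_injective).1 h
    have hcardR : Nat.card (G ⧸ R) < n := by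
      have h1 := R.card_mul_index
      rw [hn] at h1
      have h2 : 1 < Nat.card R := by
        rw [Subgroup.one_lt_card_iff_ne_bot]
        exact hRne
      have h3 : 0 < R.index := Nat.pos_of_ne_zero Subgroup.index_ne_zero_of_finite
      show R.index < n
      rw [← h1]
      exact (Nat.lt_mul_iff_one_lt_left h3).2 h2
    obtain ⟨S, hSn, hSp, hSi⟩ := ih _ hcardR (G ⧸ R) rfl
      (Group.isSolvable_of_surjective (QuotientGroup.mk'_surjective R))
      (degrees_quotient (QuotientGroup.mk' R) (QuotientGroup.mk'_surjective R) hdeg)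
    refine ⟨S.comap (QuotientGroup.mk' R), inferInstance, ?_, ?_⟩
    · have hker : IsPGroup p (QuotientGroup.mk' R).ker := by
        rw [QuotientGroup.ker_mk']
        exact hRp
      exact hSp.comap_of_ker_isPGroup (QuotientGroup.mk' R) hker
    · rw [Subgroup.index_comap_of_surjective S (QuotientGroup.mk'_surjective R)]
      exact hSi

/-- Let G be a finite solvable group and p a prime. Then G has a normal abelian Sylow p-subgroup if and only if no irreducible character degree of G is divisible by p. -/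
theorem result {G : Type*} [Group G] [Finite G] (hsolv : Group.IsSolvable G) (p : ℕ) (hp : p.Prime) : (∃ P : Subgroup G, P.Normal ∧ (∀ x ∈ P, ∀ y ∈ P, x * y = y * x) ∧ IsPGroup p P ∧ ¬ p ∣ P.index) ↔ ∀ χ : Cfsg.IrrCharacter G, ¬ p ∣ Cfsg.charDegree (χ : G → ℂ) := by
  constructor
  · rintro ⟨P, hPn, hcomm, -, hidx⟩ χ h
    obtain ⟨d, ρ, hρ, hχ⟩ := χ.2
    have hdvd := Cfsg.Agent.S0169.result ρ P hcomm
    have h2 : charDegree (χ : G → ℂ) = d := by
      apply Cfsg.Agent.Blocks.Basic.charDegree_of_eq
      rw [← hχ, Representation.char_one]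
      simp
    rw [Module.finrank_fin_fun, ← h2] at hdvd
    exact hidx (h.trans hdvd)
  · intro hdeg
    obtain ⟨P, hPn, hPp, hPi⟩ := exists_normal_sylow p hp _ G rfl hsolv hdeg
    refine ⟨P, hPn, ?_, hPp, hPi⟩
    have hlin : ∀ χ : IrrCharacter P, (χ : P → ℂ) 1 = 1 := by
      intro χ
      have h1 := degrees_normal P hdeg χ
      obtain ⟨d, ρ, hρ, hχ⟩ := χ.2
      have hdvd := Cfsg.Agent.S0135.result ρ
      have h2 : charDegree (χ : P → ℂ) = d := by
        apply Cfsg.Agent.Blocks.Basic.charDegree_of_eq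
        rw [← hχ, Representation.char_one]
        simp
      rw [Module.finrank_fin_fun, ← h2] at hdvd
      have : Fact p.Prime := ⟨hp⟩
      obtain ⟨j, hj⟩ := IsPGroup.iff_card.1 hPp
      rw [hj] at hdvd
      obtain ⟨i, -, hi⟩ := (Nat.dvd_prime_pow hp).1 hdvd
      rcases Nat.eq_zero_or_pos i with h0 | h0
      · rw [Cfsg.Agent.Blocks.Basic.irr_one_eq_charDegree χ.2, hi, h0]
        simp
      · exfalso
        apply h1
        rw [hi]
        exact dvd_pow_self p h0.ne'
    intro x hx y hy
    have h3 := (Cfsg.Agent.S0187.result (G := P)).2 hlin ⟨x, hx⟩ ⟨y, hy⟩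
    exact congrArg Subtype.val h3

end Cfsg.Agent.S4493
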