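import Cfsg.Statements.S3428
import Cfsg.Agent.H365.Cube
import Cfsg.Agent.OrdDiv.Table
import Cfsg.Agent.S0000
import Cfsg.Agent.S0255
import Cfsg.Agent.S0822

set_option autoImplicit false
open Cfsg

namespace Cfsg.Agent.S3428

open Cfsg.Agent.H365.PPart Cfsg.Agent.H365.CubeS Cfsg.Agent.H365.CubeR Cfsg.Agent.H365.Cube

/-- `q + 1` a power of the odd prime `p`: `q + 1 = p` or `q = 8`, `p = 3` -/
theorem pow_case {F : Type} [Field F] [Fintype F] {p : ℕ} (hp : p.Prime) (hodd : p ≠ 2)
    (h : pt p (Fintype.card F + 1) = Fintype.card F + 1) :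
    Fintype.card F + 1 = p ∨ (p = 3 ∧ Fintype.card F = 8) := by
  have hq : 2 ≤ Fintype.card F := Fintype.one_lt_card
  unfold pt at h
  generalize hk : (Fintype.card F + 1).factorization p = k at h
  obtain ⟨r, hr⟩ := CharP.exists F
  obtain ⟨n, hr1, hn⟩ := FiniteField.card F r
  have hpo : Odd p := hp.odd_of_ne_two hodd
  have hev : Even (Fintype.card F) := by
    have h1 : Odd (p ^ k) := hpo.pow
    rw [h] at h1
    rcases h1 with ⟨c, hc⟩
    exact ⟨c, by omega⟩
  have hr2 : r = 2 := by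
    rw [hn] at hev
    exact ((Nat.prime_dvd_prime_iff_eq Nat.prime_two hr1).1 (Nat.prime_two.dvd_of_dvd_pow hev.two_dvd)).symm
  subst hr2
  rcases Nat.lt_or_ge k 2 with h2 | h2
  · left
    rcases (by omega : k = 0 ∨ k = 1) with rfl | rfl
    · rw [pow_zero] at h; omega
    · rw [pow_one] at h; exact h.symm
  · right
    rw [hn] at h
    have h3 := two_pow_add hp.two_le h2 h.symm
    have h4 : Fintype.card F = 8 := by
      rw [hn]
      omega
    refine ⟨?_, h4⟩
    have h5 : p ∣ 3 ^ 2 := by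
      rw [show (3 : ℕ) ^ 2 = 9 by norm_num, ← h3]
      exact dvd_pow_self p (by omega)
    exact (Nat.prime_dvd_prime_iff_eq hp Nat.prime_three).1 (hp.dvd_of_dvd_pow h5)

/-- Let G be a finite non-abelian simple group and p an odd prime, and let p^k be the exact power of p dividing the order of G. If the order of G is less than p^(3k), then G is a group of Lie type in characteristic p, or p = 5 and G is the alternating group of degree 5, or p = 3 and G is the alternating group of degree 6 or 9, or G ≅ PSL(2, F) for a field F with p − 1 elements (so p − 1 is a power of 2), or p = 3 and G ≅ PSL(2, 8), or p = 3 and G ≅ PSU(5, 2). -/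
theorem result {G : Type*} [Group G] [Finite G] [IsSimpleGroup G] (hG : ¬ IsMulCommutative G)
    (p : ℕ) (hp : p.Prime) (hodd : p ≠ 2)
    (hlt : Nat.card G < p ^ (3 * (Nat.card G).factorization p)) :
    Cfsg.IsLieTypeChar p G ∨
      (p = 5 ∧ Nonempty (G ≃* ↥(alternatingGroup (Fin 5)))) ∨
      (p = 3 ∧ (Nonempty (G ≃* ↥(alternatingGroup (Fin 6))) ∨ Nonempty (G ≃* ↥(alternatingGroup (Fin 9))))) ∨
      (∃ (F : Type) (_ : Field F) (_ : Fintype F), Fintype.card F + 1 = p ∧ Nonempty (G ≃* Matrix.ProjectiveSpecialLinearGroup (Fin 2) F)) ∨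
      (p = 3 ∧ (∃ (F : Type) (_ : Field F) (_ : Fintype F), Fintype.card F = 8 ∧ Nonempty (G ≃* Matrix.ProjectiveSpecialLinearGroup (Fin 2) F))) ∨
      (p = 3 ∧ (∃ (F : Type) (_ : Field F) (_ : Fintype F), Fintype.card F = 4 ∧ Nonempty (G ≃* Cfsg.PSU 5 F 2))) := by
  have hna : ¬ ∀ a b : G, a * b = b * a := fun h => hG ⟨⟨h⟩⟩
  rcases known_cube OrdDiv.table (S0000.result (G := G)) hna hp with h | h | h
  · exfalso
    unfold pt at h
    rw [← pow_mul, mul_comm _ 3] at h
    omega
  · exact Or.inl h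
  · rcases h with h | h | h | h | h | h | h
    · obtain ⟨n, h1, h2⟩ := h
      simp only [altEx, Bool.or_eq_true, Bool.and_eq_true, beq_iff_eq] at h1
      rcases h1 with (⟨rfl, rfl⟩ | ⟨rfl, rfl | rfl⟩) | ⟨h, -⟩
      · exact Or.inr (Or.inl ⟨rfl, h2⟩)
      · exact Or.inr (Or.inr (Or.inl ⟨rfl, Or.inl h2⟩))
      · exact Or.inr (Or.inr (Or.inl ⟨rfl, Or.inr h2⟩))
      · exact absurd h hodd
    · obtain ⟨F, _, _, h4, h5, h6⟩ := h
      rcases h5 with h5 | h5
      · rcases pow_case hp hodd h5 with h7 | ⟨h7, h8⟩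
        · exact Or.inr (Or.inr (Or.inr (Or.inl ⟨F, inferInstance, inferInstance, h7, h6⟩)))
        · exact Or.inr (Or.inr (Or.inr (Or.inr (Or.inl ⟨h7, F, inferInstance, inferInstance, h8, h6⟩))))
      · exact absurd h5.1 hodd
    · obtain ⟨rfl, F, _, _, hF, ⟨e⟩⟩ := h
      left; left
      haveI : Fact (Nat.Prime 7) := ⟨by norm_num⟩
      obtain ⟨e'⟩ := S0255.result (F := ZMod 7) (K := F) (ZMod.card 7) hF
      exact ⟨ZMod 7, inferInstance, inferInstance, inferInstance, 2, le_rfl,
        fun _ => by rw [ZMod.card 7]; norm_num, ⟨e.trans e'.symm⟩⟩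
    · exact absurd h.1 hodd
    · obtain ⟨rfl, F, _, _, hF, ⟨⟨e⟩⟩ | h6⟩ := h
      · left; right; left
        haveI : Fact (Nat.Prime 3) := ⟨Nat.prime_three⟩
        obtain ⟨e'⟩ := S0822.result (F := F) (K := ZMod 3) hF (ZMod.card 3)
        exact ⟨ZMod 3, inferInstance, inferInstance, inferInstance, 2, le_rfl,
          fun _ => by rw [ZMod.card 3], ⟨e.trans e'⟩⟩
      · exact Or.inr (Or.inr (Or.inr (Or.inr (Or.inr ⟨rfl, F, inferInstance, inferInstance, hF, h6⟩))))
    · exact absurd h.1 hodd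
    · exact absurd h.1 hodd

end Cfsg.Agent.S3428
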