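import Cfsg.Statements.S3429
import Cfsg.Agent.H365.Cube
import Cfsg.Agent.OrdDiv.Table
import Cfsg.Agent.S0000
import Cfsg.Agent.S0252
import Cfsg.Agent.S0254
import Cfsg.Agent.S0822
import Mathlib.FieldTheory.Finite.GaloisField

set_option autoImplicit false
open Cfsg

namespace Cfsg.Agent.S3429

open Cfsg.Agent.H365.PPart Cfsg.Agent.H365.CubeS Cfsg.Agent.H365.CubeR Cfsg.Agent.H365.Cube

/-- the field of order 4 -/
theorem exists_four : ∃ (F : Type) (_ : Field F) (_ : Fintype F) (_ : CharP F 2), Fintype.card F = 4 := by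
  haveI : Fact (Nat.Prime 2) := ⟨Nat.prime_two⟩
  letI : Fintype (GaloisField 2 2) := Fintype.ofFinite _
  refine ⟨GaloisField 2 2, inferInstance, inferInstance, inferInstance, ?_⟩
  rw [← Nat.card_eq_fintype_card, GaloisField.card 2 2 (by norm_num)]
  norm_num

/-- `q + 1` a power of 2: `q` is a prime -/
theorem prime_add {F : Type} [Field F] [Fintype F] {k : ℕ} (h : 2 ^ k = Fintype.card F + 1) :
    (Fintype.card F).Prime := by
  have hq : 2 ≤ Fintype.card F := Fintype.one_lt_card
  obtain ⟨r, hr⟩ := CharP.exists F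
  obtain ⟨n, hr1, hn⟩ := FiniteField.card F r
  rw [hn] at h
  have h1 := two_pow_sub hr1.two_le n.pos h.symm
  rw [hn, h1, pow_one]
  exact hr1

/-- `q - 1` a power of 2: `q` is a prime or `q = 9` -/
theorem prime_sub {F : Type} [Field F] [Fintype F] {k : ℕ} (h : 2 ^ k + 1 = Fintype.card F) :
    (Fintype.card F).Prime ∨ Fintype.card F = 9 := by
  obtain ⟨r, hr⟩ := CharP.exists F
  obtain ⟨n, hr1, hn⟩ := FiniteField.card F r
  rcases Nat.lt_or_ge n 2 with h2 | h2
  · left
    have h3 : (n : ℕ) = 1 := by have := n.pos; omega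
    rw [hn, h3, pow_one]
    exact hr1
  · right
    rw [hn] at h ⊢
    exact two_pow_add hr1.two_le h2 h

/-- Let G be a finite non-abelian simple group and let 2^k be the exact power of 2 dividing the order of G. If the order of G is less than 2^(3k), then G is a group of Lie type in characteristic 2, or the Tits group, or PSL(2, r) for a prime r of the form 2^a + 1 or 2^a − 1, or one of: the alternating groups of degree 6, 8, 9, 10; PSU(3, 3); PSU(3, 4); the Mathieu groups M₁₂, M₂₂, M₂₄; the Hall–Janko group J₂; the Higman–Sims group; the Suzuki sporadic group; the Rudvalis group; the Fischer group Fi₂₂; the Conway groups Co₂, Co₁; the Baby Monster. -/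
theorem result {G : Type*} [Group G] [Finite G] [IsSimpleGroup G] (hG : ¬ IsMulCommutative G)
    (hlt : Nat.card G < 2 ^ (3 * (Nat.card G).factorization 2)) :
    Cfsg.IsLieTypeChar 2 G ∨ Cfsg.Lie.IsoTits G ∨
      (∃ (F : Type) (_ : Field F) (_ : Fintype F), (Fintype.card F).Prime ∧
        ((∃ a : ℕ, Fintype.card F = 2 ^ a + 1) ∨ (∃ a : ℕ, Fintype.card F = 2 ^ a - 1)) ∧
        Nonempty (G ≃* Matrix.ProjectiveSpecialLinearGroup (Fin 2) F)) ∨
      Nonempty (G ≃* ↥(alternatingGroup (Fin 6))) ∨ Nonempty (G ≃* ↥(alternatingGroup (Fin 8))) ∨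
      Nonempty (G ≃* ↥(alternatingGroup (Fin 9))) ∨ Nonempty (G ≃* ↥(alternatingGroup (Fin 10))) ∨
      (∃ (F : Type) (_ : Field F) (_ : Fintype F), Fintype.card F = 9 ∧ Nonempty (G ≃* Cfsg.PSU 3 F 3)) ∨ (∃ (F : Type) (_ : Field F) (_ : Fintype F), Fintype.card F = 16 ∧ Nonempty (G ≃* Cfsg.PSU 3 F 4)) ∨
      Cfsg.Spor.IsoM12 G ∨ Cfsg.Spor.IsoM22 G ∨ Cfsg.Spor.IsoM24 G ∨ Cfsg.Spor.IsoJ2 G ∨ Cfsg.Spor.IsoHS G ∨ Cfsg.Spor.IsoSuz G ∨ Cfsg.Spor.IsoRu G ∨
      Cfsg.Spor.IsoFi22 G ∨ Cfsg.Spor.IsoCo2 G ∨ Cfsg.Spor.IsoCo1 G ∨ Cfsg.Spor.IsoB G := by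
  have hna : ¬ ∀ a b : G, a * b = b * a := fun h => hG ⟨⟨h⟩⟩
  rcases known_cube OrdDiv.table (S0000.result (G := G)) hna Nat.prime_two with h | h | h
  · exfalso
    unfold pt at h
    rw [← pow_mul, mul_comm _ 3] at h
    omega
  · exact Or.inl h
  · rcases h with h | h | h | h | h | h | h
    · obtain ⟨n, h1, h2⟩ := h
      simp only [altEx, Bool.or_eq_true, Bool.and_eq_true, beq_iff_eq] at h1
      rcases h1 with (⟨h1, -⟩ | ⟨h1, -⟩) | ⟨-, h1⟩
      · omega
      · omega
      rcases h1 with (((rfl | rfl) | rfl) | rfl) | rfl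
      · left; left
        obtain ⟨F, _, _, _, hF⟩ := exists_four
        obtain ⟨e⟩ := h2
        obtain ⟨e'⟩ := S0252.result (F := F) hF
        exact ⟨F, inferInstance, inferInstance, inferInstance, 2, le_rfl, fun _ => hF.ge, ⟨e.trans e'.symm⟩⟩
      · tauto
      · tauto
      · tauto
      · tauto
    · obtain ⟨F, _, _, h4, h5, h6⟩ := h
      rcases h5 with h5 | ⟨-, h5⟩
      · right; right; left
        refine ⟨F, inferInstance, inferInstance, prime_add h5,
          Or.inr ⟨(Fintype.card F + 1).factorization 2, ?_⟩, h6⟩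
        unfold pt at h5
        omega
      · unfold pt at h5
        have h7 : 2 ^ ((Fintype.card F - 1).factorization 2) + 1 = Fintype.card F := by omega
        rcases prime_sub h7 with h8 | h8
        · right; right; left
          exact ⟨F, inferInstance, inferInstance, h8, Or.inl ⟨_, h7.symm⟩, h6⟩
        · right; right; right; left
          obtain ⟨e⟩ := h6
          obtain ⟨e'⟩ := S0254.result (F := F) h8
          exact ⟨e.trans e'⟩
    · omega
    · exact Or.inr (Or.inr (Or.inr (Or.inr (Or.inr (Or.inr (Or.inr (Or.inl h.2)))))))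
    · omega
    · obtain ⟨-, F, _, _, hF, ⟨e⟩⟩ := h
      left; right; right; left
      obtain ⟨K, _, _, _, hK⟩ := exists_four
      obtain ⟨e'⟩ := S0822.result (F := K) (K := F) hK hF
      exact ⟨K, inferInstance, inferInstance, inferInstance, 4, 2, by rw [hK]; norm_num, by norm_num,
        fun h => by omega, ⟨e.trans e'.symm⟩⟩
    · obtain ⟨-, ⟨g, N⟩, -, h1, h2⟩ := h
      simp only [big2, List.contains_eq_mem, List.mem_cons, decide_eq_true_eq, List.not_mem_nil, or_false] at h1
      rcases h1 with rfl | rfl | rfl | rfl | rfl | rfl | rfl | rfl | rfl | rfl | rfl | rfl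
      all_goals
        simp only [OrdDiv.Real] at h2
        simp only [h2, true_or, or_true]

end Cfsg.Agent.S3429
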