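import Cfsg.Statements.S2180
import Cfsg.Agent.H82.RootCent
import Cfsg.Agent.H82.Cent2

set_option autoImplicit false
open Cfsg

namespace Cfsg.Agent.S2180

open Cfsg.Lie Cfsg.Agent.ChevalleyStructure.Elts Cfsg.Agent.ChevalleyStructure.RootCombGood

universe u

theorem datHigh (F : Type u) [Field F] [CharP F 2] : Cfsg.Agent.H82.RootCent.Dat chevG2 F 11 [4] 1 where
  hr := by decide +kernel
  hk := by decide +kernel
  hk1 := by decide +kernel
  hz := by decide +kernel
  hL := by
    have h : ∀ s ∈ [4], s < chevG2.nroots ∧ s ≠ 11 ∧ s ≠ chevG2.neg 11 ∧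
        (chevG2.commTerms 11 s).all (fun c => decide (c.2.1 % 2 = 0)) = true := by decide +kernel
    intro s hs
    obtain ⟨h1, h2, h3, h4⟩ := h s hs
    refine ⟨h1, h2, h3, fun c hc => ?_⟩
    have := List.all_eq_true.1 h4 c hc
    exact (CharP.intCast_eq_zero_iff F 2 c.2.1).2 (Int.dvd_of_emod_eq_zero (of_decide_eq_true this))
  hU := by
    have h : ∀ s < chevG2.nroots, chevG2.nroots / 2 ≤ s → s ≠ 11 → s ≠ chevG2.neg 11 ∧
        (chevG2.commTerms 11 s).all (fun c => decide (c.2.1 % 2 = 0)) = true := by decide +kernel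
    intro s h0 h1 h2
    obtain ⟨h3, h4⟩ := h s h0 h1 h2
    refine ⟨h3, fun c hc => ?_⟩
    have := List.all_eq_true.1 h4 c hc
    exact (CharP.intCast_eq_zero_iff F 2 c.2.1).2 (Int.dvd_of_emod_eq_zero (of_decide_eq_true this))

/-- `τ` -/
def tau (s : ℕ) : ℕ := if s = 7 then 10 else 11

/-- length (1 = short) -/
def inv (s : ℕ) : ℕ := [2,2,1,1,1,2,2,1,1,1,2,2].getD s 0

set_option synthInstance.maxHeartbeats 200000 in
set_option synthInstance.maxSize 1000 in
theorem Vpos : ∀ r < chevG2.nroots, chevG2.nroots / 2 ≤ r → (r ∈ [9, 10, 11] ∨ r ∈ [7, 8]) ∨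
    ∀ i < chevG2.rank, i ∈ [1] ∨ co chevG2 r i = 0 := by decide +kernel

theorem dat : Cfsg.Agent.H82.Cent2.Dat2 chevG2 [9] [7, 8] [10, 11] [1] [9, 10, 11] [6, 9, 10, 11, 5] tau
    (fun _ => 1) inv (fun _ _ => 1) where
  lt := by decide +kernel
  nodup := by decide +kernel
  Apos := by decide +kernel
  Jfix := by decide +kernel
  odd := by decide +kernel
  pos := by decide +kernel
  ind := by decide +kernel
  hinv := by decide +kernel
  pair := by decide +kernel
  wtneg := by decide +kernel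
  wtJ := by decide +kernel
  Mlt := by decide +kernel
  Mpos := by decide +kernel
  MJ := by decide +kernel
  Js := by decide +kernel
  Elt := by decide +kernel
  Vlt := by decide +kernel
  Vpos := by
    rintro r h1 h2 ⟨i, hi, h3, h4⟩
    exact (Vpos r h1 h2).resolve_right fun h5 => (h5 i hi).elim h3 h4
  EV := by decide +kernel
  EE := by decide +kernel
  Et := by decide +kernel
  EA := by decide +kernel
  EY := by decide +kernel
  Eτ := by decide +kernel
  Einj := by decide +kernel
  Enodup := by decide +kernel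
  dual := by decide +kernel

theorem XS_eq (F : Type u) [Field F] [CharP F 2] : Cfsg.Agent.H82.Cent2.XS F chevG2 [6, 9, 10, 11, 5] =
    chevG2.rootSubgroup F 9 ⊔ chevG2.rootSubgroup F 10 ⊔ chevG2.rootSubgroup F 11 ⊔ chevG2.rootSubgroup F 6 ⊔
      chevG2.rootSubgroup F 5 := by
  have hD : InList chevG2 := by simp [InList]
  have h : ∀ (r : ℕ) (c : F), xG hD r c ∈ chevG2.rootSubgroup F r := fun r c => xG_mem_rootSubgroup hD r c
  apply le_antisymm
  · rw [Cfsg.Agent.H82.Cent2.XS_le_iff hD]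
    intro s hs c
    simp only [List.mem_cons, List.not_mem_nil, or_false] at hs
    rcases hs with rfl | rfl | rfl | rfl | rfl
    · exact Subgroup.mem_sup_left (Subgroup.mem_sup_right (h _ c))
    · exact Subgroup.mem_sup_left (Subgroup.mem_sup_left (Subgroup.mem_sup_left (Subgroup.mem_sup_left (h _ c))))
    · exact Subgroup.mem_sup_left (Subgroup.mem_sup_left (Subgroup.mem_sup_left (Subgroup.mem_sup_right (h _ c))))
    · exact Subgroup.mem_sup_left (Subgroup.mem_sup_left (Subgroup.mem_sup_right (h _ c)))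
    · exact Subgroup.mem_sup_right (h _ c)
  · have h2 : ∀ r ∈ [6, 9, 10, 11, 5], chevG2.rootSubgroup F r ≤ Cfsg.Agent.H82.Cent2.XS F chevG2 [6, 9, 10, 11, 5] := by
      intro r hr
      refine Subgroup.closure_mono ?_
      rintro g ⟨t, hg⟩
      exact ⟨r, hr, t, hg⟩
    exact sup_le (sup_le (sup_le (sup_le (h2 9 (by simp)) (h2 10 (by simp))) (h2 11 (by simp))) (h2 6 (by simp)))
      (h2 5 (by simp))

theorem M_eq (F : Type u) [Field F] (a : ℕ) :
    Cfsg.Agent.H82.RootCent.M F chevG2 [a] = chevG2.posUnipotent F ⊔ chevG2.rootSubgroup F a := by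
  unfold Cfsg.Agent.H82.RootCent.M
  congr 1
  unfold ChevalleyDatum.rootSubgroup
  congr 1
  ext g
  simp

/-- Centralizers of involutions in the Chevalley group G of type G₂ over a finite field F of characteristic two with at least four elements (this problem's root numbering for type G₂, from the Chevalley data module: a = p₁ short with index 7, b = p₂ long with index 6, −a = 4, −b = 5, 2a + b = 9, 3a + b = 10, 3a + 2b = 11; U generated by the positive root subgroups). For an element z of G with matrix x_{3a+2b}(1): the centralizer of z in G is generated by U and X_{−a}. For an element t of G with matrix x_{2a+b}(1): the centralizer of t in G is generated by X_{2a+b}, X_{3a+b}, X_{3a+2b}, X_b and X_{−b}. -/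
theorem result {F : Type*} [Field F] [Fintype F] [CharP F 2] (hF : 4 ≤ Fintype.card F) (z t : GL Cfsg.Lie.chevG2.Idx F) (hz : (z : Matrix Cfsg.Lie.chevG2.Idx Cfsg.Lie.chevG2.Idx F) = Cfsg.Lie.chevG2.x F 11 1) (ht : (t : Matrix Cfsg.Lie.chevG2.Idx Cfsg.Lie.chevG2.Idx F) = Cfsg.Lie.chevG2.x F 9 1) :
    Cfsg.Lie.chevG2.group F ⊓ Subgroup.centralizer {z} = Cfsg.Lie.chevG2.posUnipotent F ⊔ Cfsg.Lie.chevG2.rootSubgroup F 4 ∧
    Cfsg.Lie.chevG2.group F ⊓ Subgroup.centralizer {t} = Cfsg.Lie.chevG2.rootSubgroup F 9 ⊔ Cfsg.Lie.chevG2.rootSubgroup F 10 ⊔ Cfsg.Lie.chevG2.rootSubgroup F 11 ⊔ Cfsg.Lie.chevG2.rootSubgroup F 6 ⊔ Cfsg.Lie.chevG2.rootSubgroup F 5 := by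
  have hD : InList chevG2 := by simp [InList]
  have e : t = Cfsg.Agent.H82.Cent2.tA F hD [9] := by
    rw [(eq_xG_iff hD t _ _).2 ht]
    unfold Cfsg.Agent.H82.Cent2.tA
    rw [Cfsg.Agent.H82.Cent2.PA_cons, Cfsg.Agent.H82.Cent2.PA_nil, mul_one]
  rw [(eq_xG_iff hD z _ _).2 hz, e]
  exact ⟨(Cfsg.Agent.H82.RootCent.main hD (datHigh F)).trans (M_eq F _),
    (Cfsg.Agent.H82.Cent2.cent hD dat).trans (XS_eq F)⟩

end Cfsg.Agent.S2180
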