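import Cfsg.Statements.S2447
import Cfsg.Agent.H146.OreOdd
import Cfsg.Agent.LieClassical.OmegaReindex

set_option autoImplicit false
open Cfsg

namespace Cfsg.Agent.S2447

/-- Let F be a finite field of odd order and n ≥ 3, and let Ω(2n+1,F) be the commutator subgroup of the orthogonal group of the non-singular quadratic form x₀² + Σ xᵢyᵢ in dimension 2n+1. Then every element of Ω(2n+1,F) is a commutator a·b·a⁻¹·b⁻¹ of two elements of Ω(2n+1,F). -/
theorem result {F : Type*} [Field F] [Fintype F] (hodd : Odd (Fintype.card F)) (n : ℕ) (hn : 3 ≤ n) :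
    ∀ g : Cfsg.Omega F (Cfsg.quadFormOdd n F), ∃ a b : Cfsg.Omega F (Cfsg.quadFormOdd n F), g = a * b * a⁻¹ * b⁻¹ := by
  have h2 : (2 : F) ≠ 0 := by
    intro h
    have h1 : ringChar F = 2 := by
      have h1 : ((2 : ℕ) : F) = 0 := by exact_mod_cast h
      have h3 : ringChar F ∣ 2 := (ringChar.spec F 2).1 h1
      have h4 : (ringChar F).Prime := CharP.char_is_prime F (ringChar F)
      exact (Nat.prime_dvd_prime_iff_eq h4 Nat.prime_two).1 h3
    have h5 : Fintype.card F % 2 = 0 := FiniteField.even_card_of_char_two h1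
    rw [Nat.odd_iff] at hodd
    omega
  rw [← Cfsg.Agent.LieClassical.OmegaReindex.coe_quadOdd]
  have hQ := Cfsg.Agent.LieClassical.OmegaReindex.quadOdd_nondegenerate (m := n) (F := F) h2
  have hc : Fintype.card (Unit ⊕ (Fin n ⊕ Fin n)) = 2 * n + 1 := by
    rw [Fintype.card_sum, Fintype.card_sum, Fintype.card_fin, Fintype.card_unit]
    omega
  have key : ∀ g : Cfsg.isometryGroup F ⇑(Cfsg.Agent.LieClassical.OmegaReindex.quadOdd n F),
      g ∈ Cfsg.Omega F ⇑(Cfsg.Agent.LieClassical.OmegaReindex.quadOdd n F) ↔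
        Cfsg.Agent.H146.Ore.del (Cfsg.Agent.LieClassical.OmegaReindex.quadOdd n F) g = 1 := by
    intro g
    rw [Cfsg.Agent.ClassicalGeometry.OmegaIndex.mem_Omega_iff h2 _ hQ (by omega) one_ne_zero]
    exact (Cfsg.Agent.ClassicalGeometry.OmegaIndex.detSpinor_eq_one_iff _ _ g).symm
  rintro ⟨g, hg⟩
  obtain ⟨a, b, ha, hb, h⟩ := Cfsg.Agent.H146.Ore.ore_odd h2 hQ hn hc g ((key g).1 hg)
  exact ⟨⟨a, (key a).2 ha⟩, ⟨b, (key b).2 hb⟩, Subtype.ext h⟩

end Cfsg.Agent.S2447
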