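import Cfsg.Statements.S4883
import Cfsg.Agent.H93.PReg.Main
import Cfsg.Agent.H436.Simple

set_option autoImplicit false
open Cfsg

namespace Cfsg.Agent.S4883

/-- Let p be a prime, S a finite non-abelian simple group whose Sylow p-subgroups are not cyclic, and G a group of automorphisms of S containing all inner automorphisms. Then G has at least p conjugacy classes of p-regular elements. -/
theorem result {S : Type*} [Group S] [Finite S] [IsSimpleGroup S] (hS : ¬ IsMulCommutative S) (p : ℕ) [Fact p.Prime] (P : Sylow p S) (hP : ¬ IsCyclic (P : Subgroup S)) (G : Subgroup (MulAut S)) (hG : (MulAut.conj : S →* MulAut S).range ≤ G) : p ≤ Nat.card {c : ConjClasses ↥G // ∃ g : ↥G, ConjClasses.mk g = c ∧ ¬ p ∣ orderOf g} := by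
  obtain ⟨g, hg⟩ := Cfsg.Agent.H436.name hS
  exact Cfsg.Agent.H93.PReg.Main.main hS p P hP G hG hg

end Cfsg.Agent.S4883
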