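import Cfsg.Prelude.Def_Characters
import Mathlib.LinearAlgebra.SymplecticGroup
import Mathlib.FieldTheory.Finite.Basic
import Mathlib.NumberTheory.LegendreSymbol.Complex
import Cfsg.Agent.H162.WeilBound

set_option autoImplicit false
set_option maxHeartbeats 2000000

namespace Cfsg.Agent.S2524

open Module Representation Cfsg.Agent.H162.Weil

theorem card_two_of {G : Type*} [Group G] {z : ℂ} {a b : G → ℂ} (ha : IsIrrCharacter G a)
    (hb : IsIrrCharacter G b) (hab : a ≠ b) (ha1 : a 1 = z) (hb1 : b 1 = z)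
    (hall : ∀ c : G → ℂ, IsIrrCharacter G c → c 1 = z → c = a ∨ c = b) :
    Nat.card {χ : Cfsg.IrrCharacter G // (χ : G → ℂ) 1 = z} = 2 := by
  rw [Nat.card_eq_two_iff]
  refine ⟨⟨⟨a, ha⟩, ha1⟩, ⟨⟨b, hb⟩, hb1⟩, ?_, ?_⟩
  · intro h
    exact hab (congrArg (fun x => x.1.1) h)
  · rw [Set.eq_univ_iff_forall]
    rintro ⟨⟨c, hc⟩, hc1⟩
    rcases hall c hc hc1 with h | h
    · left; exact Subtype.ext (Subtype.ext h)
    · right; exact Subtype.ext (Subtype.ext h)

theorem two_ne {F : Type*} [Field F] [Fintype F] (hodd : Odd (Fintype.card F)) : (2 : F) ≠ 0 := by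
  intro h
  have h1 : ringChar F ∣ 2 := (ringChar.spec F 2).mp (by exact_mod_cast h)
  have h3 : ringChar F = 2 := by
    rcases (Nat.dvd_prime Nat.prime_two).mp h1 with h4 | h4
    · exact absurd h4 (CharP.ringChar_ne_one)
    · exact h4
  have h4 := FiniteField.even_card_iff_char_two.mp h3
  have h5 := Nat.odd_iff.mp hodd
  omega

theorem final_arith {Q q m : ℕ} (h : (Q - 1) * (Q - q) ≤ 2 * (q + 1) * m) :
    ((Q - 1 : ℕ) : ℝ) * ((Q - q : ℕ) : ℝ) / (2 * ((q : ℝ) + 1)) ≤ (m : ℝ) := by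
  rw [div_le_iff₀ (by positivity)]
  have h3 : (((Q - 1) * (Q - q) : ℕ) : ℝ) ≤ ((2 * (q + 1) * m : ℕ) : ℝ) :=
    Nat.cast_le.mpr h
  rw [Nat.cast_mul, Nat.cast_mul, Nat.cast_mul, Nat.cast_add, Nat.cast_one, Nat.cast_ofNat] at h3
  rw [mul_comm (m : ℝ)]
  exact h3

/-- Let F be a finite field of odd order q and G = Sp(2n, F) with n ≥ 2. Then G has exactly four irreducible complex characters of degree (q^n + 1)/2 or (q^n − 1)/2 (two of each), and every other non-principal irreducible character has degree at least (q^n − 1)(q^n − q)/(2(q + 1)). -/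
theorem result {F : Type*} [Field F] [Fintype F] (hodd : Odd (Fintype.card F)) (n : ℕ) (hn : 2 ≤ n) :
    Nat.card {χ : Cfsg.IrrCharacter ↥(Matrix.symplecticGroup (Fin n) F) // (χ : ↥(Matrix.symplecticGroup (Fin n) F) → ℂ) 1 = (((Fintype.card F) ^ n + 1 : ℕ) : ℂ) / 2} = 2 ∧
    Nat.card {χ : Cfsg.IrrCharacter ↥(Matrix.symplecticGroup (Fin n) F) // (χ : ↥(Matrix.symplecticGroup (Fin n) F) → ℂ) 1 = (((Fintype.card F) ^ n - 1 : ℕ) : ℂ) / 2} = 2 ∧
    ∀ χ : Cfsg.IrrCharacter ↥(Matrix.symplecticGroup (Fin n) F),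
      (χ : ↥(Matrix.symplecticGroup (Fin n) F) → ℂ) 1 ≠ 1 →
      (χ : ↥(Matrix.symplecticGroup (Fin n) F) → ℂ) 1 ≠ (((Fintype.card F) ^ n + 1 : ℕ) : ℂ) / 2 →
      (χ : ↥(Matrix.symplecticGroup (Fin n) F) → ℂ) 1 ≠ (((Fintype.card F) ^ n - 1 : ℕ) : ℂ) / 2 →
      (((Fintype.card F) ^ n - 1 : ℕ) : ℝ) * (((Fintype.card F) ^ n - Fintype.card F : ℕ) : ℝ) / (2 * ((Fintype.card F : ℕ) + 1 : ℝ)) ≤ ‖(χ : ↥(Matrix.symplecticGroup (Fin n) F) → ℂ) 1‖ := by
  have h2 := two_ne hodd
  have hq : 3 ≤ Fintype.card F := by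
    have h1 : 1 < Fintype.card F := Fintype.one_lt_card
    have h3 := Nat.odd_iff.mp hodd
    omega
  have hchar : ringChar F ≠ 2 := by
    intro h
    have h4 := FiniteField.even_card_iff_char_two.mp h
    have h5 := Nat.odd_iff.mp hodd
    omega
  obtain ⟨δ, hδ⟩ := FiniteField.exists_nonsquare hchar
  have hδ0 : δ ≠ 0 := by
    rintro rfl
    exact hδ (IsSquare.zero)
  set ψ := AddChar.FiniteField.primitiveChar_to_Complex F with hψd
  have hψ : ψ.IsPrimitive := AddChar.FiniteField.primitiveChar_to_Complex_isPrimitive F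
  let i : Fin n := ⟨0, by omega⟩
  obtain ⟨ω, a1, a2, a3, a4⟩ := exists_weil (n := n) hψ h2 one_ne_zero i
  obtain ⟨ω', b1, b2, b3, b4⟩ := exists_weil (n := n) hψ h2 hδ0 i
  have hω : IsWeil ψ 1 ω := ⟨hψ, h2, one_ne_zero, a1, a2, a3, a4⟩
  have hω' : IsWeil ψ δ ω' := ⟨hψ, h2, hδ0, b1, b2, b3, b4⟩
  set q := Fintype.card F with hqd
  set d1 := finrank ℂ (Es n F 1) with hd1
  set d2 := finrank ℂ (Es n F (-1)) with hd2
  have e1 : d1 = d2 + 1 := finrank_even_eq h2
  have e2 : d1 + d2 = q ^ n := finrank_sum h2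
  have irr1 : IsIrrCharacter (Sp n F) (hω.srep 1).character :=
    Cfsg.Agent.Characters.Core.isIrrCharacter_of_rep _ (hω.sub_irr (Or.inl rfl) i)
  have irr2 : IsIrrCharacter (Sp n F) (hω.srep (-1)).character :=
    Cfsg.Agent.Characters.Core.isIrrCharacter_of_rep _ (hω.sub_irr (Or.inr rfl) i)
  have irr1' : IsIrrCharacter (Sp n F) (hω'.srep 1).character :=
    Cfsg.Agent.Characters.Core.isIrrCharacter_of_rep _ (hω'.sub_irr (Or.inl rfl) i)
  have irr2' : IsIrrCharacter (Sp n F) (hω'.srep (-1)).character :=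
    Cfsg.Agent.Characters.Core.isIrrCharacter_of_rep _ (hω'.sub_irr (Or.inr rfl) i)
  have ne1 := srep_ne hδ hω hω' (s := 1) (by norm_num) i
  have ne2 := srep_ne hδ hω hω' (s := -1) (by norm_num) i
  have deg1 : (hω.srep 1).character 1 = (d1 : ℂ) := char_one _
  have deg2 : (hω.srep (-1)).character 1 = (d2 : ℂ) := char_one _
  have deg1' : (hω'.srep 1).character 1 = (d1 : ℂ) := char_one _
  have deg2' : (hω'.srep (-1)).character 1 = (d2 : ℂ) := char_one _
  have hQ : q * q ≤ q ^ n := by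
    rw [← pow_two]
    exact Nat.pow_le_pow_right (by omega) hn
  have hz1 : (((q ^ n + 1 : ℕ) : ℂ) / 2) = (d1 : ℂ) := by
    rw [← e2, e1]; push_cast; ring
  have hz2 : (((q ^ n - 1 : ℕ) : ℂ) / 2) = (d2 : ℂ) := by
    have : q ^ n - 1 = 2 * d2 := by omega
    rw [this]; push_cast; ring
  have big : ∀ m : ℕ, (q ^ n - 1) * (q ^ n - q) ≤ 2 * (q + 1) * m → m ≠ d1 ∧ m ≠ d2 := by
    intro m hm
    obtain ⟨k, hk⟩ : ∃ k, q ^ n = q * q + k := ⟨q ^ n - q * q, by omega⟩
    obtain ⟨r, hr⟩ : ∃ r, q = r + 3 := ⟨q - 3, by omega⟩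
    have hd : 2 * d2 + 1 = q ^ n := by omega
    have key : 2 * (q + 1) * d1 < (q ^ n - 1) * (q ^ n - q) := by
      have h5 : q ^ n - 1 = q * q - 1 + k := by
        have : 1 ≤ q * q := Nat.one_le_iff_ne_zero.mpr (by positivity)
        omega
      have h6 : q ^ n - q = q * q - q + k := by
        have : q ≤ q * q := Nat.le_mul_self q
        omega
      have h7 : q * q - 1 = (r + 2) * (r + 4) := by
        rw [hr]
        have : (r + 3) * (r + 3) = (r + 2) * (r + 4) + 1 := by ring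
        omega
      have h8 : q * q - q = (r + 3) * (r + 2) := by
        rw [hr]
        have : (r + 3) * (r + 3) = (r + 3) * (r + 2) + (r + 3) := by ring
        omega
      rw [h5, h6, h7, h8]
      have h9 : 2 * d1 = (r + 3) * (r + 3) + k + 1 := by
        rw [← hr]; omega
      have h10 : 2 * (q + 1) * d1 = (r + 4) * ((r + 3) * (r + 3) + k + 1) := by
        rw [← h9, hr]; ring
      rw [h10]
      nlinarith [Nat.zero_le r, Nat.zero_le k, Nat.zero_le (r * k), Nat.zero_le (r * r), mul_nonneg (Nat.zero_le r) (Nat.zero_le k)]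
    have hle : d1 < m := by
      by_contra hc
      push Not at hc
      have := Nat.mul_le_mul (le_refl (2 * (q + 1))) hc
      omega
    constructor <;> omega
  have tri : ∀ c : Sp n F → ℂ, IsIrrCharacter (Sp n F) c → ∃ m : ℕ, c 1 = (m : ℂ) ∧
      (m = 1 ∨ (q ^ n - 1) * (q ^ n - q) ≤ 2 * (q + 1) * m ∨
      c = (hω.srep 1).character ∨ c = (hω.srep (-1)).character ∨
      c = (hω'.srep 1).character ∨ c = (hω'.srep (-1)).character) := by
    rintro c ⟨m, ρ, hρ, rfl⟩
    refine ⟨m, ?_, ?_⟩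
    · rw [char_one]; simp
    · have := trichotomy (ρ := ρ) hq hn hδ hω hω' hρ
      rw [finrank_fin_fun] at this
      exact this
  have hd1' : d1 ≠ 1 := by
    have : 3 * 3 ≤ q * q := Nat.mul_le_mul hq hq
    omega
  have hd2' : d2 ≠ 1 := by
    have : 3 * 3 ≤ q * q := Nat.mul_le_mul hq hq
    omega
  refine ⟨?_, ?_, ?_⟩
  · refine card_two_of irr1 irr1' ne1 (deg1.trans hz1.symm) (deg1'.trans hz1.symm) ?_
    intro c hc hc1
    obtain ⟨m, hm, h⟩ := tri c hc
    rw [hz1, hm, Nat.cast_inj] at hc1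
    rcases h with h | h | h | h | h | h
    · exact absurd (hc1.symm.trans h) hd1'
    · exact absurd hc1 (big m h).1
    · exact Or.inl h
    · exfalso
      rw [h, deg2, Nat.cast_inj] at hm
      omega
    · exact Or.inr h
    · exfalso
      rw [h, deg2', Nat.cast_inj] at hm
      omega
  · refine card_two_of irr2 irr2' ne2 (deg2.trans hz2.symm) (deg2'.trans hz2.symm) ?_
    intro c hc hc1
    obtain ⟨m, hm, h⟩ := tri c hc
    rw [hz2, hm, Nat.cast_inj] at hc1
    rcases h with h | h | h | h | h | h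
    · exact absurd (hc1.symm.trans h) hd2'
    · exact absurd hc1 (big m h).2
    · exfalso
      rw [h, deg1, Nat.cast_inj] at hm
      omega
    · exact Or.inl h
    · exfalso
      rw [h, deg1', Nat.cast_inj] at hm
      omega
    · exact Or.inr h
  · rintro ⟨c, hc⟩ n1 n2 n3
    obtain ⟨m, hm, h⟩ := tri c hc
    change c 1 ≠ _ at n1
    change c 1 ≠ _ at n2
    change c 1 ≠ _ at n3
    change _ ≤ ‖c 1‖
    rw [hz1] at n2
    rw [hz2] at n3
    rcases h with h | h | h | h | h | h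
    · exfalso; apply n1; rw [hm, h, Nat.cast_one]
    · rw [hm, Complex.norm_natCast]
      exact final_arith h
    · exfalso; apply n2; rw [h]; exact deg1
    · exfalso; apply n3; rw [h]; exact deg2
    · exfalso; apply n2; rw [h]; exact deg1'
    · exfalso; apply n3; rw [h]; exact deg2'

end Cfsg.Agent.S2524
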