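import Cfsg.Statements.S5116
import Cfsg.Agent.S1252
import Cfsg.Agent.H792.FF
import Cfsg.Agent.H790.RestFive

set_option autoImplicit false
open Cfsg

namespace Cfsg.Agent.S5116

/-- Let G be a nonabelian finite simple group, S a Sylow p-subgroup and T a nontrivial proper subgroup of S that is strongly closed in S with respect to G. Then either S is normal in the fusion system of G on S, or p = 3, G is isomorphic to the Chevalley group of type G₂ over a field with q ≡ ±1 (mod 9) elements, and T is the centre of S and has order 3. (This rests on the classification of the finite simple groups.) -/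
theorem result {G : Type*} [Group G] [Finite G] [IsSimpleGroup G] (hG : ¬ IsMulCommutative G) (p : ℕ) [Fact p.Prime] (S : Sylow p G) (T : Subgroup G) (hT : T ≠ ⊥) (hTS : T < (S : Subgroup G)) (hsc : Cfsg.IsStronglyClosed T (S : Subgroup G)) : (Cfsg.groupFusionSystem (S : Subgroup G)).IsNormal S ∨ (p = 3 ∧ (∃ (F : Type) (_ : Field F) (_ : Fintype F), (Fintype.card F % 9 = 1 ∨ Fintype.card F % 9 = 8) ∧ Nonempty (G ≃* ↥(Cfsg.Lie.G2 F))) ∧ T = (S : Subgroup G) ⊓ Subgroup.centralizer ((S : Subgroup G) : Set G) ∧ Nat.card T = 3) := by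
  exact Cfsg.Agent.H792.FF.main hG Cfsg.Agent.S0000.result
    (fun S A hA hns hO => Cfsg.Agent.S1252.result S A hA hns hO)
    Cfsg.Agent.H790.RestFive.rest_five S T hT hTS hsc

end Cfsg.Agent.S5116
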