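import Cfsg.Statements.S4712
import Cfsg.Agent.H657.PRational

set_option autoImplicit false
open Cfsg

namespace Cfsg.Agent.S4712

theorem exists_kappa {p n : ℕ} (hp : p.Prime) (hodd : p ≠ 2) (hn : n ≠ 0) :
    ∃ κ : ℕ, Nat.Coprime κ n ∧ κ ≡ 1 [MOD n / p ^ n.factorization p] ∧
      ∀ k : ℕ, Nat.Coprime k n → k ≡ 1 [MOD n / p ^ n.factorization p] →
        ∃ j : ℕ, k ≡ κ ^ j [MOD n] := by
  set a := n.factorization p with ha
  set m := n / p ^ a with hm
  have hpm : p.Coprime m := Nat.coprime_ordCompl hp hn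
  have hcop : (p ^ a).Coprime m := Nat.Coprime.pow_left _ hpm
  have hmul : p ^ a * m = n := Nat.ordProj_mul_ordCompl_eq_self n p
  have : NeZero (p ^ a) := ⟨pow_ne_zero _ hp.ne_zero⟩
  have hcyc : IsCyclic (ZMod (p ^ a))ˣ := ZMod.isCyclic_units_of_prime_pow p hp hodd a
  obtain ⟨u, hu⟩ := IsCyclic.exists_monoid_generator (α := (ZMod (p ^ a))ˣ)
  obtain ⟨κ, hκ1, hκ2⟩ := Nat.chineseRemainder hcop (u : ZMod (p ^ a)).val 1
  have hκu : ((κ : ℕ) : ZMod (p ^ a)) = (u : ZMod (p ^ a)) := by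
    rw [(ZMod.natCast_eq_natCast_iff _ _ _).2 hκ1, ZMod.natCast_val, ZMod.cast_id]
  refine ⟨κ, ?_, hκ2, fun k hk hk1 => ?_⟩
  · rw [← hmul]
    refine Nat.Coprime.mul_right ?_ ?_
    · have h1 := hκ1.gcd_eq
      unfold Nat.Coprime
      rw [h1]
      exact ZMod.val_coe_unit_coprime u
    · have h1 := hκ2.gcd_eq
      unfold Nat.Coprime
      rw [h1, Nat.gcd_one_left]
  · have hkp : Nat.Coprime k (p ^ a) := Nat.Coprime.coprime_dvd_right ⟨m, hmul.symm⟩ hk
    obtain ⟨j, hj⟩ := hu (ZMod.unitOfCoprime k hkp)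
    refine ⟨j, ?_⟩
    rw [← hmul]
    refine (Nat.modEq_and_modEq_iff_modEq_mul hcop).1 ⟨?_, ?_⟩
    · rw [← ZMod.natCast_eq_natCast_iff]
      have h1 := congrArg (fun v : (ZMod (p ^ a))ˣ => (v : ZMod (p ^ a))) hj
      simp only [Units.val_pow_eq_pow_val, ZMod.coe_unitOfCoprime] at h1
      rw [← h1, Nat.cast_pow, hκu]
    · have h1 := hκ2.pow j
      rw [one_pow] at h1
      exact hk1.trans h1.symm

/-- Let p be an odd prime, M a maximal ideal of the algebraic integers containing p, G a finite group of order n with p-part p^a, and B a p-block of G. Call an irreducible character χ p-rational when χ(g^k) = χ(g) for every g and every k coprime to n with k ≡ 1 modulo n/p^a (χ is fixed by the Galois automorphisms fixing the roots of unity of order prime to p). Then the number of p-rational irreducible characters in B is at least the p-regular rank of B (the number of irreducible Brauer characters in B). -/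
theorem result {G : Type*} [Group G] [Finite G] (p : ℕ) [Fact p.Prime] (hodd : p ≠ 2) (M : Ideal Cfsg.AlgInt) (hM : Cfsg.IsPModular p M) (B : Set (Cfsg.IrrCharacter G)) (hB : Cfsg.IsPBlock M B) : Cfsg.blockRank p B ≤ Nat.card {χ : Cfsg.IrrCharacter G // χ ∈ B ∧ ∀ k : ℕ, Nat.Coprime k (Nat.card G) → k ≡ 1 [MOD Nat.card G / p ^ (Nat.card G).factorization p] → ∀ g : G, (χ : G → ℂ) (g ^ k) = (χ : G → ℂ) g} := by
  have hp : p.Prime := Fact.out
  obtain ⟨κ, h1, h2, h3⟩ := exists_kappa hp hodd (Nat.card_pos (α := G)).ne'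
  refine (Cfsg.Agent.H657.blockRank_le_fixed hM hB h1 h2).trans ?_
  have := Cfsg.Agent.Characters.Core.finite_irr (G := G)
  refine Nat.card_le_card_of_injective (fun χ => ⟨χ.1, χ.2.1, fun k hk hk1 g => ?_⟩) ?_
  · obtain ⟨j, hj⟩ := h3 k hk hk1
    have h4 : g ^ k = g ^ κ ^ j := pow_eq_pow_iff_modEq.2 (hj.of_dvd (orderOf_dvd_natCard g))
    rw [h4]
    have h5 : ∀ j : ℕ, ∀ g : G, ((χ.1 : IrrCharacter G) : G → ℂ) (g ^ κ ^ j) =
        ((χ.1 : IrrCharacter G) : G → ℂ) g := by
      intro j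
      induction j with
      | zero => intro g; rw [pow_zero, pow_one]
      | succ j ih =>
        intro g
        rw [pow_succ, pow_mul, χ.2.2, ih]
    exact h5 j g
  · intro χ χ' h
    apply Subtype.ext
    exact congrArg (fun z : {χ : Cfsg.IrrCharacter G // χ ∈ B ∧ ∀ k : ℕ, Nat.Coprime k (Nat.card G) →
      k ≡ 1 [MOD Nat.card G / p ^ (Nat.card G).factorization p] →
        ∀ g : G, (χ : G → ℂ) (g ^ k) = (χ : G → ℂ) g} => z.1) h

end Cfsg.Agent.S4712
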