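import Cfsg.Statements.S4454
import Cfsg.Agent.H596.FrobRam

set_option autoImplicit false
open Cfsg

namespace Cfsg.Agent.S4454

open scoped ComplexConjugate
open Cfsg.Agent.Characters.Core
open Cfsg.Agent.CharactersDeep.NormalInd (indFun_coe indFun_of_invariant
  classInner_indFun_of_invariant)

/-- Sums of functions on a quotient. -/
theorem sum_comp_mk {A : Type*} [Group A] [Fintype A] (B : Subgroup A) [B.Normal]
    [Fintype (A ⧸ B)] (h : A ⧸ B → ℂ) :
    ∑ a : A, h (a : A ⧸ B) = (Nat.card B : ℂ) * ∑ q : A ⧸ B, h q := by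
  classical
  rw [← Finset.sum_fiberwise (s := Finset.univ) (g := fun a : A => (a : A ⧸ B)), Finset.mul_sum]
  refine Finset.sum_congr rfl fun q _ => ?_
  have h1 : ∀ a ∈ Finset.univ.filter (fun a : A => (a : A ⧸ B) = q), h (a : A ⧸ B) = h q := by
    intro a ha
    rw [(Finset.mem_filter.1 ha).2]
  rw [Finset.sum_congr rfl h1, Finset.sum_const, nsmul_eq_mul]
  congr 2
  obtain ⟨a0, rfl⟩ := QuotientGroup.mk_surjective q
  rw [← Nat.card_eq_finsetCard]
  refine Nat.card_congr ⟨fun x => ⟨a0⁻¹ * x.1, ?_⟩, fun b => ⟨a0 * b.1, ?_⟩, fun x => ?_,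
    fun b => ?_⟩
  · have := x.2
    simp only [Finset.mem_filter, Finset.mem_univ, true_and] at this
    exact QuotientGroup.eq.1 this.symm
  · simp only [Finset.mem_filter, Finset.mem_univ, true_and]
    rw [QuotientGroup.eq, mul_inv_rev, inv_mul_cancel_right]
    exact B.inv_mem b.2
  · apply Subtype.ext
    show a0 * (a0⁻¹ * x.1) = x.1
    group
  · apply Subtype.ext
    show a0⁻¹ * (a0 * b.1) = b.1
    group

/-- Conjugation by `G` permutes the cosets of `N` in `G x` transitively when `x` has no fixed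
points on `G / N`. -/
theorem sum_coset {Γ : Type*} [Group Γ] [Fintype Γ] (G N : Subgroup Γ) [hG : G.Normal]
    [hN : N.Normal] [Fintype G] [Fintype N] (hNG : N ≤ G) (x : Γ)
    (hx : ∀ g : Γ, g ∈ G → x * g * x⁻¹ * g⁻¹ ∈ N → g ∈ N) (f : Γ → ℂ)
    (hf : ∀ g y : Γ, f (g * y * g⁻¹) = f y) :
    (Nat.card N : ℂ) * ∑ g : G, f (g * x) = (Nat.card G : ℂ) * ∑ n : N, f (n * x) := by
  classical
  let F : Γ → ℂ := fun y => ∑ n : N, f (n * y)
  have hFN : ∀ (n : N) (y : Γ), F (n * y) = F y := by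
    intro n y
    refine Fintype.sum_equiv (Equiv.mulRight n) _ _ fun m => ?_
    show f (m * (n * y)) = f ((m * n : N) * y)
    rw [Subgroup.coe_mul, mul_assoc]
  have hFc : ∀ g y : Γ, F (g * y * g⁻¹) = F y := by
    intro g y
    refine Fintype.sum_equiv (MulAut.conjNormal g⁻¹ : MulAut N).toEquiv _ _ fun m => ?_
    show f (m * (g * y * g⁻¹)) = f ((MulAut.conjNormal g⁻¹ m : N) * y)
    rw [MulAut.conjNormal_apply, ← hf g (g⁻¹ * m * g⁻¹⁻¹ * y)]
    congr 1
    group
  let B : Subgroup G := N.subgroupOf G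
  have hBn : B.Normal := hN.subgroupOf G
  have := Fintype.ofFinite (G ⧸ B)
  -- `F (g x)` as a function on the quotient
  let h : G ⧸ B → ℂ := fun q => F ((Quotient.out q : G) * x)
  have hh : ∀ g : G, h (g : G ⧸ B) = F (g * x) := by
    intro g
    have h1 : ((Quotient.out (g : G ⧸ B) : G) : G ⧸ B) = g := Quotient.out_eq _
    have h2 : (Quotient.out (g : G ⧸ B) : G) * g⁻¹ ∈ B := by
      rw [← QuotientGroup.eq_one_iff]
      show ((Quotient.out (g : G ⧸ B) : G) : G ⧸ B) * (g : G ⧸ B)⁻¹ = 1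
      rw [h1, mul_inv_cancel]
    have h3 := hFN ⟨_, Subgroup.mem_subgroupOf.1 h2⟩ (g * x)
    show F _ = _
    rw [← h3]
    congr 1
    rw [Subgroup.coe_mul, Subgroup.coe_inv]
    group
  -- the map `g ↦ g⁻¹ (x g x⁻¹)`
  let c : G → G := fun g => g⁻¹ * MulAut.conjNormal x g
  have hcF : ∀ g : G, F (c g * x) = F x := by
    intro g
    have h1 : ((c g : G) : Γ) * x = (g : Γ)⁻¹ * x * (g : Γ)⁻¹⁻¹ := by
      show ((g⁻¹ * MulAut.conjNormal x g : G) : Γ) * x = _
      rw [Subgroup.coe_mul, MulAut.conjNormal_apply, Subgroup.coe_inv]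
      group
    rw [h1, hFc]
  let cb : G ⧸ B → G ⧸ B := fun q => ((c (Quotient.out q) : G) : G ⧸ B)
  have hcb : ∀ g : G, cb (g : G ⧸ B) = (c g : G ⧸ B) := by
    intro g
    have h1 : ((Quotient.out (g : G ⧸ B) : G) : G ⧸ B) = g := Quotient.out_eq _
    rw [QuotientGroup.eq] at h1
    have h1' : (Quotient.out (g : G ⧸ B) : G)⁻¹ * g ∈ B := h1
    obtain ⟨b, hb⟩ : ∃ b : G, b = (Quotient.out (g : G ⧸ B) : G)⁻¹ * g := ⟨_, rfl⟩
    rw [← hb] at h1'
    have hg : g = Quotient.out (g : G ⧸ B) * b := by rw [hb]; group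
    set o : G := Quotient.out (g : G ⧸ B) with ho
    show ((c o : G) : G ⧸ B) = (c g : G ⧸ B)
    have hconj : MulAut.conjNormal x b ∈ B := by
      rw [Subgroup.mem_subgroupOf, MulAut.conjNormal_apply]
      exact hN.conj_mem _ (Subgroup.mem_subgroupOf.1 h1') x
    have h2 : c g = b⁻¹ * (c o * MulAut.conjNormal x b) := by
      show g⁻¹ * MulAut.conjNormal x g = b⁻¹ * (o⁻¹ * MulAut.conjNormal x o * MulAut.conjNormal x b)
      conv_lhs => rw [hg]
      rw [map_mul]
      group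
    rw [h2]
    have h3 : ((b : G) : G ⧸ B) = 1 := (QuotientGroup.eq_one_iff b).2 h1'
    have h4 : ((MulAut.conjNormal x b : G) : G ⧸ B) = 1 := (QuotientGroup.eq_one_iff _).2 hconj
    show _ = (b : G ⧸ B)⁻¹ * ((c o : G ⧸ B) * ((MulAut.conjNormal x b : G) : G ⧸ B))
    rw [h3, h4, inv_one, one_mul, mul_one]
  have hinj : Function.Injective cb := by
    intro q r hqr
    obtain ⟨g, rfl⟩ := QuotientGroup.mk_surjective q
    obtain ⟨k, rfl⟩ := QuotientGroup.mk_surjective r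
    have h0 : cb (g : G ⧸ B) = cb (k : G ⧸ B) := hqr
    rw [hcb, hcb, QuotientGroup.eq, Subgroup.mem_subgroupOf] at h0
    -- c g⁻¹ c k ∈ N
    have h1 : ((c g)⁻¹ * c k : G) = (MulAut.conjNormal x g)⁻¹ * (g * k⁻¹) * MulAut.conjNormal x k := by
      show (g⁻¹ * MulAut.conjNormal x g)⁻¹ * (k⁻¹ * MulAut.conjNormal x k) = _
      group
    rw [h1] at h0
    have h2 : x * (g * (k : Γ)⁻¹)⁻¹ * x⁻¹ * ((g * (k : Γ)⁻¹)⁻¹)⁻¹ ∈ N := by
      have h3 := hN.conj_mem _ h0 ((MulAut.conjNormal x k : G) : Γ)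
      convert h3 using 1
      simp only [Subgroup.coe_mul, Subgroup.coe_inv, MulAut.conjNormal_apply]
      group
    have h3 := hx (g * (k : Γ)⁻¹)⁻¹ (G.inv_mem (G.mul_mem g.2 (G.inv_mem k.2))) h2
    show (g : G ⧸ B) = (k : G ⧸ B)
    have h4 : ((g * k⁻¹ : G) : G ⧸ B) = 1 := by
      rw [QuotientGroup.eq_one_iff, Subgroup.mem_subgroupOf]
      have := N.inv_mem h3
      rw [inv_inv] at this
      exact this
    have h5 : (g : G ⧸ B) * (k : G ⧸ B)⁻¹ = 1 := h4
    exact mul_inv_eq_one.1 h5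
  have hbij : Function.Bijective cb := Finite.injective_iff_bijective.1 hinj
  have e1 : ∑ g : G, F (g * x) = ∑ g : G, F (c g * x) := by
    have h1 : ∑ g : G, F (g * x) = ∑ g : G, h (g : G ⧸ B) :=
      Finset.sum_congr rfl fun g _ => (hh g).symm
    have h2 : ∑ g : G, F (c g * x) = ∑ g : G, (h ∘ cb) (g : G ⧸ B) :=
      Finset.sum_congr rfl fun g _ => by rw [Function.comp_apply, hcb, hh]
    rw [h1, h2, sum_comp_mk, sum_comp_mk]
    congr 1
    exact (Function.Bijective.sum_comp hbij h).symm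
  have e2 : ∑ g : G, F (c g * x) = (Nat.card G : ℂ) * F x := by
    rw [Finset.sum_congr rfl (fun g _ => hcF g), Finset.sum_const, nsmul_eq_mul,
      Finset.card_univ, Nat.card_eq_fintype_card]
  have e3 : ∑ g : G, F (g * x) = (Nat.card N : ℂ) * ∑ g : G, f (g * x) := by
    show ∑ g : G, ∑ n : N, f (n * (g * x)) = _
    rw [Finset.sum_comm]
    have h1 : ∀ n : N, ∑ g : G, f (n * (g * x)) = ∑ g : G, f (g * x) := by
      intro n
      refine Fintype.sum_equiv (Equiv.mulLeft (⟨n, hNG n.2⟩ : G)) _ _ fun g => ?_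
      show f (n * (g * x)) = f (((⟨n, hNG n.2⟩ * g : G) : Γ) * x)
      rw [Subgroup.coe_mul, mul_assoc]
    rw [Finset.sum_congr rfl (fun n _ => h1 n), Finset.sum_const, nsmul_eq_mul,
      Finset.card_univ, Nat.card_eq_fintype_card]
  rw [← e3, e1, e2]

/-- Let N ≤ G be normal subgroups of the finite group Γ with Γ/G cyclic and Γ/N a Frobenius group with kernel G/N: G ≠ Γ, N ≠ G, and no element of Γ outside G fixes a non-identity coset of N in G under conjugation. Let ϑ be an irreducible character of N invariant under conjugation by Γ and suppose ϑ is fully ramified in G: the character of G induced from ϑ equals e·χ for an irreducible character χ of G and a natural number e. Then the index of G in Γ divides e − 1 or e + 1. -/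
theorem result {Γ : Type*} [Group Γ] [Fintype Γ] (G N : Subgroup Γ) [hG : G.Normal] [hN : N.Normal] [Fintype G] [Fintype N] (hNG : N ≤ G) (hGlt : G ≠ ⊤) (hNlt : N ≠ G) (hcyc : IsCyclic (Γ ⧸ G)) (hfrob : ∀ x : Γ, x ∉ G → ∀ g : Γ, g ∈ G → x * g * x⁻¹ * g⁻¹ ∈ N → g ∈ N) (θ : Cfsg.IrrCharacter N) (hinv : ∀ (x : Γ) (n : N), (θ : N → ℂ) ⟨x * n * x⁻¹, hN.conj_mem n n.2 x⟩ = (θ : N → ℂ) n) (χ : Cfsg.IrrCharacter G) (e : ℕ) (hram : Cfsg.indFun (N.subgroupOf G) (fun n : N.subgroupOf G => (θ : N → ℂ) ⟨(n : G), n.2⟩) = fun g => (e : ℂ) * (χ : G → ℂ) g) : (G.index : ℤ) ∣ (e : ℤ) - 1 ∨ (G.index : ℤ) ∣ (e : ℤ) + 1 := by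
  classical
  -- `θ` as a character of `N.subgroupOf G`
  set B : Subgroup G := N.subgroupOf G with hB
  have hBn : B.Normal := hN.subgroupOf G
  set θB : B → ℂ := fun n : B => (θ : N → ℂ) ⟨(n : G), n.2⟩ with hθB
  have := Fintype.ofFinite B
  have hθBirr : IsIrrCharacter B θB := by
    let φ : B →* N :=
      { toFun := fun n => ⟨(n : G), n.2⟩
        map_one' := rfl
        map_mul' := fun _ _ => rfl }
    exact isIrr_comp φ (fun n => ⟨⟨⟨n, hNG n.2⟩, n.2⟩, rfl⟩) θ.2
  have hθBinv : ∀ (g : G) (n : B), θB ⟨g * n * g⁻¹, hBn.conj_mem (n : G) n.2 g⟩ = θB n :=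
    fun g n => hinv g ⟨(n : G), n.2⟩
  have hee : (e : ℂ) ^ 2 = B.index := by
    have h1 := classInner_indFun_of_invariant B θB θB hθBinv
    rw [hram] at h1
    have h2 : (fun g => (e : ℂ) * (χ : G → ℂ) g) = (e : ℂ) • (χ : G → ℂ) := rfl
    rw [h2, classInner_smul_left, classInner_smul_right, classInner_irr_self χ.2,
      classInner_irr_self hθBirr, Complex.conj_natCast, mul_one, mul_one] at h1
    rw [sq]; exact h1
  have he0 : (e : ℂ) ≠ 0 := by
    intro h
    rw [h] at hee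
    have : (B.index : ℂ) ≠ 0 := Nat.cast_ne_zero.2 Subgroup.index_ne_zero_of_finite
    exact this (by rw [← hee]; ring)
  have hχN : ∀ (g : G) (hg : (g : Γ) ∈ N), (χ : G → ℂ) g = e * (θ : N → ℂ) ⟨g, hg⟩ := by
    intro g hg
    have h1 := indFun_of_invariant B θB hθBinv ⟨g, hg⟩
    rw [hram] at h1
    have h2 : (e : ℂ) * (χ : G → ℂ) g = B.index * (θ : N → ℂ) ⟨g, hg⟩ := h1
    rw [← hee] at h2
    apply mul_left_cancel₀ he0
    rw [h2]; ring
  have hχ0 : ∀ g : G, (g : Γ) ∉ N → (χ : G → ℂ) g = 0 := by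
    intro g hg
    have h1 := CharactersDeep.NormalInd.indFun_of_not_mem B θB (g := g) hg
    rw [hram] at h1
    exact (mul_eq_zero.1 h1).resolve_left he0
  have hχinv : ∀ (x : Γ) (g : G), (χ : G → ℂ) ⟨x * g * x⁻¹, hG.conj_mem g g.2 x⟩ =
      (χ : G → ℂ) g := by
    intro x g
    by_cases hg : (g : Γ) ∈ N
    · rw [hχN g hg, hχN _ (hN.conj_mem _ hg x), hinv x ⟨g, hg⟩]
    · rw [hχ0 g hg, hχ0]
      intro h
      apply hg
      have := hN.conj_mem _ h x⁻¹
      rwa [show x⁻¹ * (x * (g : Γ) * x⁻¹) * x⁻¹⁻¹ = g by group] at this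
  obtain ⟨χ', hχ', hext⟩ := S0886.result G hcyc χ.1 χ.2 hχinv
  have hχ'N : ∀ n : N, χ' n = e * (θ : N → ℂ) n := by
    intro n
    have h1 : χ' n = (χ : G → ℂ) ⟨n, hNG n.2⟩ := hext ⟨n, hNG n.2⟩
    exact h1.trans (hχN ⟨n, hNG n.2⟩ n.2)
  -- the function `|χ'|²`
  set f : Γ → ℂ := fun y => χ' y * conj (χ' y) with hf
  have hfc : ∀ g y : Γ, f (g * y * g⁻¹) = f y := by
    intro g y
    show χ' _ * conj (χ' _) = _
    rw [isIrr_isClassFunction hχ' y g]
  have hsumN : ∀ x : Γ, x ∉ G → ∑ n : N, f (n * x) = Nat.card N := by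
    intro x hx
    have h1 := sum_coset G N hNG x (hfrob x hx) f hfc
    have h2 := CharactersDeep.CosetAverage.cosetAverage_self G χ' hχ'
      (by rw [show (fun n : G => χ' n) = (χ : G → ℂ) from funext hext]; exact χ.2) x
    have h3 : ∑ g : G, f (g * x) = Nat.card G := by
      have h4 : (Nat.card G : ℂ) ≠ 0 := Nat.cast_ne_zero.2 Nat.card_pos.ne'
      have h5 : (Nat.card G : ℂ) * ((Nat.card G : ℂ)⁻¹ * ∑ g : G, f (g * x)) = Nat.card G := by
        rw [show (Nat.card G : ℂ)⁻¹ * ∑ g : G, f (g * x) = 1 from h2, mul_one]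
      rwa [mul_inv_cancel_left₀ h4] at h5
    rw [h3, mul_comm] at h1
    have h4 : (Nat.card G : ℂ) ≠ 0 := Nat.cast_ne_zero.2 Nat.card_pos.ne'
    exact (mul_left_cancel₀ h4 h1).symm
  have hsumN1 : ∑ n : N, f n = e ^ 2 * Nat.card N := by
    have h1 : ∀ n : N, f n = e ^ 2 * ((θ : N → ℂ) n * conj ((θ : N → ℂ) n)) := by
      intro n
      show χ' n * conj (χ' n) = _
      rw [hχ'N, map_mul, Complex.conj_natCast]; ring
    rw [Finset.sum_congr rfl (fun n _ => h1 n), ← Finset.mul_sum]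
    have h2 := classInner_irr_self θ.2
    rw [classInner_def] at h2
    have h4 : (Nat.card N : ℂ) ≠ 0 := Nat.cast_ne_zero.2 Nat.card_pos.ne'
    have h5 := congrArg (fun z => (Nat.card N : ℂ) * z) h2
    simp only [mul_inv_cancel_left₀ h4, mul_one] at h5
    rw [h5]
  -- the cyclic supplement
  obtain ⟨q0, hq0⟩ := hcyc.exists_generator
  obtain ⟨x0, rfl⟩ := QuotientGroup.mk_surjective q0
  have hord : orderOf (x0 : Γ ⧸ G) = G.index := orderOf_eq_card_of_forall_mem_zpowers hq0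
  have hx0 : x0 ∉ G := by
    intro h
    apply hGlt
    rw [← Subgroup.index_eq_one, ← hord, (QuotientGroup.eq_one_iff x0).2 h, orderOf_one]
  have hx0N : x0 ^ G.index ∈ N := by
    refine hfrob x0 hx0 _ (Subgroup.pow_index_mem G x0) ?_
    have : x0 * x0 ^ G.index * x0⁻¹ * (x0 ^ G.index)⁻¹ = 1 := by
      rw [← pow_succ', pow_succ, mul_inv_cancel_right, mul_inv_cancel]
    rw [this]; exact N.one_mem
  have hpow : ∀ i : ℤ, x0 ^ i ∈ G → x0 ^ i ∈ N := by
    intro i hi
    have h1 : (x0 : Γ ⧸ G) ^ i = 1 := by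
      rw [← QuotientGroup.mk_zpow]; exact (QuotientGroup.eq_one_iff _).2 hi
    rw [← orderOf_dvd_iff_zpow_eq_one, hord] at h1
    obtain ⟨j, rfl⟩ := h1
    rw [zpow_mul, zpow_natCast]
    exact N.zpow_mem hx0N j
  let U : Subgroup Γ := N ⊔ Subgroup.zpowers x0
  have := Fintype.ofFinite U
  let φ : U →* Γ ⧸ G := (QuotientGroup.mk' G).comp U.subtype
  have hφs : Function.Surjective φ := by
    intro q
    obtain ⟨i, hi⟩ := Subgroup.mem_zpowers_iff.1 (hq0 q)
    refine ⟨⟨x0 ^ i, (le_sup_right : _ ≤ U) ⟨i, rfl⟩⟩, ?_⟩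
    rw [← hi]; rfl
  have hkerG : ∀ u : U, u ∈ φ.ker ↔ (u : Γ) ∈ G := fun u =>
    QuotientGroup.eq_one_iff (u : Γ)
  have hkerN : ∀ u : U, u ∈ φ.ker ↔ (u : Γ) ∈ N := by
    intro u
    rw [hkerG]
    refine ⟨fun hu => ?_, fun hu => hNG hu⟩
    obtain ⟨n, hn, y, hy, hny⟩ := Subgroup.mem_sup_of_normal_left.1 u.2
    obtain ⟨i, rfl⟩ := Subgroup.mem_zpowers_iff.1 hy
    rw [← hny] at hu ⊢
    refine N.mul_mem hn (hpow i ?_)
    exact (Subgroup.mul_mem_cancel_left G (hNG hn)).1 hu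
  have hidx : φ.ker.index = G.index := by
    rw [Subgroup.index_ker, MonoidHom.range_eq_top.2 hφs]
    exact Nat.card_congr Subgroup.topEquiv.toEquiv
  have hcycU : IsCyclic (U ⧸ φ.ker) :=
    isCyclic_of_injective (QuotientGroup.kerLift φ) (QuotientGroup.kerLift_injective φ)
  have hidx2 : 2 ≤ φ.ker.index := by
    rw [hidx]
    have h1 : G.index ≠ 0 := Subgroup.index_ne_zero_of_finite
    have h2 : G.index ≠ 1 := fun h => hGlt (Subgroup.index_eq_one.1 h)
    omega
  have := Fintype.ofFinite φ.ker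
  let ι : φ.ker ≃ N :=
    { toFun := fun n => ⟨((n : U) : Γ), (hkerN n.1).1 n.2⟩
      invFun := fun n => ⟨⟨n, (le_sup_left : N ≤ U) n.2⟩, (hkerN _).2 n.2⟩
      left_inv := fun _ => rfl
      right_inv := fun _ => rfl }
  have hιirr : IsIrrCharacter φ.ker (fun n => (θ : N → ℂ) (ι n)) := by
    let ι' : φ.ker →* N :=
      { toFun := ι
        map_one' := rfl
        map_mul' := fun _ _ => rfl }
    exact isIrr_comp ι' ι.surjective θ.2
  have hcardker : Nat.card φ.ker = Nat.card N := Nat.card_congr ι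
  have hkey := H596.FrobRam.congr_of_norm φ.ker hcycU hidx2 (fun n => (θ : N → ℂ) (ι n)) hιirr
    (fun g n => hinv (g : Γ) (ι n)) (fun u : U => χ' u)
    (Characters.Clifford.isCharacter_restrict U (isIrr_isCharacter hχ')) e
    (fun n => hχ'N (ι n)) ?_
  · rwa [hidx] at hkey
  -- the norm
  have hcU : (Nat.card U : ℂ) ≠ 0 := Nat.cast_ne_zero.2 Nat.card_pos.ne'
  have hcN : (Nat.card N : ℂ) ≠ 0 := Nat.cast_ne_zero.2 Nat.card_pos.ne'
  have hUN : (Nat.card N : ℂ) * φ.ker.index = Nat.card U := by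
    rw [← hcardker]
    exact_mod_cast Subgroup.card_mul_index φ.ker
  have hS : (Nat.card N : ℂ) * ∑ u : U, f u =
      Nat.card N * (e ^ 2 * Nat.card N + (Nat.card U - Nat.card N)) := by
    have h1 : ∑ u : U, ∑ n : N, f (n * u) = (Nat.card N : ℂ) * ∑ u : U, f u := by
      rw [Finset.sum_comm]
      have h2 : ∀ n : N, ∑ u : U, f (n * u) = ∑ u : U, f u := by
        intro n
        refine Fintype.sum_equiv (Equiv.mulLeft (⟨n, (le_sup_left : N ≤ U) n.2⟩ : U)) _ _
          fun u => ?_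
        rfl
      rw [Finset.sum_congr rfl (fun n _ => h2 n), Finset.sum_const, nsmul_eq_mul,
        Finset.card_univ, Nat.card_eq_fintype_card]
    have h2 : ∀ u : U, ∑ n : N, f (n * u) =
        if u ∈ φ.ker then (e : ℂ) ^ 2 * Nat.card N else (Nat.card N : ℂ) := by
      intro u
      split_ifs with hu
      · have hu' := (hkerN u).1 hu
        rw [← hsumN1]
        exact Fintype.sum_equiv (Equiv.mulRight (⟨u, hu'⟩ : N)) _ _ fun n => rfl
      · exact hsumN u fun h => hu ((hkerG u).2 h)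
    rw [← h1, Finset.sum_congr rfl (fun u _ => h2 u), Finset.sum_ite, Finset.sum_const,
      Finset.sum_const, nsmul_eq_mul, nsmul_eq_mul]
    have h3 : ((Finset.univ.filter (fun u : U => u ∈ φ.ker)).card : ℂ) = Nat.card N := by
      rw [← hcardker, ← Nat.card_eq_finsetCard]
      congr 1
      exact Nat.card_congr (Equiv.subtypeEquivRight fun u => by simp)
    have h4 : ((Finset.univ.filter (fun u : U => ¬ u ∈ φ.ker)).card : ℂ) =
        Nat.card U - Nat.card N := by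
      have h5 := Finset.card_filter_add_card_filter_not (s := (Finset.univ : Finset U))
        (p := fun u : U => u ∈ φ.ker)
      rw [Finset.card_univ, ← Nat.card_eq_fintype_card] at h5
      rw [← h5]
      push_cast
      rw [h3]; ring
    rw [h3, h4]; ring
  have hS' : ∑ u : U, f u = e ^ 2 * Nat.card N + (Nat.card U - Nat.card N) :=
    mul_left_cancel₀ hcN hS
  rw [classInner_def]
  have h6 : ∑ g : U, (fun u : U => χ' u) g * conj ((fun u : U => χ' u) g) = ∑ u : U, f u := rfl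
  rw [h6, hS', ← hUN]
  have h7 : (φ.ker.index : ℂ) ≠ 0 := Nat.cast_ne_zero.2 (by omega)
  field_simp
  ring

end Cfsg.Agent.S4454
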