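import Cfsg.Statements.S2135
import Cfsg.Agent.H72.ModelFacts
import Cfsg.Agent.KFacts.J3

set_option autoImplicit false
open Cfsg

namespace Cfsg.Agent.S2135

open Cfsg.Spor Cfsg.Agent.J2Type.Model Cfsg.Agent.J3Type.OneClass Cfsg.Agent.KFacts.J3W Subgroup
open Cfsg.Agent.J3.Core Cfsg.Agent.J3.Elts Cfsg.Agent.J2Type.CStruct in
/-- the facts for the matrix group over a field in any universe (the proof of `KFacts.J3.exists_facts`) -/
theorem exists_facts {F : Type*} [Field F] [Fintype F] (hF : Fintype.card F = 4) (ω : F) (hω : ω ^ 2 + ω + 1 = 0) :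
    ∃ (z : J3 F ω) (Q : Subgroup (centralizer ({z} : Set (J3 F ω)))) (v : Fin 5 → centralizer ({z} : Set (J3 F ω)))
      (ρ : centralizer ({z} : Set (J3 F ω)) →* SP) (u : centralizer ({z} : Set (J3 F ω))),
      Nat.card (centralizer ({z} : Set (J3 F ω))) = 1920 ∧ IsModel Q (zc z) v ρ ∧
      (∀ t : J3 F ω, t ≠ 1 → t * t = 1 → ∃ g : J3 F ω, g * z * g⁻¹ = t) ∧ u * u = 1 ∧ u ∉ Q := by
  have H := good_of_card hF hω
  obtain ⟨G⟩ := exists_gens hF H
  let f : threeJ3 F ω →* J3 F ω := QuotientGroup.mk' (center (threeJ3 F ω))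
  have hf : Function.Surjective f := QuotientGroup.mk'_surjective _
  have hk : f.ker = center _ := QuotientGroup.ker_mk' _
  have hcK := card_K hF H hf hk
  have hfin : Finite (J3 F ω) := by
    apply Nat.finite_of_card_ne_zero
    rw [hcK]; norm_num
  obtain ⟨⟨-, hcard, -⟩, Q, ρ, M⟩ := j3_model (G := G) hF H hf hk
  let u : centralizer ({f (zz G)} : Set (J3 F ω)) := ⟨f (uu G), mem_centralizer_singleton_iff.2 (hmul (uz H))⟩
  have hconj : ∀ {x : threeJ3 F ω}, (∃ g, g * zz G = x * g) → ∃ g : J3 F ω, g * f (zz G) * g⁻¹ = f x := by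
    rintro x ⟨g, hg⟩
    refine ⟨f g, ?_⟩
    rw [← map_mul, hg, map_mul, mul_inv_cancel_right]
  have huv : ∀ i, u * (⟨f (vv G i), mem_centralizer_singleton_iff.2 (hmul (vz H i))⟩ :
      centralizer ({f (zz G)} : Set (J3 F ω))) =
      zp (zc (f (zz G))) (sg (Cfsg.Agent.J3.Tab.get 0 ua i)) *
      (⟨f (vv G ((Equiv.swap 0 3 * Equiv.swap 2 4 : Equiv.Perm (Fin 5)) i)),
        mem_centralizer_singleton_iff.2 (hmul (vz H _))⟩ : centralizer ({f (zz G)} : Set (J3 F ω))) * u := by
    intro i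
    apply Subtype.ext
    have h1 := congrArg f (ua_eq (G := G) H i)
    rw [map_mul, map_mul, map_mul, f_zp] at h1
    have h2 : ∀ a, ((zp (zc (f (zz G))) a : centralizer ({f (zz G)} : Set (J3 F ω))) : J3 F ω) =
        zp (f (zz G)) a := by
      intro a
      rcases zmod2_cases a with rfl | rfl
      · rw [zp_zero, zp_zero]; rfl
      · rw [zp_one, zp_one]
    show f (uu G) * f (vv G i) = ((zp (zc (f (zz G))) (sg (Cfsg.Agent.J3.Tab.get 0 ua i)) :
      centralizer ({f (zz G)} : Set (J3 F ω))) : J3 F ω) * f (vv G _) * f (uu G)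
    rw [h2]
    exact h1
  have huQ : u ∉ Q := by
    rw [M.mem_Q]
    intro h1
    have h2 := M.conj u 0
    rw [mul_inv_eq_iff_eq_mul, huv 0, h1] at h2
    have h3 := (M.v_inj _ _ _ _ (mul_right_cancel h2)).2
    exact absurd h3 (by decide)
  have huu : u * u = 1 := by
    obtain ⟨g, hg⟩ := hconj (uconj (G := G) H)
    apply Subtype.ext
    show f (uu G) * f (uu G) = 1
    rw [← hg]
    have hzz : f (zz G) * f (zz G) = 1 := by rw [← map_mul, zsq H, map_one]
    calc g * f (zz G) * g⁻¹ * (g * f (zz G) * g⁻¹) = g * (f (zz G) * f (zz G)) * g⁻¹ := by group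
      _ = 1 := by rw [hzz]; group
  have hidx : ¬ 2 ∣ (centralizer ({f (zz G)} : Set (J3 F ω))).index := by
    have h1 := Subgroup.card_mul_index (centralizer ({f (zz G)} : Set (J3 F ω)))
    rw [hcard, hcK] at h1
    omega
  refine ⟨f (zz G), Q, _, ρ, u, hcard, M, ?_, huu, huQ⟩
  intro t ht1 htt
  exact Cfsg.Agent.KFacts.OneClassOf.one_class hidx M (hconj (vconj (G := G) H 0)) huu huQ (hconj (uconj (G := G) H))
    ht1 htt

/-- For any field with 4 elements and any element ω of it with ω² + ω + 1 = 0: in the Janko group J₃ (the group generated by explicit 9 × 9 matrices over that field built from ω, taken modulo its centre) all involutions are conjugate, and the centraliser C of an involution has a normal extraspecial subgroup Q of order 32 containing no elementary abelian subgroup of order 8, complemented in C, with C / Q isomorphic to the alternating group of degree 5 (shape 2^{1+4}_-:A₅). -/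
theorem result {F : Type*} [Field F] [Fintype F] (hF : Fintype.card F = 4) (ω : F) (hω : ω ^ 2 + ω + 1 = 0) : (∀ x y : Cfsg.Spor.J3 F ω, orderOf x = 2 → orderOf y = 2 → IsConj x y) ∧ ∃ t : Cfsg.Spor.J3 F ω, orderOf t = 2 ∧ ∃ (Q : Subgroup ↥(Subgroup.centralizer ({t} : Set (Cfsg.Spor.J3 F ω)))) (_ : Q.Normal), Cfsg.IsExtraspecial 2 Q ∧ Nat.card Q = 32 ∧ (∀ E : Subgroup Q, Cfsg.IsElementaryAbelian 2 E → Nat.card E ≤ 2 ^ 2) ∧ (∃ H : Subgroup ↥(Subgroup.centralizer ({t} : Set (Cfsg.Spor.J3 F ω))), Q.IsComplement' H) ∧ Nonempty (↥(Subgroup.centralizer ({t} : Set (Cfsg.Spor.J3 F ω))) ⧸ Q ≃* ↥(alternatingGroup (Fin 5))) := by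
  obtain ⟨z, Q, v, ρ, u, hC, M, hone, huu, huQ⟩ := exists_facts hF ω hω
  have hinv : ∀ x : Cfsg.Spor.J3 F ω, orderOf x = 2 → x ≠ 1 ∧ x * x = 1 := by
    intro x hx
    constructor
    · rintro rfl
      simp at hx
    · rw [← pow_two, ← hx]; exact pow_orderOf_eq_one x
  refine ⟨fun x y hx hy => ?_, z, ?_, Q, H72.ModelFacts.normal_Q M, H72.ModelFacts.isExtraspecial M,
    H72.ModelFacts.card_Q M, H72.ModelFacts.card_le_four M, H72.ModelFacts.exists_complement M hC huu huQ, ?_⟩
  · obtain ⟨hx1, hx2⟩ := hinv x hx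
    obtain ⟨hy1, hy2⟩ := hinv y hy
    obtain ⟨g, hg⟩ := hone x hx1 hx2
    obtain ⟨k, hk⟩ := hone y hy1 hy2
    exact (isConj_iff.2 ⟨g, hg⟩).symm.trans (isConj_iff.2 ⟨k, hk⟩)
  · refine orderOf_eq_prime ?_ ?_
    · rw [pow_two]; exact congrArg Subtype.val M.z_sq
    · exact fun h => M.z_ne (Subtype.ext h)
  · have := H72.ModelFacts.normal_Q M
    exact H72.ModelFacts.quot_equiv M

end Cfsg.Agent.S2135
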