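import Cfsg.Statements.S3221
import Cfsg.Agent.H314.PSp43Main

set_option autoImplicit false
open Cfsg

namespace Cfsg.Agent.S3221

open Cfsg.Agent.H314

/-- Let F be the field with 3 elements and t₀ an involution of PSp₄(3) = PSp₄(F) lying in the centre of a Sylow 2-subgroup. If G is a finite group of even order that has no subgroup of index 2 and contains an involution t whose centralizer C_G(t) is isomorphic to C_{PSp₄(3)}(t₀), then G ≅ PSp₄(3). -/
theorem result {G : Type*} [Group G] [Finite G] (hev : Even (Nat.card G))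
    (hG : ∀ H : Subgroup G, H.index ≠ 2) {F : Type*} [Field F] [Fintype F] (hF : Fintype.card F = 3)
    (U : Sylow 2 (Cfsg.PSp 2 F)) (t₀ : Cfsg.PSp 2 F) (ht₀ : orderOf t₀ = 2) (ht₀U : t₀ ∈ (U : Subgroup (Cfsg.PSp 2 F)))
    (ht₀c : ∀ u ∈ (U : Subgroup (Cfsg.PSp 2 F)), u * t₀ = t₀ * u) (t : G) (ht : orderOf t = 2)
    (e : ↥(Subgroup.centralizer ({t} : Set G)) ≃* ↥(Subgroup.centralizer ({t₀} : Set (Cfsg.PSp 2 F)))) :
    Nonempty (G ≃* Cfsg.PSp 2 F) := by
  let f : Cfsg.PSp 2 F ≃* Cfsg.PSp 2 Cfsg.Agent.Lib.FieldThree.F3 :=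
    Cfsg.Agent.LieClassical.FieldTransfer.pspCongr 2 (Cfsg.Agent.Lib.FieldThree.equivOfCard hF)
  have hcase := PSp43Case.case9a
  have hne : t₀ ≠ 1 := by
    rintro rfl
    rw [orderOf_one] at ht₀
    norm_num at ht₀
  have hlarge := Cfsg.Agent.KFacts.LargeO2.map f.symm hcase.large
  obtain ⟨m, hm⟩ := CentTransfer.conj_of_central hlarge U hne ht₀U ht₀c
  let α : Cfsg.PSp 2 F ≃* Cfsg.PSp 2 Cfsg.Agent.Lib.FieldThree.F3 := (MulAut.conj m).trans f
  have hα : α t₀ = Cfsg.Agent.KFacts.PSpFourThree.PE.z := by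
    change f (m * t₀ * m⁻¹) = _
    rw [hm]
    exact f.apply_symm_apply _
  have e1 : ↥(Subgroup.centralizer ({t₀} : Set (Cfsg.PSp 2 F))) ≃*
      ↥(Subgroup.centralizer ({Cfsg.Agent.KFacts.PSpFourThree.PE.z} : Set _)) := by
    have h1 : (Subgroup.centralizer ({t₀} : Set (Cfsg.PSp 2 F))).map α.toMonoidHom =
        Subgroup.centralizer ({Cfsg.Agent.KFacts.PSpFourThree.PE.z} : Set _) := by
      rw [← hα]
      ext x
      rw [Subgroup.mem_centralizer_singleton_iff]
      constructor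
      · rintro ⟨y, hy, rfl⟩
        change α y * α t₀ = α t₀ * α y
        rw [← map_mul, ← map_mul, Subgroup.mem_centralizer_singleton_iff.1 hy]
      · intro hx
        refine ⟨α.symm x, Subgroup.mem_centralizer_singleton_iff.2 ?_, α.apply_symm_apply x⟩
        apply α.injective
        rw [map_mul, map_mul, α.apply_symm_apply]
        exact hx
    exact (α.subgroupMap _).trans (MulEquiv.subgroupCongr h1)
  have ht1 : t ≠ 1 := by
    rintro rfl
    rw [orderOf_one] at ht
    norm_num at ht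
  obtain ⟨Q', i', j', k', l', x₁', x₂', s', h⟩ := CentTransfer.case9a_of_cent hcase ht1 (e.trans e1)
  exact PSp43Main.main h hG hF

end Cfsg.Agent.S3221
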