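import Cfsg.Statements.S3309
import Mathlib
import Cfsg.Agent.TwoFusion.IndexTwo

set_option autoImplicit false
open Cfsg

namespace Cfsg.Agent.S3309

open Subgroup
open scoped Pointwise

/-- Conjugation onto an element of the centre of a Sylow subgroup, taking a given `p`-subgroup of the centralizer
into the Sylow subgroup. -/
theorem exists_conj_sylow {G : Type*} [Group G] [Finite G] {p : ℕ} [Fact p.Prime] (S : Sylow p G) {x y : G}
    (hy : ∀ s ∈ (S : Subgroup G), s * y = y * s) (R : Subgroup G) (hR : IsPGroup p R)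
    (hRx : ∀ r ∈ R, r * x = x * r) (hconj : ∃ h : G, h * x * h⁻¹ = y) :
    ∃ g : G, g * x * g⁻¹ = y ∧ ∀ r ∈ R, g * r * g⁻¹ ∈ (S : Subgroup G) := by
  obtain ⟨h, hh⟩ := hconj
  have hSC : (S : Subgroup G) ≤ centralizer ({y} : Set G) := fun s hs =>
    mem_centralizer_singleton_iff.2 (hy s hs)
  have hRC : ∀ r ∈ R, h * r * h⁻¹ ∈ centralizer ({y} : Set G) := by
    intro r hr
    rw [mem_centralizer_singleton_iff, ← hh]
    calc h * r * h⁻¹ * (h * x * h⁻¹) = h * (r * x) * h⁻¹ := by group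
      _ = h * (x * r) * h⁻¹ := by rw [hRx r hr]
      _ = _ := by group
  set R' : Subgroup G := R.map (MulAut.conj h).toMonoidHom with hR'
  have hR'p : IsPGroup p R' := hR.map _
  have hp : IsPGroup p (R'.subgroupOf (centralizer ({y} : Set G))) := hR'p.comap_subtype
  obtain ⟨Q, hQ⟩ := hp.exists_le_sylow
  obtain ⟨c, hc⟩ := MulAction.exists_smul_eq (↥(centralizer ({y} : Set G))) Q (S.subtype hSC)
  refine ⟨(c : G) * h, ?_, fun r hr => ?_⟩
  · have h1 : (c : G) * y = y * (c : G) := mem_centralizer_singleton_iff.1 c.2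
    have h0 : (c : G) * h * x * ((c : G) * h)⁻¹ = (c : G) * (h * x * h⁻¹) * (c : G)⁻¹ := by group
    rw [h0]
    have h2 : (c : G) * (h * x * h⁻¹) * (c : G)⁻¹ = (c : G) * y * (c : G)⁻¹ :=
      congrArg (fun z => (c : G) * z * (c : G)⁻¹) hh
    rw [h2, h1]; group
  · have h1 : (⟨h * r * h⁻¹, hRC r hr⟩ : ↥(centralizer ({y} : Set G))) ∈ Q := hQ (by
      rw [mem_subgroupOf]
      exact ⟨r, hr, rfl⟩)
    have h2 : c * ⟨h * r * h⁻¹, hRC r hr⟩ * c⁻¹ ∈ (S.subtype hSC : Subgroup ↥(centralizer ({y} : Set G))) := by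
      rw [← hc]
      have h0 := smul_mem_pointwise_smul _ (MulAut.conj c) (Q : Subgroup ↥(centralizer ({y} : Set G))) h1
      rw [MulAut.smul_def, MulAut.conj_apply] at h0
      exact h0
    have h3 : (c : G) * (h * r * h⁻¹) * (c : G)⁻¹ ∈ (S : Subgroup G) := h2
    have h4 : (c : G) * h * r * ((c : G) * h)⁻¹ = (c : G) * (h * r * h⁻¹) * (c : G)⁻¹ := by group
    rw [h4]; exact h3

abbrev X := Multiplicative (ZMod 2) × DihedralGroup 4

/-- the generator of the first factor -/
def zz : X := (Multiplicative.ofAdd 1, 1)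
/-- the square of the rotation -/
def cc : X := (1, DihedralGroup.r 2)

/-- The four homomorphisms on the dihedral group. -/
def psi (i : Fin 4) : DihedralGroup 4 → ZMod 2
  | DihedralGroup.r k => (if i = 1 ∨ i = 2 then (k.val : ZMod 2) else 0)
  | DihedralGroup.sr k => (if i = 1 then 1 + (k.val : ZMod 2) else if i = 2 then (k.val : ZMod 2)
      else if i = 3 then 1 else 0)

/-- The homomorphisms on `X` nontrivial on `zz`, trivial on `cc`. -/
def chi (i : Fin 4) : X →* Multiplicative (ZMod 2) where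
  toFun x := Multiplicative.ofAdd (Multiplicative.toAdd x.1 + psi i x.2)
  map_one' := by revert i; decide
  map_mul' := by revert i; decide

/-- The representative of a class of involutions. -/
def rep (x₁ x : X) : X :=
  if x.2 = DihedralGroup.sr 0 ∨ x.2 = DihedralGroup.sr 2 then x₁
  else if x.2 = DihedralGroup.sr 1 ∨ x.2 = DihedralGroup.sr 3 then x₁ * cc else x

theorem cc_eq : (cc : X) = (1, DihedralGroup.r 1) * (1, DihedralGroup.r 1) := by decide

theorem sq_cases : ∀ w : X, w * w = 1 ∨ w * w = cc := by decide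

theorem cc_ne : (cc : X) ≠ 1 := by decide

theorem central_list : ∀ x : X, (∀ w : X, w * x = x * w) → x = 1 ∨ x = cc ∨ x = zz ∨ x = zz * cc := by decide

theorem zz_cc_cc : (zz : X) = zz * cc * cc := by decide

theorem central_cases (x y : X) (hx : ∀ w : X, w * x = x * w) (hy : ∀ w : X, w * y = y * w) (hxy : x ≠ y) :
    x = 1 ∨ y = 1 ∨ x = cc ∨ y = cc ∨ (y = x * cc ∧ x = y * cc) := by
  rcases central_list x hx with h | h | h | h
  · exact Or.inl h
  · exact Or.inr (Or.inr (Or.inl h))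
  · rcases central_list y hy with h' | h' | h' | h'
    · exact Or.inr (Or.inl h')
    · exact Or.inr (Or.inr (Or.inr (Or.inl h')))
    · exact absurd (h.trans h'.symm) hxy
    · exact Or.inr (Or.inr (Or.inr (Or.inr ⟨by rw [h, h'], by rw [h, h']; exact zz_cc_cc⟩)))
  · rcases central_list y hy with h' | h' | h' | h'
    · exact Or.inr (Or.inl h')
    · exact Or.inr (Or.inr (Or.inr (Or.inl h')))
    · exact Or.inr (Or.inr (Or.inr (Or.inr ⟨by rw [h, h']; exact zz_cc_cc, by rw [h, h']⟩)))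
    · exact absurd (h.trans h'.symm) hxy

theorem list0 : ∀ m : X, chi 0 m = 1 → m * m = 1 → m = 1 ∨ m = cc ∨
    (∃ w : X, w * m * w⁻¹ = (1, DihedralGroup.sr 0)) ∨ ∃ w : X, w * m * w⁻¹ = (1, DihedralGroup.sr 1) := by decide

theorem list1 : ∀ m : X, chi 1 m = 1 → m * m = 1 → m = 1 ∨ m = cc ∨
    (∃ w : X, w * m * w⁻¹ = (zz.1, DihedralGroup.sr 0)) ∨ ∃ w : X, w * m * w⁻¹ = (1, DihedralGroup.sr 1) := by
  decide

theorem list2 : ∀ m : X, chi 2 m = 1 → m * m = 1 → m = 1 ∨ m = cc ∨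
    (∃ w : X, w * m * w⁻¹ = (1, DihedralGroup.sr 0)) ∨ ∃ w : X, w * m * w⁻¹ = (zz.1, DihedralGroup.sr 1) := by
  decide

theorem listA : ∀ x : X, (x.2 = DihedralGroup.sr 0 ∨ x.2 = DihedralGroup.sr 2) →
    (∃ w : X, w * x * w⁻¹ = (1, DihedralGroup.sr 0)) ∨ ∃ w : X, w * x * w⁻¹ = (zz.1, DihedralGroup.sr 0) := by
  decide

theorem listB : ∀ x : X, (x.2 = DihedralGroup.sr 1 ∨ x.2 = DihedralGroup.sr 3) →
    (∃ w : X, w * x * w⁻¹ = (1, DihedralGroup.sr 1)) ∨ ∃ w : X, w * x * w⁻¹ = (zz.1, DihedralGroup.sr 1) := by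
  decide

theorem rep_central_z : ∀ x : X, x * x = 1 → ∀ w : X, w * rep zz x = rep zz x * w := by decide

theorem rep_central_zc : ∀ x : X, x * x = 1 → ∀ w : X, w * rep (zz * cc) x = rep (zz * cc) x * w := by decide

set_option synthInstance.maxSize 2000 in
set_option synthInstance.maxHeartbeats 400000 in
theorem final_z' : ∀ u : X, rep zz u = cc → ∀ v : X, rep zz v = zz →
    rep zz (v * u) = zz * cc → v = zz := by decide

set_option synthInstance.maxSize 2000 in
set_option synthInstance.maxHeartbeats 400000 in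
theorem final_zc' : ∀ u : X, rep (zz * cc) u = cc → ∀ v : X, rep (zz * cc) v = zz * cc →
    rep (zz * cc) (v * u) = zz * cc * cc → v = zz * cc := by decide

theorem final_z (u v : X) (_ : u * u = 1) (_ : v * v = 1) (h1 : rep zz u = cc) (h2 : rep zz v = zz)
    (h3 : rep zz (v * u) = zz * cc) : v = zz := final_z' u h1 v h2 h3

theorem final_zc (u v : X) (_ : u * u = 1) (_ : v * v = 1) (h1 : rep (zz * cc) u = cc)
    (h2 : rep (zz * cc) v = zz * cc) (h3 : rep (zz * cc) (v * u) = zz * cc * cc) : v = zz * cc :=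
  final_zc' u h1 v h2 h3

theorem cen_z : ∀ w : X, w * zz = zz * w := by decide
theorem cen_c : ∀ w : X, w * cc = cc * w := by decide
theorem cen_zc : ∀ w : X, w * (zz * cc) = zz * cc * w := by decide
theorem cen_zcc : ∀ w : X, w * (zz * cc * cc) = zz * cc * cc * w := by decide
theorem cc_sq : (cc : X) * cc = 1 := by decide
theorem zz_sq : (zz : X) * zz = 1 := by decide
theorem zc_sq : (zz * cc : X) * (zz * cc) = 1 := by decide
theorem zz_ne_cc : (zz : X) ≠ cc := by decide
theorem zc_ne_cc : (zz * cc : X) ≠ cc := by decide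
theorem zz_ne_zc : (zz : X) ≠ zz * cc := by decide
theorem zc_ne_zcc : (zz * cc : X) ≠ zz * cc * cc := by decide
theorem zcc_ne_cc : (zz * cc * cc : X) ≠ cc := by decide
theorem zcc_sq : (zz * cc * cc : X) * (zz * cc * cc) = 1 := by decide
theorem zz_ne_a : (zz : X) ≠ (1, DihedralGroup.sr 0) := by decide
theorem zc_ne_a : (zz * cc : X) ≠ (1, DihedralGroup.sr 0) := by decide
theorem zz_ne : (zz : X) ≠ 1 := by decide
theorem zc_ne : (zz * cc : X) ≠ 1 := by decide
theorem zcc_ne : (zz * cc * cc : X) ≠ 1 := by decide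
theorem rep_cc_z : rep zz cc = cc := by decide

theorem chi_surj (i : Fin 4) : Function.Surjective (chi i) := by revert i; decide

theorem result {G : Type*} [Group G] [Finite G] (S : Sylow 2 G) (hS : Nonempty (↥(S : Subgroup G) ≃* Multiplicative (ZMod 2) × DihedralGroup 4))
    [IsSimpleGroup G] (hG : ¬ IsMulCommutative G) : False := by
  have h2f : Fact (Nat.Prime 2) := ⟨Nat.prime_two⟩
  obtain ⟨e⟩ := hS
  -- no subgroup of index two
  have hidx : ∀ H : Subgroup G, H.index ≠ 2 := by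
    intro H hH
    have hn : H.Normal := Subgroup.normal_of_index_eq_two hH
    rcases IsSimpleGroup.eq_bot_or_eq_top_of_normal H hn with h | h
    · rw [h, Subgroup.index_bot] at hH
      exact hG (isCyclic_of_prime_card hH).isMulCommutative
    · rw [h, Subgroup.index_top] at hH
      omega
  have hSodd : Odd (S : Subgroup G).index := by
    rw [← Nat.not_even_iff_odd, even_iff_two_dvd]
    exact S.not_dvd_index
  let j : X → G := fun x => ((e.symm x : (S : Subgroup G)) : G)
  have hjS : ∀ x, j x ∈ (S : Subgroup G) := fun x => (e.symm x).2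
  have hjm : ∀ x y, j (x * y) = j x * j y := fun x y => by simp [j]
  have hj1 : j 1 = 1 := by simp [j]
  have hjinj : ∀ x y, j x = j y → x = y := fun x y h => e.symm.injective (Subtype.ext h)
  have hjsurj : ∀ s ∈ (S : Subgroup G), ∃ x, j x = s := fun s hs => ⟨e ⟨s, hs⟩, by simp [j]⟩
  have hjcomm : ∀ x : X, (∀ w : X, w * x = x * w) → ∀ s ∈ (S : Subgroup G), s * j x = j x * s := by
    intro x hx s hs
    obtain ⟨w, rfl⟩ := hjsurj s hs
    rw [← hjm, ← hjm, hx]
  -- squares
  have hsq : ∀ x y : X, x * x = 1 → (∃ g : G, g * j x * g⁻¹ = j y) → y * y = 1 := by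
    rintro x y hx ⟨g, hg⟩
    apply hjinj
    rw [hjm, hj1, ← hg]
    calc g * j x * g⁻¹ * (g * j x * g⁻¹) = g * (j x * j x) * g⁻¹ := by group
      _ = 1 := by rw [← hjm, hx, hj1]; group
  -- fusion in the centre
  have hcen : ∀ x y : X, (∀ w : X, w * x = x * w) → (∀ w : X, w * y = y * w) →
      (∃ g : G, g * j x * g⁻¹ = j y) → x = y := by
    rintro x y hx hy ⟨g, hg⟩
    by_contra hxy
    have h1 : j x ∈ centralizer ((S : Subgroup G) : Set G) := by
      rw [mem_centralizer_iff]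
      exact fun s hs => hjcomm x hx s hs
    have h2 : (g⁻¹)⁻¹ * j x * g⁻¹ ∈ centralizer ((S : Subgroup G) : Set G) := by
      rw [inv_inv, hg, mem_centralizer_iff]
      exact fun s hs => hjcomm y hy s hs
    obtain ⟨n, hn, hn2⟩ := Sylow.conj_eq_normalizer_conj_of_mem_centralizer S (j x) g⁻¹ h1 h2
    rw [inv_inv, hg] at hn2
    have hnS : ∀ s ∈ (S : Subgroup G), n⁻¹ * s * n ∈ (S : Subgroup G) := by
      intro s hs
      have h3 := (mem_normalizer_iff.1 ((normalizer ((S : Subgroup G) : Set G)).inv_mem hn) s).1 hs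
      rwa [inv_inv] at h3
    -- the element `cc` is fixed
    have hc : n⁻¹ * j cc * n = j cc := by
      obtain ⟨w', hw'⟩ := hjsurj _ (hnS _ (hjS ((1, DihedralGroup.r 1) : X)))
      have h3 : n⁻¹ * j cc * n = j (w' * w') := by
        rw [hjm, hw']
        rw [cc_eq, hjm]; group
      rcases sq_cases w' with h6 | h6
      · exfalso
        rw [h6, hj1] at h3
        have h7 : j cc = 1 := by
          calc j cc = n * (n⁻¹ * j cc * n) * n⁻¹ := by group
            _ = 1 := by rw [h3]; group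
        rw [← hj1] at h7
        exact absurd (hjinj _ _ h7) cc_ne
      · rw [h3, h6]
    rcases central_cases x y hx hy hxy with h | h | h | h | ⟨h, h'⟩
    · apply hxy
      rw [h]
      apply hjinj
      rw [hn2, h, hj1]; group
    · apply hxy
      rw [h]
      apply hjinj
      rw [h, hj1] at hn2
      rw [hj1]
      calc j x = n * (n⁻¹ * j x * n) * n⁻¹ := by group
        _ = 1 := by rw [← hn2]; group
    · apply hxy
      rw [h]
      apply hjinj
      rw [hn2, h, hc]
    · apply hxy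
      rw [h]
      apply hjinj
      rw [h] at hn2
      calc j x = n * (n⁻¹ * j x * n) * n⁻¹ := by group
        _ = n * (n⁻¹ * j cc * n) * n⁻¹ := by rw [← hn2, hc]
        _ = j cc := by group
    · -- `n ^ 2` centralizes `x`
      have h3 : n⁻¹ * j y * n = j x := by
        have h0 : j x = j y * j cc := by rw [← hjm, ← h']
        have h00 : j y = j x * j cc := by rw [← hjm, ← h]
        calc n⁻¹ * j y * n = n⁻¹ * (j x * j cc) * n := by rw [h00]
          _ = (n⁻¹ * j x * n) * (n⁻¹ * j cc * n) := by group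
          _ = j y * j cc := by rw [hc, hn2]
          _ = j x := h0.symm
      have h4 : n * n ∈ centralizer ({j x} : Set G) := by
        rw [mem_centralizer_singleton_iff]
        have h5 : n⁻¹ * (n⁻¹ * j x * n) * n = j x := by rw [← hn2, h3]
        calc n * n * j x = n * n * (n⁻¹ * (n⁻¹ * j x * n) * n) := by rw [h5]
          _ = j x * (n * n) := by group
      -- an odd power of `n` is in `S`
      have hnorm : ((S : Subgroup G).subgroupOf (normalizer ((S : Subgroup G) : Set G))).Normal := by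
        rw [normal_subgroupOf_iff_le_normalizer le_normalizer]
      have h6 := Subgroup.pow_index_mem ((S : Subgroup G).subgroupOf (normalizer ((S : Subgroup G) : Set G)))
        ⟨n, hn⟩
      set m := ((S : Subgroup G).subgroupOf (normalizer ((S : Subgroup G) : Set G))).index with hm
      have hmodd : Odd m := by
        have h7 : m ∣ (S : Subgroup G).index := relIndex_dvd_index_of_le le_normalizer
        exact hSodd.of_dvd_nat h7
      have h7 : n ^ m ∈ (S : Subgroup G) := by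
        rw [mem_subgroupOf] at h6
        exact h6
      have h8 : n ^ m ∈ centralizer ({j x} : Set G) := by
        rw [mem_centralizer_singleton_iff]
        exact hjcomm x hx _ h7
      obtain ⟨k, hk⟩ := hmodd
      have h9 : n ∈ centralizer ({j x} : Set G) := by
        have h10 : n = n ^ m * ((n * n) ^ k)⁻¹ := by
          rw [hk, pow_succ, pow_mul, pow_two]
          rw [mul_assoc]
          have : n * ((n * n) ^ k)⁻¹ = ((n * n) ^ k)⁻¹ * n := by
            have hcom : Commute n (n * n) := (Commute.refl n).mul_right (Commute.refl n)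
            exact ((hcom.pow_right k).inv_right).eq
          rw [this, mul_inv_cancel_left]
        rw [h10]
        exact mul_mem h8 (inv_mem (pow_mem h4 k))
      rw [mem_centralizer_singleton_iff] at h9
      apply hxy
      apply hjinj
      rw [hn2, mul_assoc, ← h9, inv_mul_cancel_left]
  -- the maximal subgroups
  have htr : ∀ (i : Fin 4) (u : X), u * u = 1 → ∃ m : X, chi i m = 1 ∧ ∃ g : G, g * j u * g⁻¹ = j m := by
    intro i u hu
    have hsur : Function.Surjective (chi i) := chi_surj i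
    let f : (S : Subgroup G) →* Multiplicative (ZMod 2) := (chi i).comp e.toMonoidHom
    have hf : Function.Surjective f := hsur.comp e.surjective
    have hk : f.ker.index = 2 := by
      rw [Subgroup.index_ker, MonoidHom.range_eq_top.2 hf, Subgroup.card_top]
      simp
    obtain ⟨g, h, hg⟩ := Cfsg.Agent.TwoFusion.IndexTwo.exists_conj_mem hidx (S : Subgroup G) hSodd f.ker hk
      (e.symm u) (by rw [← map_mul, hu, map_one])
    refine ⟨e ⟨_, h⟩, hg, g⁻¹, ?_⟩
    simp [j]
  have hRsymm : ∀ x y : X, (∃ g : G, g * j x * g⁻¹ = j y) → ∃ g : G, g * j y * g⁻¹ = j x := by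
    rintro x y ⟨g, hg⟩
    exact ⟨g⁻¹, by rw [← hg]; group⟩
  have hRtrans : ∀ x y z : X, (∃ g : G, g * j x * g⁻¹ = j y) → (∃ g : G, g * j y * g⁻¹ = j z) →
      ∃ g : G, g * j x * g⁻¹ = j z := by
    rintro x y z ⟨g, hg⟩ ⟨h, hh⟩
    exact ⟨h * g, by rw [← hh, ← hg]; group⟩
  have hRconj : ∀ x y : X, (∃ w : X, w * x * w⁻¹ = y) → ∃ g : G, g * j x * g⁻¹ = j y := by
    rintro x y ⟨w, rfl⟩
    refine ⟨j w, ?_⟩
    have : j w⁻¹ = (j w)⁻¹ := by simp [j]
    rw [hjm, hjm, this]
  -- the general step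
  have hone : ∀ x y : X, x ≠ 1 → (∃ g : G, g * j x * g⁻¹ = j y) → y ≠ 1 := by
    rintro x y hx ⟨g, hg⟩ rfl
    apply hx
    apply hjinj
    rw [hj1] at hg ⊢
    calc j x = g⁻¹ * (g * j x * g⁻¹) * g := by group
      _ = 1 := by rw [hg]; group
  have key : ∀ x₁ : X, (∀ w : X, w * x₁ = x₁ * w) → (∀ w : X, w * (x₁ * cc) = x₁ * cc * w) →
      x₁ * x₁ = 1 → (x₁ * cc) * (x₁ * cc) = 1 → x₁ ≠ 1 → x₁ * cc ≠ 1 → x₁ ≠ cc → x₁ * cc ≠ cc → x₁ ≠ x₁ * cc →
      x₁ ≠ (1, DihedralGroup.sr 0) →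
      (∀ x : X, x * x = 1 → ∀ w : X, w * rep x₁ x = rep x₁ x * w) →
      (∀ u v : X, u * u = 1 → v * v = 1 → rep x₁ u = cc → rep x₁ v = x₁ →
        rep x₁ (v * u) = x₁ * cc → v = x₁) →
      (∃ g : G, g * j x₁ * g⁻¹ = j (1, DihedralGroup.sr 0)) →
      (∃ g : G, g * j (x₁ * cc) * g⁻¹ = j (1, DihedralGroup.sr 1)) → False := by
    intro x₁ c1 c2 s1 s2 n1 n2 n3 n4 n5 n6 hrc hfin hA hB
    -- the other classes
    have hA1 : ∃ g : G, g * j x₁ * g⁻¹ = j (zz.1, DihedralGroup.sr 0) := by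
      obtain ⟨m, hm, hm2⟩ := htr 1 x₁ s1
      rcases list1 m hm (hsq _ _ s1 hm2) with h | h | h | h
      · exact absurd h (hone _ _ n1 hm2)
      · exact absurd (hcen x₁ cc c1 cen_c (h ▸ hm2)) n3
      · exact hRtrans _ _ _ hm2 (hRconj _ _ h)
      · exact absurd (hcen _ _ c1 c2 (hRtrans _ _ _ (hRtrans _ _ _ hm2 (hRconj _ _ h)) (hRsymm _ _ hB))) n5
    have hB1 : ∃ g : G, g * j (x₁ * cc) * g⁻¹ = j (zz.1, DihedralGroup.sr 1) := by
      obtain ⟨m, hm, hm2⟩ := htr 2 (x₁ * cc) s2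
      rcases list2 m hm (hsq _ _ s2 hm2) with h | h | h | h
      · exact absurd h (hone _ _ n2 hm2)
      · exact absurd (hcen _ cc c2 cen_c (h ▸ hm2)) n4
      · exact absurd (hcen _ _ c2 c1 (hRtrans _ _ _ (hRtrans _ _ _ hm2 (hRconj _ _ h)) (hRsymm _ _ hA))).symm n5
      · exact hRtrans _ _ _ hm2 (hRconj _ _ h)
    have hrep : ∀ x : X, ∃ g : G, g * j x * g⁻¹ = j (rep x₁ x) := by
      intro x
      unfold rep
      split_ifs with h h'
      · rcases listA x h with h'' | h''
        · exact hRtrans _ _ _ (hRconj _ _ h'') (hRsymm _ _ hA)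
        · exact hRtrans _ _ _ (hRconj _ _ h'') (hRsymm _ _ hA1)
      · rcases listB x h' with h'' | h''
        · exact hRtrans _ _ _ (hRconj _ _ h'') (hRsymm _ _ hB)
        · exact hRtrans _ _ _ (hRconj _ _ h'') (hRsymm _ _ hB1)
      · exact ⟨1, by group⟩
    have hrep' : ∀ x y : X, (∀ w : X, w * x = x * w) → x * x = 1 → (∃ g : G, g * j x * g⁻¹ = j y) →
        rep x₁ y = x := by
      intro x y hx hxx hR
      exact (hcen x _ hx (hrc y (hsq _ _ hxx hR)) (hRtrans _ _ _ hR (hrep y))).symm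
    -- the final conjugation
    let R : Subgroup G := ((Subgroup.center X).map e.symm.toMonoidHom).map (S : Subgroup G).subtype
    have hRS : R ≤ (S : Subgroup G) := map_subtype_le _
    have hR2 : IsPGroup 2 R := S.2.to_le hRS
    have hRmem : ∀ x : X, (∀ w : X, w * x = x * w) → j x ∈ R := by
      intro x hx
      exact ⟨e.symm x, ⟨x, Subgroup.mem_center_iff.2 hx, rfl⟩, rfl⟩
    obtain ⟨g, hg, hgR⟩ := exists_conj_sylow S (x := j (1, DihedralGroup.sr 0)) (y := j x₁) (hjcomm x₁ c1) R hR2 (by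
      rintro _ ⟨_, ⟨x, hx, rfl⟩, rfl⟩
      have h1 := Subgroup.mem_center_iff.1 hx ((1, DihedralGroup.sr 0) : X)
      change j x * j _ = j _ * j x
      rw [← hjm, ← hjm, h1]) (hRsymm _ _ hA)
    obtain ⟨u, hu⟩ := hjsurj _ (hgR _ (hRmem cc cen_c))
    obtain ⟨v, hv⟩ := hjsurj _ (hgR _ (hRmem x₁ c1))
    have hvu : g * j (x₁ * cc) * g⁻¹ = j (v * u) := by
      rw [hjm v u, hu, hv, hjm]; group
    have h1 := hrep' cc u cen_c cc_sq ⟨g, hu.symm⟩
    have h2 := hrep' x₁ v c1 s1 ⟨g, hv.symm⟩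
    have h3 := hrep' (x₁ * cc) (v * u) c2 s2 ⟨g, hvu⟩
    have h4 := hfin u v (hsq _ _ cc_sq ⟨g, hu.symm⟩) (hsq _ _ s1 ⟨g, hv.symm⟩) h1 h2 h3
    rw [h4] at hv
    have h5 : j x₁ = j (1, DihedralGroup.sr 0) := by
      calc j x₁ = g⁻¹ * (g * j x₁ * g⁻¹) * g := by group
        _ = g⁻¹ * (g * j (1, DihedralGroup.sr 0) * g⁻¹) * g := by rw [← hv, hg]
        _ = _ := by group
    exact n6 (hjinj _ _ h5)
  -- the two cases
  have hstep : ∀ x₁ : X, (∀ w : X, w * x₁ = x₁ * w) → x₁ * x₁ = 1 → x₁ ≠ 1 → x₁ ≠ cc →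
      (∃ g : G, g * j x₁ * g⁻¹ = j (1, DihedralGroup.sr 0)) ∨
        ∃ g : G, g * j x₁ * g⁻¹ = j (1, DihedralGroup.sr 1) := by
    intro x₁ c1 s1 n1 n3
    obtain ⟨m, hm, hm2⟩ := htr 0 x₁ s1
    rcases list0 m hm (hsq _ _ s1 hm2) with h | h | h | h
    · exact absurd h (hone _ _ n1 hm2)
    · exact absurd (hcen x₁ cc c1 cen_c (h ▸ hm2)) n3
    · exact Or.inl (hRtrans _ _ _ hm2 (hRconj _ _ h))
    · exact Or.inr (hRtrans _ _ _ hm2 (hRconj _ _ h))
  rcases hstep zz cen_z zz_sq zz_ne zz_ne_cc with hz | hz <;>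
    rcases hstep (zz * cc) cen_zc zc_sq zc_ne zc_ne_cc with hzc | hzc
  · exact zz_ne_zc (hcen _ _ cen_z cen_zc (hRtrans _ _ _ hz (hRsymm _ _ hzc)))
  · exact key zz cen_z cen_zc zz_sq zc_sq zz_ne zc_ne zz_ne_cc zc_ne_cc zz_ne_zc zz_ne_a rep_central_z final_z
      hz hzc
  · refine key (zz * cc) cen_zc cen_zcc zc_sq zcc_sq zc_ne zcc_ne zc_ne_cc zcc_ne_cc zc_ne_zcc zc_ne_a
      rep_central_zc final_zc hzc ?_
    rw [← zz_cc_cc]
    exact hz
  · exact zz_ne_zc (hcen _ _ cen_z cen_zc (hRtrans _ _ _ hz (hRsymm _ _ hzc)))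

end Cfsg.Agent.S3309
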