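import Cfsg.Statements.S5640
import Cfsg.Agent.H878.CSixFinal

set_option autoImplicit false
open Cfsg

namespace Cfsg.Agent.S5640

/-- For a finite field F of characteristic p and n ≥ 13, let r be a prime different from p, and let R be an r-subgroup of GL_n(F) that acts absolutely irreducibly on F^n, has exponent r if r is odd and 4 if r = 2, and in which every characteristic abelian subgroup is cyclic. Suppose |F| = p^e, where e is the least positive integer for which the order of the centre of R divides p^e − 1. Suppose also that either r and e are odd, the centre of R has order r and R has order r^(1+2m) for some m ≥ 1, or r = 2, e = 1, the centre of R has order 4 and R has order 2^(2+2m) (a third, two-dimensional alternative in the definition cannot occur for n ≥ 13). Then the elements of SL_n(F) normalising R form a maximal subgroup of SL_n(F). -/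
theorem result {F : Type*} [Field F] [Fintype F] (n : ℕ) (hn : 13 ≤ n) (r : ℕ) (R : Subgroup (Matrix.GeneralLinearGroup (Fin n) F)) (hR : Cfsg.Geo.IsLinearSymplecticTypeData r R) : Cfsg.Geo.IsMaximalIn (Cfsg.Geo.specialLinear (Fin n) F) (Cfsg.Geo.subgroupNormalizer R ⊓ Cfsg.Geo.specialLinear (Fin n) F) := 
  Cfsg.Agent.H878.s5640 n hn r R hR

end Cfsg.Agent.S5640
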