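import Cfsg.Statements.S5661
import Cfsg.Agent.H878.CSixFinal

set_option autoImplicit false
open Cfsg

namespace Cfsg.Agent.S5661

/-- Let F be the field with q² elements, q a power of the prime p, and n ≥ 13. Let r be a prime different from p and R an r-subgroup of GL_n(F) consisting of isometries of the standard unitary form, acting absolutely irreducibly on F^n, with exponent r if r is odd and 4 if r = 2, and in which every characteristic abelian subgroup is cyclic. Suppose |F| = p^e where e is the least positive integer for which the order of the centre of R divides p^e − 1, and either r is odd, the centre of R has order r and R has order r^(1+2k) for some k ≥ 1, or r = 2, e = 2, the centre has order 4 and R has order 2^(2+2k). Then the elements of SU_n(q) normalising R form a maximal subgroup of SU_n(q). -/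
theorem result {F : Type*} [Field F] [Fintype F] (n q : ℕ) (hF : Fintype.card F = q ^ 2) (hn : 13 ≤ n) (r : ℕ) (R : Subgroup (Matrix.GeneralLinearGroup (Fin n) F)) (p e k : ℕ) (hR : Cfsg.Geo.IsSymplecticTypeGroup r R) (hirr : Cfsg.Geo.ActsAbsolutelyIrreducibly (Cfsg.Geo.matrixSet R)) (hRD : R ≤ Cfsg.GU n F q) (hrp : r ≠ p) (hmin : Cfsg.Geo.IsMinimalFieldFor (Nat.card (Subgroup.center R)) p e F) (htype : (Odd r ∧ Nat.card (Subgroup.center R) = r ∧ 1 ≤ k ∧ Nat.card R = r ^ (1 + 2 * k)) ∨ (r = 2 ∧ e = 2 ∧ Nat.card (Subgroup.center R) = 4 ∧ Nat.card R = 2 ^ (2 + 2 * k))) : Cfsg.Geo.IsMaximalIn (Cfsg.GU n F q ⊓ Cfsg.Geo.specialLinear (Fin n) F) (Cfsg.Geo.subgroupNormalizer R ⊓ (Cfsg.GU n F q ⊓ Cfsg.Geo.specialLinear (Fin n) F)) := 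
  Cfsg.Agent.H878.s5661 n q hF hn r R p e k hR hirr hRD hrp hmin htype

end Cfsg.Agent.S5661
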