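import Cfsg.Statements.S5669
import Cfsg.Agent.H930.ExtVG
import Cfsg.Agent.H930.PrmH
import Cfsg.Agent.OrdDiv.Table
import Cfsg.Agent.S0000

set_option autoImplicit false
open Cfsg

namespace Cfsg.Agent.S5669

/-- Let F be the field with q² elements and n ≥ 13. Let K be a subfield of the algebra of n × n matrices over F containing the scalars, of odd prime degree r over F, closed under adjoints for the standard unitary form f on F^n (every k in K has some k' in K with f(k u, v) = f(u, k' v)). Then the elements of SU_n(q) normalising K form a maximal subgroup of SU_n(q). -/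
theorem result {F : Type*} [Field F] [Fintype F] (n q : ℕ) (hF : Fintype.card F = q ^ 2) (hn : 13 ≤ n) (r : ℕ) (hr : r.Prime) (hro : Odd r) (K : Subalgebra F (Matrix (Fin n) (Fin n) F)) (hK : Cfsg.Geo.IsFieldSubalgebra r K) (hac : Cfsg.Geo.IsAdjointClosedFor (Cfsg.hermForm n F q) K) : Cfsg.Geo.IsMaximalIn (Cfsg.GU n F q ⊓ Cfsg.Geo.specialLinear (Fin n) F) (Cfsg.Geo.subalgebraNormalizer K ⊓ (Cfsg.GU n F q ⊓ Cfsg.Geo.specialLinear (Fin n) F)) := by
  by_cases h : n = r
  · subst h
    exact Cfsg.Agent.H930.Prm.maximal_of_known Cfsg.Agent.OrdDiv.table hF hr (by omega) (by omega) hK hac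
      (fun L _ => Cfsg.Agent.S0000.result (G := Cfsg.Agent.H926.Cc.Tq L))
  · exact Cfsg.Agent.H930.ExtU.maximal_of_ne hF hr hro (by omega) h (by omega) hK hac

end Cfsg.Agent.S5669
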