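import Cfsg.Statements.S5775
import Cfsg.Agent.H915.SLCases
import Cfsg.Agent.H895.SLThreeFieldFour

set_option autoImplicit false
open Cfsg

namespace Cfsg.Agent.S5775

/-- Every maximal subgroup of SL_3(q) is of one of the listed geometric types or lies in the residual class. Let F be a finite field with q elements and H a maximal subgroup of SL_3(F) (viewed inside GL_3(F)). Then H is the intersection with SL_3(F) of one of: the stabiliser of a proper non-zero subspace; for q ≥ 5, the stabiliser of a decomposition of F^3 into three independent lines; for q ≠ 4, the normaliser of a degree-3 subfield of the matrix algebra; a subfield group for a subfield F₀ with |F| = |F₀|^r, r prime; for q = p ≡ 1 mod 3 prime, the normaliser of an absolutely irreducible 3-subgroup R of exponent 3 with centre of order 3, all of whose characteristic abelian subgroups are cyclic, of order 3^(1+2m) for some m ≥ 1, with F the smallest field of characteristic p containing the cube roots of unity (so R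 is extraspecial of order 27); for q odd, the similarity group of a non-degenerate quadratic form; the similarity group of a non-degenerate unitary form — or else H lies in the residual class of the linear case (modulo scalars H is almost simple, with absolutely irreducible perfect socle preimage realisable over no proper subfield and fixing no non-degenerate quadratic, symplectic or unitary form). -/
theorem result {F : Type*} [Field F] [Fintype F] (H : Subgroup (Matrix.GeneralLinearGroup (Fin 3) F)) (hH : Cfsg.Geo.IsMaximalIn (Cfsg.Geo.specialLinear (Fin 3) F) H) :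
    (∃ W : Submodule F (Fin 3 → F), W ≠ ⊥ ∧ W ≠ ⊤ ∧ H = Cfsg.Geo.subspaceStabilizer W ⊓ Cfsg.Geo.specialLinear (Fin 3) F) ∨
    (5 ≤ Fintype.card F ∧ ∃ D : Fin 3 → Submodule F (Fin 3 → F), Cfsg.Geo.IsMDecomposition 1 D ∧ H = Cfsg.Geo.decompositionStabilizer D ⊓ Cfsg.Geo.specialLinear (Fin 3) F) ∨
    (Fintype.card F ≠ 4 ∧ ∃ K : Subalgebra F (Matrix (Fin 3) (Fin 3) F), Cfsg.Geo.IsFieldSubalgebra 3 K ∧ H = Cfsg.Geo.subalgebraNormalizer K ⊓ Cfsg.Geo.specialLinear (Fin 3) F) ∨
    (∃ (F₀ : Subfield F) (r : ℕ) (P : Matrix.GeneralLinearGroup (Fin 3) F), r.Prime ∧ Fintype.card F = Nat.card F₀ ^ r ∧ H = Cfsg.Geo.subfieldSubgroup F₀ P ⊓ Cfsg.Geo.specialLinear (Fin 3) F) ∨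
    (∃ (p : ℕ) (R : Subgroup (Matrix.GeneralLinearGroup (Fin 3) F)), p.Prime ∧ Fintype.card F = p ∧ p % 3 = 1 ∧ Cfsg.Geo.IsLinearSymplecticTypeData 3 R ∧ H = Cfsg.Geo.subgroupNormalizer R ⊓ Cfsg.Geo.specialLinear (Fin 3) F) ∨
    (Odd (Fintype.card F) ∧ ∃ Q : (Fin 3 → F) → F, Cfsg.Geo.IsNondegenerateQuadraticForm Q ∧ H = Cfsg.Geo.quadSimilarityGroup Q ⊓ Cfsg.Geo.specialLinear (Fin 3) F) ∨
    (∃ (σ : F ≃+* F) (f : (Fin 3 → F) → (Fin 3 → F) → F), Cfsg.Geo.IsUnitaryForm σ f ∧ H = Cfsg.Geo.similarityGroup f ⊓ Cfsg.Geo.specialLinear (Fin 3) F) ∨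
    Cfsg.Geo.InLinearResidualClass H := by
  rcases Cfsg.Agent.H915.sl_cases (n := 3) le_rfl hH with ⟨W, h0, h1, h⟩ | ⟨t, m, D, htm, hD, h5, -, h⟩ |
    ⟨r, K, hr, hr3, hK, h⟩ | ⟨n₁, n₂, e, P, h2, h12, h3, -, -⟩ | ⟨F₀, r, P, hr, hc, h⟩ |
    ⟨r, k, p, e, R, hR, hr, hro, heo, hk, h3, hrp, hmin, -, -, h⟩ | ⟨k, R, -, h3, -⟩ |
    ⟨m, t, e, P, hm, ht, h3, -⟩ | ⟨f, -, hev, -⟩ | ⟨σ, f, hf, h⟩ | ⟨ho, Q, hQ, h⟩ | h
  · exact Or.inl ⟨W, h0, h1, h⟩
  · have ht : t = 3 := by
      have h2 := hD.two_le
      have h1 := hD.pos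
      rcases Nat.lt_or_ge m 2 with hm | hm
      · have : m = 1 := by omega
        subst this; omega
      · exfalso
        nlinarith
    subst ht
    have hm : m = 1 := by omega
    subst hm
    exact Or.inr (Or.inl ⟨h5 rfl, D, hD, h⟩)
  · have hr' : r = 3 := (Nat.prime_dvd_prime_iff_eq hr Nat.prime_three).1 hr3
    subst hr'
    by_cases h4 : Fintype.card F = 4
    · obtain ⟨F₀, P, hc, hle⟩ := Cfsg.Agent.H895.SLThree.field_four h4 hK
      right; right; right; left
      refine ⟨F₀, 2, P, Nat.prime_two, hc, ?_⟩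
      apply Cfsg.Agent.H905.eq_inf_of_isMaximalIn hH (by rw [h]; exact hle)
      exact Cfsg.Agent.H905.not_sl_le_subfieldSubgroup (by rw [Fintype.card_fin])
        (Cfsg.Agent.H905.subfield_ne_top_of_card Nat.prime_two hc) P
    · exact Or.inr (Or.inr (Or.inl ⟨h4, K, hK, h⟩))
  · exfalso
    nlinarith
  · exact Or.inr (Or.inr (Or.inr (Or.inl ⟨F₀, r, P, hr, hc, h⟩)))
  · have hr3 : r = 3 := by
      have h1 : r ∣ 3 := by rw [h3]; exact dvd_pow_self r (by omega)
      exact (Nat.prime_dvd_prime_iff_eq hr Nat.prime_three).1 h1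
    subst hr3
    obtain ⟨hp, hch, hcard, hdvd, hmin'⟩ := hmin
    have he1 : e = 1 := by
      have he0 : 0 < e := heo.pos
      by_contra hne
      have he3 : 3 ≤ e := by
        obtain ⟨j, hj⟩ := heo
        omega
      have h1 := hmin' 1 one_pos (by omega)
      have h2 := hmin' 2 two_pos (by omega)
      have hp3 : ¬ 3 ∣ p := fun h => hrp ((Nat.prime_dvd_prime_iff_eq Nat.prime_three hp).1 h)
      apply h2
      have hp1 := hp.two_le
      have : p % 3 = 1 ∨ p % 3 = 2 := by omega
      obtain ⟨u, hu⟩ : ∃ u, p = 3 * u + p % 3 := ⟨p / 3, by omega⟩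
      have h4 : p ^ 2 % 3 = 1 := by
        rcases this with h | h <;> rw [Nat.pow_mod, h]
      have : 0 < p ^ 2 := by positivity
      omega
    subst he1
    rw [pow_one] at hcard hdvd
    right; right; right; right; left
    refine ⟨p, R, hp, hcard, ?_, hR, h⟩
    have := hp.two_le
    omega
  · exfalso
    have : k ≠ 0 := by rintro rfl; simp at h3
    have h4 : 2 ∣ 3 := by rw [h3]; exact dvd_pow_self 2 this
    omega
  · exfalso
    have : m ^ 2 ≤ m ^ t := Nat.pow_le_pow_right (by omega) ht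
    nlinarith
  · exfalso
    exact absurd hev (by decide)
  · iterate 6 right
    exact Or.inl ⟨σ, f, hf, h⟩
  · iterate 5 right
    exact Or.inl ⟨ho, Q, hQ, h⟩
  · iterate 7 right
    exact h

end Cfsg.Agent.S5775
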