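import Cfsg.Statements.S5795
import Cfsg.Agent.H876.SingMax
import Cfsg.Agent.H876.NondegMax
import Cfsg.Agent.H876.FrameSmall
import Cfsg.Agent.H930.GUSubG
import Cfsg.Agent.H927.OrthMax
import Cfsg.Agent.H878.CSix
import Cfsg.Agent.H821.SuSix
import Cfsg.Agent.H930.PrmH
import Cfsg.Agent.OrdDiv.Table
import Cfsg.Agent.S0000

set_option autoImplicit false
open Cfsg

namespace Cfsg.Agent.S5795

/-- Maximal subgroups of SU_5(q) of geometric type (any prime power q). Let F be the field with q² elements (characteristic p), f the standard unitary form Σ u_i v_i^q on F^5 and SU_5(q) its determinant-one isometry group inside GL_5(F). Each of the following, intersected with SU_5(q), is a maximal subgroup of SU_5(q): (1) the stabiliser of any non-zero subspace on which f vanishes identically (totally isotropic 1- and 2-spaces); (2) the stabiliser of any non-degenerate 1-space or 2-space; (3) the stabiliser of any decomposition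 of F^5 into five mutually orthogonal non-degenerate 1-spaces; (4) for q ≥ 3, the normaliser of any degree-5 subfield of the matrix algebra closed under adjoints for f; (5) every subfield group for a subfield F₀ of odd prime index in F whose F₀-structure carries f; (6) for q odd, every subfield group for the subfield F₀ of index 2 whose F₀-structure carries f (orthogonal type); (7) when q = p with p ≡ 4 mod 5, or q = p² with p ≡ 2 or 3 mod 5, the normaliser of any absolutely irreducible 5-group R of exponent 5, order 125 and centre of order 5 with all characteristic abelian subgroups cyclic, contained in the similarity group of f. -/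
theorem result {F : Type*} [Field F] [Fintype F] (q : ℕ) (hF : Fintype.card F = q ^ 2) :
    (∀ W : Submodule F (Fin 5 → F), W ≠ ⊥ → Cfsg.Geo.IsTotallySingularFor (Cfsg.hermForm 5 F q) W → Cfsg.Geo.IsMaximalIn (Cfsg.GU 5 F q ⊓ Cfsg.Geo.specialLinear (Fin 5) F) (Cfsg.Geo.subspaceStabilizer W ⊓ (Cfsg.GU 5 F q ⊓ Cfsg.Geo.specialLinear (Fin 5) F))) ∧
    (∀ W : Submodule F (Fin 5 → F), W ≠ ⊥ → Cfsg.Geo.IsNondegenerateOn (Cfsg.hermForm 5 F q) W → 2 * Module.finrank F W < 5 → Cfsg.Geo.IsMaximalIn (Cfsg.GU 5 F q ⊓ Cfsg.Geo.specialLinear (Fin 5) F) (Cfsg.Geo.subspaceStabilizer W ⊓ (Cfsg.GU 5 F q ⊓ Cfsg.Geo.specialLinear (Fin 5) F))) ∧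
    (∀ D : Fin 5 → Submodule F (Fin 5 → F), Cfsg.Geo.IsNondegenerateMDecomposition (Cfsg.hermForm 5 F q) 1 D → Cfsg.Geo.IsMaximalIn (Cfsg.GU 5 F q ⊓ Cfsg.Geo.specialLinear (Fin 5) F) (Cfsg.Geo.decompositionStabilizer D ⊓ (Cfsg.GU 5 F q ⊓ Cfsg.Geo.specialLinear (Fin 5) F))) ∧
    (3 ≤ q → ∀ K : Subalgebra F (Matrix (Fin 5) (Fin 5) F), Cfsg.Geo.IsFieldSubalgebra 5 K → Cfsg.Geo.IsAdjointClosedFor (Cfsg.hermForm 5 F q) K → Cfsg.Geo.IsMaximalIn (Cfsg.GU 5 F q ⊓ Cfsg.Geo.specialLinear (Fin 5) F) (Cfsg.Geo.subalgebraNormalizer K ⊓ (Cfsg.GU 5 F q ⊓ Cfsg.Geo.specialLinear (Fin 5) F))) ∧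
    (∀ (F₀ : Subfield F) (r : ℕ) (P : Matrix.GeneralLinearGroup (Fin 5) F), r.Prime → Odd r → Fintype.card F = Nat.card F₀ ^ r → Cfsg.Geo.IsFormRationalStructure (Cfsg.hermForm 5 F q) F₀ 1 P → Cfsg.Geo.IsMaximalIn (Cfsg.GU 5 F q ⊓ Cfsg.Geo.specialLinear (Fin 5) F) (Cfsg.Geo.subfieldSubgroup F₀ P ⊓ (Cfsg.GU 5 F q ⊓ Cfsg.Geo.specialLinear (Fin 5) F))) ∧
    (Odd q → ∀ (F₀ : Subfield F) (P : Matrix.GeneralLinearGroup (Fin 5) F), Fintype.card F = Nat.card F₀ ^ 2 → Cfsg.Geo.IsFormRationalStructure (Cfsg.hermForm 5 F q) F₀ 1 P → Cfsg.Geo.IsMaximalIn (Cfsg.GU 5 F q ⊓ Cfsg.Geo.specialLinear (Fin 5) F) (Cfsg.Geo.subfieldSubgroup F₀ P ⊓ (Cfsg.GU 5 F q ⊓ Cfsg.Geo.specialLinear (Fin 5) F))) ∧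
    (∀ (p : ℕ) (R : Subgroup (Matrix.GeneralLinearGroup (Fin 5) F)), p.Prime → CharP F p → ((q = p ∧ p % 5 = 4) ∨ (q = p ^ 2 ∧ (p % 5 = 2 ∨ p % 5 = 3))) → Cfsg.Geo.IsSymplecticTypeGroup 5 R → Cfsg.Geo.ActsAbsolutelyIrreducibly (Cfsg.Geo.matrixSet R) → R ≤ Cfsg.Geo.similarityGroup (Cfsg.hermForm 5 F q) → Nat.card R = 125 → Nat.card (Subgroup.center R) = 5 → Cfsg.Geo.IsMaximalIn (Cfsg.GU 5 F q ⊓ Cfsg.Geo.specialLinear (Fin 5) F) (Cfsg.Geo.subgroupNormalizer R ⊓ (Cfsg.GU 5 F q ⊓ Cfsg.Geo.specialLinear (Fin 5) F))) := by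
  refine ⟨fun W h0 hW => ?_, fun W h0 hW hd => ?_, fun D hD => ?_, fun h3 K hK hKa => ?_,
    fun F₀ r P hr hro hc hP => ?_, fun hodd F₀ P hc hP => ?_,
    fun p R hp hch hpq hR hirr hRs h125 h5 => ?_⟩
  · exact Cfsg.Agent.H876.Sing.sing_maximal 5 q hF (by omega) (by omega) W h0 hW
  · exact Cfsg.Agent.H876.nondeg_maximal 5 q hF (by omega) (by omega) W h0 hW hd
  · exact Cfsg.Agent.H876.FrameMax.frame_maximal_all hF (by omega) (fun h => absurd h (by omega)) D hD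
  · exact Cfsg.Agent.H930.Prm.maximal_of_known Cfsg.Agent.OrdDiv.table hF (by norm_num) (by norm_num) (by omega) hK hKa
      (fun L _ => Cfsg.Agent.S0000.result (G := Cfsg.Agent.H926.Cc.Tq L))
  · have : Fintype F₀ := Fintype.ofFinite F₀
    exact Cfsg.Agent.H930.GUSub.maximal hF (by omega) hr hro hc hP
  · exact Cfsg.Agent.H927.orthogonal_maximal hF (by omega) hodd F₀ hc P hP
  · obtain ⟨e, hmin⟩ : ∃ e, Cfsg.Geo.IsMinimalFieldFor 5 p e F := by
      rcases hpq with ⟨rfl, hp5⟩ | ⟨rfl, hp5⟩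
      · exact ⟨2, Cfsg.Agent.H821.SuSix.minimal_five_two hp hch hF hp5⟩
      · exact ⟨4, Cfsg.Agent.H821.SuSix.minimal_five_four hp hch (by rw [hF]; ring) hp5⟩
    have hGU := Cfsg.Agent.H821.SuSix.le_GU (r := 5) (by norm_num) (by norm_num) hF hR hRs hmin
    have hmin' : Cfsg.Geo.IsMinimalFieldFor (Nat.card (Subgroup.center R)) p e F := by rw [h5]; exact hmin
    exact Cfsg.Agent.H878.c6_SU_five (k := 1) (by norm_num) hF (by norm_num) hR hirr hGU hmin'
      (Or.inl ⟨by decide, h5, by rw [h125]; norm_num⟩)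


end Cfsg.Agent.S5795
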