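import Cfsg.Statements.S5855
import Cfsg.Agent.H876.SingMax
import Cfsg.Agent.H876.NondegMax
import Cfsg.Agent.H876.FrameMax
import Cfsg.Agent.H927.OrthMax
import Cfsg.Agent.H930.GUSubG
import Cfsg.Agent.H878.CSix
import Cfsg.Agent.H930.PrmH
import Cfsg.Agent.OrdDiv.Table
import Cfsg.Agent.S0000

set_option autoImplicit false
open Cfsg

namespace Cfsg.Agent.S5855

theorem min_eleven {F : Type*} [Field F] [Fintype F] {p q : ℕ} (hF : Fintype.card F = q ^ 2) (hp : p.Prime) (hch : CharP F p)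
    (hq : (q = p ∧ p % 11 = 10) ∨ (q = p ^ 5 ∧ (p % 11 = 2 ∨ p % 11 = 6 ∨ p % 11 = 7 ∨ p % 11 = 8))) :
    ∃ e, Cfsg.Geo.IsMinimalFieldFor 11 p e F := by
  have hpos : ∀ d, 1 ≤ p ^ d := fun d => Nat.one_le_pow _ _ hp.pos
  rcases hq with ⟨rfl, h⟩ | ⟨rfl, h⟩
  · refine ⟨2, hp, hch, hF, ?_, ?_⟩
    · have h1 : q ^ 2 % 11 = 1 := by rw [Nat.pow_mod, h]
      exact (Nat.modEq_iff_dvd' (hpos 2)).1 (show 1 % 11 = q ^ 2 % 11 by rw [h1])
    · intro d h0 h2 hd
      have hd1 : d = 1 := by omega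
      subst hd1
      have h1 : 1 % 11 = q ^ 1 % 11 := (Nat.modEq_iff_dvd' (hpos 1)).2 hd
      rw [pow_one, h] at h1
      omega
  · refine ⟨10, hp, hch, by rw [hF, ← pow_mul], ?_, ?_⟩
    · have h1 : p ^ 10 % 11 = 1 := by rcases h with h | h | h | h <;> rw [Nat.pow_mod, h]
      exact (Nat.modEq_iff_dvd' (hpos 10)).1 (show 1 % 11 = p ^ 10 % 11 by rw [h1])
    · intro d h0 h2 hd
      have h1 : 1 % 11 = p ^ d % 11 := (Nat.modEq_iff_dvd' (hpos d)).2 hd
      rw [Nat.pow_mod] at h1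
      rcases h with h | h | h | h <;> rw [h] at h1 <;> interval_cases d <;> revert h1 <;> decide

/-- Maximal subgroups of SU_11(q) of geometric type (any prime power q). Let F be the field with q² elements (characteristic p), f the standard unitary form Σ u_i v_i^q on F^11 and SU_11(q) its determinant-one isometry group inside GL_11(F). Each of the following, intersected with SU_11(q), is a maximal subgroup of SU_11(q): (1) the stabiliser of any non-zero subspace on which f vanishes identically (totally isotropic subspaces, of dimension 1 to 5); (2) the stabiliser of any non-zero non-degenerate subspace W with 2 dim W < 11 (dimension 1 to 5); (3) the stabiliser of any decomposition of F^11 into 11 mutually orthogonal non-degenerate 1-spaces; (4) the normaliser of any degree-11 subfield of the matrix algebra closed under adjoints for f; (5) every subfield group for a subfield F₀ of odd prime index in F whose F₀-structure carries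 f; (6) for q odd, every subfield group for the subfield F₀ of index 2 whose F₀-structure carries f (orthogonal type); (7) for q = p with p ≡ 10 mod 11, or q = p⁵ with p ≡ 2, 6, 7 or 8 mod 11, the normaliser of any absolutely irreducible 11-group R of exponent 11, order 11³ and centre of order 11 with all characteristic abelian subgroups cyclic, consisting of isometries of f. -/
theorem result {F : Type*} [Field F] [Fintype F] (q : ℕ) (hF : Fintype.card F = q ^ 2) :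
    (∀ W : Submodule F (Fin 11 → F), W ≠ ⊥ → Cfsg.Geo.IsTotallySingularFor (Cfsg.hermForm 11 F q) W → Cfsg.Geo.IsMaximalIn (Cfsg.GU 11 F q ⊓ Cfsg.Geo.specialLinear (Fin 11) F) (Cfsg.Geo.subspaceStabilizer W ⊓ (Cfsg.GU 11 F q ⊓ Cfsg.Geo.specialLinear (Fin 11) F))) ∧
    (∀ W : Submodule F (Fin 11 → F), W ≠ ⊥ → Cfsg.Geo.IsNondegenerateOn (Cfsg.hermForm 11 F q) W → 2 * Module.finrank F W < 11 → Cfsg.Geo.IsMaximalIn (Cfsg.GU 11 F q ⊓ Cfsg.Geo.specialLinear (Fin 11) F) (Cfsg.Geo.subspaceStabilizer W ⊓ (Cfsg.GU 11 F q ⊓ Cfsg.Geo.specialLinear (Fin 11) F))) ∧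
    (∀ D : Fin 11 → Submodule F (Fin 11 → F), Cfsg.Geo.IsNondegenerateMDecomposition (Cfsg.hermForm 11 F q) 1 D → Cfsg.Geo.IsMaximalIn (Cfsg.GU 11 F q ⊓ Cfsg.Geo.specialLinear (Fin 11) F) (Cfsg.Geo.decompositionStabilizer D ⊓ (Cfsg.GU 11 F q ⊓ Cfsg.Geo.specialLinear (Fin 11) F))) ∧
    (∀ K : Subalgebra F (Matrix (Fin 11) (Fin 11) F), Cfsg.Geo.IsFieldSubalgebra 11 K → Cfsg.Geo.IsAdjointClosedFor (Cfsg.hermForm 11 F q) K → Cfsg.Geo.IsMaximalIn (Cfsg.GU 11 F q ⊓ Cfsg.Geo.specialLinear (Fin 11) F) (Cfsg.Geo.subalgebraNormalizer K ⊓ (Cfsg.GU 11 F q ⊓ Cfsg.Geo.specialLinear (Fin 11) F))) ∧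
    (∀ (F₀ : Subfield F) (r : ℕ) (P : Matrix.GeneralLinearGroup (Fin 11) F), r.Prime → Odd r → Fintype.card F = Nat.card F₀ ^ r → Cfsg.Geo.IsFormRationalStructure (Cfsg.hermForm 11 F q) F₀ 1 P → Cfsg.Geo.IsMaximalIn (Cfsg.GU 11 F q ⊓ Cfsg.Geo.specialLinear (Fin 11) F) (Cfsg.Geo.subfieldSubgroup F₀ P ⊓ (Cfsg.GU 11 F q ⊓ Cfsg.Geo.specialLinear (Fin 11) F))) ∧
    (Odd q → ∀ (F₀ : Subfield F) (P : Matrix.GeneralLinearGroup (Fin 11) F), Fintype.card F = Nat.card F₀ ^ 2 → Cfsg.Geo.IsFormRationalStructure (Cfsg.hermForm 11 F q) F₀ 1 P → Cfsg.Geo.IsMaximalIn (Cfsg.GU 11 F q ⊓ Cfsg.Geo.specialLinear (Fin 11) F) (Cfsg.Geo.subfieldSubgroup F₀ P ⊓ (Cfsg.GU 11 F q ⊓ Cfsg.Geo.specialLinear (Fin 11) F))) ∧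
    (∀ (p : ℕ) (R : Subgroup (Matrix.GeneralLinearGroup (Fin 11) F)), p.Prime → CharP F p → ((q = p ∧ p % 11 = 10) ∨ (q = p ^ 5 ∧ (p % 11 = 2 ∨ p % 11 = 6 ∨ p % 11 = 7 ∨ p % 11 = 8))) → Cfsg.Geo.IsSymplecticTypeGroup 11 R → Cfsg.Geo.ActsAbsolutelyIrreducibly (Cfsg.Geo.matrixSet R) → R ≤ Cfsg.GU 11 F q → Nat.card R = 1331 → Nat.card (Subgroup.center R) = 11 → Cfsg.Geo.IsMaximalIn (Cfsg.GU 11 F q ⊓ Cfsg.Geo.specialLinear (Fin 11) F) (Cfsg.Geo.subgroupNormalizer R ⊓ (Cfsg.GU 11 F q ⊓ Cfsg.Geo.specialLinear (Fin 11) F))) := by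
  refine ⟨fun W hW0 hW => H876.Sing.sing_maximal 11 q hF (by norm_num) (by norm_num) W hW0 hW,
    fun W hW0 hW hd => H876.nondeg_maximal 11 q hF (by norm_num) (by norm_num) W hW0 hW hd,
    fun D hD => H876.FrameMax.frame_maximal_eight hF (by norm_num) D hD,
    fun K hK hA => ?_,
    fun F₀ r P hr hro hc hP => (by
      haveI : Fintype F₀ := Fintype.ofFinite F₀
      exact H930.GUSub.maximal hF (by norm_num) hr hro hc hP),
    fun hodd F₀ P hc hP => H927.orthogonal_maximal hF (by norm_num) hodd F₀ hc P hP,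
    fun p R hp hch hq hR hirr hRu hcard hcen => ?_⟩
  · exact H930.Prm.maximal_of_known OrdDiv.table hF (by norm_num) (by norm_num) (by norm_num) hK hA
      (fun L _ => S0000.result (G := H926.Cc.Tq L))
  · obtain ⟨e, hmin⟩ := min_eleven hF hp hch hq
    exact H878.c6_SU_five (k := 1) (by norm_num) hF (by norm_num) hR hirr hRu (by rw [hcen]; exact hmin)
      (Or.inl ⟨by decide, hcen, by rw [hcard]; norm_num⟩)

end Cfsg.Agent.S5855
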