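import Cfsg.Statements.S2341
import Cfsg.Agent.H121.E6Inst
import Cfsg.Agent.H121.E6Num
import Cfsg.Agent.H121.F4Min
import Cfsg.Agent.S0135
import Cfsg.Agent.S1066
import Cfsg.Agent.S1070

set_option autoImplicit false
open Cfsg

namespace Cfsg.Agent.S2341

/-- For the twisted group ²E₆(q), realised over the field with q² elements (q a prime power), every irreducible complex representation of degree at least 2 has degree at least q(q⁶ − q³ + 1)(q⁴ + 1). -/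
theorem result {K : Type*} [Field K] [Fintype K] (q : ℕ) (hq : IsPrimePow q) (hK : Fintype.card K = q ^ 2) :
    (∀ (k : ℕ) (ρ : Representation ℂ (Cfsg.Lie.twistedE6 K q) (Fin k → ℂ)), ρ.IsIrreducible → 2 ≤ k → q * (q ^ 6 - q ^ 3 + 1) * (q ^ 4 + 1) ≤ k) := by
  intro k ρ hρ hk
  have hs : IsSimpleGroup ↥(Cfsg.Lie.twistedE6 K q) := (Cfsg.Agent.S1070.result hq hK).1
  obtain ⟨φ, hφ, hqq⟩ := Cfsg.Agent.ChevalleyStructure.TwE6Basic.exists_frob hq hK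
  have hφφ : ∀ t, φ (φ t) = t := fun t => by rw [hφ, hφ, hqq]
  let σ : K ≃+* K := RingEquiv.ofBijective φ (Finite.injective_iff_bijective.1 φ.injective)
  have hσφ : ∀ x, σ x = φ x := fun x => rfl
  have hσ : ∀ x, σ x = x ^ q := fun x => hφ x
  have hinv : Cfsg.Agent.H121.Quad.Inv σ := ⟨fun x => hφφ x⟩
  have hK' : Nat.card K = q ^ 2 := by rw [Nat.card_eq_fintype_card, hK]
  have hne := Cfsg.Agent.H121.Quad.exists_ne hK' hσ hq.one_lt
  have D := Cfsg.Agent.H121.E6I.f4 hφ hφφ hσφ hne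
  have hx : (⟨Cfsg.Agent.H121.E6Eng.W (Cfsg.Agent.H121.E6R.wA (Cfsg.Agent.H121.F4.vx (σ := σ) (0 : Fin 3) 1)),
      Cfsg.Agent.H121.E6M.mem_wA hφ hφφ hσφ _⟩ : Cfsg.Lie.twistedE6 K q) ≠ 1 := by
    intro h1
    have h2 := congrArg Subtype.val h1
    have h3 : Cfsg.Agent.H121.E6Eng.W (Cfsg.Agent.H121.E6R.wA (Cfsg.Agent.H121.F4.vx (σ := σ) (0 : Fin 3) 1)) =
        Cfsg.Agent.H121.E6Eng.W (Cfsg.Agent.H121.E6R.wA (0 : Cfsg.Agent.H121.Orth.VV (Fin 3) σ)) := by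
      have h4 := Cfsg.Agent.H121.E6I.addA (0 : Cfsg.Agent.H121.Orth.VV (Fin 3) σ) 0
      rw [add_zero] at h4
      rw [mul_eq_left.1 h4.symm]
      exact h2
    have h5 := Cfsg.Agent.H121.E6M.injA h3
    have h6 := congrArg (fun a : Cfsg.Agent.H121.Orth.VV (Fin 3) σ => (a.1 0).1) h5
    simp [Cfsg.Agent.H121.F4.vx] at h6
  have hne1 := Cfsg.Agent.H121.Chr.faithful ρ (Cfsg.Agent.H121.Chr.exists_ne_one ρ hρ hk) hx
  have hm := Cfsg.Agent.H121.F4.main ρ D hK' hσ hq.one_lt ⟨_, hne1⟩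
  rw [Module.finrank_fin_fun] at hm
  have hd := Cfsg.Agent.S0135.result ρ
  rw [Module.finrank_fin_fun] at hd
  have hd2 : k ∣ Cfsg.Agent.H121.E6Num.O q := by
    rw [Cfsg.Agent.H121.E6Num.O, ← Cfsg.Agent.S1066.result hq hK]
    exact Dvd.dvd.mul_left hd _
  by_contra hlt
  push Not at hlt
  have hN : Cfsg.Agent.H121.E6Num.N q = q * (q ^ 6 - q ^ 3 + 1) * (q ^ 4 + 1) := rfl
  rcases (by omega : k + 1 = Cfsg.Agent.H121.E6Num.N q ∨ k + 2 = Cfsg.Agent.H121.E6Num.N q) with h | h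
  · exact Cfsg.Agent.H121.E6Num.not_dvd_one hq.one_lt h hd2
  · exact Cfsg.Agent.H121.E6Num.not_dvd_two hq.one_lt h hd2

end Cfsg.Agent.S2341
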