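import Cfsg.Statements.S3277
import Cfsg.Agent.S0112
import Cfsg.Agent.S0113
import Cfsg.Agent.Transfer.ThompsonTransfer
import Cfsg.Agent.J2Type.FourSelfCent
import Cfsg.Agent.H993.FewInv

set_option autoImplicit false
open Cfsg

namespace Cfsg.Agent.S3277

open Subgroup

/-- The elements of a group of order 4. -/
theorem four_elements {G : Type*} [Group G] (V : Subgroup G) (hV : Nat.card V = 4)
    {x z : G} (hx : x ∈ V) (hz : z ∈ V) (hx1 : x ≠ 1) (hz1 : z ≠ 1) (hxz : x ≠ z)
    (hxz1 : x * z ≠ 1) : ∀ v ∈ V, v = 1 ∨ v = x ∨ v = z ∨ v = x * z := by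
  classical
  have hfin : Finite V := Nat.finite_of_card_ne_zero (by omega)
  have h1 : x ≠ x * z := fun h => hz1 (by simpa using h)
  have h2 : z ≠ x * z := fun h => hx1 (by simpa using h)
  set S : Finset G := {1, x, z, x * z} with hS
  have hcard : S.card = 4 := by
    rw [hS, Finset.card_insert_of_notMem, Finset.card_insert_of_notMem,
      Finset.card_insert_of_notMem, Finset.card_singleton]
    · simpa using h2
    · simp only [Finset.mem_insert, Finset.mem_singleton, not_or]
      exact ⟨hxz, h1⟩
    · simp only [Finset.mem_insert, Finset.mem_singleton, not_or]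
      exact ⟨hx1.symm, hz1.symm, hxz1.symm⟩
  have hsub : (S : Set G) ⊆ (V : Set G) := by
    intro v hv
    simp only [hS, Finset.coe_insert, Finset.coe_singleton, Set.mem_insert_iff,
      Set.mem_singleton_iff] at hv
    rcases hv with rfl | rfl | rfl | rfl
    · exact V.one_mem
    · exact hx
    · exact hz
    · exact V.mul_mem hx hz
  have hVfin : (V : Set G).Finite := Set.toFinite _
  have heq : (S : Set G) = (V : Set G) := by
    apply Set.eq_of_subset_of_ncard_le hsub _ hVfin
    rw [Set.ncard_coe_finset, hcard]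
    have : (V : Set G).ncard = 4 := by rw [← hV]; exact Nat.card_coe_set_eq (V : Set G) |>.symm
    omega
  intro v hv
  have : v ∈ (S : Set G) := by rw [heq]; exact hv
  simpa [hS] using this

variable {G : Type*} [Group G] [Finite G]

/-- Part (a): if the Sylow subgroup is larger than the centralizer, there is a small normal
elementary abelian subgroup. -/
theorem exists_normal_small (x : G) (hx : orderOf x = 2)
    (hC4 : Nat.card ↥(Subgroup.centralizer ({x} : Set G)) = 4)
    (hCe : ∀ c ∈ Subgroup.centralizer ({x} : Set G), c ^ 2 = 1) (P : Sylow 2 G)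
    (hVP : Subgroup.centralizer ({x} : Set G) ≤ (P : Subgroup G))
    (h8 : 4 < Nat.card (P : Subgroup G)) :
    ∃ E : Subgroup G, E.Normal ∧ Cfsg.IsElementaryAbelian 2 E ∧ (Nat.card E = 2 ∨ Nat.card E = 4) := by
  classical
  have : Fact (Nat.Prime 2) := ⟨Nat.prime_two⟩
  set V := Subgroup.centralizer ({x} : Set G) with hV
  have hxV : x ∈ V := by
    rw [hV, Subgroup.mem_centralizer_singleton_iff]
  have hxP : x ∈ (P : Subgroup G) := hVP hxV
  have x2 : x * x = 1 := by rw [← pow_two, ← hx, pow_orderOf_eq_one]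
  have x1 : x ≠ 1 := by rintro rfl; rw [orderOf_one] at hx; omega
  have memV : ∀ v : G, v ∈ V ↔ v * x = x * v := fun v => by
    rw [hV, Subgroup.mem_centralizer_singleton_iff]
  obtain ⟨n, hn⟩ := IsPGroup.iff_card.mp P.isPGroup'
  have hn3 : 3 ≤ n := by
    rw [hn] at h8
    by_contra h
    have : 2 ^ n ≤ 2 ^ 2 := Nat.pow_le_pow_right (by norm_num) (by omega)
    omega
  -- the cyclic maximal subgroup
  have hcardA : Nat.card (V.subgroupOf (P : Subgroup G)) = 2 ^ 2 := by
    rw [Nat.card_congr (Subgroup.subgroupOfEquivOfLe hVP).toEquiv, hC4]; norm_num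
  have hCA : Subgroup.centralizer ((V.subgroupOf (P : Subgroup G)) : Set (P : Subgroup G)) =
      V.subgroupOf (P : Subgroup G) := by
    have hcomm : ∀ a ∈ V, ∀ b ∈ V, a * b = b * a := by
      intro a ha b hb
      have ha2 := hCe a ha
      have hb2 := hCe b hb
      have hab2 := hCe (a * b) (V.mul_mem ha hb)
      rw [pow_two] at ha2 hb2 hab2
      have ha' : a⁻¹ = a := inv_eq_of_mul_eq_one_right ha2
      have hb' : b⁻¹ = b := inv_eq_of_mul_eq_one_right hb2
      have hab' : (a * b)⁻¹ = a * b := inv_eq_of_mul_eq_one_right hab2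
      rw [mul_inv_rev, ha', hb'] at hab'
      exact hab'.symm
    ext p
    rw [Subgroup.mem_centralizer_iff, Subgroup.mem_subgroupOf]
    constructor
    · intro h
      have := congrArg Subtype.val (h ⟨x, hxP⟩ (by
        show (⟨x, hxP⟩ : (P : Subgroup G)) ∈ V.subgroupOf (P : Subgroup G)
        rw [Subgroup.mem_subgroupOf]; exact hxV))
      rw [memV]
      exact this.symm
    · intro hp q hq
      have hq' : (q : G) ∈ V := hq
      apply Subtype.ext
      exact hcomm _ hq' _ hp
  have hcl := Cfsg.Agent.S0112.result n hn (V.subgroupOf (P : Subgroup G)) hcardA hCA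
  obtain ⟨C, hCc, hCi⟩ := Cfsg.Agent.S0113.result n hn3 hn hcl
  set Q : Subgroup G := C.map (P : Subgroup G).subtype with hQ
  have hQP : Q ≤ (P : Subgroup G) := by
    rw [hQ]; exact Subgroup.map_subtype_le C
  have hQi : Q.relIndex (P : Subgroup G) = 2 := by
    have : Q.subgroupOf (P : Subgroup G) = C := by
      rw [hQ]
      exact Subgroup.comap_map_eq_self_of_injective (P : Subgroup G).subtype_injective C
    rw [Subgroup.relIndex, this, hCi]
  have hQc : IsCyclic Q := by
    rw [hQ]
    exact isCyclic_of_surjective _ (C.equivMapOfInjective (P : Subgroup G).subtype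
      (P : Subgroup G).subtype_injective).surjective
  have hQcard : Nat.card Q = 2 ^ (n - 1) := by
    have h := Subgroup.relIndex_mul_relIndex ⊥ Q (P : Subgroup G) bot_le hQP
    rw [Subgroup.relIndex_bot_left, Subgroup.relIndex_bot_left, hQi, hn] at h
    have : 2 ^ n = 2 ^ (n - 1) * 2 := by
      rw [← pow_succ]; congr 1; omega
    omega
  -- an element of order four
  obtain ⟨c, hcQ, hc4⟩ : ∃ c ∈ Q, orderOf c = 4 := by
    obtain ⟨g, hg⟩ := hQc.exists_generator
    have hgo : orderOf g = 2 ^ (n - 1) := by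
      rw [← hQcard]; exact orderOf_eq_card_of_forall_mem_zpowers hg
    refine ⟨((g ^ (2 ^ (n - 3)) : Q) : G), SetLike.coe_mem _, ?_⟩
    rw [Subgroup.orderOf_coe, orderOf_pow_of_dvd (by positivity), hgo]
    · have : 2 ^ (n - 1) = 4 * 2 ^ (n - 3) := by
        rw [show (4 : ℕ) = 2 ^ 2 by norm_num, ← pow_add]; congr 1; omega
      rw [this]
      exact Nat.mul_div_cancel _ (by positivity)
    · rw [hgo]; exact pow_dvd_pow 2 (by omega)
  have c4 : c ^ 4 = 1 := by rw [← hc4, pow_orderOf_eq_one]
  set z : G := c ^ 2 with hz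
  have hzo : orderOf z = 2 := by
    rw [hz, orderOf_pow_of_dvd (by norm_num) (by rw [hc4]; norm_num), hc4]
  have z2 : z * z = 1 := by rw [← pow_two, ← hzo, pow_orderOf_eq_one]
  have z1 : z ≠ 1 := by intro h; rw [h, orderOf_one] at hzo; omega
  have hzQ : z ∈ Q := Q.pow_mem hcQ 2
  have uniq : ∀ y ∈ Q, y * y = 1 → y ≠ 1 → y = z := fun y hy y2 y1 =>
    Cfsg.Agent.Classification.TransferSign.eq_of_isCyclic Q hQc hy hzQ y2 z2 y1 z1
  have hQcomm : ∀ a ∈ Q, ∀ b ∈ Q, a * b = b * a := by
    intro a ha b hb
    have := hQc.isMulCommutative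
    exact congrArg Subtype.val (isMulCommutative_iff.mp this ⟨a, ha⟩ ⟨b, hb⟩)
  have hCn : C.Normal := Subgroup.normal_of_index_eq_two hCi
  have hQn : ∀ p ∈ (P : Subgroup G), ∀ q ∈ Q, p * q * p⁻¹ ∈ Q := by
    intro p hp q hq
    rw [hQ, Subgroup.mem_map] at hq ⊢
    obtain ⟨q', hq', rfl⟩ := hq
    exact ⟨⟨p, hp⟩ * q' * ⟨p, hp⟩⁻¹, hCn.conj_mem q' hq' _, rfl⟩
  -- `z` is central in `P`
  have hzc : ∀ p ∈ (P : Subgroup G), p * z * p⁻¹ = z := by
    intro p hp
    apply uniq _ (hQn p hp z hzQ)
    · calc p * z * p⁻¹ * (p * z * p⁻¹) = p * (z * z) * p⁻¹ := by group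
        _ = 1 := by rw [z2]; group
    · intro h
      apply z1
      calc z = p⁻¹ * (p * z * p⁻¹) * p := by group
        _ = 1 := by rw [h]; group
  have hzV : z ∈ V := by
    rw [memV]
    have := hzc x hxP
    calc z * x = (x * z * x⁻¹) * x := by rw [this]
      _ = x * z := by group
  have xinv : x⁻¹ = x := inv_eq_of_mul_eq_one_right x2
  have zinv : z⁻¹ = z := inv_eq_of_mul_eq_one_right z2
  -- `x` inverts `c`
  have hcinv : c⁻¹ = z * c := by
    rw [inv_eq_iff_mul_eq_one, hz]
    calc c * (c ^ 2 * c) = c ^ 4 := by group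
      _ = 1 := c4
  have hxc : x * c * x⁻¹ = c⁻¹ := by
    set d := x * c * x⁻¹ with hd
    have hdQ : d ∈ Q := hQn x hxP c hcQ
    have hdd : d * d = z := by
      calc d * d = x * c ^ 2 * x⁻¹ := by rw [hd, pow_two]; group
        _ = z := hzc x hxP
    have hdc : d * c = c * d := hQcomm d hdQ c hcQ
    have hdc' : d * c⁻¹ = c⁻¹ * d := hQcomm d hdQ _ (Q.inv_mem hcQ)
    have hsq : (d * c⁻¹) * (d * c⁻¹) = 1 := by
      calc (d * c⁻¹) * (d * c⁻¹) = d * (c⁻¹ * d) * c⁻¹ := by group
        _ = d * (d * c⁻¹) * c⁻¹ := by rw [← hdc']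
        _ = (d * d) * (c ^ 2)⁻¹ := by group
        _ = 1 := by rw [hdd, ← hz]; group
    by_cases h1 : d * c⁻¹ = 1
    · exfalso
      have hdc1 : d = c := by rwa [mul_inv_eq_one] at h1
      have hcV : c ∈ V := by
        rw [memV]
        calc c * x = d * x := by rw [hdc1]
          _ = x * c := by rw [hd]; group
      have := hCe c hcV
      exact z1 this
    · have := uniq (d * c⁻¹) (Q.mul_mem hdQ (Q.inv_mem hcQ)) hsq h1
      calc d = (d * c⁻¹) * c := by group
        _ = c⁻¹ := by rw [this, hcinv]
  have hcx : c * x * c⁻¹ = x * z := by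
    have h1 : x⁻¹ * c * x = c⁻¹ := by
      rw [xinv]
      rw [xinv] at hxc
      exact hxc
    calc c * x * c⁻¹ = x * (x⁻¹ * c * x) * c⁻¹ := by group
      _ = x * c⁻¹ * c⁻¹ := by rw [h1]
      _ = x * (c ^ 2)⁻¹ := by group
      _ = x * z := by rw [← hz, zinv]
  have hxz : x ≠ z := by
    intro h
    rw [h] at hcx
    have h1 : c * z * c⁻¹ = z := hzc c (hQP hcQ)
    rw [h1, z2] at hcx
    exact z1 hcx
  -- no conjugate of `x` is in `Q`
  have hnotz : ∀ g : G, g * x * g⁻¹ ≠ z := by
    intro g hg
    have hle : (P : Subgroup G) ≤ Subgroup.centralizer ({z} : Set G) := by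
      intro p hp
      rw [Subgroup.mem_centralizer_singleton_iff]
      have := hzc p hp
      calc p * z = (p * z * p⁻¹) * p := by group
        _ = z * p := by rw [this]
    have hcard : Nat.card (Subgroup.centralizer ({z} : Set G)) = 4 := by
      rw [← hC4, ← hg]
      apply Nat.card_congr
      refine ⟨fun a => ⟨g⁻¹ * a * g, ?_⟩, fun a => ⟨g * a * g⁻¹, ?_⟩, ?_, ?_⟩
      · obtain ⟨a, ha⟩ := a
        rw [memV]
        rw [Subgroup.mem_centralizer_singleton_iff] at ha
        calc g⁻¹ * a * g * x = g⁻¹ * (a * (g * x * g⁻¹)) * g := by group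
          _ = g⁻¹ * ((g * x * g⁻¹) * a) * g := by rw [ha]
          _ = x * (g⁻¹ * a * g) := by group
      · obtain ⟨a, ha⟩ := a
        rw [memV] at ha
        rw [Subgroup.mem_centralizer_singleton_iff]
        calc g * a * g⁻¹ * (g * x * g⁻¹) = g * (a * x) * g⁻¹ := by group
          _ = g * (x * a) * g⁻¹ := by rw [ha]
          _ = g * x * g⁻¹ * (g * a * g⁻¹) := by group
      · intro a
        apply Subtype.ext
        show g * (g⁻¹ * (a : G) * g) * g⁻¹ = a
        group
      · intro a
        apply Subtype.ext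
        show g⁻¹ * (g * (a : G) * g⁻¹) * g = a
        group
    have := Subgroup.card_le_of_le hle
    omega
  have hnotQ : ∀ g : G, g * x * g⁻¹ ∉ Q := by
    intro g hg
    apply hnotz g
    apply uniq _ hg
    · calc g * x * g⁻¹ * (g * x * g⁻¹) = g * (x * x) * g⁻¹ := by group
        _ = 1 := by rw [x2]; group
    · intro h
      apply x1
      calc x = g⁻¹ * (g * x * g⁻¹) * g := by group
        _ = 1 := by rw [h]; group
  obtain ⟨M, hMn, hMi, hxM⟩ : ∃ M : Subgroup G, M.Normal ∧ M.index = 2 ∧ x ∉ M := by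
    rcases Cfsg.Agent.Transfer.ThompsonTransfer.thompson_transfer P Q hQP hQi x
      (by rw [pow_two, x2]) with h | ⟨g, hg⟩
    · exact h
    · exact absurd hg (hnotQ g)
  have hzM : z ∈ M := Subgroup.sq_mem_of_index_two hMi c
  have hV4 := four_elements V hC4 hxV hzV x1 z1 hxz (by
    intro h
    apply hxz
    rw [mul_eq_one_iff_eq_inv, zinv] at h
    exact h)
  have hVM : ∀ v ∈ V, v ∈ M → v = 1 ∨ v = z := by
    intro v hv hvM
    rcases hV4 v hv with h | h | h | h
    · exact Or.inl h
    · exact absurd (h ▸ hvM) hxM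
    · exact Or.inr h
    · exfalso
      apply hxM
      have : x = v * z⁻¹ := by rw [h]; group
      rw [this]
      exact M.mul_mem hvM (M.inv_mem hzM)
  -- every involution of `M` commutes with `z`
  have hcom : ∀ y ∈ M, orderOf y = 2 → z * y = y * z := by
    intro y hyM hy
    have y1 : y ≠ 1 := by rintro rfl; rw [orderOf_one] at hy; omega
    have hnc : ¬ IsConj x y := by
      intro h
      obtain ⟨g, hg⟩ := isConj_iff.mp h
      apply hxM
      have : x = g⁻¹ * y * g := by rw [← hg]; group
      rw [this]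
      have := hMn.conj_mem y hyM g⁻¹
      rwa [inv_inv] at this
    obtain ⟨w, hw, hwx, hwy, hwx1, hwy1⟩ := Cfsg.Agent.H993.FewInv.exists_common x y hx hy hnc
    have w1 : w ≠ 1 := by rintro rfl; rw [orderOf_one] at hw; omega
    have hwV : w ∈ V := by rw [memV]; exact hwx.eq
    rcases hV4 w hwV with h | h | h | h
    · exact absurd h w1
    · exact absurd h hwx1
    · rw [← h]; exact hwy.eq
    · -- `y` commutes with `x z = c x c⁻¹`
      rw [h, ← hcx] at hwy
      have hyV : c⁻¹ * y * c ∈ V := by
        rw [memV]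
        have := hwy.eq
        calc c⁻¹ * y * c * x = c⁻¹ * (y * (c * x * c⁻¹)) * c := by group
          _ = c⁻¹ * ((c * x * c⁻¹) * y) * c := by rw [this]
          _ = x * (c⁻¹ * y * c) := by group
      have hyM' : c⁻¹ * y * c ∈ M := by
        have := hMn.conj_mem y hyM c⁻¹
        rwa [inv_inv] at this
      rcases hVM _ hyV hyM' with h' | h'
      · exfalso
        apply y1
        calc y = c * (c⁻¹ * y * c) * c⁻¹ := by group
          _ = 1 := by rw [h']; group
      · have : y = z := by
          calc y = c * (c⁻¹ * y * c) * c⁻¹ := by group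
            _ = c * z * c⁻¹ := by rw [h']
            _ = z := hzc c (hQP hcQ)
        rw [this]
  -- all conjugates of `z` commute
  have hconj : ∀ a ∈ Group.conjugatesOfSet ({z} : Set G), ∀ b ∈ Group.conjugatesOfSet ({z} : Set G),
      a * b = b * a := by
    intro a ha b hb
    rw [Group.mem_conjugatesOfSet_iff] at ha hb
    obtain ⟨_, rfl, ha⟩ := ha
    obtain ⟨_, rfl, hb⟩ := hb
    obtain ⟨g, hg⟩ := isConj_iff.mp ha
    obtain ⟨h, hh⟩ := isConj_iff.mp hb
    have hbM : g⁻¹ * b * g ∈ M := by
      have hb' : b ∈ M := by rw [← hh]; exact hMn.conj_mem _ hzM h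
      have := hMn.conj_mem b hb' g⁻¹
      rwa [inv_inv] at this
    have hbo : orderOf (g⁻¹ * b * g) = 2 := by
      have h1 : orderOf b = 2 := by
        rw [← hh, ← hzo]
        exact (MulAut.conj h).orderOf_eq z
      have := (MulAut.conj g⁻¹).orderOf_eq b
      rw [MulAut.conj_apply, inv_inv] at this
      rw [this, h1]
    have := hcom _ hbM hbo
    calc a * b = g * (z * (g⁻¹ * b * g)) * g⁻¹ := by rw [← hg]; group
      _ = g * ((g⁻¹ * b * g) * z) * g⁻¹ := by rw [this]
      _ = b * a := by rw [← hg]; group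
  set E : Subgroup G := Subgroup.normalClosure ({z} : Set G) with hE
  have hEc : IsMulCommutative E := by
    rw [hE]
    exact Subgroup.isMulCommutative_closure hconj
  have hEcomm : ∀ a ∈ E, ∀ b ∈ E, a * b = b * a := by
    intro a ha b hb
    exact congrArg Subtype.val (isMulCommutative_iff.mp hEc ⟨a, ha⟩ ⟨b, hb⟩)
  have hE2 : ∀ a ∈ E, a ^ 2 = 1 := by
    intro a ha
    refine Subgroup.closure_induction (k := Group.conjugatesOfSet ({z} : Set G))
      (p := fun a _ => a ^ 2 = 1) ?_ ?_ ?_ ?_ ha
    · intro a h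
      rw [Group.mem_conjugatesOfSet_iff] at h
      obtain ⟨_, rfl, h⟩ := h
      obtain ⟨g, hg⟩ := isConj_iff.mp h
      rw [← hg]
      calc (g * z * g⁻¹) ^ 2 = g * (z * z) * g⁻¹ := by rw [pow_two]; group
        _ = 1 := by rw [z2]; group
    · rw [one_pow]
    · intro a b ha hb iha ihb
      have h := hEcomm a ha b hb
      calc (a * b) ^ 2 = a * (b * a) * b := by rw [pow_two]; group
        _ = a * (a * b) * b := by rw [h]
        _ = a ^ 2 * b ^ 2 := by rw [pow_two, pow_two]; group
        _ = 1 := by rw [iha, ihb, one_mul]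
    · intro a ha iha
      rw [inv_pow, iha, inv_one]
  have hEn : E.Normal := Subgroup.normalClosure_normal
  have hzE : z ∈ E := Subgroup.subset_normalClosure rfl
  have hEp : IsPGroup 2 E := by
    intro e
    refine ⟨1, ?_⟩
    apply Subtype.ext
    rw [pow_one]
    exact hE2 e e.2
  have hEP : E ≤ (P : Subgroup G) := IsPGroup.le_sylow_of_normal hEp P
  refine ⟨E, hEn, ⟨hEc, hE2⟩, ?_⟩
  -- the order of `E`
  have hEQ : Nat.card (E ⊓ Q : Subgroup G) ≤ 2 := by
    have hle : (E ⊓ Q : Subgroup G) ≤ Subgroup.zpowers z := by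
      intro a ha
      rw [Subgroup.mem_inf] at ha
      by_cases h1 : a = 1
      · rw [h1]; exact Subgroup.one_mem _
      · rw [uniq a ha.2 (by rw [← pow_two]; exact hE2 a ha.1) h1]
        exact Subgroup.mem_zpowers z
    have := Subgroup.card_le_of_le hle
    rwa [Nat.card_zpowers, hzo] at this
  have hErel : (E ⊓ Q).relIndex E ≤ 2 := by
    rw [Subgroup.inf_relIndex_left]
    have := Subgroup.relIndex_le_of_le_right (H := Q) hEP (by rw [hQi]; norm_num)
    rwa [hQi] at this
  have hEcard : Nat.card E ≤ 4 := by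
    have h := Subgroup.relIndex_mul_relIndex ⊥ (E ⊓ Q) E bot_le inf_le_left
    rw [Subgroup.relIndex_bot_left, Subgroup.relIndex_bot_left] at h
    rw [← h]
    calc Nat.card (E ⊓ Q : Subgroup G) * (E ⊓ Q).relIndex E ≤ 2 * 2 := Nat.mul_le_mul hEQ hErel
      _ = 4 := by norm_num
  obtain ⟨k, hk⟩ := IsPGroup.iff_card.mp hEp
  have hk0 : k ≠ 0 := by
    rintro rfl
    rw [pow_zero, Subgroup.card_eq_one] at hk
    rw [hk, Subgroup.mem_bot] at hzE
    exact z1 hzE
  have hk2 : k ≤ 2 := by
    by_contra h
    have : 2 ^ 3 ≤ 2 ^ k := Nat.pow_le_pow_right (by norm_num) (by omega)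
    omega
  have hk' : k = 1 ∨ k = 2 := by omega
  rcases hk' with rfl | rfl
  · left; rw [hk]; norm_num
  · right; rw [hk]; norm_num

/-- Part (b): if the centralizer is a Sylow subgroup and there is no normal 2-complement then all
involutions of the centralizer are conjugate. -/
theorem exists_conj (x : G) (hx : orderOf x = 2)
    (hC4 : Nat.card ↥(Subgroup.centralizer ({x} : Set G)) = 4)
    (hCe : ∀ c ∈ Subgroup.centralizer ({x} : Set G), c ^ 2 = 1) (P : Sylow 2 G)
    (hVP : Subgroup.centralizer ({x} : Set G) = (P : Subgroup G))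
    (hnc : ¬ Cfsg.HasNormalPComplement 2 G) (y : G)
    (hy : y ∈ Subgroup.centralizer ({x} : Set G)) (hy1 : y ≠ 1) : ∃ g : G, g * x * g⁻¹ = y := by
  classical
  have : Fact (Nat.Prime 2) := ⟨Nat.prime_two⟩
  by_contra hcon
  push Not at hcon
  apply hnc
  set V := Subgroup.centralizer ({x} : Set G) with hV
  have hxV : x ∈ V := by
    rw [hV, Subgroup.mem_centralizer_singleton_iff]
  have x2 : x * x = 1 := by rw [← pow_two, ← hx, pow_orderOf_eq_one]
  have x1 : x ≠ 1 := by rintro rfl; rw [orderOf_one] at hx; omega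
  have y2 : y * y = 1 := by rw [← pow_two]; exact hCe y hy
  have hyx : x ≠ y := by
    intro h
    apply hcon 1
    rw [← h]; group
  have memV : ∀ v : G, v ∈ V ↔ v * x = x * v := fun v => by
    rw [hV, Subgroup.mem_centralizer_singleton_iff]
  have yinv : y⁻¹ = y := inv_eq_of_mul_eq_one_right y2
  have hV4 := four_elements V hC4 hxV hy x1 hy1 hyx (by
    intro h
    apply hyx
    rw [mul_eq_one_iff_eq_inv, yinv] at h
    exact h)
  have hcommV : ∀ a ∈ V, ∀ b ∈ V, a * b = b * a := by
    intro a ha b hb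
    have ha2 := hCe a ha
    have hb2 := hCe b hb
    have hab2 := hCe (a * b) (V.mul_mem ha hb)
    rw [pow_two] at ha2 hb2 hab2
    have ha' : a⁻¹ = a := inv_eq_of_mul_eq_one_right ha2
    have hb' : b⁻¹ = b := inv_eq_of_mul_eq_one_right hb2
    have hab' : (a * b)⁻¹ = a * b := inv_eq_of_mul_eq_one_right hab2
    rw [mul_inv_rev, ha', hb'] at hab'
    exact hab'.symm
  have key : Subgroup.normalizer ((P : Subgroup G) : Set G) ≤
      Subgroup.centralizer ((P : Subgroup G) : Set G) := by
    intro g hg
    have hgV : ∀ v ∈ V, g * v * g⁻¹ ∈ V := by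
      intro v hv
      rw [hVP] at hv ⊢
      exact (Subgroup.mem_normalizer_iff.mp hg v).mp hv
    have hgx : g * x * g⁻¹ = x := by
      rcases hV4 _ (hgV x hxV) with h | h | h | h
      · exfalso
        apply x1
        calc x = g⁻¹ * (g * x * g⁻¹) * g := by group
          _ = 1 := by rw [h]; group
      · exact h
      · exact absurd h (hcon g)
      · exfalso
        -- `g y g⁻¹ = y`
        have hgy : g * y * g⁻¹ = y := by
          rcases hV4 _ (hgV y hy) with h' | h' | h' | h'
          · exfalso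
            apply hy1
            calc y = g⁻¹ * (g * y * g⁻¹) * g := by group
              _ = 1 := by rw [h']; group
          · exfalso
            apply hcon g⁻¹
            rw [← h']; group
          · exact h'
          · exfalso
            apply hyx
            have : g * x * g⁻¹ = g * y * g⁻¹ := by rw [h, h']
            exact mul_left_cancel (mul_right_cancel this)
        have hg2 : g ^ 2 ∈ V := by
          rw [memV]
          have h2 : g ^ 2 * x * (g ^ 2)⁻¹ = x := by
            calc g ^ 2 * x * (g ^ 2)⁻¹ = g * (g * x * g⁻¹) * g⁻¹ := by rw [pow_two]; group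
              _ = g * (x * y) * g⁻¹ := by rw [h]
              _ = (g * x * g⁻¹) * (g * y * g⁻¹) := by group
              _ = x * y * y := by rw [h, hgy]
              _ = x := by rw [mul_assoc, y2, mul_one]
          calc g ^ 2 * x = (g ^ 2 * x * (g ^ 2)⁻¹) * g ^ 2 := by group
            _ = x * g ^ 2 := by rw [h2]
        have hg4 : g ^ 4 = 1 := by
          have := hCe _ hg2
          rwa [← pow_mul] at this
        have hgp : IsPGroup 2 (Subgroup.zpowers g) := by
          rw [IsPGroup.iff_orderOf]
          rintro ⟨a, ha⟩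
          have h1 : orderOf a ∣ orderOf g := by
            obtain ⟨k, rfl⟩ := Subgroup.mem_zpowers_iff.mp ha
            exact orderOf_dvd_of_mem_zpowers ⟨k, rfl⟩
          have h2 : orderOf g ∣ 2 ^ 2 := by
            rw [orderOf_dvd_iff_pow_eq_one]; norm_num; exact hg4
          obtain ⟨k, _, hk⟩ := (Nat.dvd_prime_pow Nat.prime_two).mp (h1.trans h2)
          exact ⟨k, by rw [Subgroup.orderOf_mk]; exact hk⟩
        have hgP : g ∈ (P : Subgroup G) := by
          have h1 := hgp.inf_normalizer_sylow P
          exact (h1.le ⟨Subgroup.mem_zpowers g, hg⟩).2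
        rw [← hVP, memV] at hgP
        have : g * x * g⁻¹ = x := by rw [hgP]; group
        rw [h] at this
        exact hy1 (by simpa using this)
    have hgmem : g ∈ V := by
      rw [memV]
      calc g * x = (g * x * g⁻¹) * g := by group
        _ = x * g := by rw [hgx]
    rw [Subgroup.mem_centralizer_iff]
    intro h hh
    exact hcommV h (by rw [hVP]; exact hh) g hgmem
  exact ⟨P, (MonoidHom.transferSylow P key).ker, MonoidHom.normal_ker _,
    MonoidHom.ker_transferSylow_isComplement' P key⟩

/-- Let G be a finite group containing an involution whose centralizer is elementary abelian of order 4. If G has no normal 2-complement and no normal elementary abelian 2-subgroup of order 2 or 4, then G is isomorphic to the alternating group of degree 5 (that is, to PSL(2, 5)). -/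
theorem result {G : Type*} [Group G] [Finite G] (x : G) (hx : orderOf x = 2)
    (hC4 : Nat.card ↥(Subgroup.centralizer ({x} : Set G)) = 4) (hCe : ∀ c ∈ Subgroup.centralizer ({x} : Set G), c ^ 2 = 1)
    (hnc : ¬ Cfsg.HasNormalPComplement 2 G)
    (hne : ∀ E : Subgroup G, E.Normal → Cfsg.IsElementaryAbelian 2 E → Nat.card ↥E ≠ 2 ∧ Nat.card ↥E ≠ 4) :
    Nonempty (G ≃* ↥(alternatingGroup (Fin 5))) := by
  classical
  have : Fact (Nat.Prime 2) := ⟨Nat.prime_two⟩
  have hVp : IsPGroup 2 (Subgroup.centralizer ({x} : Set G)) :=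
    IsPGroup.of_card (n := 2) (by rw [hC4]; norm_num)
  obtain ⟨P, hVP⟩ := hVp.exists_le_sylow
  have hle := Subgroup.card_le_of_le hVP
  rw [hC4] at hle
  by_cases h8 : 4 < Nat.card (P : Subgroup G)
  · exfalso
    obtain ⟨E, hEn, hE, h⟩ := exists_normal_small x hx hC4 hCe P hVP h8
    obtain ⟨h2, h4⟩ := hne E hEn hE
    rcases h with h | h
    · exact h2 h
    · exact h4 h
  · have hP4 : Nat.card (P : Subgroup G) = 4 := by omega
    have hVPe : Subgroup.centralizer ({x} : Set G) = (P : Subgroup G) :=
      Subgroup.eq_of_le_of_card_ge hVP (by rw [hP4, hC4])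
    set V := Subgroup.centralizer ({x} : Set G) with hV
    have hcommV : ∀ a ∈ V, ∀ b ∈ V, a * b = b * a := by
      intro a ha b hb
      have ha2 := hCe a ha
      have hb2 := hCe b hb
      have hab2 := hCe (a * b) (V.mul_mem ha hb)
      rw [pow_two] at ha2 hb2 hab2
      have ha' : a⁻¹ = a := inv_eq_of_mul_eq_one_right ha2
      have hb' : b⁻¹ = b := inv_eq_of_mul_eq_one_right hb2
      have hab' : (a * b)⁻¹ = a * b := inv_eq_of_mul_eq_one_right hab2
      rw [mul_inv_rev, ha', hb'] at hab'
      exact hab'.symm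
    have hVea : Cfsg.IsElementaryAbelian 2 V :=
      ⟨isMulCommutative_iff.mpr (fun a b => Subtype.ext (hcommV _ a.2 _ b.2)), hCe⟩
    have hyp : Cfsg.Agent.J2Type.FourSelfCent.Hyp V := by
      refine ⟨hC4, fun u hu => by rw [← pow_two]; exact hCe u hu, ?_⟩
      intro u hu hu1 w hw
      obtain ⟨g, hg⟩ := exists_conj x hx hC4 hCe P hVPe hnc u hu hu1
      -- `V ≤ centralizer {u} = g V g⁻¹`
      have hcard : Nat.card (Subgroup.centralizer ({u} : Set G)) = 4 := by
        rw [← hC4, ← hg, hV]
        apply Nat.card_congr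
        refine ⟨fun a => ⟨g⁻¹ * a * g, ?_⟩, fun a => ⟨g * a * g⁻¹, ?_⟩, ?_, ?_⟩
        · obtain ⟨a, ha⟩ := a
          rw [Subgroup.mem_centralizer_singleton_iff] at ha ⊢
          calc g⁻¹ * a * g * x = g⁻¹ * (a * (g * x * g⁻¹)) * g := by group
            _ = g⁻¹ * ((g * x * g⁻¹) * a) * g := by rw [ha]
            _ = x * (g⁻¹ * a * g) := by group
        · obtain ⟨a, ha⟩ := a
          rw [Subgroup.mem_centralizer_singleton_iff] at ha ⊢
          calc g * a * g⁻¹ * (g * x * g⁻¹) = g * (a * x) * g⁻¹ := by group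
            _ = g * (x * a) * g⁻¹ := by rw [ha]
            _ = g * x * g⁻¹ * (g * a * g⁻¹) := by group
        · intro a
          apply Subtype.ext
          show g * (g⁻¹ * (a : G) * g) * g⁻¹ = a
          group
        · intro a
          apply Subtype.ext
          show g⁻¹ * (g * (a : G) * g⁻¹) * g = a
          group
      have hle : V ≤ Subgroup.centralizer ({u} : Set G) := by
        intro v hv
        rw [Subgroup.mem_centralizer_singleton_iff]
        exact hcommV v hv u hu
      have heq : V = Subgroup.centralizer ({u} : Set G) :=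
        Subgroup.eq_of_le_of_card_ge hle (by rw [hcard, hC4])
      rw [heq, Subgroup.mem_centralizer_singleton_iff]
      exact hw
    rcases hyp.card_cases with h | h | h
    · exfalso
      apply hnc
      refine ⟨P, ⊥, inferInstance, ?_⟩
      have : (P : Subgroup G) = ⊤ := Subgroup.eq_top_of_card_eq _ (by rw [hP4, h])
      rw [this]
      exact Subgroup.isComplement'_bot_top
    · exfalso
      have hVn : V.Normal := by
        have h1 := hyp.card_normalizer
        rcases h1 with h1 | h1
        · have := hyp.card_eq_four h1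
          omega
        · have : Subgroup.normalizer (V : Set G) = ⊤ :=
            Subgroup.eq_top_of_card_eq _ (by rw [h1, h])
          exact Subgroup.normalizer_eq_top_iff.mp this
      exact (hne V hVn hVea).2 hC4
    · exact hyp.equiv_of_card_60 h

end Cfsg.Agent.S3277
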