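import Cfsg.Statements.S3278
import Cfsg.Agent.Lib.Cores
import Cfsg.Agent.S1221
import Cfsg.Agent.S3279
import Cfsg.Agent.S3277

set_option autoImplicit false
open Cfsg

namespace Cfsg.Agent.S3278

open Subgroup

/-- A power of `a` of odd exponent and its square in a subgroup put `a` in the subgroup. -/
theorem mem_of_pow_odd {G : Type*} [Group G] (H : Subgroup G) {a : G} {r : ℕ} (hr : Odd r)
    (h2 : a ^ 2 ∈ H) (h : a ^ r ∈ H) : a ∈ H := by
  obtain ⟨k, rfl⟩ := hr
  have : a = a ^ (2 * k + 1) * ((a ^ 2) ^ k)⁻¹ := by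
    rw [← pow_mul, pow_succ']; group
  rw [this]
  exact H.mul_mem h (H.inv_mem (H.pow_mem h2 k))

/-- Let G be a finite simple group with an involution x such that a Sylow 2-subgroup of C_G(x) is a Klein four-group which is normal in C_G(x). Then G is isomorphic to the alternating group of degree 5 (that is, to PSL(2, 5)). -/
theorem result {G : Type*} [Group G] [Finite G] [IsSimpleGroup G] (x : G) (hx : orderOf x = 2)
    (S₀ : Subgroup G) (hle : S₀ ≤ Subgroup.centralizer ({x} : Set G)) (hK : IsKleinFour ↥S₀)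
    (hodd : ¬ 2 ∣ S₀.relIndex (Subgroup.centralizer ({x} : Set G))) (hn : (S₀.subgroupOf (Subgroup.centralizer ({x} : Set G))).Normal) :
    Nonempty (G ≃* ↥(alternatingGroup (Fin 5))) := by
  classical
  have : Fact (Nat.Prime 2) := ⟨Nat.prime_two⟩
  have hS4 : Nat.card S₀ = 4 := hK.card_four
  have hS2 : ∀ a ∈ S₀, a * a = 1 := by
    intro a ha
    have := hK.mul_self ⟨a, ha⟩
    exact congrArg Subtype.val this
  have hScomm : ∀ a ∈ S₀, ∀ b ∈ S₀, a * b = b * a := by
    intro a ha b hb
    have ha' : a⁻¹ = a := inv_eq_of_mul_eq_one_right (hS2 a ha)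
    have hb' : b⁻¹ = b := inv_eq_of_mul_eq_one_right (hS2 b hb)
    have hab' : (a * b)⁻¹ = a * b := inv_eq_of_mul_eq_one_right (hS2 _ (S₀.mul_mem ha hb))
    rw [mul_inv_rev, ha', hb'] at hab'
    exact hab'.symm
  set C := Subgroup.centralizer ({x} : Set G) with hC
  have memC : ∀ v : G, v ∈ C ↔ v * x = x * v := fun v => by
    rw [hC, Subgroup.mem_centralizer_singleton_iff]
  have hxC : x ∈ C := by rw [memC]
  have x2 : x * x = 1 := by rw [← pow_two, ← hx, pow_orderOf_eq_one]
  have x1 : x ≠ 1 := by rintro rfl; rw [orderOf_one] at hx; omega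
  set r := S₀.relIndex C with hr
  have hrodd : Odd r := by rw [← Nat.not_even_iff_odd, even_iff_two_dvd]; exact hodd
  have hpowr : ∀ a ∈ C, a ^ r ∈ S₀ := by
    intro a ha
    have : (⟨a, ha⟩ : C) ^ r ∈ S₀.subgroupOf C := by
      rw [hr, Subgroup.relIndex]
      exact Subgroup.pow_index_mem _ _
    rw [Subgroup.mem_subgroupOf] at this
    exact this
  -- 2-elements of `C` are in `S₀`
  have h2el : ∀ a ∈ C, ∀ k : ℕ, a ^ 2 ^ k = 1 → a ∈ S₀ := by
    intro a ha k hk
    have hcop : Nat.Coprime r (2 ^ k) := (Nat.coprime_two_right.mpr hrodd).pow_right k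
    have h1 : a ^ r ∈ S₀ := hpowr a ha
    -- `a ∈ ⟨a ^ r⟩`
    obtain ⟨m, hm⟩ := exists_pow_eq_self_of_coprime (x := a) (n := r)
      (hcop.coprime_dvd_right (orderOf_dvd_of_pow_eq_one hk))
    rw [← hm]
    exact S₀.pow_mem h1 m
  have hxS : x ∈ S₀ := h2el x hxC 1 (by rw [pow_one, pow_two, x2])
  -- at most three involutions
  have h3 : Nat.card {u : ↥(Subgroup.centralizer ({x} : Set G)) // orderOf u = 2} ≤ 3 := by
    have hinj : Nat.card {u : ↥(Subgroup.centralizer ({x} : Set G)) // orderOf u = 2} ≤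
        Nat.card {v : S₀ // v ≠ 1} := by
      refine Nat.card_le_card_of_injective (fun u => ⟨⟨(u.1 : G), ?_⟩, ?_⟩) ?_
      · apply h2el _ u.1.2 1
        have h := u.2
        have h' : orderOf (u.1 : G) = 2 := by rw [Subgroup.orderOf_coe]; exact h
        have h'' := pow_orderOf_eq_one (u.1 : G)
        rw [h'] at h''
        rw [pow_one]
        exact h''
      · intro h
        have h1 : (u.1 : G) = 1 := congrArg Subtype.val h
        have h' : orderOf (u.1 : G) = 2 := by rw [Subgroup.orderOf_coe]; exact u.2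
        rw [h1, orderOf_one] at h'
        omega
      · intro u v huv
        simp only [Subtype.mk.injEq] at huv
        exact Subtype.ext (Subtype.ext huv)
    have hcard : Nat.card {v : S₀ // v ≠ 1} = 3 := by
      have : Fintype S₀ := Fintype.ofFinite _
      rw [Nat.card_eq_fintype_card, Fintype.card_subtype_compl, ← Nat.card_eq_fintype_card, hS4]
      simp
    omega
  obtain ⟨⟨S, hSC⟩, hone⟩ := Cfsg.Agent.S3279.result x hx h3
  have hSS : (S : Subgroup G) = S₀ := by
    have h1 : (S : Subgroup G) ≤ S₀ := by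
      intro a ha
      obtain ⟨k, hk⟩ := S.isPGroup' ⟨a, ha⟩
      exact h2el a (hSC ha) k (congrArg Subtype.val hk)
    have h2 : IsPGroup 2 S₀ := IsPGroup.of_card (n := 2) (by rw [hS4]; norm_num)
    exact (S.is_maximal' h2 h1).symm
  -- centralizers of the involutions of `S₀`
  have h2el' : ∀ u ∈ S₀, u ≠ 1 → ∀ a : G, a * u = u * a → ∀ k : ℕ, a ^ 2 ^ k = 1 → a ∈ S₀ := by
    intro u hu hu1
    have huo : orderOf u = 2 := orderOf_eq_prime (by rw [pow_two]; exact hS2 u hu) hu1
    obtain ⟨g, hg⟩ := isConj_iff.mp (hone x u hx huo)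
    -- `T = g S₀ g⁻¹`
    have hT : ∀ a : G, a * u = u * a → ∀ k : ℕ, a ^ 2 ^ k = 1 → g⁻¹ * a * g ∈ S₀ := by
      intro a ha k hk
      apply h2el _ _ k
      · have : (g⁻¹ * a * g) ^ 2 ^ k = g⁻¹ * a ^ 2 ^ k * g := by
          have := conj_pow (i := 2 ^ k) (a := g⁻¹) (b := a)
          rw [inv_inv] at this
          exact this
        rw [this, hk]; group
      · rw [memC]
        calc g⁻¹ * a * g * x = g⁻¹ * (a * (g * x * g⁻¹)) * g := by group
          _ = g⁻¹ * ((g * x * g⁻¹) * a) * g := by rw [hg, ha]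
          _ = x * (g⁻¹ * a * g) := by group
    have hmap : S₀.map (MulAut.conj g⁻¹).toMonoidHom ≤ S₀ := by
      rintro _ ⟨a, ha, rfl⟩
      have := hT a (hScomm a ha u hu) 1 (by rw [pow_one, pow_two]; exact hS2 a ha)
      simpa using this
    have hmapc : Nat.card (S₀.map (MulAut.conj g⁻¹).toMonoidHom) = 4 := by
      rw [← hS4]
      exact (Nat.card_congr (S₀.equivMapOfInjective _ (MulAut.conj g⁻¹).injective).toEquiv).symm
    have heq := Subgroup.eq_of_le_of_card_ge hmap (by rw [hmapc, hS4])
    intro a ha k hk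
    have h1 := hT a ha k hk
    rw [← heq, Subgroup.mem_map] at h1
    obtain ⟨b, hb, hba⟩ := h1
    have : b = a := by
      simp at hba
      exact hba
    rw [← this]
    exact hb
  -- `G` is not abelian of order four
  have hStop : S₀ ≠ ⊤ := by
    intro h
    have hcomm : ∀ a b : G, a * b = b * a := fun a b =>
      hScomm a (by rw [h]; trivial) b (by rw [h]; trivial)
    have hz : (Subgroup.zpowers x).Normal := by
      constructor
      intro n hn g
      rw [hcomm g n, mul_inv_cancel_right]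
      exact hn
    rcases IsSimpleGroup.eq_bot_or_eq_top_of_normal _ hz with h' | h'
    · rw [Subgroup.zpowers_eq_bot] at h'
      exact x1 h'
    · have h1 : Nat.card (Subgroup.zpowers x) = 2 := by rw [Nat.card_zpowers, hx]
      rw [h', ← h, hS4] at h1
      omega
  have hSnn : ¬ S₀.Normal := by
    intro h
    rcases IsSimpleGroup.eq_bot_or_eq_top_of_normal _ h with h' | h'
    · rw [h', Subgroup.card_bot] at hS4
      omega
    · exact hStop h'
  -- the normalizer is strongly embedded
  set H := Subgroup.normalizer (S₀ : Set G) with hH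
  have hSH : S₀ ≤ H := Subgroup.le_normalizer
  have hinvH : ∀ t ∈ H, t * t = 1 → t ∈ S₀ := by
    intro t ht ht2
    have hp : IsPGroup 2 (Subgroup.zpowers t) := by
      rw [IsPGroup.iff_orderOf]
      rintro ⟨a, ha⟩
      have h1 : orderOf a ∣ orderOf t := by
        obtain ⟨k, rfl⟩ := Subgroup.mem_zpowers_iff.mp ha
        exact orderOf_dvd_of_mem_zpowers ⟨k, rfl⟩
      have h2 : orderOf t ∣ 2 ^ 1 := by
        rw [orderOf_dvd_iff_pow_eq_one, pow_one, pow_two]; exact ht2
      obtain ⟨k, _, hk⟩ := (Nat.dvd_prime_pow Nat.prime_two).mp (h1.trans h2)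
      exact ⟨k, by rw [Subgroup.orderOf_mk]; exact hk⟩
    have h1 := hp.inf_normalizer_sylow S
    rw [← hSS]
    refine (h1.le ⟨Subgroup.mem_zpowers t, ?_⟩).2
    have ht' : t ∈ Subgroup.normalizer (S₀ : Set G) := ht
    rw [← hSS] at ht'
    exact ht'
  have hHse : Cfsg.IsStronglyEmbedded H := by
    refine ⟨?_, ?_, ?_⟩
    · intro h
      exact hSnn (Subgroup.normalizer_eq_top_iff.mp h)
    · rw [even_iff_two_dvd]
      exact (show 2 ∣ 4 by norm_num).trans (hS4 ▸ Subgroup.card_dvd_of_le hSH)
    · intro g hg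
      rw [← Nat.not_even_iff_odd, even_iff_two_dvd]
      intro h2
      apply hg
      obtain ⟨⟨t, ht⟩, hto⟩ := exists_prime_orderOf_dvd_card' 2 h2
      rw [Subgroup.orderOf_mk] at hto
      have t2 : t * t = 1 := by rw [← pow_two, ← hto, pow_orderOf_eq_one]
      have t1 : t ≠ 1 := by intro h; rw [h, orderOf_one] at hto; omega
      have htS : t ∈ S₀ := hinvH t ht.1 t2
      obtain ⟨s, hs, hst⟩ := ht.2
      have hst' : g * s * g⁻¹ = t := by simpa using hst
      have hsS : s ∈ S₀ := by
        apply hinvH s hs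
        have : s = g⁻¹ * t * g := by rw [← hst']; group
        rw [this]
        calc g⁻¹ * t * g * (g⁻¹ * t * g) = g⁻¹ * (t * t) * g := by group
          _ = 1 := by rw [t2]; group
      -- `g S₀ g⁻¹ ≤ S₀`
      have hmap : S₀.map (MulAut.conj g).toMonoidHom ≤ S₀ := by
        rintro _ ⟨a, ha, rfl⟩
        have h1 : g * a * g⁻¹ ∈ S₀ := by
          apply h2el' t htS t1 _ _ 1
          · rw [pow_one, pow_two]
            calc g * a * g⁻¹ * (g * a * g⁻¹) = g * (a * a) * g⁻¹ := by group
              _ = 1 := by rw [hS2 a ha]; group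
          · rw [← hst']
            calc g * a * g⁻¹ * (g * s * g⁻¹) = g * (a * s) * g⁻¹ := by group
              _ = g * (s * a) * g⁻¹ := by rw [hScomm a ha s hsS]
              _ = g * s * g⁻¹ * (g * a * g⁻¹) := by group
        simpa using h1
      have hmapc : Nat.card (S₀.map (MulAut.conj g).toMonoidHom) = 4 := by
        rw [← hS4]
        exact (Nat.card_congr (S₀.equivMapOfInjective _ (MulAut.conj g).injective).toEquiv).symm
      have heq := Subgroup.eq_of_le_of_card_ge hmap (by rw [hmapc, hS4])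
      rw [hH]
      exact (Subgroup.mem_normalizer_iff_map_conj_eq).mpr heq
  have hcoreG : Cfsg.oddCore G = ⊥ := by
    have hcop := Cfsg.Agent.Lib.Cores.pPrimeCore_coprime (G := G) 2
    rcases IsSimpleGroup.eq_bot_or_eq_top_of_normal _ (Cfsg.Agent.Lib.Cores.pPrimeCore_normal (G := G) 2) with h | h
    · exact h
    · exfalso
      rw [h, Subgroup.card_top] at hcop
      have h1 : 2 ∣ Nat.card G := by rw [← hx]; exact orderOf_dvd_natCard x
      have h2 := Nat.Coprime.eq_one_of_dvd hcop.symm h1
      omega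
  -- `C` centralizes `S₀`
  have hCS : ∀ a ∈ C, ∀ s ∈ S₀, a * s = s * a := by
    intro a ha s hs
    -- `a ^ 2` centralizes `S₀`
    have hconj : ∀ a ∈ C, ∀ s ∈ S₀, a * s * a⁻¹ ∈ S₀ := by
      intro a ha s hs
      have := hn.conj_mem ⟨s, hle hs⟩ hs ⟨a, ha⟩
      exact this
    by_cases hsx : s = x
    · rw [hsx]; exact (memC a).mp ha
    by_cases hs1 : s = 1
    · rw [hs1]; simp
    have hV4 := Cfsg.Agent.S3277.four_elements S₀ hS4 hxS hs x1 hs1 (Ne.symm hsx) (by
      intro h
      apply hsx
      have : s⁻¹ = s := inv_eq_of_mul_eq_one_right (hS2 s hs)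
      rw [mul_eq_one_iff_eq_inv, this] at h
      exact h.symm)
    have hax : a * x * a⁻¹ = x := by
      rw [(memC a).mp ha]; group
    -- `a s a⁻¹` is `s` or `x s`
    have hsq : a ^ 2 * s * (a ^ 2)⁻¹ = s := by
      rcases hV4 _ (hconj a ha s hs) with h | h | h | h
      · exfalso
        apply hs1
        calc s = a⁻¹ * (a * s * a⁻¹) * a := by group
          _ = 1 := by rw [h]; group
      · exfalso
        apply hsx
        rw [← hax] at h
        exact mul_left_cancel (mul_right_cancel h)
      · calc a ^ 2 * s * (a ^ 2)⁻¹ = a * (a * s * a⁻¹) * a⁻¹ := by rw [pow_two]; group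
          _ = s := by rw [h, h]
      · calc a ^ 2 * s * (a ^ 2)⁻¹ = a * (a * s * a⁻¹) * a⁻¹ := by rw [pow_two]; group
          _ = a * (x * s) * a⁻¹ := by rw [h]
          _ = (a * x * a⁻¹) * (a * s * a⁻¹) := by group
          _ = x * (x * s) := by rw [hax, h]
          _ = s := by rw [← mul_assoc, x2, one_mul]
    have h1 : a ∈ Subgroup.centralizer ({s} : Set G) := by
      apply mem_of_pow_odd _ hrodd
      · rw [Subgroup.mem_centralizer_singleton_iff]
        calc a ^ 2 * s = (a ^ 2 * s * (a ^ 2)⁻¹) * a ^ 2 := by group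
          _ = s * a ^ 2 := by rw [hsq]
      · rw [Subgroup.mem_centralizer_singleton_iff]
        exact hScomm _ (hpowr a ha) s hs
    rw [Subgroup.mem_centralizer_singleton_iff] at h1
    exact h1
  have hCH : C ≤ H := by
    intro a ha
    rw [hH, Subgroup.mem_normalizer_iff]
    intro s
    constructor
    · intro hs
      rw [hCS a ha s hs, mul_inv_cancel_right]
      exact hs
    · intro hs
      have := hCS a⁻¹ (C.inv_mem ha) _ hs
      have h2 : s = a⁻¹ * (a * s * a⁻¹) * a := by group
      rw [h2, this]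
      rw [show a * s * a⁻¹ * a⁻¹ * a = a * s * a⁻¹ by group]
      exact hs
  -- the centralizer inside `H`
  set D : Subgroup H := C.subgroupOf H with hD
  have hDn : D.Normal := by
    constructor
    rintro ⟨a, haH⟩ ha ⟨h, hh⟩
    have ha' : a ∈ C := ha
    show h * a * h⁻¹ ∈ C
    rw [memC]
    have hxh : h⁻¹ * x * h ∈ S₀ := by
      have := (Subgroup.mem_normalizer_iff.mp (H.inv_mem hh) x).mp hxS
      rwa [inv_inv] at this
    have := hCS a ha' _ hxh
    calc h * a * h⁻¹ * x = h * (a * (h⁻¹ * x * h)) * h⁻¹ := by group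
      _ = h * ((h⁻¹ * x * h) * a) * h⁻¹ := by rw [this]
      _ = x * (h * a * h⁻¹) := by group
  have hSH' : (S : Subgroup G) ≤ H := by rw [hSS]; exact hSH
  have hSD : ((S.subtype hSH' : Sylow 2 H) : Subgroup H) ≤ D := by
    intro a ha
    have : (a : G) ∈ (S : Subgroup G) := ha
    rw [hSS] at this
    exact hle this
  let T : Sylow 2 D := (S.subtype hSH').subtype hSD
  have hTmem : ∀ d : D, d ∈ T ↔ ((d : H) : G) ∈ S₀ := by
    intro d
    rw [← hSS]
    rfl
  have hTc : ∀ d ∈ T, ∀ e : D, e * d = d * e := by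
    intro d hd e
    rw [hTmem] at hd
    apply Subtype.ext
    apply Subtype.ext
    exact hCS _ e.2 _ hd
  have key : Subgroup.normalizer ((T : Subgroup D) : Set D) ≤
      Subgroup.centralizer ((T : Subgroup D) : Set D) := by
    intro g _
    rw [Subgroup.mem_centralizer_iff]
    intro h hh
    exact (hTc h hh g).symm
  set K : Subgroup D := (MonoidHom.transferSylow T key).ker with hKdef
  have hKc : K.IsComplement' (T : Subgroup D) := MonoidHom.ker_transferSylow_isComplement' T key
  have hKcop : (Nat.card K).Coprime 2 := by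
    rw [Nat.coprime_two_right, ← Nat.not_even_iff_odd, even_iff_two_dvd]
    have h1 := Subgroup.IsComplement'.index_eq_card hKc
    rw [← h1]
    exact T.not_dvd_index
  have hKle : K ≤ Cfsg.oddCore D :=
    Cfsg.Agent.Lib.Cores.le_pPrimeCore (MonoidHom.normal_ker _) hKcop
  have hKbot : K = ⊥ := by
    rw [Subgroup.eq_bot_iff_forall]
    intro k hk
    have h1 : (k : H) ∈ Cfsg.oddCore H := by
      have h2 := Cfsg.Agent.Lib.Cores.map_subtype_pPrimeCore 2 hDn
      have h3 : (k : H) ∈ (Cfsg.pPrimeCore 2 D).map D.subtype := ⟨k, hKle hk, rfl⟩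
      rw [h2] at h3
      exact h3.2
    have h4 := Cfsg.Agent.S1221.result H hHse ⟨(k : H), h1, rfl⟩
    rw [hcoreG, Subgroup.mem_bot] at h4
    exact Subtype.ext (Subtype.ext h4)
  have hTtop : (T : Subgroup D) = ⊤ := by
    rw [hKbot] at hKc
    exact Subgroup.isComplement'_bot_left.mp hKc
  have hCS0 : C = S₀ := by
    apply le_antisymm _ hle
    intro a ha
    have : (⟨⟨a, hCH ha⟩, ha⟩ : D) ∈ (T : Subgroup D) := by rw [hTtop]; trivial
    exact (hTmem _).mp this
  have hGcard : 4 < Nat.card G := by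
    rw [← hS4]
    have h1 := Subgroup.card_subgroup_dvd_card S₀
    have h2 := Nat.le_of_dvd Nat.card_pos h1
    rcases h2.lt_or_eq with h | h
    · exact h
    · exact absurd (Subgroup.eq_top_of_card_eq _ h) hStop
  refine Cfsg.Agent.S3277.result x hx (by rw [← hC, hCS0, hS4]) ?_ ?_ ?_
  · intro c hc
    rw [← hC, hCS0] at hc
    rw [pow_two]; exact hS2 c hc
  · rintro ⟨P, N, hNn, hNc⟩
    have hPcard : Nat.card (P : Subgroup G) = 4 := by
      rw [← hS4, ← hSS]
      rw [P.card_eq_multiplicity, S.card_eq_multiplicity]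
    have h1 := hNc.card_mul_card
    rcases IsSimpleGroup.eq_bot_or_eq_top_of_normal _ hNn with h | h
    · rw [h, Subgroup.card_bot, hPcard] at h1
      omega
    · rw [h, Subgroup.card_top, hPcard] at h1
      omega
  · intro E hEn _
    rcases IsSimpleGroup.eq_bot_or_eq_top_of_normal _ hEn with h | h
    · rw [h, Subgroup.card_bot]; omega
    · rw [h, Subgroup.card_top]; omega

end Cfsg.Agent.S3278
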