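import Cfsg.Statements.S4248
import Cfsg.Agent.H550.Part.Main
import Cfsg.Agent.S0205
import Cfsg.Agent.S0340
import Cfsg.Agent.S0483
import Cfsg.Agent.S1221
import Cfsg.Agent.StrongEmb.Strong
import Cfsg.Agent.ThreePrime.OrderThree

set_option autoImplicit false
open Cfsg

namespace Cfsg.Agent.S4248

universe u

/-- the quoted classification theorems -/
theorem quoted : Cfsg.Agent.H550.Part.Quoted.{u} where
  odd := fun _ _ _ h => Cfsg.Agent.S0205.result h
  strong := fun _ _ _ H hH => Cfsg.Agent.S1221.result H hH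
  zass := fun _ _ _ _ _ _ hZ _ => Cfsg.Agent.S0340.result hZ
  dih := fun _ _ _ _ S n hn hS => Cfsg.Agent.S0483.result S n hn hS
  suz := by
    intro K _ _ _ H hns hH h3
    have hna : ∃ a b : K, a * b ≠ b * a := by
      by_contra hcon
      push Not at hcon
      exact hns (IsSimpleGroup.comm_iff_isSolvable.1 hcon)
    rcases Cfsg.Agent.StrongEmb.Strong.result hna H hH with
      ⟨F, _, _, -, ⟨e⟩⟩ | h | ⟨F, _, _, m, hm, hF, ⟨e⟩⟩
    · exact absurd (by
        rw [Nat.card_congr e.toEquiv]
        exact Cfsg.Agent.ThreePrime.OrderThree.three_dvd_card_psl F) h3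
    · exact h
    · refine absurd ?_ h3
      rw [Nat.card_congr e.toEquiv]
      refine Cfsg.Agent.ThreePrime.OrderThree.three_dvd_card_psu F (2 ^ m) hF ?_
      calc 2 = 2 ^ 1 := (pow_one 2).symm
        _ ≤ 2 ^ m := Nat.pow_le_pow_right (by norm_num) (by omega)

/-- Let G be a finite group admitting a nontrivial partition: a family of at least two nontrivial subgroups such that every non-identity element of G lies in exactly one member. Then G is isomorphic to the symmetric group of degree 4; or, for some prime p, the Hughes subgroup generated by the elements g with g^p ≠ 1 is proper (G a p-group or a group of Hughes–Thompson type); or G is a Frobenius group; or G is isomorphic to PSL(2, q) with q ≥ 4, to PGL(2, q) with q ≥ 5 odd, or to a Suzuki group. -/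
theorem result {G : Type*} [Group G] [Finite G] (S : Set (Subgroup G)) (hS2 : ∃ H ∈ S, ∃ K ∈ S, H ≠ K)
    (hS1 : ∀ H ∈ S, H ≠ ⊥) (hpart : ∀ g : G, g ≠ 1 → ∃! H : Subgroup G, H ∈ S ∧ g ∈ H) :
    Nonempty (G ≃* Equiv.Perm (Fin 4)) ∨
    (∃ p : ℕ, p.Prime ∧ Subgroup.closure {g : G | g ^ p ≠ 1} ≠ ⊤) ∨
    (∃ H : Subgroup G, Cfsg.IsFrobeniusComplement H) ∨
    (∃ (F : Type) (_ : Field F) (_ : Fintype F), 4 ≤ Fintype.card F ∧
        Nonempty (G ≃* Matrix.ProjectiveSpecialLinearGroup (Fin 2) F)) ∨
    (∃ (F : Type) (_ : Field F) (_ : Fintype F), 5 ≤ Fintype.card F ∧ Odd (Fintype.card F) ∧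
        Nonempty (G ≃* (GL (Fin 2) F ⧸ Subgroup.center (GL (Fin 2) F)))) ∨
    Cfsg.Lie.IsoSuzuki G :=
  Cfsg.Agent.H550.Part.classification quoted S hS2 hS1 hpart

end Cfsg.Agent.S4248
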