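import Cfsg.Statements.S3224
import Cfsg.Agent.TwoFusion.MaxClass

set_option autoImplicit false
open Cfsg

namespace Cfsg.Agent.S3224

/-- A finite 2-group containing an involution whose centralizer has order 4 is dihedral, quasi-dihedral (semidihedral), or of order 4. -/
theorem result {S : Type*} [Group S] [Finite S] (hS : IsPGroup 2 S)
    (x : S) (hx : orderOf x = 2) (hC : Nat.card ↥(Subgroup.centralizer ({x} : Set S)) = 4) :
    (∃ n : ℕ, Nonempty (S ≃* DihedralGroup n)) ∨ Cfsg.IsQuasiDihedral S ∨ Nat.card S = 4 := by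
  by_cases hc : x ∈ Subgroup.center S
  · right; right
    have h1 : Subgroup.centralizer ({x} : Set S) = ⊤ := by
      rw [eq_top_iff]
      intro g _
      rw [Subgroup.mem_centralizer_singleton_iff]
      exact (Subgroup.mem_center_iff.1 hc g)
    rw [h1, Subgroup.card_top] at hC
    exact hC
  · rcases Cfsg.Agent.TwoFusion.MaxClass.dihedral_or_qd_of_card_centralizer_eq_four hS x hx hc hC with
      ⟨m, _, h⟩ | h
    · exact Or.inl ⟨m, h⟩
    · exact Or.inr (Or.inl h)

end Cfsg.Agent.S3224
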