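import Cfsg.Statements.S4706
import Cfsg.Agent.S0222
import Cfsg.Agent.S1013
import Cfsg.Agent.S0675
import Cfsg.Agent.S0157
import Cfsg.Agent.H656.BenderArith
import Cfsg.Agent.H656.DihedralSimple
import Cfsg.Agent.H656.PermSetup

set_option autoImplicit false
open Cfsg

namespace Cfsg.Agent.S4706

open Cfsg.Agent.H656.DihedralP Cfsg.Agent.H656.DihedralSimple Cfsg.Agent.H656.PermSetup

/-- Let p > 2 be a prime and G a permutation group on p letters whose Sylow p-subgroup P has normalizer of order 2p. Then either P is normal in G, or p − 1 = 2^a for some a and G is isomorphic to SL(2, 2^a). -/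
theorem result {α : Type*} [Fintype α] [DecidableEq α] {p : ℕ} [Fact p.Prime] (hp : 2 < p) (hα : Fintype.card α = p) (G : Subgroup (Equiv.Perm α)) (P : Sylow p G) (hN : Nat.card (Subgroup.normalizer ((P : Subgroup G) : Set G)) = 2 * p) : (P : Subgroup G).Normal ∨ ∃ (a : ℕ) (F : Type) (_ : Field F) (_ : Fintype F), p = 2 ^ a + 1 ∧ Fintype.card F = 2 ^ a ∧ Nonempty (G ≃* Matrix.SpecialLinearGroup (Fin 2) F) := by
  by_cases hnn : (P : Subgroup G).Normal
  · exact Or.inl hnn
  right
  have hpp : p.Prime := Fact.out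
  have hP : Nat.card P = p := card_sylow hp P hN hnn
  have hP' : Nat.card (P : Subgroup G) = p := hP
  have hordP : ∀ y ∈ (P : Subgroup G), y ≠ 1 → orderOf (y : Equiv.Perm α) = p := by
    intro y hy hy1
    rw [Subgroup.orderOf_coe]
    exact orderOf_eq hP' hy hy1
  obtain ⟨y₀, hy₀, hy₀1⟩ := exists_mem hP'
  obtain ⟨hcyc, hmove⟩ := cycle hα (hordP y₀ hy₀ hy₀1)
  -- transitivity
  have htrans : MulAction.IsPretransitive G α := by
    constructor
    intro a b
    obtain ⟨k, hk⟩ := hcyc.sameCycle (hmove a) (hmove b)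
    refine ⟨y₀ ^ k, ?_⟩
    rw [Subgroup.smul_def, Subgroup.coe_zpow]
    exact hk
  -- `p ≥ 5`
  have hp5 : 5 ≤ p := by
    by_contra hcon
    have h3 : p = 3 := by
      have : p ≠ 4 := by rintro rfl; exact absurd hpp (by norm_num)
      omega
    apply hnn
    have h4 : Nat.card G ∣ 6 := by
      have h5 := Subgroup.card_subgroup_dvd_card G
      rw [Nat.card_perm, Nat.card_eq_fintype_card (α := α), hα, h3] at h5
      exact h5
    have h5 : Nat.card G ≤ 6 := Nat.le_of_dvd (by norm_num) h4
    have h6 : Subgroup.normalizer ((P : Subgroup G) : Set G) = ⊤ := by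
      apply Subgroup.eq_top_of_le_card
      rw [hN, h3]
      exact h5
    exact Subgroup.normalizer_eq_top_iff.mp h6
  -- simplicity
  have hsyl : 1 < Nat.card (Sylow p G) := by
    rw [Finite.one_lt_card_iff_nontrivial]
    by_contra hcon
    rw [not_nontrivial_iff_subsingleton] at hcon
    exact hnn P.normal_of_subsingleton
  have hidx : ((P : Subgroup G).subgroupOf
      (Subgroup.normalizer ((P : Subgroup G) : Set G))).index = 2 := by
    have h1 := Subgroup.relIndex_mul_relIndex (⊥ : Subgroup G) (P : Subgroup G)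
      (Subgroup.normalizer ((P : Subgroup G) : Set G)) bot_le Subgroup.le_normalizer
    rw [Subgroup.relIndex_bot_left, Subgroup.relIndex_bot_left, hP', hN, mul_comm 2 p] at h1
    exact Nat.eq_of_mul_eq_mul_left hpp.pos h1
  have hsimple : IsSimpleGroup G :=
    Cfsg.Agent.S1013.result hα G P hsyl (by rw [hidx]; exact Nat.prime_two)
  have hnc : ∃ a b : G, a * b ≠ b * a := by
    by_contra hcon
    push Not at hcon
    apply hnn
    constructor
    intro n hn g
    rw [hcon g n, mul_inv_cancel_right]
    exact hn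
  have hH : Hyp P := ⟨hP, centralizer_eq P hP hN hnn, hN, hp5⟩
  -- double transitivity
  have h2t : MulAction.IsMultiplyPretransitive G α 2 := by
    rcases Cfsg.Agent.S0675.result (by rw [hα]; exact hpp) G with h | h
    · exfalso
      obtain ⟨a, b, hab⟩ := hnc
      exact hab (IsSimpleGroup.comm_iff_isSolvable.mpr h a b)
    · exact h
  have hρ := (Cfsg.Agent.S0157.result (G := G) α (by
    rw [Nat.card_eq_fintype_card, hα]; omega)).mpr h2t
  set ρ : G → ℂ := fun g => (Nat.card (MulAction.fixedBy α g) : ℂ) - 1 with hρdef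
  have hρ1 : ρ 1 = (p : ℂ) - 1 := by
    rw [hρdef]
    simp only
    rw [card_fixedBy_one, hα]
  have hρP : ∀ y ∈ (P : Subgroup G), y ≠ 1 → ρ y = -1 := by
    intro y hy hy1
    have h1 := (cycle hα (hordP y hy hy1)).2
    have h2 : MulAction.fixedBy α y = ∅ := by
      ext x
      simp only [MulAction.mem_fixedBy, Set.mem_empty_iff_false, iff_false]
      exact h1 x
    rw [hρdef]
    simp only
    rw [h2]
    simp
  have hker : ∀ b : G, orderOf b = 2 → ρ b ≠ ρ 1 := by
    intro b hb h
    rw [hρdef] at h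
    simp only at h
    rw [sub_left_inj, Nat.cast_inj, card_fixedBy_one] at h
    rw [eq_one_of_card_fixedBy h, orderOf_one] at hb
    norm_num at hb
  obtain ⟨x, hx, hxP⟩ := hH.exists_not_mem
  have hx2 := hH.orderOf_eq_two hx hxP
  have hfix : ∀ b : G, orderOf b = 2 → Nat.card (MulAction.fixedBy α b) = 1 := by
    intro b hb
    have h1 := hH.isConj_of_involution hρ hρ1 hρP hx hxP hb (hker b hb)
    have h2 := hH.apply_eq_zero hρ hρ1 hρP hx hxP
    have h3 : ρ b = ρ x := (Cfsg.Agent.Characters.Core.classFunction_apply_eq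
      (Cfsg.Agent.Characters.Core.isCharacter_isClassFunction
        (Cfsg.Agent.Characters.Core.isIrr_isCharacter hρ)) h1).symm
    rw [h2, hρdef] at h3
    simp only at h3
    have h4 : (Nat.card (MulAction.fixedBy α b) : ℂ) = 1 := by
      linear_combination h3
    exact_mod_cast h4
  have hf2 := hH.factorization_two hρ hρ1 hρP hker
  obtain ⟨a₀⟩ : Nonempty α := by
    rw [← Fintype.card_pos_iff, hα]
    exact hpp.pos
  have hse := isStronglyEmbedded (G := G) a₀ (by rw [hα]; omega) hx2 hfix
  have hdvd : p ∣ Nat.card G := by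
    rw [← hP']
    exact Subgroup.card_subgroup_dvd_card _
  exact Cfsg.Agent.H656.BenderArith.conclusion hpp hp5 hf2 hdvd
    (Cfsg.Agent.S0222.result hnc _ hse)

end Cfsg.Agent.S4706
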