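import Cfsg.Statements.S3669
import Cfsg.Agent.H424.DegTools
import Cfsg.Agent.H424.GroupTools
import Cfsg.Agent.SmallSimple.OrdersA
import Cfsg.Agent.S0494

set_option autoImplicit false
open Cfsg

namespace Cfsg.Agent.S3669

/-- `5` divides a degree of the alternating group of degree 5. -/
theorem five_mem : 5 ∈ Cfsg.degreePrimes (alternatingGroup (Fin 5)) := by
  have : Fact (Nat.Prime 5) := ⟨by norm_num⟩
  have hs : IsSimpleGroup (alternatingGroup (Fin 5)) := alternatingGroup.isSimpleGroup_five
  have hc : Nat.card (alternatingGroup (Fin 5)) = 60 := by
    rw [Nat.card_eq_fintype_card]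
    have := two_mul_card_alternatingGroup (α := Fin 5)
    rw [Fintype.card_perm, Fintype.card_fin] at this
    simp only [Nat.factorial] at this
    omega
  have hG : ¬ IsMulCommutative (alternatingGroup (Fin 5)) :=
    SmallSimple.OrdersA.not_comm hc (by norm_num)
  have h1 := SmallSimple.OrdersA.syl_cases hc hG 5 1 (by norm_num) (by norm_num) (by norm_num)
    (by norm_num) [6] (by decide +kernel)
  simp only [List.mem_cons, List.mem_nil_iff, or_false] at h1
  let P : Sylow 5 (alternatingGroup (Fin 5)) := default
  have hP : Nat.card P = 5 := SmallSimple.PrimeLocal.card_of_not_sq_dvd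
    (by rw [hc]; norm_num) (by rw [hc]; norm_num) P
  exact ⟨by norm_num, 5, H424.DegTools.of_two_transitive _
    (H424.GroupTools.two_transitive P hP h1) h1 (by norm_num), dvd_rfl⟩

/-- The character degree graph of a finite group has as vertices the primes dividing some irreducible complex character degree, two distinct primes being joined when their product divides some irreducible character degree; two groups have the same character degree graph when they have the same vertices and the same joined pairs. A finite group of order 60 with the same character degree graph as the alternating group A₅ (whose character degrees are 1, 3, 4, 5, so the graph has vertices 2, 3, 5 and no edges) is isomorphic to A₅. -/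
theorem result {G : Type*} [Group G] [Finite G] (hcard : Nat.card G = 60)
    (hΓ : Cfsg.degreePrimes G = Cfsg.degreePrimes (alternatingGroup (Fin 5)) ∧ Cfsg.degreeGraph G = Cfsg.degreeGraph (alternatingGroup (Fin 5))) : Nonempty (G ≃* alternatingGroup (Fin 5)) := by
  have : Fact (Nat.Prime 5) := ⟨by norm_num⟩
  let P : Sylow 5 G := default
  have hP : Nat.card P = 5 := SmallSimple.PrimeLocal.card_of_not_sq_dvd
    (by rw [hcard]; norm_num) (by rw [hcard]; norm_num) P
  have hn : ¬ (P : Subgroup G).Normal := by
    intro hn
    have h1 : 5 ∉ Cfsg.degreePrimes G := by
      refine H424.DegTools.not_mem_degreePrimes (P : Subgroup G) ?_ ?_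
      · have : IsCyclic P := isCyclic_of_prime_card hP
        intro a ha b hb
        have := (IsCyclic.commGroup (α := P)).mul_comm ⟨a, ha⟩ ⟨b, hb⟩
        exact congrArg Subtype.val this
      · have h2 := (P : Subgroup G).card_mul_index
        rw [show Nat.card (P : Subgroup G) = 5 from hP, hcard] at h2
        omega
    rw [hΓ.1] at h1
    exact h1 five_mem
  have hs : IsSimpleGroup G := H424.GroupTools.isSimpleGroup_sixty hcard hn
  exact S0494.result hcard

end Cfsg.Agent.S3669
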