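import Cfsg.Statements.S5809
import Cfsg.Agent.H48.SevenE
import Cfsg.Agent.S0000

set_option autoImplicit false
open Cfsg

namespace Cfsg.Agent.S5809

/-- The maximal subgroups of SL_7(q) in the residual class. Let F be a finite field with q elements and H a maximal subgroup of SL_7(F) lying in the residual class of the linear case. Then q = p is a prime with p ≡ 1 mod 4 and the perfect socle preimage P of H is, modulo scalars, isomorphic to U_3(3) (PSU_3 over the field with 9 elements). -/
theorem result {F : Type*} [Field F] [Fintype F] (H : Subgroup (Matrix.GeneralLinearGroup (Fin 7) F)) (hH : Cfsg.Geo.IsMaximalIn (Cfsg.Geo.specialLinear (Fin 7) F) H) (hS : Cfsg.Geo.InLinearResidualClass H) :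
    ∃ (P : Subgroup (Matrix.GeneralLinearGroup (Fin 7) F)) (p : ℕ), Cfsg.Geo.IsResidualCore H P ∧ p.Prime ∧ Fintype.card F = p ∧ p % 4 = 1 ∧ (∃ (K : Type) (_ : Field K) (_ : Fintype K), Fintype.card K = 9 ∧ Nonempty ((P ⧸ (Cfsg.Geo.scalars (Fin 7) F).subgroupOf P) ≃* Cfsg.PSU 3 K 3)) := by
  exact Cfsg.Agent.H48.Seven.seven_linear (fun P hC => by have := hC.simple; exact Cfsg.Agent.S0000.result) H hH hS

end Cfsg.Agent.S5809
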