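import Cfsg.Statements.S5826
import Cfsg.Agent.H920.MinusB
import Cfsg.Agent.H925.OrthNot

set_option autoImplicit false
open Cfsg

namespace Cfsg.Agent.S5826

/-- Every maximal subgroup of Ω_8^-(q) is of one of the listed geometric types or lies in the residual class. Let F be a finite field with q elements, Q a non-degenerate quadratic form on F^8 of minus type (no totally singular 4-space), Ω the commutator subgroup of its isometry group, and H a maximal subgroup of Ω (inside GL_8(F)). Then H is the intersection with Ω of one of: the stabiliser of a non-zero totally singular subspace; for q odd, the stabiliser of a non-degenerate subspace of odd dimension; the stabiliser of a non-degenerate 2-space of minus type; for q ≥ 4, the stabiliser of a non-degenerate 2-space of plus type; the stabiliser of a non-degenerate 4-space; for q even, the stabiliser of the span of a non-singular vector; the normaliser of a degree-2 subfield of the matrix algebra; a subfield group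 of odd prime index whose F₀-structure carries a non-zero multiple of Q — or else H lies in the residual class of the orthogonal case (modulo scalars H is almost simple, with absolutely irreducible perfect socle preimage realisable over no proper subfield and fixing no non-degenerate unitary form). -/
theorem result {F : Type*} [Field F] [Fintype F] (Q : (Fin 8 → F) → F) (hQ : Cfsg.Geo.IsNondegenerateQuadraticForm Q) (hminus : ¬ Cfsg.Geo.IsPlusTypeOn Q ⊤) (H : Subgroup (Matrix.GeneralLinearGroup (Fin 8) F)) (hH : Cfsg.Geo.IsMaximalIn (Cfsg.Geo.omegaGL Q) H) :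
    (∃ W : Submodule F (Fin 8 → F), W ≠ ⊥ ∧ Cfsg.Geo.IsTotallySingularQuad Q W ∧ H = Cfsg.Geo.subspaceStabilizer W ⊓ Cfsg.Geo.omegaGL Q) ∨
    (Odd (Fintype.card F) ∧ ∃ W : Submodule F (Fin 8 → F), W ≠ ⊥ ∧ W ≠ ⊤ ∧ Odd (Module.finrank F W) ∧ Cfsg.Geo.IsNondegenerateOn (QuadraticMap.polar Q) W ∧ H = Cfsg.Geo.subspaceStabilizer W ⊓ Cfsg.Geo.omegaGL Q) ∨
    (∃ W : Submodule F (Fin 8 → F), Module.finrank F W = 2 ∧ Cfsg.Geo.IsNondegenerateOn (QuadraticMap.polar Q) W ∧ ¬ Cfsg.Geo.IsPlusTypeOn Q W ∧ H = Cfsg.Geo.subspaceStabilizer W ⊓ Cfsg.Geo.omegaGL Q) ∨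
    (4 ≤ Fintype.card F ∧ ∃ W : Submodule F (Fin 8 → F), Module.finrank F W = 2 ∧ Cfsg.Geo.IsNondegenerateOn (QuadraticMap.polar Q) W ∧ Cfsg.Geo.IsPlusTypeOn Q W ∧ H = Cfsg.Geo.subspaceStabilizer W ⊓ Cfsg.Geo.omegaGL Q) ∨
    (∃ W : Submodule F (Fin 8 → F), Module.finrank F W = 4 ∧ Cfsg.Geo.IsNondegenerateOn (QuadraticMap.polar Q) W ∧ H = Cfsg.Geo.subspaceStabilizer W ⊓ Cfsg.Geo.omegaGL Q) ∨
    (¬ Odd (Fintype.card F) ∧ ∃ v : (Fin 8 → F), Q v ≠ 0 ∧ H = Cfsg.Geo.subspaceStabilizer (Submodule.span F {v}) ⊓ Cfsg.Geo.omegaGL Q) ∨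
    (∃ K : Subalgebra F (Matrix (Fin 8) (Fin 8) F), Cfsg.Geo.IsFieldSubalgebra 2 K ∧ H = Cfsg.Geo.subalgebraNormalizer K ⊓ Cfsg.Geo.omegaGL Q) ∨
    (∃ (F₀ : Subfield F) (r : ℕ) (P : Matrix.GeneralLinearGroup (Fin 8) F) (ζ : F), r.Prime ∧ Odd r ∧ Fintype.card F = Nat.card F₀ ^ r ∧ ζ ≠ 0 ∧ Cfsg.Geo.IsQuadFormRationalStructure (fun v : Fin 8 → F => ζ * Q v) F₀ P ∧ H = Cfsg.Geo.subfieldSubgroup F₀ P ⊓ Cfsg.Geo.omegaGL Q) ∨
    Cfsg.Geo.InOrthogonalResidualClass H := by
  have hcard : Fintype.card (Fin 8) = 8 := by simp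
  have hHO : H ≤ Cfsg.Geo.omegaGL Q := hH.1.le
  have hHI : H ≤ Cfsg.isometryGroup F Q := hHO.trans (H925.omegaGL_le_iso Q)
  have heq : ∀ M : Subgroup (Matrix.GeneralLinearGroup (Fin 8) F), H ≤ M → ¬ Cfsg.Geo.omegaGL Q ≤ M →
      H = M ⊓ Cfsg.Geo.omegaGL Q := fun M h1 h2 => H925.eq_inf_of_isMaximalIn hH h1 h2
  have hsub : ∀ W : Submodule F (Fin 8 → F), W ≠ ⊥ → W ≠ ⊤ → H ≤ Cfsg.Geo.subspaceStabilizer W →
      H = Cfsg.Geo.subspaceStabilizer W ⊓ Cfsg.Geo.omegaGL Q := fun W h0 h1 h =>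
    heq _ h (H925.omegaGL_not_le_subspaceStabilizer hQ (by omega) h0 h1)
  have htop : ∀ W : Submodule F (Fin 8 → F), Module.finrank F W < 8 → W ≠ ⊤ := by
    rintro W hW rfl
    rw [finrank_top, Module.finrank_fintype_fun_eq_card, hcard] at hW
    exact lt_irrefl _ hW
  have hbot : ∀ W : Submodule F (Fin 8 → F), 0 < Module.finrank F W → W ≠ ⊥ := by
    rintro W hW rfl
    rw [finrank_bot] at hW
    exact lt_irrefl _ hW
  have h2iff : ¬ Odd (Fintype.card F) ↔ (2 : F) = 0 := H926.card_even_iff_two_eq_zero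
  by_cases hirr : Cfsg.Geo.ActsIrreducibly (Cfsg.Geo.matrixSet H)
  · rcases H920.minus_eight_irreducible hcard hQ hminus hHI hirr with ⟨K, hK, hHK⟩ |
      ⟨F₀, r, P, ζ, hF₀, hr, ho, hc, hζ, hR, hHP⟩ | h
    · iterate 6 right
      exact Or.inl ⟨K, hK, heq _ hHK (H925.omegaGL_not_le_subalgebraNormalizer hQ (by omega) le_rfl hK)⟩
    · iterate 7 right
      exact Or.inl ⟨F₀, r, P, ζ, hr, ho, hc, hζ, hR, heq _ hHP
        (H925.omegaGL_not_le_subfieldSubgroup hQ (by omega) hF₀ P)⟩
    · iterate 8 right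
      exact h
  rcases H925.reducible_cases hQ hHI hirr with ⟨W, hW0, hW, hHW⟩ | ⟨W, hW0, hW, hdim, hHW⟩ | ⟨h2, v, hv, hHv⟩
  · refine Or.inl ⟨W, hW0, hW, hsub W hW0 (htop W ?_) hHW⟩
    have := H925.two_mul_finrank_le hQ hW
    omega
  · have hpos : 0 < Module.finrank F W := by
      rw [Module.finrank_pos_iff]
      exact Submodule.nontrivial_iff_ne_bot.2 hW0
    have hWtop := htop W (by omega)
    by_cases hodd : Odd (Module.finrank F W)
    · refine Or.inr (Or.inl ⟨?_, W, hW0, hWtop, hodd, hW, hsub W hW0 hWtop hHW⟩)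
      by_contra hne
      have h2 := h2iff.1 hne
      have hev := H926.even_on hQ.polar_bilinear W (fun v _ => by
        rw [H925.polar_self hQ, h2, zero_mul]) hW
      exact (Nat.not_even_iff_odd.2 hodd) hev
    · have h24 : Module.finrank F W = 2 ∨ Module.finrank F W = 4 := by
        rw [Nat.not_odd_iff_even] at hodd
        obtain ⟨k, hk⟩ := hodd
        omega
      rcases h24 with h2 | h4
      · by_cases hplus : Cfsg.Geo.IsPlusTypeOn Q W
        · by_cases hq : 4 ≤ Fintype.card F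
          · exact Or.inr (Or.inr (Or.inr (Or.inl ⟨hq, W, h2, hW, hplus, hsub W hW0 hWtop hHW⟩)))
          · have h1q := Fintype.one_lt_card (α := F)
            have h23 : Fintype.card F = 2 ∨ Fintype.card F = 3 := by omega
            rcases h23 with hF | hF
            · obtain ⟨v, hv, hle⟩ := H920.plus_plane_le_two hF hQ hW h2 hplus
              have hv0 : v ≠ 0 := by
                rintro rfl; exact hv (H925.Q_zero hQ)
              refine Or.inr (Or.inr (Or.inr (Or.inr (Or.inr (Or.inl ⟨?_, v, hv, ?_⟩)))))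
              · rw [hF]; decide
              · refine hsub _ ?_ (htop _ ?_) ((le_inf hHW hHI).trans hle)
                · rwa [Ne, Submodule.span_singleton_eq_bot]
                · rw [finrank_span_singleton hv0]; norm_num
            · obtain ⟨W', hd, hW', hle⟩ := H922.plus_plane_le hF hQ hW h2 hplus
              have hd' : Module.finrank F W' = 7 := by omega
              refine Or.inr (Or.inl ⟨by rw [hF]; decide, W', hbot W' (by omega), htop W' (by omega),
                by rw [hd']; decide, hW', hsub W' (hbot W' (by omega)) (htop W' (by omega))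
                  ((le_inf hHW hHI).trans (hle.trans inf_le_left))⟩)
        · exact Or.inr (Or.inr (Or.inl ⟨W, h2, hW, hplus, hsub W hW0 hWtop hHW⟩))
      · exact Or.inr (Or.inr (Or.inr (Or.inr (Or.inl ⟨W, h4, hW, hsub W hW0 hWtop hHW⟩))))
  · have hv0 : v ≠ 0 := by
      rintro rfl; exact hv (H925.Q_zero hQ)
    refine Or.inr (Or.inr (Or.inr (Or.inr (Or.inr (Or.inl ⟨h2iff.2 h2, v, hv, ?_⟩)))))
    refine hsub _ ?_ (htop _ ?_) hHv
    · rwa [Ne, Submodule.span_singleton_eq_bot]
    · rw [finrank_span_singleton hv0]; norm_num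

end Cfsg.Agent.S5826
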