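import Cfsg.Statements.S5827
import Cfsg.Agent.H917.OmMain
import Cfsg.Agent.S0000

set_option autoImplicit false
open Cfsg

namespace Cfsg.Agent.S5827

/-- The maximal subgroups of Ω_8^-(q) in the residual class. Let F be a finite field with q elements, Q a non-degenerate quadratic form on F^8 of minus type, Ω the commutator subgroup of its isometry group, and H a maximal subgroup of Ω lying in the residual class of the orthogonal case. Then the perfect socle preimage P of H satisfies one of: P modulo scalars is isomorphic to PSL_3(F) and q ≡ 2 mod 3; or P modulo scalars is isomorphic to U_3(q) (PSU_3 over the field with q² elements) and q ≡ 1 mod 3. -/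
theorem result {F : Type*} [Field F] [Fintype F] (Q : (Fin 8 → F) → F) (hQ : Cfsg.Geo.IsNondegenerateQuadraticForm Q) (hminus : ¬ Cfsg.Geo.IsPlusTypeOn Q ⊤) (H : Subgroup (Matrix.GeneralLinearGroup (Fin 8) F)) (hH : Cfsg.Geo.IsMaximalIn (Cfsg.Geo.omegaGL Q) H) (hS : Cfsg.Geo.InOrthogonalResidualClass H) :
    ∃ P : Subgroup (Matrix.GeneralLinearGroup (Fin 8) F), Cfsg.Geo.IsResidualCore H P ∧
    ((Nonempty ((P ⧸ (Cfsg.Geo.scalars (Fin 8) F).subgroupOf P) ≃* Matrix.ProjectiveSpecialLinearGroup (Fin 3) F) ∧ Fintype.card F % 3 = 2) ∨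
     ((∃ (K : Type) (_ : Field K) (_ : Fintype K), Fintype.card K = Fintype.card F ^ 2 ∧ Nonempty ((P ⧸ (Cfsg.Geo.scalars (Fin 8) F).subgroupOf P) ≃* Cfsg.PSU 3 K (Fintype.card F))) ∧ Fintype.card F % 3 = 1)) := by
  exact H917.Om.row (fun _ _ _ _ => S0000.result) hQ hminus hH hS

end Cfsg.Agent.S5827
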