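import Cfsg.Statements.S5830
import Cfsg.Agent.H920.NineAsm
import Cfsg.Agent.S0000

set_option autoImplicit false
open Cfsg

namespace Cfsg.Agent.S5830

/-- The maximal subgroups of SL_9(q) in the residual class. Let F be a finite field with q elements and H a maximal subgroup of SL_9(F) lying in the residual class of the linear case. Then the perfect socle preimage P of H satisfies one of: P modulo scalars is isomorphic to A_7 and q = 7; or to PSL_2(19) and q = p is prime with p a non-zero square modulo 19 (p ≡ 1, 4, 5, 6, 7, 9, 11, 16 or 17 mod 19); or to PSL_3 over the field with q² elements (no condition on q). -/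
theorem result {F : Type*} [Field F] [Fintype F] (H : Subgroup (Matrix.GeneralLinearGroup (Fin 9) F)) (hH : Cfsg.Geo.IsMaximalIn (Cfsg.Geo.specialLinear (Fin 9) F) H) (hS : Cfsg.Geo.InLinearResidualClass H) :
    ∃ P : Subgroup (Matrix.GeneralLinearGroup (Fin 9) F), Cfsg.Geo.IsResidualCore H P ∧
    ((Nonempty ((P ⧸ (Cfsg.Geo.scalars (Fin 9) F).subgroupOf P) ≃* alternatingGroup (Fin 7)) ∧ Fintype.card F = 7) ∨
     (Nonempty ((P ⧸ (Cfsg.Geo.scalars (Fin 9) F).subgroupOf P) ≃* Matrix.ProjectiveSpecialLinearGroup (Fin 2) (ZMod 19)) ∧ (Fintype.card F).Prime ∧ (Fintype.card F % 19 = 1 ∨ Fintype.card F % 19 = 4 ∨ Fintype.card F % 19 = 5 ∨ Fintype.card F % 19 = 6 ∨ Fintype.card F % 19 = 7 ∨ Fintype.card F % 19 = 9 ∨ Fintype.card F % 19 = 11 ∨ Fintype.card F % 19 = 16 ∨ Fintype.card F % 19 = 17)) ∨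
     (∃ (K : Type) (_ : Field K) (_ : Fintype K), Fintype.card K = Fintype.card F ^ 2 ∧ Nonempty ((P ⧸ (Cfsg.Geo.scalars (Fin 9) F).subgroupOf P) ≃* Matrix.ProjectiveSpecialLinearGroup (Fin 3) K))) := by
  obtain ⟨P, hR, hC, hsd, hcj⟩ := Cfsg.Agent.H915.LD.linear_core hS
  have hs := hC.simple
  exact ⟨P, hR, Cfsg.Agent.H920.Nine.lin_concl hH hR hC hsd hcj Cfsg.Agent.S0000.result⟩

end Cfsg.Agent.S5830
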