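import Cfsg.Statements.S3256
import Cfsg.Agent.S0000
import Cfsg.Agent.H384.TwoTransMain
import Cfsg.Agent.H499.TTNormMain

set_option autoImplicit false
open Cfsg

namespace Cfsg.Agent.S3256

/-- Let G be a finite doubly transitive permutation group on Ω, α ∈ Ω, and Q ≠ 1 a cyclic normal subgroup of the stabilizer G_α; put L = ⟨Q^G⟩. Then G has a regular normal subgroup; or L ≅ PSL₂(q) with |Ω| = q + 1, or L ≅ PSU₃(q) with |Ω| = q³ + 1; or L ≅ PSL₂(8), |Ω| = 28 and G is isomorphic to the smallest Ree group ²G₂(3). -/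
theorem result {G : Type*} [Group G] [Finite G]
    {Ω : Type*} [Fintype Ω] [MulAction G Ω] [FaithfulSMul G Ω] (h2 : MulAction.IsMultiplyPretransitive G Ω 2)
    (α : Ω) (Q : Subgroup G) (hQ : Q ≤ MulAction.stabilizer G α) (hQn : (Q.subgroupOf (MulAction.stabilizer G α)).Normal)
    (hQ1 : Q ≠ ⊥) (hQc : IsCyclic ↥Q) :
    (∃ N : Subgroup G, N.Normal ∧ MulAction.IsPretransitive ↥N Ω ∧ ∀ x : Ω, MulAction.stabilizer ↥N x = ⊥) ∨
      (∃ (F : Type) (_ : Field F) (_ : Fintype F), Fintype.card Ω = Fintype.card F + 1 ∧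
        Nonempty (↥(Subgroup.normalClosure (Q : Set G)) ≃* Matrix.ProjectiveSpecialLinearGroup (Fin 2) F)) ∨
      (∃ (F : Type) (_ : Field F) (_ : Fintype F) (q : ℕ), Fintype.card F = q ^ 2 ∧ Fintype.card Ω = q ^ 3 + 1 ∧
        Nonempty (↥(Subgroup.normalClosure (Q : Set G)) ≃* Cfsg.PSU 3 F q)) ∨
      (Fintype.card Ω = 28 ∧ (∃ (F : Type) (_ : Field F) (_ : Fintype F), Fintype.card F = 8 ∧
          Nonempty (↥(Subgroup.normalClosure (Q : Set G)) ≃* Matrix.ProjectiveSpecialLinearGroup (Fin 2) F)) ∧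
        ∃ (K : Type) (_ : Field K) (_ : Fintype K), Fintype.card K = 3 ∧ Nonempty (G ≃* ↥(Cfsg.Lie.twistedG2 K 1))) := by
  have h := Cfsg.Agent.H499.TT.norm_main
    (fun _ A => Cfsg.Agent.H384.TwoTransMain.main (fun X _ _ _ => Cfsg.Agent.S0000.result) A) h2 α Q hQ hQn hQ1 hQc
  rw [Nat.card_eq_fintype_card] at h
  exact h

end Cfsg.Agent.S3256
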