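import Cfsg.Statements.S2497
import Cfsg.Agent.S0348
import Cfsg.Agent.S0252
import Cfsg.Agent.S0253
import Cfsg.Agent.S0254
import Cfsg.Agent.S0333
import Cfsg.Agent.S0144
import Cfsg.Agent.SmallSimple.PSLTwoPart
import Cfsg.Agent.ThreePrime.Main
import Cfsg.Agent.ClassicalGeometry.PSLTorus
import Cfsg.Agent.OddCyclic.ClaimC.SzIso
import Cfsg.Agent.H967.EppoArith

set_option autoImplicit false
open Cfsg

namespace Cfsg.Agent.S2497

open Cfsg.Agent.H967

/-- An isomorphism transports the hypothesis. -/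
theorem epo_of_equiv {G H : Type*} [Group G] [Group H] (e : G ≃* H)
    (h : ∀ g : G, g ≠ 1 → IsPrimePow (orderOf g)) : ∀ g : H, g ≠ 1 → IsPrimePow (orderOf g) := by
  intro g hg
  have h1 : orderOf (e.symm g) = orderOf g := by simp
  rw [← h1]
  exact h _ (by simpa using hg)

/-- A cyclic subgroup of order `k > 1` gives a prime power. -/
theorem isPrimePow_of_cyclic {G : Type*} [Group G] [Finite G]
    (h : ∀ g : G, g ≠ 1 → IsPrimePow (orderOf g)) (C : Subgroup G) (hC : IsCyclic C) {k : ℕ} (hk : Nat.card C = k)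
    (hk1 : 1 < k) : IsPrimePow k := by
  obtain ⟨g, hg⟩ := hC.exists_generator
  have h1 : orderOf g = k := by rw [← hk]; exact orderOf_eq_card_of_forall_mem_zpowers hg
  have h2 : orderOf (g : G) = k := by rw [Subgroup.orderOf_coe]; exact h1
  rw [← h2]
  refine h _ ?_
  intro h3
  rw [h3, orderOf_one] at h2
  omega

/-- An element of `PSL(2, F)` from a generator of the split torus. -/
theorem exists_split (F : Type*) [Field F] [Fintype F] :
    ∃ x : Matrix.ProjectiveSpecialLinearGroup (Fin 2) F, (Fintype.card F - 1) ∣ 2 * orderOf x := by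
  classical
  obtain ⟨a, ha⟩ := IsCyclic.exists_generator (α := Fˣ)
  have hoa : orderOf a = Fintype.card F - 1 := by
    rw [orderOf_eq_card_of_forall_mem_zpowers ha, Nat.card_eq_fintype_card, Fintype.card_units]
  have hdet : Matrix.det (!![(a : F), 0; 0, ((a⁻¹ : Fˣ) : F)] : Matrix (Fin 2) (Fin 2) F) = 1 := by
    rw [Matrix.det_fin_two_of]; simp
  let s : Matrix.SpecialLinearGroup (Fin 2) F := ⟨!![(a : F), 0; 0, ((a⁻¹ : Fˣ) : F)], hdet⟩
  have hs : ∀ k, ((s ^ k : Matrix.SpecialLinearGroup (Fin 2) F) : Matrix (Fin 2) (Fin 2) F) =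
      !![((a ^ k : Fˣ) : F), 0; 0, ((a⁻¹ ^ k : Fˣ) : F)] := by
    intro k
    induction k with
    | zero =>
      rw [pow_zero, Matrix.SpecialLinearGroup.coe_one, pow_zero, pow_zero, Units.val_one, Matrix.one_fin_two]
    | succ k ih =>
      rw [pow_succ, Matrix.SpecialLinearGroup.coe_mul, ih, pow_succ, pow_succ, Units.val_mul, Units.val_mul]
      simp [s]
  refine ⟨QuotientGroup.mk s, ?_⟩
  rw [← hoa]
  apply orderOf_dvd_of_pow_eq_one
  have h1 : (QuotientGroup.mk s : Matrix.ProjectiveSpecialLinearGroup (Fin 2) F) ^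
      orderOf (QuotientGroup.mk s : Matrix.ProjectiveSpecialLinearGroup (Fin 2) F) = 1 := pow_orderOf_eq_one _
  set k := orderOf (QuotientGroup.mk s : Matrix.ProjectiveSpecialLinearGroup (Fin 2) F)
  have h2 : s ^ k ∈ Subgroup.center (Matrix.SpecialLinearGroup (Fin 2) F) := by
    rw [← QuotientGroup.eq_one_iff]
    exact h1
  rw [Matrix.SpecialLinearGroup.mem_center_iff] at h2
  obtain ⟨r, hr, hr2⟩ := h2
  rw [hs] at hr2
  have h3 := congrFun (congrFun hr2 0) 0
  have h4 := congrFun (congrFun hr2 1) 1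
  simp at h3 h4
  have h5 : ((a ^ k : Fˣ) : F) = ((a⁻¹ ^ k : Fˣ) : F) := by
    push_cast
    rw [← h3, h4, inv_pow]
  have h6 : a ^ k = a⁻¹ ^ k := Units.ext h5
  rw [two_mul, pow_add]
  nth_rewrite 1 [h6]
  simp

/-- Let G be a finite non-abelian simple group in which every non-identity element has prime-power order. Then G is isomorphic to one of: the alternating group of degree 6, PSL(2,q) for q ∈ {4, 7, 8, 17}, PSL(3,4), or the Suzuki group over the field with 8 or with 32 elements. -/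
theorem result {G : Type*} [Group G] [Finite G] [IsSimpleGroup G] (hG : ¬ IsMulCommutative G)
    (h : ∀ g : G, g ≠ 1 → IsPrimePow (orderOf g)) :
    Nonempty (G ≃* alternatingGroup (Fin 6)) ∨
    (∃ (F : Type) (_ : Field F) (_ : Fintype F), Fintype.card F ∈ ({4, 7, 8, 17} : Finset ℕ) ∧
      Nonempty (G ≃* Matrix.ProjectiveSpecialLinearGroup (Fin 2) F)) ∨
    (∃ (F : Type) (_ : Field F) (_ : Fintype F), Fintype.card F = 4 ∧
      Nonempty (G ≃* Matrix.ProjectiveSpecialLinearGroup (Fin 3) F)) ∨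
    (∃ (F : Type) (_ : Field F) (_ : Fintype F),
      (Fintype.card F = 8 ∧ Nonempty (G ≃* ↥(Cfsg.Lie.Sz F 4))) ∨ (Fintype.card F = 32 ∧ Nonempty (G ≃* ↥(Cfsg.Lie.Sz F 8)))) := by
  have hG' : ∃ a b : G, a * b ≠ b * a := by
    by_contra hcon
    push Not at hcon
    exact hG ⟨⟨hcon⟩⟩
  have hnosol : ∀ (p q a b : ℕ), p.Prime → q.Prime → Nat.card G = p ^ a * q ^ b → False := by
    intro p q a b hp hq hc
    obtain ⟨x, y, hxy⟩ := hG'
    have hsol : Group.IsSolvable G := Cfsg.Agent.S0144.result p q a b hp hq hc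
    exact hxy ((IsSimpleGroup.comm_iff_isSolvable.2 hsol) x y)
  have hCIT : ∀ t : G, orderOf t = 2 → IsPGroup 2 (Subgroup.centralizer ({t} : Set G)) := by
    intro t ht
    rw [IsPGroup.iff_orderOf]
    rintro ⟨x, hx⟩
    have hxt : t * x = x * t := by
      rw [Subgroup.mem_centralizer_iff] at hx
      exact hx t rfl
    have hne : (⟨x, hx⟩ : Subgroup.centralizer ({t} : Set G)) = 1 ∨ x ≠ 1 := by
      by_cases h0 : x = 1
      · left; ext; exact h0
      · right; exact h0
    rcases hne with hne | hne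
    · exact ⟨0, by rw [hne]; simp⟩
    obtain ⟨r, a, hr, ha, hra⟩ := h x hne
    rw [Subgroup.orderOf_mk, ← hra]
    by_cases hr2 : r = 2
    · exact ⟨a, by rw [hr2]⟩
    · exfalso
      have hcop : (orderOf t).Coprime (orderOf x) := by
        rw [ht, ← hra]
        exact Nat.Coprime.pow_right a ((Nat.coprime_primes Nat.prime_two hr.nat_prime).2 (Ne.symm hr2))
      have ho : orderOf (t * x) = 2 * r ^ a := by
        rw [Commute.orderOf_mul_eq_mul_orderOf_of_coprime hxt hcop, ht, hra]
      have hne2 : t * x ≠ 1 := by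
        intro h0
        rw [h0, orderOf_one] at ho
        omega
      obtain ⟨a', ha'⟩ := EppoArith.eq_pow_of_dvd Nat.prime_two (h _ hne2) (by rw [ho]; exact dvd_mul_right 2 _)
      obtain ⟨b', hb'⟩ := EppoArith.eq_pow_of_dvd hr.nat_prime (h _ hne2) (by
        rw [ho]; exact dvd_mul_of_dvd_right (dvd_pow_self r ha.ne') 2)
      have hd : r ∣ 2 ^ a' := by
        rw [← ha', ho]; exact dvd_mul_of_dvd_right (dvd_pow_self r ha.ne') 2
      exact hr2 ((Nat.prime_dvd_prime_iff_eq hr.nat_prime Nat.prime_two).1 (hr.nat_prime.dvd_of_dvd_pow hd))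
  rcases Cfsg.Agent.S0348.result hG' hCIT with ⟨F, iF, iF', hF, ⟨e⟩⟩ | ⟨F, iF, iF', hF, ⟨e⟩⟩ | hS
  · have hP := epo_of_equiv e h
    obtain ⟨x, hx⟩ := exists_split F
    obtain ⟨C, H, -, -, hC, hcC, -, -⟩ := Cfsg.Agent.ClassicalGeometry.PSLTorus.exists_psl_torus F
    rcases hF with hF | ⟨n, hF⟩ | ⟨hFp, k, hF | hF⟩
    · obtain ⟨e'⟩ := Cfsg.Agent.S0254.result hF
      exact Or.inl ⟨e.trans e'⟩
    · -- even `q`
      have hn : 2 ≤ n := by
        by_contra hn
        have hF1 := Fintype.one_lt_card (α := F)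
        have hn1 : n = 1 := by
          rcases (by omega : n = 0 ∨ n = 1) with h0 | h0
          · rw [hF, h0] at hF1; norm_num at hF1
          · exact h0
        rw [hn1] at hF
        have hc := SmallSimple.PSLTwoPart.card_psl_two_even (F := F) (by rw [hF]; decide)
        rw [hF] at hc
        exact hnosol 2 3 1 1 Nat.prime_two Nat.prime_three (by
          rw [Nat.card_congr e.toEquiv, hc]; norm_num)
      have h4 : 4 ≤ 2 ^ n := by
        calc 4 = 2 ^ 2 := by norm_num
          _ ≤ 2 ^ n := Nat.pow_le_pow_right (by norm_num) hn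
      have hodd : Nat.gcd 2 (2 ^ n - 1) = 1 := by
        have h5 : Odd (2 ^ n - 1) := by
          have : Even (2 ^ n) := (Nat.even_pow.2 ⟨even_two, by omega⟩)
          exact Nat.Even.sub_odd (by omega) this odd_one
        exact (Nat.coprime_two_left).2 h5
      rw [hF, hodd, Nat.div_one] at hcC
      have hq1 : IsPrimePow (2 ^ n + 1) := isPrimePow_of_cyclic hP C hC hcC (by omega)
      have hx1 : x ≠ 1 := by
        rintro rfl
        rw [orderOf_one, hF] at hx
        have := Nat.le_of_dvd (by norm_num) hx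
        omega
      have hx2 : (2 ^ n - 1) ∣ orderOf x := by
        rw [hF] at hx
        exact Nat.Coprime.dvd_of_dvd_mul_left (Nat.Coprime.symm hodd) hx
      rcases EppoArith.even_case hn ⟨_, hP x hx1, hx2⟩ hq1 with rfl | rfl
      · exact Or.inr (Or.inl ⟨F, iF, iF', by rw [hF]; decide, ⟨e⟩⟩)
      · exact Or.inr (Or.inl ⟨F, iF, iF', by rw [hF]; decide, ⟨e⟩⟩)
    · -- Fermat
      have hF3 : Fintype.card F ≠ 3 := by
        intro hF
        have hc := SmallSimple.PSLTwoPart.card_psl_two_odd (F := F) (by rw [hF]; decide)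
        rw [hF] at hc
        exact hnosol 2 3 2 1 Nat.prime_two Nat.prime_three (by
          rw [Nat.card_congr e.toEquiv]; omega)
      have hk : 1 ≤ k := by
        by_contra hk
        have hk0 : k = 0 := by omega
        rw [hk0] at hF
        have hc := SmallSimple.PSLTwoPart.card_psl_two_even (F := F) (by rw [hF]; decide)
        rw [hF] at hc
        exact hnosol 2 3 1 1 Nat.prime_two Nat.prime_three (by
          rw [Nat.card_congr e.toEquiv, hc]; norm_num)
      have hk2 : 2 ≤ k := by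
        by_contra hk2
        have hk1 : k = 1 := by omega
        rw [hk1] at hF
        exact hF3 (by rw [hF]; norm_num)
      have hgcd : Nat.gcd 2 (2 ^ k + 1 - 1) = 2 := by
        rw [Nat.add_sub_cancel]
        exact Nat.gcd_eq_left (dvd_pow_self 2 (by omega))
      have h2k : 2 ^ k = 2 * 2 ^ (k - 1) := by
        rw [← pow_succ']; congr 1; omega
      have hq1 : IsPrimePow (2 ^ (k - 1) + 1) := by
        refine isPrimePow_of_cyclic hP C hC ?_ ?_
        · rw [hcC, hF, hgcd, h2k]; omega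
        · have : 0 < 2 ^ (k - 1) := by positivity
          omega
      rcases EppoArith.fermat_case hk (by rw [← hF]; exact hFp) hq1 with h0 | h0 | h0
      · omega
      · rw [h0] at hF
        obtain ⟨e1⟩ := Cfsg.Agent.S0253.result (F := F) (by rw [hF]; norm_num)
        letI iGF : Fintype (GaloisField 2 2) := Fintype.ofFinite _
        obtain ⟨e2⟩ := Cfsg.Agent.S0252.result (F := GaloisField 2 2) (by
          rw [← Nat.card_eq_fintype_card, GaloisField.card 2 2 (by norm_num)]; norm_num)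
        refine Or.inr (Or.inl ⟨GaloisField 2 2, inferInstance, iGF, ?_, ?_⟩)
        · rw [← Nat.card_eq_fintype_card, GaloisField.card 2 2 (by norm_num)]; decide
        · exact ⟨(e.trans e1).trans e2.symm⟩
      · rw [h0] at hF
        exact Or.inr (Or.inl ⟨F, iF, iF', by rw [hF]; decide, ⟨e⟩⟩)
    · -- Mersenne
      have hx1 : x ≠ 1 ∨ Fintype.card F = 3 ∨ Fintype.card F = 2 := by
        by_cases h0 : x = 1
        · right
          rw [h0, orderOf_one] at hx
          have h1 := Nat.le_of_dvd (by norm_num) hx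
          have h2 := hFp.two_le
          omega
        · exact Or.inl h0
      have hF3 : Fintype.card F ≠ 3 := by
        intro hF
        have hc := SmallSimple.PSLTwoPart.card_psl_two_odd (F := F) (by rw [hF]; decide)
        rw [hF] at hc
        exact hnosol 2 3 2 1 Nat.prime_two Nat.prime_three (by
          rw [Nat.card_congr e.toEquiv]; omega)
      have hF2 : Fintype.card F ≠ 2 := by
        intro hF
        have hc := SmallSimple.PSLTwoPart.card_psl_two_even (F := F) (by rw [hF]; decide)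
        rw [hF] at hc
        exact hnosol 2 3 1 1 Nat.prime_two Nat.prime_three (by
          rw [Nat.card_congr e.toEquiv, hc]; norm_num)
      have hx1 : x ≠ 1 := by tauto
      have hk2 : 2 ≤ k := by
        by_contra hk
        have h2 := hFp.two_le
        rcases (by omega : k = 0 ∨ k = 1) with h0 | h0 <;> rw [h0] at hF <;> norm_num at hF <;> omega
      have h2k : 2 ^ k = 2 * 2 ^ (k - 1) := by
        rw [← pow_succ']; congr 1; omega
      have h2k1 : Even (2 ^ (k - 1)) := (Nat.even_pow.2 ⟨even_two, by omega⟩)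
      have h1k : 0 < 2 ^ (k - 1) := by positivity
      have hx2 : (2 ^ (k - 1) - 1) ∣ orderOf x := by
        have hq : Fintype.card F - 1 = 2 * (2 ^ (k - 1) - 1) := by omega
        rw [hq] at hx
        exact (Nat.mul_dvd_mul_iff_left (by norm_num)).1 hx
      rcases EppoArith.mersenne_case hF hFp ⟨_, hP x hx1, hx2⟩ with h0 | h0
      · rw [h0] at hF
        exact absurd (by omega) hF3
      · rw [h0] at hF
        have hF7 : Fintype.card F = 7 := by omega
        exact Or.inr (Or.inl ⟨F, iF, iF', by rw [hF7]; decide, ⟨e⟩⟩)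
  · exact Or.inr (Or.inr (Or.inl ⟨F, iF, iF', hF, ⟨e⟩⟩))
  · -- Suzuki
    have h3 : ¬ 3 ∣ Nat.card G := by
      obtain ⟨-, m, -, hc⟩ := hS
      rw [hc]
      intro h3
      have hq : 2 ^ (2 * m + 1) % 3 = 2 := by
        rcases EppoArith.two_pow_mod_three (2 * m + 1) with ⟨he, -⟩ | ⟨-, h'⟩
        · exact absurd he (by simp)
        · exact h'
      generalize 2 ^ (2 * m + 1) = q at hq h3
      have h1 : 1 ≤ q := by omega
      have hm := Nat.mod_eq_zero_of_dvd h3
      obtain ⟨c, hc⟩ : ∃ c, q = 3 * c + 2 := ⟨q / 3, by omega⟩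
      have h4 : q - 1 = 3 * c + 1 := by omega
      rw [h4, hc] at hm
      have h5 : (3 * c + 2) ^ 2 * ((3 * c + 2) ^ 2 + 1) * (3 * c + 1)
          = 3 * (c * ((3 * c + 2) ^ 2 * ((3 * c + 2) ^ 2 + 1)) + ((3 * c ^ 2 + 4 * c + 1) * ((3 * c + 2) ^ 2 + 1)) + (3 * c ^ 2 + 4 * c + 1)) + 2 := by
        ring
      omega
    obtain ⟨F, iF, iF', m, hm, hF, ⟨e⟩⟩ := Cfsg.Agent.ThreePrime.Main.isoSuzuki hG' h3
    obtain ⟨e'⟩ := Cfsg.Agent.OddCyclic.ClaimC.SzIso.iso (F := F) hm hF
    have hP := epo_of_equiv (e.trans e'.symm) h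
    have hmem := Cfsg.Agent.S0333.result (F := F) hm hF
    obtain ⟨U1, hU1, hc1, -, -⟩ := hmem (2 ^ (2 * m + 1) + 2 ^ (m + 1) + 1) (by simp)
    obtain ⟨U2, hU2, hc2, -, -⟩ := hmem (2 ^ (2 * m + 1) - 2 ^ (m + 1) + 1) (by simp)
    have hlt : 2 ^ (m + 1) < 2 ^ (2 * m + 1) := Nat.pow_lt_pow_right (by norm_num) (by omega)
    have hp1 := isPrimePow_of_cyclic hP U1 hU1 hc1 (by
      have : 0 < 2 ^ (m + 1) := by positivity
      omega)
    have hp2 := isPrimePow_of_cyclic hP U2 hU2 hc2 (by omega)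
    rcases EppoArith.suzuki hm hp1 hp2 with rfl | rfl
    · exact Or.inr (Or.inr (Or.inr ⟨F, iF, iF', Or.inl ⟨by rw [hF]; norm_num, ⟨e⟩⟩⟩))
    · exact Or.inr (Or.inr (Or.inr ⟨F, iF, iF', Or.inr ⟨by rw [hF]; norm_num, ⟨e⟩⟩⟩))

end Cfsg.Agent.S2497
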