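import Cfsg.Statements.S4087
import Cfsg.Agent.H514.EppoMin
import Cfsg.Agent.H514.EppoIndex
import Cfsg.Agent.H514.EppoNine
import Cfsg.Agent.S2497
import Cfsg.Agent.S0205
import Cfsg.Agent.S1163
import Cfsg.Agent.SmallSimple.PSLTwoPart
import Cfsg.Agent.SmallSimple.S1000.PSLFacts
import Cfsg.Agent.CTwoTab.Exc

set_option autoImplicit false
open Cfsg

namespace Cfsg.Agent.S4087

open Cfsg.Agent.H514.Eppo Subgroup

theorem card_psl_two_four {F : Type} [Field F] [Fintype F] (hF : Fintype.card F = 4) :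
    Nat.card (Matrix.ProjectiveSpecialLinearGroup (Fin 2) F) = 60 := by
  rw [Cfsg.Agent.SmallSimple.PSLTwoPart.card_psl_two_even (by rw [hF]; decide), hF]
  norm_num

theorem card_sz_eight {F : Type} [Field F] [Fintype F] (hF : Fintype.card F = 8) :
    Nat.card ↥(Cfsg.Lie.Sz F 4) = 29120 :=
  (Cfsg.Agent.S1163.result (F := F) (m := 1) le_rfl (by rw [hF]; norm_num)).1.trans (by norm_num)

theorem card_sz_thirtytwo {F : Type} [Field F] [Fintype F] (hF : Fintype.card F = 32) :
    Nat.card ↥(Cfsg.Lie.Sz F 8) = 32537600 :=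
  (Cfsg.Agent.S1163.result (F := F) (m := 2) (by norm_num) (by rw [hF]; norm_num)).1.trans (by norm_num)

/-- The number of primes of a number of the form `2^a 3^b p^c`. -/
theorem card_primeFactors_le_three {n p : ℕ} (h : n.primeFactors ⊆ {2, 3, p}) :
    n.primeFactors.card ≤ 3 :=
  (Finset.card_le_card h).trans Finset.card_le_three

theorem primes_of_dvd {n : ℕ} (a b c p : ℕ) (hp : p.Prime) (h : n ∣ 2 ^ a * 3 ^ b * p ^ c) :
    n.primeFactors ⊆ {2, 3, p} := by
  intro q hq
  have hq' := Nat.prime_of_mem_primeFactors hq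
  have h1 := (Nat.dvd_of_mem_primeFactors hq).trans h
  simp only [Finset.mem_insert, Finset.mem_singleton]
  rcases (Nat.Prime.dvd_mul hq').1 h1 with h1 | h1
  · rcases (Nat.Prime.dvd_mul hq').1 h1 with h1 | h1
    · exact Or.inl ((Nat.prime_dvd_prime_iff_eq hq' Nat.prime_two).1 (hq'.dvd_of_dvd_pow h1))
    · exact Or.inr (Or.inl ((Nat.prime_dvd_prime_iff_eq hq' Nat.prime_three).1 (hq'.dvd_of_dvd_pow h1)))
  · exact Or.inr (Or.inr ((Nat.prime_dvd_prime_iff_eq hq' hp).1 (hq'.dvd_of_dvd_pow h1)))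

theorem four_primes {n p q r s : ℕ} (h : n.primeFactors ⊆ {p, q, r, s}) : n.primeFactors.card ≤ 4 :=
  (Finset.card_le_card h).trans Finset.card_le_four

theorem prime_mem_of_dvd_prod {q : ℕ} (hq : q.Prime) {p r s t : ℕ} (a b c d : ℕ) (hp : p.Prime)
    (hr : r.Prime) (hs : s.Prime) (ht : t.Prime) (h : q ∣ p ^ a * r ^ b * s ^ c * t ^ d) :
    q = p ∨ q = r ∨ q = s ∨ q = t := by
  rcases (Nat.Prime.dvd_mul hq).1 h with h | h
  · rcases (Nat.Prime.dvd_mul hq).1 h with h | h
    · rcases (Nat.Prime.dvd_mul hq).1 h with h | h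
      · exact Or.inl ((Nat.prime_dvd_prime_iff_eq hq hp).1 (hq.dvd_of_dvd_pow h))
      · exact Or.inr (Or.inl ((Nat.prime_dvd_prime_iff_eq hq hr).1 (hq.dvd_of_dvd_pow h)))
    · exact Or.inr (Or.inr (Or.inl ((Nat.prime_dvd_prime_iff_eq hq hs).1 (hq.dvd_of_dvd_pow h))))
  · exact Or.inr (Or.inr (Or.inr ((Nat.prime_dvd_prime_iff_eq hq ht).1 (hq.dvd_of_dvd_pow h))))

/-- The simple groups with four primes. -/
theorem simple_four {S : Type*} [Group S] [Finite S] [IsSimpleGroup S] (hna : ¬ IsMulCommutative S)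
    (h : EP S) (h4 : 4 ≤ (Nat.card S).primeFactors.card) :
    (∃ (F : Type) (_ : Field F) (_ : Fintype F), Fintype.card F = 4 ∧
      Nonempty (S ≃* Matrix.ProjectiveSpecialLinearGroup (Fin 3) F)) ∨
    (∃ (F : Type) (_ : Field F) (_ : Fintype F),
      (Fintype.card F = 8 ∧ Nonempty (S ≃* ↥(Cfsg.Lie.Sz F 4))) ∨
      (Fintype.card F = 32 ∧ Nonempty (S ≃* ↥(Cfsg.Lie.Sz F 8)))) := by
  rcases Cfsg.Agent.S2497.result hna h with ⟨⟨e⟩⟩ | ⟨F, _, _, hF, ⟨e⟩⟩ | h1 | h1
  · exfalso
    have hc : Nat.card S = 360 := by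
      rw [Nat.card_congr e.toEquiv, Cfsg.Agent.SmallSimple.PSLFacts.card_alt_six]
    have := card_primeFactors_le_three (primes_of_dvd (n := Nat.card S) 3 2 1 5 (by norm_num) (by rw [hc]; norm_num))
    omega
  · exfalso
    simp only [Finset.mem_insert, Finset.mem_singleton] at hF
    rcases hF with hF | hF | hF | hF
    · have hc : Nat.card S = 60 := by rw [Nat.card_congr e.toEquiv, card_psl_two_four hF]
      have := card_primeFactors_le_three (primes_of_dvd (n := Nat.card S) 3 2 1 5 (by norm_num) (by rw [hc]; norm_num))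
      omega
    · have hc : Nat.card S = 168 := by
        rw [Nat.card_congr e.toEquiv, Cfsg.Agent.SmallSimple.PSLFacts.card_psl_two_seven hF]
      have := card_primeFactors_le_three (primes_of_dvd (n := Nat.card S) 3 2 1 7 (by norm_num) (by rw [hc]; norm_num))
      omega
    · have hc : Nat.card S = 504 := by
        rw [Nat.card_congr e.toEquiv, Cfsg.Agent.SmallSimple.PSLFacts.card_psl_two_eight hF]
      have := card_primeFactors_le_three (primes_of_dvd (n := Nat.card S) 3 2 1 7 (by norm_num) (by rw [hc]; norm_num))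
      omega
    · have hc : Nat.card S = 2448 := by
        rw [Nat.card_congr e.toEquiv, Cfsg.Agent.SmallSimple.PSLFacts.card_psl_two_seventeen hF]
      have := card_primeFactors_le_three (primes_of_dvd (n := Nat.card S) 4 2 1 17 (by norm_num) (by rw [hc]; norm_num))
      omega
  · exact Or.inl h1
  · exact Or.inr h1

theorem prime_dvd_cases {q : ℕ} (hq : q.Prime) {p a m : ℕ} (hp : p.Prime) (h : q ∣ p ^ a * m) :
    q = p ∨ q ∣ m := by
  rcases (Nat.Prime.dvd_mul hq).1 h with h | h
  · exact Or.inl ((Nat.prime_dvd_prime_iff_eq hq hp).1 (hq.dvd_of_dvd_pow h))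
  · exact Or.inr h

/-- The simple normal subgroup is the whole group. -/
theorem eq_top_of_four {G : Type*} [Group G] [Finite G] (h : EP G) (S : Subgroup G) [S.Normal]
    (hc : Nat.card S = 20160 ∨ Nat.card S = 29120 ∨ Nat.card S = 32537600) : S = ⊤ := by
  rw [← Subgroup.index_eq_one]
  by_contra hne
  set r := S.index.minFac with hr
  have hrp : r.Prime := Nat.minFac_prime hne
  have hri : r ∣ S.index := Nat.minFac_dvd _
  rcases hc with hc | hc | hc
  · obtain ⟨-, h7⟩ := h.index_of_sylow S (p := 7) (by norm_num) (by rw [hc]; norm_num) (by rw [hc]; norm_num)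
      (e := 3) (by rw [hc])
    obtain ⟨⟨a, h5⟩, -⟩ := h.index_of_sylow S (p := 5) (by norm_num) (by rw [hc]; norm_num) (by rw [hc]; norm_num)
      (e := 2) (by rw [hc])
    have h5' : r ∣ 5 ^ a * 4 := ((hri.mul_right 2).trans h5)
    rcases h7 3 (by norm_num) (dvd_refl 3) r hrp hri with h1 | h1
    · rcases prime_dvd_cases hrp (by norm_num) h5' with h2 | h2
      · omega
      · rw [h1] at h2; norm_num at h2
    · rcases prime_dvd_cases hrp (by norm_num) h5' with h2 | h2
      · omega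
      · rw [h1] at h2; norm_num at h2
  · obtain ⟨-, h7⟩ := h.index_of_sylow S (p := 7) (by norm_num) (by rw [hc]; norm_num) (by rw [hc]; norm_num)
      (e := 2) (by rw [hc])
    obtain ⟨⟨a, h5⟩, -⟩ := h.index_of_sylow S (p := 5) (by norm_num) (by rw [hc]; norm_num) (by rw [hc]; norm_num)
      (e := 4) (by rw [hc])
    have h5' : r ∣ 5 ^ a := by
      have h6 : r * 4 ∣ 5 ^ a * 4 := (Nat.mul_dvd_mul_right hri 4).trans (by simpa using h5)
      exact Nat.dvd_of_mul_dvd_mul_right (by norm_num) h6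
    have h5'' : r = 5 := (Nat.prime_dvd_prime_iff_eq hrp (by norm_num)).1 (hrp.dvd_of_dvd_pow h5')
    rcases h7 2 (by norm_num) (dvd_refl 2) r hrp hri with h1 | h1 <;> omega
  · obtain ⟨⟨b, h31'⟩, h31⟩ := h.index_of_sylow S (p := 31) (by norm_num) (by rw [hc]; norm_num) (by rw [hc]; norm_num)
      (e := 2) (by rw [hc])
    obtain ⟨⟨a, h41⟩, -⟩ := h.index_of_sylow S (p := 41) (by norm_num) (by rw [hc]; norm_num) (by rw [hc]; norm_num)
      (e := 4) (by rw [hc])
    have h41' : r ∣ 41 ^ a * 10 := by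
      have h6 : r * 4 ∣ 41 ^ a * 10 * 4 := (Nat.mul_dvd_mul_right hri 4).trans (by
        rw [mul_assoc]; simpa using h41)
      exact Nat.dvd_of_mul_dvd_mul_right (by norm_num) h6
    have h31'' : r ∣ 31 ^ b * 15 := by
      have h6 : r * 2 ∣ 31 ^ b * 15 * 2 := (Nat.mul_dvd_mul_right hri 2).trans (by
        rw [mul_assoc]; simpa using h31')
      exact Nat.dvd_of_mul_dvd_mul_right (by norm_num) h6
    rcases h31 2 (by norm_num) (dvd_refl 2) r hrp hri with h1 | h1
    · rcases prime_dvd_cases hrp (by norm_num) h41' with h2 | h2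
      · omega
      · rw [h1] at h2; norm_num at h2
    · rcases prime_dvd_cases hrp (by norm_num) h31'' with h2 | h2
      · omega
      · rw [h1] at h2; norm_num at h2

/-- Let G be a finite group in which every non-identity element has prime-power order (its prime graph has no edges). Then the order of G has at most four distinct prime divisors; and if it has exactly four, then either G is isomorphic to PSL(3,4), or G has a normal 2-subgroup N with G/N isomorphic to the Suzuki group over the field with 8 or with 32 elements. -/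
theorem result {G : Type*} [Group G] [Finite G] (h : ∀ g : G, g ≠ 1 → IsPrimePow (orderOf g)) :
    (Nat.card G).primeFactors.card ≤ 4 ∧
    ((Nat.card G).primeFactors.card = 4 →
      (∃ (F : Type) (_ : Field F) (_ : Fintype F), Fintype.card F = 4 ∧
        Nonempty (G ≃* Matrix.ProjectiveSpecialLinearGroup (Fin 3) F)) ∨
      (∃ (N : Subgroup G) (_ : N.Normal), IsPGroup 2 ↥N ∧
        ∃ (F : Type) (_ : Field F) (_ : Fintype F),
          (Fintype.card F = 8 ∧ Nonempty (G ⧸ N ≃* ↥(Cfsg.Lie.Sz F 4))) ∨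
          (Fintype.card F = 32 ∧ Nonempty (G ⧸ N ≃* ↥(Cfsg.Lie.Sz F 8))))) := by
  classical
  by_cases h4 : 4 ≤ (Nat.card G).primeFactors.card
  swap
  · exact ⟨by omega, fun h5 => absurd h5.ge h4⟩
  haveI : Fact (Nat.Prime 2) := ⟨Nat.prime_two⟩
  have hns : ¬ Group.IsSolvable G := by
    intro hs
    have := Cfsg.Agent.S1475.result (EP.or h)
    omega
  set N := pCore 2 G with hN
  haveI hNn : N.Normal := Cfsg.Agent.Lib.Cores.pCore_normal 2
  have hN2 : IsPGroup 2 N := Cfsg.Agent.Lib.Cores.pCore_isPGroup 2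
  have hNs : Group.IsSolvable N := solvable_of_isPGroup Nat.prime_two hN2
  have hQns : ¬ Group.IsSolvable (G ⧸ N) := by
    intro hQs
    exact hns (Group.isSolvable_of_ker_le_range N.subtype (QuotientGroup.mk' N) (by simp))
  have hQ : EP (G ⧸ N) := EP.quotient h N
  have hO : pCore 2 (G ⧸ N) = ⊥ := Cfsg.Agent.Lib.Cores.pCore_quotient_pCore 2
  obtain ⟨S, hSn, hSs, hSna, hSp⟩ := hQ.exists_simple
    (fun H ho => Cfsg.Agent.S0205.result ho) hQns hO
  have hSnsol : ¬ Group.IsSolvable S := by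
    intro hs
    apply hSna
    exact ⟨⟨IsSimpleGroup.comm_iff_isSolvable.2 hs⟩⟩
  have hcardG : Nat.card G = Nat.card (G ⧸ N) * Nat.card N :=
    Subgroup.card_eq_card_quotient_mul_card_subgroup N
  have h2S : 2 ∣ Nat.card S := by
    by_contra hcon
    exact hSnsol (Cfsg.Agent.S0205.result (Nat.not_even_iff_odd.1 (fun h => hcon h.two_dvd)))
  -- the primes of `G` are those of `S`
  have hsub : (Nat.card G).primeFactors ⊆ (Nat.card S).primeFactors := by
    intro r hr
    have hrp := Nat.prime_of_mem_primeFactors hr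
    have hrd := Nat.dvd_of_mem_primeFactors hr
    rw [Nat.mem_primeFactors]
    refine ⟨hrp, ?_, Nat.card_pos.ne'⟩
    rw [hcardG] at hrd
    rcases (Nat.Prime.dvd_mul hrp).1 hrd with h1 | h1
    · exact hSp r hrp h1
    · obtain ⟨k, hk⟩ := IsPGroup.iff_card.1 hN2
      rw [hk] at h1
      rw [(Nat.prime_dvd_prime_iff_eq hrp Nat.prime_two).1 (hrp.dvd_of_dvd_pow h1)]
      exact h2S
  have h4S : 4 ≤ (Nat.card S).primeFactors.card := h4.trans (Finset.card_le_card hsub)
  have hcases := simple_four hSna (hQ.subgroup S) h4S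
  have hcard : Nat.card S = 20160 ∨ Nat.card S = 29120 ∨ Nat.card S = 32537600 := by
    rcases hcases with ⟨F, _, _, hF, ⟨e⟩⟩ | ⟨F, _, _, ⟨hF, ⟨e⟩⟩ | ⟨hF, ⟨e⟩⟩⟩
    · left
      rw [Nat.card_congr e.toEquiv, Cfsg.Agent.CTwoTab.card_PSL_three F hF]
    · right; left
      rw [Nat.card_congr e.toEquiv, card_sz_eight hF]
    · right; right
      rw [Nat.card_congr e.toEquiv, card_sz_thirtytwo hF]
  have hStop : S = ⊤ := eq_top_of_four hQ S hcard
  have e0 : (G ⧸ N) ≃* S := (Subgroup.topEquiv.symm).trans (MulEquiv.subgroupCongr hStop.symm)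
  have hle4 : (Nat.card S).primeFactors.card ≤ 4 := by
    rcases hcard with hc | hc | hc
    · refine four_primes (p := 2) (q := 3) (r := 5) (s := 7) (fun q hq => ?_)
      have hq' := Nat.prime_of_mem_primeFactors hq
      simp only [Finset.mem_insert, Finset.mem_singleton]
      exact prime_mem_of_dvd_prod hq' 6 2 1 1 (by norm_num) (by norm_num) (by norm_num) (by norm_num)
        ((Nat.dvd_of_mem_primeFactors hq).trans (by rw [hc]; norm_num))
    · refine four_primes (p := 2) (q := 5) (r := 7) (s := 13) (fun q hq => ?_)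
      have hq' := Nat.prime_of_mem_primeFactors hq
      simp only [Finset.mem_insert, Finset.mem_singleton]
      exact prime_mem_of_dvd_prod hq' 6 1 1 1 (by norm_num) (by norm_num) (by norm_num) (by norm_num)
        ((Nat.dvd_of_mem_primeFactors hq).trans (by rw [hc]; norm_num))
    · refine four_primes (p := 2) (q := 5) (r := 31) (s := 41) (fun q hq => ?_)
      have hq' := Nat.prime_of_mem_primeFactors hq
      simp only [Finset.mem_insert, Finset.mem_singleton]
      exact prime_mem_of_dvd_prod hq' 10 2 1 1 (by norm_num) (by norm_num) (by norm_num) (by norm_num)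
        ((Nat.dvd_of_mem_primeFactors hq).trans (by rw [hc]; norm_num))
  refine ⟨(Finset.card_le_card hsub).trans hle4, fun _ => ?_⟩
  rcases hcases with ⟨F, i1, i2, hF, ⟨e⟩⟩ | ⟨F, i1, i2, ⟨hF, ⟨e⟩⟩ | ⟨hF, ⟨e⟩⟩⟩
  · left
    have e1 : (G ⧸ N) ≃* Matrix.ProjectiveSpecialLinearGroup (Fin 3) F := e0.trans e
    have hNb : N = ⊥ := by
      refine EP.eq_bot_of_nine h N hN2 ?_
      obtain ⟨E, hE1, hE2, hE3⟩ := psl_three_four hF
      refine ⟨E.map e1.symm.toMonoidHom, ?_, ?_, ?_⟩
      · rintro _ ⟨x, hx, rfl⟩ _ ⟨y, hy, rfl⟩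
        rw [← map_mul, hE1 x hx y hy, map_mul]
      · rintro _ ⟨x, hx, rfl⟩
        rw [← map_pow, hE2 x hx, map_one]
      · rw [Subgroup.card_map_of_injective e1.symm.injective]
        exact hE3
    refine ⟨F, i1, i2, hF, ⟨?_⟩⟩
    exact ((QuotientGroup.quotientBot (G := G)).symm.trans
      (QuotientGroup.quotientMulEquivOfEq hNb.symm)).trans e1
  · right
    exact ⟨N, hNn, hN2, F, i1, i2, Or.inl ⟨hF, ⟨e0.trans e⟩⟩⟩
  · right
    exact ⟨N, hNn, hN2, F, i1, i2, Or.inr ⟨hF, ⟨e0.trans e⟩⟩⟩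

end Cfsg.Agent.S4087
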