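import Cfsg.Statements.S3724
import Cfsg.Agent.H902.Artin

set_option autoImplicit false
open Cfsg

namespace Cfsg.Agent.S3724

open Cfsg.Agent.UGT.U2.Rec.Congr (nonempty_POmegaOdd)

/-- Two finite simple groups of the same order are isomorphic, except possibly when they are A₈ and PSL₃(4) (both of order 20160), or PΩ_{2n+1}(q) and PSp_{2n}(q) for some n ≥ 3 and odd q (in either order). -/
theorem result {G M : Type*} [Group G] [Finite G] [IsSimpleGroup G] [Group M] [Finite M] [IsSimpleGroup M]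
    (h : Nat.card G = Nat.card M) :
    Nonempty (G ≃* M) ∨
    ((Nonempty (G ≃* ↥(alternatingGroup (Fin 8))) ∧ ∃ (F : Type) (_ : Field F) (_ : Fintype F), Fintype.card F = 4 ∧ Nonempty (M ≃* Matrix.ProjectiveSpecialLinearGroup (Fin 3) F)) ∨
     (Nonempty (M ≃* ↥(alternatingGroup (Fin 8))) ∧ ∃ (F : Type) (_ : Field F) (_ : Fintype F), Fintype.card F = 4 ∧ Nonempty (G ≃* Matrix.ProjectiveSpecialLinearGroup (Fin 3) F))) ∨
    (∃ (F : Type) (_ : Field F) (_ : Fintype F) (n : ℕ), Odd (Fintype.card F) ∧ 3 ≤ n ∧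
      ((Nonempty (G ≃* Cfsg.POmega F (Cfsg.quadFormOdd n F)) ∧ Nonempty (M ≃* Cfsg.PSp n F)) ∨
       (Nonempty (M ≃* Cfsg.POmega F (Cfsg.quadFormOdd n F)) ∧ Nonempty (G ≃* Cfsg.PSp n F)))) := by
  rcases H902.Artin.artin h with h | ⟨h1, h2⟩ | ⟨h1, h2⟩ | ⟨m, q, hm, hq, h1, h2⟩ | ⟨m, q, hm, hq, h1, h2⟩
  · exact Or.inl h
  · exact Or.inr (Or.inl (Or.inl ⟨h1, h2⟩))
  · exact Or.inr (Or.inl (Or.inr ⟨h2, h1⟩))
  · obtain ⟨F, _, _, hF, e⟩ := h1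
    obtain ⟨K, _, _, hK, ⟨e'⟩⟩ := h2
    obtain ⟨f⟩ := nonempty_POmegaOdd (FiniteField.ringEquivOfCardEq (hK.trans hF.symm)) m
    exact Or.inr (Or.inr ⟨F, inferInstance, inferInstance, m, by rw [hF]; exact hq, hm, Or.inr ⟨⟨e'.trans f⟩, e⟩⟩)
  · obtain ⟨K, _, _, hK, ⟨e'⟩⟩ := h1
    obtain ⟨F, _, _, hF, e⟩ := h2
    obtain ⟨f⟩ := nonempty_POmegaOdd (FiniteField.ringEquivOfCardEq (hK.trans hF.symm)) m
    exact Or.inr (Or.inr ⟨F, inferInstance, inferInstance, m, by rw [hF]; exact hq, hm, Or.inl ⟨⟨e'.trans f⟩, e⟩⟩)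

end Cfsg.Agent.S3724
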