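import Cfsg.Statements.S3418
import Cfsg.Agent.H357.Recog
import Cfsg.Agent.S0000
import Cfsg.Agent.OrdDiv.Table

set_option autoImplicit false
open Cfsg

namespace Cfsg.Agent.S3418

/-- A finite group G is isomorphic to the alternating group of degree n if and only if G has the same set of element orders and the same order as that alternating group (no restriction on n; the content lies in n ≥ 5). -/
theorem result {G : Type*} [Group G] [Finite G] (n : ℕ) :
    Nonempty (G ≃* ↥(alternatingGroup (Fin n))) ↔
      (Set.range (orderOf : G → ℕ) = Set.range (orderOf : ↥(alternatingGroup (Fin n)) → ℕ) ∧ Nat.card G = Nat.card ↥(alternatingGroup (Fin n))) := by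
  constructor
  · rintro ⟨e⟩
    refine ⟨?_, Nat.card_congr e.toEquiv⟩
    ext k
    constructor
    · rintro ⟨g, rfl⟩
      exact ⟨e g, MulEquiv.orderOf_eq e g⟩
    · rintro ⟨g, rfl⟩
      exact ⟨e.symm g, MulEquiv.orderOf_eq e.symm g⟩
  · rintro ⟨h1, h2⟩
    exact Cfsg.Agent.H357.Recog.alt Cfsg.Agent.OrdDiv.table
      (fun S _ _ _ => Cfsg.Agent.S0000.result (G := S)) h1 h2

end Cfsg.Agent.S3418
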