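import Cfsg.Statements.S3434
import Cfsg.Agent.H368.SSz
import Cfsg.Agent.H368.SRee
import Cfsg.Agent.H368.STwoF4

set_option autoImplicit false
open Cfsg

namespace Cfsg.Agent.S3434

/-- Let M be a simple Suzuki group ²B₂(2^(2m+1)), a simple small Ree group ²G₂(3^(2m+1)) or a simple large Ree group ²F₄(2^(2m+1)), with m ≥ 1. A finite group G is isomorphic to M if and only if G has the same set of element orders and the same order as M. -/
theorem result {G : Type*} [Group G] [Finite G] {M : Type*} [Group M] [Finite M]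
    (hM : Cfsg.Lie.IsoSuzuki M ∨ Cfsg.Lie.IsoRee M ∨ Cfsg.Lie.Iso2F4 M) :
    Nonempty (G ≃* M) ↔ (Set.range (orderOf : G → ℕ) = Set.range (orderOf : M → ℕ) ∧ Nat.card G = Nat.card M) := by
  constructor
  · rintro ⟨e⟩
    refine ⟨?_, Nat.card_congr e.toEquiv⟩
    ext n
    constructor
    · rintro ⟨g, rfl⟩
      exact ⟨e g, e.orderOf_eq g⟩
    · rintro ⟨g, rfl⟩
      exact ⟨e.symm g, e.symm.orderOf_eq g⟩
  · rintro ⟨hs, hc⟩
    have h1 : ∀ g : G, ∃ x : M, orderOf x = orderOf g := by
      intro g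
      have : orderOf g ∈ Set.range (orderOf : M → ℕ) := by rw [← hs]; exact ⟨g, rfl⟩
      exact this
    have h2 : ∀ x : M, ∃ g : G, orderOf g = orderOf x := by
      intro x
      have : orderOf x ∈ Set.range (orderOf : G → ℕ) := by rw [hs]; exact ⟨x, rfl⟩
      exact this
    rcases hM with hM | hM | hM
    · exact Cfsg.Agent.H368.SSz.suzuki hM h1 hc
    · exact Cfsg.Agent.H368.SRee.ree hM h1 hc
    · exact Cfsg.Agent.H368.STwoF4.twoF4 hM h1 h2 hc

end Cfsg.Agent.S3434
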