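import Cfsg.Statements.S5748
import Cfsg.Agent.S0506
import Cfsg.Agent.S0222
import Cfsg.Agent.S0243
import Cfsg.Agent.S0280

set_option autoImplicit false
open Cfsg
open scoped Pointwise

namespace Cfsg.Agent.S5748

/-- commutativity transitive -/
def CT (G : Type*) [Group G] : Prop :=
  ∀ a b c : G, a ≠ 1 → b ≠ 1 → c ≠ 1 → Commute a b → Commute b c → Commute a c

theorem CT.of_injective {G H : Type*} [Group G] [Group H] (f : G →* H)
    (hf : Function.Injective f) (h : CT H) : CT G := by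
  intro a b c ha hb hc hab hbc
  have key := h (f a) (f b) (f c) (by rwa [Ne, map_eq_one_iff f hf])
    (by rwa [Ne, map_eq_one_iff f hf]) (by rwa [Ne, map_eq_one_iff f hf])
    (hab.map f) (hbc.map f)
  apply hf
  rw [map_mul, map_mul]
  exact key

section SLtwo

variable {F : Type*} [Field F]

/-- three proportional vectors -/
theorem cross_trans {x y z : Fin 3 → F} (hy : y ≠ 0) (h1 : ∀ i j, x i * y j = x j * y i)
    (h2 : ∀ i j, y i * z j = y j * z i) (i j : Fin 3) : x i * z j = x j * z i := by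
  obtain ⟨k, hk⟩ : ∃ k, y k ≠ 0 := by
    by_contra hcon
    push Not at hcon
    exact hy (funext hcon)
  apply mul_left_cancel₀ hk
  linear_combination z j * h1 i k - z i * h1 j k + x k * h2 i j

theorem commute_iff_cross (A B : Matrix (Fin 2) (Fin 2) F) :
    A * B = B * A ↔ (A 0 1 * B 1 0 = A 1 0 * B 0 1 ∧ A 0 1 * (B 0 0 - B 1 1) = (A 0 0 - A 1 1) * B 0 1
      ∧ A 1 0 * (B 0 0 - B 1 1) = (A 0 0 - A 1 1) * B 1 0) := by
  constructor
  · intro h
    have h00 := congrFun (congrFun h 0) 0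
    have h01 := congrFun (congrFun h 0) 1
    have h10 := congrFun (congrFun h 1) 0
    simp only [Matrix.mul_apply, Fin.sum_univ_two] at h00 h01 h10
    refine ⟨?_, ?_, ?_⟩
    · linear_combination h00
    · linear_combination -h01
    · linear_combination h10
  · rintro ⟨h1, h2, h3⟩
    ext i j
    fin_cases i <;> fin_cases j <;>
      simp only [Matrix.mul_apply, Fin.sum_univ_two, Fin.zero_eta, Fin.mk_one, Fin.isValue]
    · linear_combination h1
    · linear_combination -h2
    · linear_combination h3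
    · linear_combination -h1

/-- the vector of a matrix -/
def vec (A : Matrix (Fin 2) (Fin 2) F) : Fin 3 → F := ![A 0 1, A 1 0, A 0 0 - A 1 1]

theorem cross_of_commute {A B : Matrix (Fin 2) (Fin 2) F} (h : A * B = B * A) (i j : Fin 3) :
    vec A i * vec B j = vec A j * vec B i := by
  obtain ⟨h1, h2, h3⟩ := (commute_iff_cross A B).1 h
  fin_cases i <;> fin_cases j <;>
      simp only [vec, Fin.zero_eta, Fin.mk_one, Fin.isValue, Matrix.cons_val_zero,
        Matrix.cons_val_one, Matrix.cons_val, Fin.reduceFinMk]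
  · linear_combination h1
  · linear_combination h2
  · linear_combination -h1
  · linear_combination h3
  · linear_combination -h2
  · linear_combination -h3

theorem SL_CT [CharP F 2] : CT (Matrix.SpecialLinearGroup (Fin 2) F) := by
  intro a b c ha hb hc hab hbc
  have hab' : (a : Matrix (Fin 2) (Fin 2) F) * b = b * a := by
    have := congrArg (fun x : Matrix.SpecialLinearGroup (Fin 2) F => (x : Matrix (Fin 2) (Fin 2) F))
      hab.eq
    simpa using this
  have hbc' : (b : Matrix (Fin 2) (Fin 2) F) * c = c * b := by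
    have := congrArg (fun x : Matrix.SpecialLinearGroup (Fin 2) F => (x : Matrix (Fin 2) (Fin 2) F))
      hbc.eq
    simpa using this
  have hb0 : vec (b : Matrix (Fin 2) (Fin 2) F) ≠ 0 := by
    intro h0
    apply hb
    have e0 := congrFun h0 0
    have e1 := congrFun h0 1
    have e2 := congrFun h0 2
    simp only [vec, Matrix.cons_val_zero, Matrix.cons_val_one, Matrix.cons_val,
      Pi.zero_apply] at e0 e1 e2
    have hd := b.2
    rw [Matrix.det_fin_two] at hd
    have e3 : (b : Matrix (Fin 2) (Fin 2) F) 0 0 = (b : Matrix (Fin 2) (Fin 2) F) 1 1 :=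
      sub_eq_zero.1 e2
    change (b : Matrix (Fin 2) (Fin 2) F) 0 0 * (b : Matrix (Fin 2) (Fin 2) F) 1 1 -
      (b : Matrix (Fin 2) (Fin 2) F) 0 1 * (b : Matrix (Fin 2) (Fin 2) F) 1 0 = 1 at hd
    rw [e0, zero_mul, sub_zero, e3] at hd
    have e4 : (b : Matrix (Fin 2) (Fin 2) F) 1 1 = 1 := by
      have : ((b : Matrix (Fin 2) (Fin 2) F) 1 1 - 1) ^ 2 = 0 := by
        rw [CharTwo.sub_eq_add, CharTwo.add_sq]
        have h2 : (1 : F) + 1 = 0 := CharTwo.add_self_eq_zero 1
        rw [sq, hd]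
        simpa using h2
      exact sub_eq_zero.1 (pow_eq_zero_iff (two_ne_zero)|>.1 this)
    ext i j
    fin_cases i <;> fin_cases j <;> simp [e0, e1, e3, e4]
  have hac := cross_trans hb0 (cross_of_commute hab') (cross_of_commute hbc')
  have hfin : (a : Matrix (Fin 2) (Fin 2) F) * c = c * a := by
    rw [commute_iff_cross]
    have h01 := hac 0 1
    have h02 := hac 0 2
    have h12 := hac 1 2
    simp only [vec, Matrix.cons_val_zero, Matrix.cons_val_one, Matrix.cons_val] at h01 h02 h12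
    exact ⟨h01, h02, h12⟩
  change a * c = c * a
  ext i j
  have := congrFun (congrFun hfin i) j
  simpa using this

theorem PSL_CT [CharP F 2] : CT (Matrix.ProjectiveSpecialLinearGroup (Fin 2) F) := by
  intro a b c
  induction a using QuotientGroup.induction_on with
  | _ a =>
  induction b using QuotientGroup.induction_on with
  | _ b =>
  induction c using QuotientGroup.induction_on with
  | _ c =>
  intro ha hb hc hab hbc
  -- the centre is trivial
  have hcen : Subgroup.center (Matrix.SpecialLinearGroup (Fin 2) F) = ⊥ := by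
    rw [eq_bot_iff]
    intro x hx
    rw [Matrix.SpecialLinearGroup.mem_center_iff] at hx
    obtain ⟨r, hr, hr'⟩ := hx
    rw [Fintype.card_fin] at hr
    have : (r - 1) ^ 2 = 0 := by
      rw [CharTwo.sub_eq_add, CharTwo.add_sq, hr]
      have h2 : (1 : F) + 1 = 0 := CharTwo.add_self_eq_zero 1
      simpa using h2
    have hr1 : r = 1 := sub_eq_zero.1 (pow_eq_zero_iff (two_ne_zero)|>.1 this)
    rw [Subgroup.mem_bot]
    ext i j
    rw [← hr', hr1]
    simp
  have hinj : Function.Injective (QuotientGroup.mk'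
      (Subgroup.center (Matrix.SpecialLinearGroup (Fin 2) F))) := by
    rw [← MonoidHom.ker_eq_bot_iff, QuotientGroup.ker_mk', hcen]
  have ha' : a ≠ 1 := by rintro rfl; exact ha rfl
  have hb' : b ≠ 1 := by rintro rfl; exact hb rfl
  have hc' : c ≠ 1 := by rintro rfl; exact hc rfl
  have hab' : Commute a b := by
    apply hinj
    rw [map_mul, map_mul]
    exact hab
  have hbc' : Commute b c := by
    apply hinj
    rw [map_mul, map_mul]
    exact hbc
  have := SL_CT a b c ha' hb' hc' hab' hbc'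
  exact this.map (QuotientGroup.mk' (Subgroup.center (Matrix.SpecialLinearGroup (Fin 2) F)))

end SLtwo

section Str

variable {G : Type*} [Group G] [Finite G]

theorem sylow_comm (h : CT G) (S : Sylow 2 G) (x y : G) (hx : x ∈ S) (hy : y ∈ S) :
    Commute x y := by
  by_cases hx1 : x = 1
  · rw [hx1]; exact Commute.one_left y
  by_cases hy1 : y = 1
  · rw [hy1]; exact Commute.one_right x
  haveI : Fact (Nat.Prime 2) := ⟨Nat.prime_two⟩
  have hnt : Nontrivial (S : Subgroup G) := ⟨⟨⟨x, hx⟩, 1, fun hh => hx1 (by simpa using congrArg Subtype.val hh)⟩⟩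
  have hcn := S.isPGroup'.center_nontrivial
  obtain ⟨z, hz⟩ := exists_ne (1 : Subgroup.center (S : Subgroup G))
  have hz1 : ((z : (S : Subgroup G)) : G) ≠ 1 := by
    intro hh
    apply hz
    apply Subtype.ext
    apply Subtype.ext
    exact hh
  have hzc := Subgroup.mem_center_iff.1 z.2
  have h1 : Commute x ((z : (S : Subgroup G)) : G) := by
    have := hzc ⟨x, hx⟩
    exact congrArg Subtype.val this
  have h2 : Commute ((z : (S : Subgroup G)) : G) y := by
    have := hzc ⟨y, hy⟩
    exact (congrArg Subtype.val this).symm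
  exact h x _ y hx1 hz1 hy1 h1 h2

/-- Sylow 2-subgroups are TI -/
theorem sylow_TI (h : CT G) (S : Sylow 2 G) (T : Sylow 2 G) (x : G) (hx1 : x ≠ 1) (hx : x ∈ S)
    (hxT : x ∈ T) : S = T := by
  haveI : Fact (Nat.Prime 2) := ⟨Nat.prime_two⟩
  have hle : (T : Subgroup G) ≤ Subgroup.normalizer (S : Set G) := by
    intro y hy
    apply Subgroup.centralizer_le_normalizer
    rw [Subgroup.mem_centralizer_iff]
    intro s hs
    by_cases hs1 : s = 1
    · rw [hs1, one_mul, mul_one]
    by_cases hy1 : y = 1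
    · rw [hy1, one_mul, mul_one]
    exact h s x y hs1 hx1 hy1 (sylow_comm h S s x hs hx) (sylow_comm h T x y hxT hy)
  have h1 := T.isPGroup'.inf_normalizer_sylow S
  rw [inf_eq_left.2 hle] at h1
  have h2 : (T : Subgroup G) ≤ S := by
    rw [h1]; exact inf_le_right
  exact (Sylow.ext (T.is_maximal' S.isPGroup' h2))

theorem stronglyEmbedded (h : CT G) (S : Sylow 2 G) (hS : (S : Subgroup G) ≠ ⊥)
    (hn : Subgroup.normalizer (S : Set G) ≠ ⊤) :
    Cfsg.IsStronglyEmbedded (Subgroup.normalizer (S : Set G)) := by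
  haveI : Fact (Nat.Prime 2) := ⟨Nat.prime_two⟩
  have key : ∀ (T : Sylow 2 G) (t : G), orderOf t = 2 →
      t ∈ Subgroup.normalizer (T : Set G) → t ∈ T := by
    intro T t ht htn
    have hp : IsPGroup 2 (Subgroup.zpowers t) := by
      apply IsPGroup.of_card (n := 1)
      rw [Nat.card_zpowers, ht, pow_one]
    have h1 := hp.inf_normalizer_sylow T
    have : t ∈ Subgroup.zpowers t ⊓ Subgroup.normalizer (T : Set G) :=
      ⟨Subgroup.mem_zpowers t, htn⟩
    rw [h1] at this
    exact this.2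
  refine ⟨hn, ?_, ?_⟩
  · have h2 : 2 ∣ Nat.card (S : Subgroup G) := by
      haveI : Nontrivial (S : Subgroup G) := (Subgroup.nontrivial_iff_ne_bot _).2 hS
      obtain ⟨n, hn0, hn⟩ := S.isPGroup'.nontrivial_iff_card.1 inferInstance
      rw [hn]
      exact dvd_pow_self 2 hn0.ne'
    exact even_iff_two_dvd.2 (h2.trans (Subgroup.card_dvd_of_le Subgroup.le_normalizer))
  · intro g hg
    rw [← Nat.not_even_iff_odd, even_iff_two_dvd]
    intro hdvd
    obtain ⟨⟨t, ht1, ht2⟩, hto⟩ := exists_prime_orderOf_dvd_card' 2 hdvd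
    have hto' : orderOf t = 2 := by
      rw [← hto]
      exact (Subgroup.orderOf_mk t _).symm
    have htS : t ∈ S := key S t hto' ht1
    obtain ⟨u, hu, hut⟩ := ht2
    have hut' : g * u * g⁻¹ = t := hut
    have huo : orderOf u = 2 := by
      rw [← hto', ← hut']
      exact (orderOf_injective (MulAut.conj g).toMonoidHom (MulAut.conj g).injective u).symm
    have huS : u ∈ S := key S u huo hu
    have htgS : t ∈ g • S := by
      have h3 : MulAut.conj g • u ∈ (MulAut.conj g • (S : Subgroup G) : Subgroup G) :=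
        Subgroup.smul_mem_pointwise_smul u (MulAut.conj g) _ huS
      have h4 : MulAut.conj g • u = t := hut'
      rw [h4] at h3
      exact h3
    have hSg := sylow_TI h S (g • S) t (by rintro rfl; simp at hto') htS htgS
    exact hg (Sylow.smul_eq_iff_mem_normalizer.1 hSg.symm)

end Str

section Arith

theorem two_card_psl {F : Type*} [Field F] [Fintype F] (hodd : Fintype.card F % 2 = 1) :
    2 * Nat.card (Matrix.ProjectiveSpecialLinearGroup (Fin 2) F) =
      (Fintype.card F - 1) * Fintype.card F * (Fintype.card F + 1) := by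
  have h := Cfsg.Agent.S0243.result (F := F) (q := Fintype.card F) rfl 2 le_rfl
  have hq1 : 1 < Fintype.card F := Fintype.one_lt_card
  generalize Fintype.card F = q at *
  have hg : Nat.gcd 2 (q - 1) = 2 := by
    apply Nat.gcd_eq_left
    omega
  rw [hg, Fin.prod_univ_two] at h
  simp only [Fin.val_zero, Fin.val_one, pow_zero, pow_one] at h
  obtain ⟨r, rfl⟩ : ∃ r, q = r + 2 := ⟨q - 2, by omega⟩
  have e1 : r + 2 - 1 = r + 1 := by omega
  have e2 : (r + 2) ^ 2 - 1 = (r + 1) * (r + 3) := by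
    have : (r + 2) ^ 2 = (r + 1) * (r + 3) + 1 := by ring
    rw [this]; rfl
  have e3 : (r + 2) ^ 2 - (r + 2) = (r + 1) * (r + 2) := by
    have : (r + 2) ^ 2 = (r + 1) * (r + 2) + (r + 2) := by ring
    rw [this, Nat.add_sub_cancel]
  rw [e1, e2, e3] at h
  rw [e1]
  have hpos : 0 < r + 1 := Nat.succ_pos r
  apply Nat.eq_of_mul_eq_mul_left hpos
  calc (r + 1) * (2 * Nat.card (Matrix.ProjectiveSpecialLinearGroup (Fin 2) F))
      = 2 * ((r + 1) * Nat.card (Matrix.ProjectiveSpecialLinearGroup (Fin 2) F)) := by ring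
    _ = _ := by rw [h]; ring

theorem sixteen_not_dvd_of_mod {q N : ℕ} (hq : q % 8 = 3 ∨ q % 8 = 5)
    (h : 2 * N = (q - 1) * q * (q + 1)) : ¬ 8 ∣ N := by
  intro hd
  have h16 : 16 ∣ (q - 1) * q * (q + 1) := by
    rw [← h]
    obtain ⟨k, rfl⟩ := hd
    exact ⟨k, by ring⟩
  obtain ⟨r, hr⟩ : ∃ r, q = 8 * r + 3 ∨ q = 8 * r + 5 := ⟨q / 8, by omega⟩
  rcases hr with rfl | rfl
  · have : (8 * r + 3 - 1) * (8 * r + 3) * (8 * r + 3 + 1) =
        8 * ((4 * r + 1) * (8 * r + 3) * (2 * r + 1)) := by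
      have e : 8 * r + 3 - 1 = 2 * (4 * r + 1) := by omega
      rw [e]; ring
    rw [this] at h16
    have h2 : 2 ∣ (4 * r + 1) * (8 * r + 3) * (2 * r + 1) := by
      have : 8 * 2 ∣ 8 * ((4 * r + 1) * (8 * r + 3) * (2 * r + 1)) := h16
      exact Nat.dvd_of_mul_dvd_mul_left (by norm_num) this
    rcases (Nat.Prime.dvd_mul Nat.prime_two).1 h2 with h3 | h3
    · rcases (Nat.Prime.dvd_mul Nat.prime_two).1 h3 with h4 | h4 <;> omega
    · omega
  · have : (8 * r + 5 - 1) * (8 * r + 5) * (8 * r + 5 + 1) =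
        8 * ((2 * r + 1) * (8 * r + 5) * (4 * r + 3)) := by
      have e : 8 * r + 5 - 1 = 4 * (2 * r + 1) := by omega
      rw [e]; ring
    rw [this] at h16
    have h2 : 2 ∣ (2 * r + 1) * (8 * r + 5) * (4 * r + 3) := by
      have : 8 * 2 ∣ 8 * ((2 * r + 1) * (8 * r + 5) * (4 * r + 3)) := h16
      exact Nat.dvd_of_mul_dvd_mul_left (by norm_num) this
    rcases (Nat.Prime.dvd_mul Nat.prime_two).1 h2 with h3 | h3
    · rcases (Nat.Prime.dvd_mul Nat.prime_two).1 h3 with h4 | h4 <;> omega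
    · omega

theorem three_dvd_of {q N : ℕ} (hq : 1 ≤ q) (h : 2 * N = (q - 1) * q * (q + 1)) : 3 ∣ N := by
  have h3 : 3 ∣ 2 * N := by
    rw [h]
    have : (q - 1) % 3 = 0 ∨ q % 3 = 0 ∨ (q + 1) % 3 = 0 := by omega
    rcases this with h1 | h1 | h1
    · exact Dvd.dvd.mul_right (Dvd.dvd.mul_right (Nat.dvd_of_mod_eq_zero h1) _) _
    · exact Dvd.dvd.mul_right (Dvd.dvd.mul_left (Nat.dvd_of_mod_eq_zero h1) _) _
    · exact Dvd.dvd.mul_left (Nat.dvd_of_mod_eq_zero h1) _
  exact (Nat.Coprime.dvd_of_dvd_mul_left (by norm_num) h3)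

theorem suz_not_three_dvd (m : ℕ) :
    ¬ 3 ∣ (2 ^ (2 * m + 1)) ^ 2 * ((2 ^ (2 * m + 1)) ^ 2 + 1) * (2 ^ (2 * m + 1) - 1) := by
  have h1 : 2 ^ (2 * m + 1) % 3 = 2 := by
    rw [pow_succ, pow_mul, Nat.mul_mod, Nat.pow_mod]
    norm_num
  generalize 2 ^ (2 * m + 1) = q at *
  intro h
  rcases (Nat.Prime.dvd_mul Nat.prime_three).1 h with h2 | h2
  · rcases (Nat.Prime.dvd_mul Nat.prime_three).1 h2 with h3 | h3
    · have := Nat.Prime.dvd_of_dvd_pow Nat.prime_three h3
      omega
    · have : (q ^ 2 + 1) % 3 = 2 := by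
        rw [Nat.add_mod, Nat.pow_mod, h1]
      omega
  · omega

theorem ree_mod (m : ℕ) : ¬ 16 ∣ (3 ^ (2 * m + 1)) ^ 3 * ((3 ^ (2 * m + 1)) ^ 3 + 1) *
    (3 ^ (2 * m + 1) - 1) := by
  have h1 : 3 ^ (2 * m + 1) % 8 = 3 := by
    rw [pow_succ, pow_mul, Nat.mul_mod, Nat.pow_mod]
    norm_num
  generalize 3 ^ (2 * m + 1) = q at *
  obtain ⟨r, rfl⟩ : ∃ r, q = 8 * r + 3 := ⟨q / 8, by omega⟩
  have e : (8 * r + 3) ^ 3 * ((8 * r + 3) ^ 3 + 1) * (8 * r + 3 - 1) =
      8 * ((8 * r + 3) ^ 3 * (128 * r ^ 3 + 144 * r ^ 2 + 54 * r + 7) * (4 * r + 1)) := by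
    have e : 8 * r + 3 - 1 = 2 * (4 * r + 1) := by omega
    rw [e]; ring
  rw [e]
  intro h
  have h2 : 2 ∣ (8 * r + 3) ^ 3 * (128 * r ^ 3 + 144 * r ^ 2 + 54 * r + 7) * (4 * r + 1) :=
    Nat.dvd_of_mul_dvd_mul_left (by norm_num : 0 < 8) h
  rcases (Nat.Prime.dvd_mul Nat.prime_two).1 h2 with h3 | h3
  · rcases (Nat.Prime.dvd_mul Nat.prime_two).1 h3 with h4 | h4
    · have := Nat.Prime.dvd_of_dvd_pow Nat.prime_two h4
      omega
    · have : 128 * r ^ 3 + 144 * r ^ 2 + 54 * r + 7 =
        2 * (64 * r ^ 3 + 72 * r ^ 2 + 27 * r + 3) + 1 := by ring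
      omega
  · omega

theorem psu_dvd {F : Type*} [Field F] [Fintype F] {q : ℕ} (hF : Fintype.card F = q ^ 2)
    (he : Even q) (h4 : 4 ≤ q) : 16 ∣ Nat.card (Cfsg.PSU 3 F q) := by
  have h := Cfsg.Agent.S0280.result (F := F) (q := q) hF 3 (by norm_num)
  obtain ⟨p, hp⟩ := CharP.exists F
  have hpp : p.Prime := CharP.char_is_prime F p
  obtain ⟨n, hp', hn⟩ := FiniteField.card F p
  have hp2 : p = 2 := by
    have h2 : 2 ∣ p ^ (n : ℕ) := by
      rw [← hn, hF]
      exact dvd_pow he.two_dvd two_ne_zero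
    exact ((Nat.prime_dvd_prime_iff_eq Nat.prime_two hpp).1
      (Nat.Prime.dvd_of_dvd_pow Nat.prime_two h2)).symm
  have h4q : 4 ∣ q := by
    have hdv : q ∣ 2 ^ (n : ℕ) := by
      rw [← hp2, ← hn, hF]
      exact dvd_pow_self q two_ne_zero
    obtain ⟨k, -, rfl⟩ := (Nat.dvd_prime_pow Nat.prime_two).1 hdv
    have hk : 2 ≤ k := by
      by_contra hk
      have : k = 0 ∨ k = 1 := by omega
      rcases this with rfl | rfl <;> norm_num at h4
    exact pow_dvd_pow 2 hk
  have h64 : 16 ∣ q ^ (3 * (3 - 1) / 2) := by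
    norm_num
    obtain ⟨k, rfl⟩ := h4q
    exact ⟨4 * k ^ 3, by ring⟩
  have h1 : 16 ∣ Nat.gcd 3 (q + 1) * ((q + 1) * Nat.card (Cfsg.PSU 3 F q)) := by
    rw [h]
    exact Dvd.dvd.mul_right h64 _
  have c1 : Nat.Coprime 16 (Nat.gcd 3 (q + 1)) := by
    have : Nat.gcd 3 (q + 1) ∣ 3 := Nat.gcd_dvd_left _ _
    exact Nat.Coprime.coprime_dvd_right this (by norm_num)
  have c2 : Nat.Coprime 16 (q + 1) := by
    have : Nat.Coprime (2 ^ 4) (q + 1) := by
      apply Nat.Coprime.pow_left
      rw [Nat.coprime_two_left]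
      exact Even.add_one he
    exact this
  exact c2.dvd_of_dvd_mul_left (c1.dvd_of_dvd_mul_left h1)

end Arith

theorem forward {G : Type*} [Group G] [Finite G] [IsSimpleGroup G] (hG : ¬ IsMulCommutative G)
    (h : CT G) :
    ∃ (F : Type) (_ : Field F) (_ : Fintype F) (f : ℕ), 2 ≤ f ∧ Fintype.card F = 2 ^ f ∧
      Nonempty (G ≃* Matrix.ProjectiveSpecialLinearGroup (Fin 2) F) := by
  have hna : ∃ a b : G, a * b ≠ b * a := by
    by_contra hcon
    push Not at hcon
    exact hG ⟨⟨fun a b => hcon a b⟩⟩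
  haveI : Fact (Nat.Prime 2) := ⟨Nat.prime_two⟩
  let S : Sylow 2 G := default
  have hSc : IsMulCommutative (S : Subgroup G) :=
    ⟨⟨fun x y => Subtype.ext (sylow_comm h S x.1 y.1 x.2 y.2)⟩⟩
  -- the main step: an order restriction finishes
  have main : 2 ∣ Nat.card G → 3 ∣ Nat.card G → ¬ 16 ∣ Nat.card G →
      ∃ (F : Type) (_ : Field F) (_ : Fintype F) (f : ℕ), 2 ≤ f ∧ Fintype.card F = 2 ^ f ∧
      Nonempty (G ≃* Matrix.ProjectiveSpecialLinearGroup (Fin 2) F) := by
    intro h2 h3 h16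
    have hSb : (S : Subgroup G) ≠ ⊥ := by
      intro hb
      have hc := S.card_eq_multiplicity
      have h1 : Nat.card S = 1 := by
        change Nat.card (S : Subgroup G) = 1
        rw [hb]; exact Subgroup.card_bot
      rw [h1] at hc
      have h4 : (Nat.card G).factorization 2 ≠ 0 := by
        have := (Nat.Prime.factorization_pos_of_dvd Nat.prime_two Nat.card_pos.ne' h2)
        omega
      have h5 : 1 < 2 ^ (Nat.card G).factorization 2 := Nat.one_lt_pow h4 (by norm_num)
      omega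
    have hn : Subgroup.normalizer (S : Set G) ≠ ⊤ := by
      intro ht
      have hnorm : (S : Subgroup G).Normal := Subgroup.normalizer_eq_top_iff.1 ht
      rcases hnorm.eq_bot_or_eq_top with hb | hb
      · exact hSb hb
      · obtain ⟨a, b, hab⟩ := hna
        exact hab (sylow_comm h S a b (by change a ∈ (S : Subgroup G); rw [hb]; trivial)
          (by change b ∈ (S : Subgroup G); rw [hb]; trivial))
    have hse := stronglyEmbedded h S hSb hn
    rcases Cfsg.Agent.S0222.result hna _ hse with ⟨F, hF, hFF, hch, hc, hiso⟩ | hsz |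
      ⟨F, hF, hFF, q, hq, he, h4, ⟨hiso⟩⟩
    · obtain ⟨n, hp, hn⟩ := FiniteField.card F 2
      refine ⟨F, hF, hFF, n, ?_, hn, hiso⟩
      by_contra hlt
      have : (n : ℕ) = 0 ∨ (n : ℕ) = 1 := by omega
      rw [hn] at hc
      rcases this with h0 | h0 <;> rw [h0] at hc <;> norm_num at hc
    · obtain ⟨_, m, _, hm⟩ := hsz
      rw [hm] at h3
      exact absurd h3 (suz_not_three_dvd m)
    · rw [Nat.card_congr hiso.toEquiv] at h16
      exact absurd (psu_dvd hq he h4) h16
  rcases Cfsg.Agent.S0506.result hG S hSc with ⟨a, ha, F, hF, hFF, hc, hiso⟩ |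
      ⟨F, hF, hFF, hc, ⟨hiso⟩⟩ | hR | hJ
  · exact ⟨F, hF, hFF, a, ha, hc, hiso⟩
  · have hcard : 2 * Nat.card G = (Fintype.card F - 1) * Fintype.card F * (Fintype.card F + 1) := by
      rw [Nat.card_congr hiso.toEquiv]
      exact two_card_psl (by omega)
    have h8 := sixteen_not_dvd_of_mod hc hcard
    refine main ?_ ?_ ?_
    · have h4 : 4 ∣ 2 * Nat.card G := by
        rw [hcard]
        have : 2 ∣ (Fintype.card F - 1) := by omega
        have h' : 2 ∣ (Fintype.card F + 1) := by omega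
        have := mul_dvd_mul this h'
        have h'' : (Fintype.card F - 1) * (Fintype.card F + 1) ∣
          (Fintype.card F - 1) * Fintype.card F * (Fintype.card F + 1) :=
          ⟨Fintype.card F, by ring⟩
        exact dvd_trans (by simpa using this) h''
      omega
    · exact three_dvd_of (by omega) hcard
    · intro h16
      exact h8 (dvd_trans (by norm_num) h16)
  · obtain ⟨_, m, _, hm⟩ := hR
    refine main ?_ ?_ ?_
    · rw [hm]
      apply Dvd.dvd.mul_right
      apply Dvd.dvd.mul_left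
      have : Odd ((3 ^ (2 * m + 1)) ^ 3) := by
        apply Odd.pow; apply Odd.pow; decide
      exact (this.add_one).two_dvd
    · rw [hm]
      apply Dvd.dvd.mul_right
      apply Dvd.dvd.mul_right
      apply dvd_pow _ (by norm_num)
      exact dvd_pow_self 3 (by omega)
    · rw [hm]; exact ree_mod m
  · obtain ⟨_, hm⟩ := hJ
    refine main ?_ ?_ ?_ <;> rw [hm] <;> norm_num

/-- A finite non-abelian simple group in which commuting is a transitive relation on the non-identity elements (equivalently, every non-identity element has abelian centraliser) is isomorphic to PSL₂ over a field with 2^f elements for some f ≥ 2; conversely these groups have that property. -/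
theorem result {G : Type*} [Group G] [Finite G] [IsSimpleGroup G] (hG : ¬ IsMulCommutative G) :
    (∀ a b c : G, a ≠ 1 → b ≠ 1 → c ≠ 1 → Commute a b → Commute b c → Commute a c) ↔
    ∃ (F : Type) (_ : Field F) (_ : Fintype F) (f : ℕ), 2 ≤ f ∧ Fintype.card F = 2 ^ f ∧ Nonempty (G ≃* Matrix.ProjectiveSpecialLinearGroup (Fin 2) F) := by
  constructor
  · intro h
    exact forward hG h
  · rintro ⟨F, hF, hFF, f, hf, hc, ⟨e⟩⟩
    haveI : CharP F 2 := by
      obtain ⟨p, hp⟩ := CharP.exists F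
      have hpp : p.Prime := CharP.char_is_prime F p
      obtain ⟨n, hp', hn⟩ := FiniteField.card F p
      have hp2 : p = 2 := by
        have h2 : 2 ∣ p ^ (n : ℕ) := by
          rw [← hn, hc]
          exact dvd_pow_self 2 (by omega)
        exact ((Nat.prime_dvd_prime_iff_eq Nat.prime_two hpp).1
          (Nat.Prime.dvd_of_dvd_pow Nat.prime_two h2)).symm
      rw [← hp2]; exact hp
    exact CT.of_injective e.toMonoidHom e.injective PSL_CT

end Cfsg.Agent.S5748
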