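import Cfsg.Statements.S5726
import Cfsg.Agent.H894.Orbit

set_option autoImplicit false
open Cfsg

namespace Cfsg.Agent.S5726

/-- If a finite group acts faithfully and transitively on a set with p^k elements, p a prime and k ≥ 1, then some element of order p fixes no point. -/
theorem result {G Ω : Type*} [Group G] [Finite G] [MulAction G Ω] [FaithfulSMul G Ω] [Fintype Ω] (htr : MulAction.IsPretransitive G Ω)
    (p k : ℕ) (hp : p.Prime) (hk : 1 ≤ k) (hΩ : Fintype.card Ω = p ^ k) :
    ∃ g : G, orderOf g = p ∧ ∀ ω : Ω, g • ω ≠ ω := by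
  classical
  have hfp : Fact p.Prime := ⟨hp⟩
  obtain ⟨P⟩ : Nonempty (Sylow p G) := inferInstance
  have hcard : Nat.card Ω = p ^ k := by rw [Nat.card_eq_fintype_card, hΩ]
  have horb : ∀ ω ω' : Ω, ∃ x : (P : Subgroup G), x • ω = ω' := by
    intro ω ω'
    have h0 : 0 < Nat.card (MulAction.orbit (P : Subgroup G) ω) := by
      have : Nonempty (MulAction.orbit (P : Subgroup G) ω) := ⟨⟨ω, MulAction.mem_orbit_self ω⟩⟩
      exact Nat.card_pos
    have h1 := Nat.le_of_dvd h0
      (Cfsg.Agent.H894.dvd_card_orbit htr P ω k (hcard ▸ dvd_refl _))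
    have h2 : MulAction.orbit (P : Subgroup G) ω = Set.univ := by
      apply Set.eq_of_subset_of_ncard_le (Set.subset_univ _) _ Set.finite_univ
      rw [Set.ncard_univ, hcard]
      exact h1
    have h3 : ω' ∈ MulAction.orbit (P : Subgroup G) ω := h2 ▸ Set.mem_univ _
    exact h3
  obtain ⟨ω₀⟩ : Nonempty Ω := by
    rw [← Fintype.card_pos_iff, hΩ]; exact pow_pos hp.pos k
  have hnt : Nontrivial (P : Subgroup G) := by
    have h1 : 1 < Fintype.card Ω := by rw [hΩ]; exact Nat.one_lt_pow (by omega) hp.one_lt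
    obtain ⟨ω₁, h⟩ := Fintype.exists_ne_of_one_lt_card h1 ω₀
    obtain ⟨x, hx⟩ := horb ω₀ ω₁
    refine ⟨⟨x, 1, ?_⟩⟩
    rintro rfl
    rw [one_smul] at hx
    exact h hx.symm
  have hc := P.isPGroup'.center_nontrivial
  obtain ⟨n, hn0, hn⟩ := (P.isPGroup'.to_subgroup (Subgroup.center (P : Subgroup G))).nontrivial_iff_card.1 hc
  obtain ⟨z, hz⟩ := exists_prime_orderOf_dvd_card' (G := Subgroup.center (P : Subgroup G)) p
    (by rw [hn]; exact dvd_pow_self p hn0.ne')
  refine ⟨((z : (P : Subgroup G)) : G), ?_, ?_⟩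
  · rw [Subgroup.orderOf_coe, Subgroup.orderOf_coe, hz]
  · intro ω hω
    have h1 : ((z : (P : Subgroup G)) : G) = 1 := by
      apply FaithfulSMul.eq_of_smul_eq_smul (α := Ω)
      intro ω'
      obtain ⟨x, rfl⟩ := horb ω ω'
      have hcom : (z : (P : Subgroup G)) * x = x * z :=
        ((Subgroup.mem_center_iff.1 z.2) x).symm
      have hcom' : ((z : (P : Subgroup G)) : G) * (x : G) = (x : G) * ((z : (P : Subgroup G)) : G) :=
        congrArg Subtype.val hcom
      change ((z : (P : Subgroup G)) : G) • (x : G) • ω = (1 : G) • (x : G) • ω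
      rw [smul_smul, hcom', ← smul_smul, hω, one_smul]
    have h2 : z = 1 := Subtype.ext (Subtype.ext h1)
    rw [h2, orderOf_one] at hz
    exact hp.one_lt.ne hz

end Cfsg.Agent.S5726
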