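import Cfsg.Statements.S5727
import Cfsg.Agent.H894.Orbit
import Cfsg.Agent.S5726

set_option autoImplicit false
open Cfsg

namespace Cfsg.Agent.S5727

/-- If a finite group acts faithfully and transitively on a set with m·p elements, where p is a prime and 1 ≤ m ≤ p, then some element of order p fixes no point. -/
theorem result {G Ω : Type*} [Group G] [Finite G] [MulAction G Ω] [FaithfulSMul G Ω] [Fintype Ω] (htr : MulAction.IsPretransitive G Ω)
    (p m : ℕ) (hp : p.Prime) (hm : 1 ≤ m) (hmp : m ≤ p) (hΩ : Fintype.card Ω = m * p) :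
    ∃ g : G, orderOf g = p ∧ ∀ ω : Ω, g • ω ≠ ω := by
  classical
  have hfp : Fact p.Prime := ⟨hp⟩
  rcases hmp.eq_or_lt with rfl | hlt
  · exact Cfsg.Agent.S5726.result htr m 2 hp (by norm_num) (by rw [hΩ, sq])
  obtain ⟨P⟩ : Nonempty (Sylow p G) := inferInstance
  have hcard : Nat.card Ω = m * p := by rw [Nat.card_eq_fintype_card, hΩ]
  -- every orbit of `P` has length `p`
  have horb : ∀ ω : Ω, Nat.card (MulAction.orbit (P : Subgroup G) ω) = p := by
    intro ω
    have h0 : 0 < Nat.card (MulAction.orbit (P : Subgroup G) ω) := by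
      have : Nonempty (MulAction.orbit (P : Subgroup G) ω) := ⟨⟨ω, MulAction.mem_orbit_self ω⟩⟩
      exact Nat.card_pos
    have h1 : p ^ 1 ∣ Nat.card (MulAction.orbit (P : Subgroup G) ω) :=
      Cfsg.Agent.H894.dvd_card_orbit htr P ω 1 (by rw [hcard, pow_one]; exact dvd_mul_left p m)
    obtain ⟨a, ha⟩ := P.isPGroup'.card_orbit ω
    have hle : Nat.card (MulAction.orbit (P : Subgroup G) ω) ≤ m * p := by
      rw [← hcard]; exact Nat.card_le_card_of_injective _ Subtype.val_injective
    rw [ha] at h1 hle ⊢
    have h3 : 1 ≤ a := (Nat.pow_dvd_pow_iff_le_right hp.one_lt).1 h1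
    have h4 : a < 2 := by
      rw [← Nat.pow_lt_pow_iff_right hp.one_lt, sq]
      exact lt_of_le_of_lt hle (Nat.mul_lt_mul_of_pos_right hlt hp.pos)
    have : a = 1 := by omega
    rw [this, pow_one]
  have hind : ∀ ω : Ω, (MulAction.stabilizer (P : Subgroup G) ω).index = p := by
    intro ω
    rw [MulAction.index_stabilizer]; exact horb ω
  have hnorm : ∀ ω : Ω, (MulAction.stabilizer (P : Subgroup G) ω).Normal := by
    intro ω
    apply Subgroup.normal_of_index_eq_minFac_card
    rw [hind ω]
    have hdv : p ∣ Nat.card (P : Subgroup G) := by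
      have h1 := Subgroup.index_dvd_card (MulAction.stabilizer (P : Subgroup G) ω)
      rwa [hind ω] at h1
    obtain ⟨a, ha⟩ := (IsPGroup.iff_card (p := p)).1 P.isPGroup'
    rw [ha]
    have ha0 : a ≠ 0 := by
      rintro rfl
      rw [ha, pow_zero] at hdv
      exact hp.one_lt.ne' (Nat.dvd_one.1 hdv)
    rw [Nat.Prime.pow_minFac hp ha0]
  have hfix : ∀ (x : (P : Subgroup G)) (ω : Ω), x • ω = ω →
      ∀ ω' ∈ MulAction.orbit (P : Subgroup G) ω, x • ω' = ω' := by
    rintro x ω hx _ ⟨y, rfl⟩
    have h1 : y⁻¹ * x * y⁻¹⁻¹ ∈ MulAction.stabilizer (P : Subgroup G) ω :=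
      (hnorm ω).conj_mem x hx y⁻¹
    rw [inv_inv] at h1
    have h2 : (y⁻¹ * x * y) • ω = ω := h1
    change x • y • ω = y • ω
    calc x • y • ω = y • (y⁻¹ * x * y) • ω := by
          rw [smul_smul, smul_smul]; congr 1; group
      _ = y • ω := by rw [h2]
  -- some element of `P` fixes no point
  obtain ⟨x, hx⟩ : ∃ x : (P : Subgroup G), ∀ ω : Ω, x • ω ≠ ω := by
    by_contra hcon
    push Not at hcon
    have hft : Fintype (P : Subgroup G) := Fintype.ofFinite _
    have hdc := Finset.sum_card_bipartiteAbove_eq_sum_card_bipartiteBelow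
      (s := (Finset.univ : Finset (P : Subgroup G))) (t := (Finset.univ : Finset Ω))
      (fun x ω => x • ω = ω)
    have hL : Fintype.card (P : Subgroup G) * p ≤ ∑ a : (P : Subgroup G),
        (Finset.bipartiteAbove (fun x ω => x • ω = ω) (Finset.univ : Finset Ω) a).card := by
      rw [← smul_eq_mul, ← Finset.card_univ, ← Finset.sum_const]
      apply Finset.sum_le_sum
      intro a _
      obtain ⟨ω, hω⟩ := hcon a
      have h1 := horb ω
      have h2 : Nat.card (MulAction.orbit (P : Subgroup G) ω) ≤
          (Finset.bipartiteAbove (fun x ω => x • ω = ω) (Finset.univ : Finset Ω) a).card := by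
        rw [Nat.card_coe_set_eq, Set.ncard_eq_toFinset_card']
        apply Finset.card_le_card
        intro ω' hω'
        rw [Set.mem_toFinset] at hω'
        rw [Finset.mem_bipartiteAbove]
        exact ⟨Finset.mem_univ _, hfix a ω hω ω' hω'⟩
      omega
    have hR : ∀ b : Ω, p * (Finset.bipartiteBelow (fun x ω => x • ω = ω)
        (Finset.univ : Finset (P : Subgroup G)) b).card = Fintype.card (P : Subgroup G) := by
      intro b
      have h1 := Subgroup.card_mul_index (MulAction.stabilizer (P : Subgroup G) b)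
      rw [hind b, Nat.card_eq_fintype_card (α := (P : Subgroup G)), mul_comm] at h1
      rw [← h1]
      congr 1
      rw [Nat.card_eq_fintype_card, ← Fintype.card_coe]
      apply Fintype.card_congr
      refine Equiv.subtypeEquivRight ?_
      intro x
      rw [Finset.mem_bipartiteBelow]
      simp [MulAction.mem_stabilizer_iff]
    have hR' : p * ∑ b : Ω, (Finset.bipartiteBelow (fun x ω => x • ω = ω)
        (Finset.univ : Finset (P : Subgroup G)) b).card
        = m * p * Fintype.card (P : Subgroup G) := by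
      rw [Finset.mul_sum, Finset.sum_congr rfl (fun b _ => hR b), Finset.sum_const,
        Finset.card_univ, hΩ, smul_eq_mul]
    rw [← hdc] at hR'
    have hpos : 0 < Fintype.card (P : Subgroup G) := Fintype.card_pos
    have h5 : p * (Fintype.card (P : Subgroup G) * p) ≤ m * p * Fintype.card (P : Subgroup G) := by
      rw [← hR']; exact Nat.mul_le_mul_left p hL
    have h6 : p ≤ m := by
      have : (Fintype.card (P : Subgroup G) * p) * p ≤ (Fintype.card (P : Subgroup G) * p) * m := by
        calc _ = p * (Fintype.card (P : Subgroup G) * p) := by ring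
          _ ≤ m * p * Fintype.card (P : Subgroup G) := h5
          _ = _ := by ring
      exact Nat.le_of_mul_le_mul_left this (Nat.mul_pos hpos hp.pos)
    omega
  refine ⟨(x : G), ?_, fun ω h => hx ω h⟩
  rw [Subgroup.orderOf_coe]
  obtain ⟨ω₀⟩ : Nonempty Ω := by
    rw [← Fintype.card_pos_iff, hΩ]; exact Nat.mul_pos hm hp.pos
  have hne : x ≠ 1 := by
    rintro rfl
    exact hx ω₀ (one_smul _ _)
  refine orderOf_eq_prime ?_ hne
  have h1 : ((x ^ p : (P : Subgroup G)) : G) = 1 := by
    apply FaithfulSMul.eq_of_smul_eq_smul (α := Ω)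
    intro ω
    rw [one_smul]
    have hN := hnorm ω
    have h2 : (QuotientGroup.mk x : (P : Subgroup G) ⧸ MulAction.stabilizer (P : Subgroup G) ω) ^
        (MulAction.stabilizer (P : Subgroup G) ω).index = 1 := by
      rw [Subgroup.index]
      exact pow_card_eq_one'
    rw [hind ω, ← QuotientGroup.mk_pow, QuotientGroup.eq_one_iff] at h2
    exact h2
  exact Subtype.ext h1

end Cfsg.Agent.S5727
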