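import Cfsg.Statements.S2543
import Cfsg.Agent.S0804
import Cfsg.Agent.H163.PSLEleven
import Cfsg.Agent.H163.TwoClasses
import Cfsg.Agent.TwoFusion.SLTwoFacts

set_option autoImplicit false
open scoped Pointwise
open Cfsg

namespace Cfsg.Agent.S2543

open H163.PSLEleven H163.AltFive H163.TwoClasses

section

variable {F : Type*} [Field F] [Fintype F]

theorem card_psl (hF : Fintype.card F = 11) : Nat.card (PSL F) = 660 := by
  have h := ClassicalGeometry.PSL2Basic.card_PSL2_odd (F := F) (by rw [hF]; decide)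
  rw [hF] at h
  have h' : Nat.card (PSL F) * 2 = 11 * (11 ^ 2 - 1) := h
  omega

/-- conjugation of a closure of a pair -/
theorem conj_closure {G : Type*} [Group G] (g a b : G) :
    MulAut.conj g • Subgroup.closure {a, b} = Subgroup.closure {g * a * g⁻¹, g * b * g⁻¹} := by
  show Subgroup.map (MulAut.conj g).toMonoidHom _ = _
  rw [MonoidHom.map_closure, Set.image_pair]
  rfl

/-- structure of an `A_5`-subgroup -/
theorem sub_structure (hF : Fintype.card F = 11) {L : Subgroup (PSL F)} (e : L ≃* A5) :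
    ∃ a b : PSL F, Subgroup.closure {a, b} = L ∧ IsType 7 a b ∧
      ∀ c d : PSL F, c ∈ L → d ∈ L → IsType 7 c d → ∃ g : PSL F, g * c * g⁻¹ = a ∧ g * d * g⁻¹ = b := by
  let f : A5 →* PSL F := L.subtype.comp e.symm.toMonoidHom
  have hf : Function.Injective f := fun x y h => e.symm.injective (Subtype.ext h)
  have hfe : ∀ (c : PSL F) (hc : c ∈ L), f (e ⟨c, hc⟩) = c := by
    intro c hc
    show ((e.symm (e ⟨c, hc⟩) : L) : PSL F) = c
    rw [e.symm_apply_apply]
  obtain ⟨y, hy, hty, huniq⟩ := five_structure hF f hf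
  have htop : Subgroup.closure {x1, y} = ⊤ := by
    rcases hy with rfl | rfl
    · obtain ⟨p1, p2, p3, p4, p5, p6⟩ := y1_facts
      exact closure_eq_top p1 p2 p3 p4 p5 p6
    · obtain ⟨p3, p4, p5, p6⟩ := y2_facts
      exact closure_eq_top y1_facts.1 y1_facts.2.1 p3 p4 p5 p6
  refine ⟨f x1, f y, ?_, hty, ?_⟩
  · have h1 : Subgroup.map f (Subgroup.closure {x1, y}) = Subgroup.closure {f x1, f y} := by
      rw [MonoidHom.map_closure, Set.image_pair]
    rw [← h1, htop, ← MonoidHom.range_eq_map]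
    ext c
    constructor
    · rintro ⟨z, rfl⟩
      exact (e.symm z).2
    · intro hc
      exact ⟨e ⟨c, hc⟩, hfe c hc⟩
  · intro c d hc hd hcd
    obtain ⟨g, hg1, hg2⟩ := huniq (e ⟨c, hc⟩) (e ⟨d, hd⟩) (by rw [hfe, hfe]; exact hcd)
    refine ⟨f g, ?_, ?_⟩
    · rw [← hg1, map_mul, map_mul, map_inv, hfe]
    · rw [← hg2, map_mul, map_mul, map_inv, hfe]

/-- the diagonal automorphism -/
def deltaSL (F : Type*) [Field F] : Matrix.SpecialLinearGroup (Fin 2) F ≃* Matrix.SpecialLinearGroup (Fin 2) F where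
  toFun A := ⟨!![A 0 0, -A 0 1; -A 1 0, A 1 1], by
    have := A.2
    rw [Matrix.det_fin_two] at this
    rw [Matrix.det_fin_two]
    simp only [Matrix.of_apply, Matrix.cons_val', Matrix.cons_val_zero, Matrix.cons_val_one,
      Matrix.cons_val_fin_one]
    linear_combination this⟩
  invFun A := ⟨!![A 0 0, -A 0 1; -A 1 0, A 1 1], by
    have := A.2
    rw [Matrix.det_fin_two] at this
    rw [Matrix.det_fin_two]
    simp only [Matrix.of_apply, Matrix.cons_val', Matrix.cons_val_zero, Matrix.cons_val_one,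
      Matrix.cons_val_fin_one]
    linear_combination this⟩
  left_inv A := by
    ext i j
    fin_cases i <;> fin_cases j <;> simp
  right_inv A := by
    ext i j
    fin_cases i <;> fin_cases j <;> simp
  map_mul' A B := by
    apply Subtype.ext
    show !![(A.1 * B.1) 0 0, -(A.1 * B.1) 0 1; -(A.1 * B.1) 1 0, (A.1 * B.1) 1 1] =
      !![A.1 0 0, -A.1 0 1; -A.1 1 0, A.1 1 1] * !![B.1 0 0, -B.1 0 1; -B.1 1 0, B.1 1 1]
    rw [Matrix.mul_fin_two]
    simp only [Matrix.mul_apply, Fin.sum_univ_two]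
    ext i j
    fin_cases i <;> fin_cases j <;> simp <;> ring

omit [Fintype F] in
theorem delta_eq {A B : Matrix.SpecialLinearGroup (Fin 2) F} (h1 : A.1 0 0 = B.1 0 0) (h2 : -A.1 0 1 = B.1 0 1)
    (h3 : -A.1 1 0 = B.1 1 0) (h4 : A.1 1 1 = B.1 1 1) : deltaSL F A = B := by
  apply Subtype.ext
  show !![A.1 0 0, -A.1 0 1; -A.1 1 0, A.1 1 1] = B.1
  ext i j
  fin_cases i <;> fin_cases j
  · exact h1
  · exact h2
  · exact h3
  · exact h4

theorem delta_exists (hF : Fintype.card F = 11) : ∃ δ : PSL F ≃* PSL F,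
    δ (a0 F) = a0' F ∧ δ (b0 hF) = b0' hF ∧ δ (a0' F) = a0 F ∧ δ (b0' hF) = b0 hF := by
  let δ : PSL F ≃* PSL F := QuotientGroup.congr _ _ (deltaSL F) (by
    exact Subgroup.characteristic_iff_map_eq.1 inferInstance (deltaSL F))
  have hδ : ∀ A, δ (pr F A) = pr F (deltaSL F A) := fun A => rfl
  refine ⟨δ, ?_, ?_, ?_, ?_⟩
  · rw [a0, hδ, delta_eq (B := A0' F)]
    · rfl
    all_goals simp [A0, A0']
  · rw [b0, hδ, delta_eq (B := B0' hF)]
    · rfl
    all_goals simp [B0, B0']
  · rw [a0', hδ, delta_eq (B := A0 F)]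
    · rfl
    all_goals simp [A0, A0']
  · rw [b0', hδ, delta_eq (B := B0 hF)]
    · rfl
    all_goals simp [B0, B0']

end

/-- Let F be a field with 11 elements. PSL_2(F) has exactly 22 subgroups isomorphic to the alternating group A_5, and they form two conjugacy classes: there are two such subgroups that are not conjugate, and every such subgroup is conjugate to one of these two. -/
theorem result {F : Type*} [Field F] [Fintype F] (hF : Fintype.card F = 11) : Nat.card {H : Subgroup (Matrix.ProjectiveSpecialLinearGroup (Fin 2) F) // Nonempty (H ≃* alternatingGroup (Fin 5))} = 22 ∧ ∃ H K : Subgroup (Matrix.ProjectiveSpecialLinearGroup (Fin 2) F), Nonempty (H ≃* alternatingGroup (Fin 5)) ∧ Nonempty (K ≃* alternatingGroup (Fin 5)) ∧ (∀ g : Matrix.ProjectiveSpecialLinearGroup (Fin 2) F, MulAut.conj g • H ≠ K) ∧ ∀ L : Subgroup (Matrix.ProjectiveSpecialLinearGroup (Fin 2) F), Nonempty (L ≃* alternatingGroup (Fin 5)) → ∃ g : Matrix.ProjectiveSpecialLinearGroup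 (Fin 2) F, MulAut.conj g • L = H ∨ MulAut.conj g • L = K := by
  classical
  obtain ⟨L₀, ⟨e₀⟩⟩ := (S0804.result hF).2 (by norm_num)
  have hsimple : IsSimpleGroup (PSL F) := TwoFusion.SLTwoFacts.isSimpleGroup_psl (by omega)
  obtain ⟨δ, d1, d2, d3, d4⟩ := delta_exists hF
  set H : Subgroup (PSL F) := Subgroup.closure {a0 F, b0 hF} with hH
  set K : Subgroup (PSL F) := Subgroup.closure {a0' F, b0' hF} with hK
  have hδH : H.map δ.toMonoidHom = K := by
    rw [hH, MonoidHom.map_closure, Set.image_pair]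
    show Subgroup.closure {δ (a0 F), δ (b0 hF)} = _
    rw [d1, d2]
  have hδK : K.map δ.toMonoidHom = H := by
    rw [hK, MonoidHom.map_closure, Set.image_pair]
    show Subgroup.closure {δ (a0' F), δ (b0' hF)} = _
    rw [d3, d4]
  have eHK : Nonempty (H ≃* K) := ⟨(δ.subgroupMap H).trans (MulEquiv.subgroupCongr hδH)⟩
  -- every A5-subgroup is conjugate to one of H, K
  have hall : ∀ L : Subgroup (PSL F), Nonempty (L ≃* A5) →
      ∃ g : PSL F, MulAut.conj g • L = H ∨ MulAut.conj g • L = K := by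
    rintro L ⟨e⟩
    obtain ⟨a, b, hab, hty, -⟩ := sub_structure hF e
    obtain ⟨g, ⟨h1, h2⟩ | ⟨h1, h2⟩⟩ := canonical_psl hF hty
    · exact ⟨g, Or.inl (by rw [← hab, conj_closure, h1, h2])⟩
    · exact ⟨g, Or.inr (by rw [← hab, conj_closure, h1, h2])⟩
  have econj : ∀ (g : PSL F) (L : Subgroup (PSL F)), Nonempty (L ≃* (MulAut.conj g • L : Subgroup (PSL F))) :=
    fun g L => ⟨(MulAut.conj g).subgroupMap L⟩
  have hHK : Nonempty (H ≃* A5) ∧ Nonempty (K ≃* A5) := by
    obtain ⟨g, h | h⟩ := hall L₀ ⟨e₀⟩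
    · obtain ⟨e1⟩ := econj g L₀
      obtain ⟨e2⟩ := eHK
      rw [h] at e1
      exact ⟨⟨e1.symm.trans e₀⟩, ⟨(e2.symm.trans e1.symm).trans e₀⟩⟩
    · obtain ⟨e1⟩ := econj g L₀
      obtain ⟨e2⟩ := eHK
      rw [h] at e1
      exact ⟨⟨(e2.trans e1.symm).trans e₀⟩, ⟨e1.symm.trans e₀⟩⟩
  obtain ⟨⟨eH⟩, ⟨eK⟩⟩ := hHK
  have hne : ∀ g : PSL F, MulAut.conj g • H ≠ K := by
    intro g hg
    obtain ⟨a, b, hab, hty, hu⟩ := sub_structure hF eK
    have hK1 : a0' F ∈ K := Subgroup.subset_closure (by simp)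
    have hK2 : b0' hF ∈ K := Subgroup.subset_closure (by simp)
    have hG1 : g * a0 F * g⁻¹ ∈ K := by
      rw [← hg, hH, conj_closure]
      exact Subgroup.subset_closure (by simp)
    have hG2 : g * b0 hF * g⁻¹ ∈ K := by
      rw [← hg, hH, conj_closure]
      exact Subgroup.subset_closure (by simp)
    obtain ⟨x, hx1, hx2⟩ := hu _ _ hK1 hK2 (type_a0' hF)
    obtain ⟨y, hy1, hy2⟩ := hu _ _ hG1 hG2 ((type_a0 hF).conj g)
    apply not_conj hF (x⁻¹ * y * g)
    · have : x⁻¹ * y * g * a0 F * (x⁻¹ * y * g)⁻¹ = x⁻¹ * (y * (g * a0 F * g⁻¹) * y⁻¹) * x := by group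
      rw [this, hy1, ← hx1]; group
    · have : x⁻¹ * y * g * b0 hF * (x⁻¹ * y * g)⁻¹ = x⁻¹ * (y * (g * b0 hF * g⁻¹) * y⁻¹) * x := by group
      rw [this, hy2, ← hx2]; group
  have hcard : ∀ {L : Subgroup (PSL F)}, (L ≃* A5) → L.index = 11 := by
    intro L e
    have h1 := L.card_mul_index
    rw [Nat.card_congr e.toEquiv, card_A5, card_psl hF] at h1
    omega
  have hnorm : ∀ {L : Subgroup (PSL F)}, (L ≃* A5) → Subgroup.normalizer (L : Set (PSL F)) = L := by
    intro L e
    have h1 := Subgroup.relIndex_mul_index (Subgroup.le_normalizer (H := L))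
    rw [hcard e] at h1
    have h2 : (Subgroup.normalizer (L : Set (PSL F))).index ∣ 11 := ⟨_, by rw [mul_comm]; exact h1.symm⟩
    rcases (Nat.dvd_prime (by norm_num)).1 h2 with h | h
    · exfalso
      have hn : L.Normal := by
        rw [← Subgroup.normalizer_eq_top_iff]
        exact Subgroup.index_eq_one.1 h
      have hc := hcard e
      have hcA := Nat.card_congr e.toEquiv
      rcases hsimple.eq_bot_or_eq_top_of_normal L hn with h3 | h3
      · rw [h3, card_A5] at hcA
        simp at hcA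
      · rw [h3, Subgroup.index_top] at hc
        exact absurd hc (by norm_num)
    · rw [h] at h1
      have h3 : L.relIndex (Subgroup.normalizer (L : Set (PSL F))) = 1 := by omega
      exact le_antisymm (Subgroup.relIndex_eq_one.1 h3) Subgroup.le_normalizer
  refine ⟨?_, H, K, ⟨eH⟩, ⟨eK⟩, hne, hall⟩
  rw [card_two_classes (fun L : Subgroup (PSL F) => Nonempty (L ≃* A5)) (hnorm eH) (hnorm eK) hne
    (fun L => ⟨hall L, ?_⟩), hcard eH, hcard eK]
  rintro ⟨g, h | h⟩
  · obtain ⟨e1⟩ := econj g L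
    rw [h] at e1
    exact ⟨e1.trans eH⟩
  · obtain ⟨e1⟩ := econj g L
    rw [h] at e1
    exact ⟨e1.trans eK⟩

end Cfsg.Agent.S2543
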