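import Cfsg.Statements.S2225
import Cfsg.Agent.H95.OddNorm
import Cfsg.Agent.H95.EvenPSL
import Cfsg.Agent.H95.PSLTwo

set_option autoImplicit false
open Cfsg

namespace Cfsg.Agent.S2225

open Matrix

theorem pow_one_case {F : Type*} [Field F] [Fintype F] (h2 : (2 : F) ≠ 0)
    (H : Subgroup (ProjectiveSpecialLinearGroup (Fin 2) F)) (hH : ¬ 2 ∣ H.index) : Cfsg.IsPronormal H := by
  have h2p : Fact (Nat.Prime 2) := ⟨Nat.prime_two⟩
  have hodd : Odd (Fintype.card F) := (ClassicalGeometry.PSL2Basic.two_ne_zero_iff_odd F).1 h2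
  have hcases : (Fintype.card F % 8 = 3 ∨ Fintype.card F % 8 = 5) ∨
      (Fintype.card F % 8 = 1 ∨ Fintype.card F % 8 = 7) := by
    have := Nat.odd_iff.1 hodd
    omega
  rcases hcases with hq | hq
  · exact H95.PSLTwo.isPronormal hq H hH
  · obtain ⟨S, hS⟩ := H94.Pronormal.exists_sylow_le H hH
    refine H94.Pronormal.isPronormal_of_selfNorm S H hS ?_
    obtain ⟨T⟩ : Nonempty (Sylow 2 (SpecialLinearGroup (Fin 2) F)) := inferInstance
    exact H95.SelfNorm.quot (T : Subgroup (SpecialLinearGroup (Fin 2) F)) T.isPGroup'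
      ((S2431.result hodd T).2.1 hq).le S

/-- Let F be a finite field and d = 2^w ≥ 2 a power of 2 such that PSL_d(F) is simple. Then every subgroup H of PSL_d(F) of odd index is pronormal: for every g, H and gHg⁻¹ are conjugate by an element of the subgroup they generate. -/
theorem result {F : Type*} [Field F] [Fintype F]
    (w : ℕ) (hw : 1 ≤ w) (hs : IsSimpleGroup (Matrix.ProjectiveSpecialLinearGroup (Fin (2 ^ w)) F))
    (H : Subgroup (Matrix.ProjectiveSpecialLinearGroup (Fin (2 ^ w)) F)) (hH : Odd H.index) : Cfsg.IsPronormal H := by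
  have h2p : Fact (Nat.Prime 2) := ⟨Nat.prime_two⟩
  have hH' : ¬ 2 ∣ H.index := by
    rw [← even_iff_two_dvd, Nat.not_even_iff_odd]; exact hH
  by_cases h2 : (2 : F) = 0
  · have hchar : CharP F 2 := CharTwo.of_one_ne_zero_of_two_eq_zero one_ne_zero h2
    have key : ∀ N n : ℕ, N = n + 1 → ∀ H : Subgroup (Matrix.ProjectiveSpecialLinearGroup (Fin N) F),
        ¬ 2 ∣ H.index → Cfsg.IsPronormal H := by
      rintro N n rfl H hH
      exact H95.EvenPSL.isPronormal n H hH
    have hpos : 0 < 2 ^ w := by positivity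
    exact key (2 ^ w) (2 ^ w - 1) (by omega) H hH'
  · rcases Nat.lt_or_ge w 2 with h1 | h1
    · have hw1 : w = 1 := by omega
      have key : ∀ N : ℕ, N = 2 → ∀ H : Subgroup (Matrix.ProjectiveSpecialLinearGroup (Fin N) F),
          ¬ 2 ∣ H.index → Cfsg.IsPronormal H := by
        rintro N rfl H hH
        exact pow_one_case h2 H hH
      exact key (2 ^ w) (by rw [hw1, pow_one]) H hH'
    · obtain ⟨S, hS⟩ := H94.Pronormal.exists_sylow_le H hH'
      exact H94.Pronormal.isPronormal_of_selfNorm S H hS (H95.OddNorm.selfNorm_PSL h2 h1 S)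

end Cfsg.Agent.S2225
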