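import Cfsg.Statements.S3289
import Cfsg.Agent.H331.SCQuot
import Cfsg.Agent.S1252
import Cfsg.Agent.S0205
import Cfsg.Agent.StrongEmb.Main

set_option autoImplicit false
open Cfsg

namespace Cfsg.Agent.S3289

/-- Let T be a Sylow 2-subgroup of a finite group G and S a nontrivial subgroup of T strongly closed in T with respect to G. Suppose a proper subgroup H of G contains the centralizer of every non-identity element of S and the normalizer of the subgroup generated by the involutions of S. Then, writing X for the normal closure of S, the subgroup H ∩ X is strongly embedded in X, and S equals T ∩ X or the subgroup generated by the involutions of T ∩ X; if moreover S has 2-rank 1, then S = T ∩ X. -/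
theorem result {G : Type*} [Group G] [Finite G] (T : Sylow 2 G) (S : Subgroup G) (hS : S ≠ ⊥)
    (hsc : Cfsg.IsStronglyClosed S (T : Subgroup G)) (H : Subgroup G) (hH : H ≠ ⊤)
    (hC : ∀ s ∈ S, s ≠ 1 → Subgroup.centralizer ({s} : Set G) ≤ H)
    (hN : Subgroup.normalizer ((Cfsg.omegaOne 2 S : Subgroup G) : Set G) ≤ H) :
    Cfsg.IsStronglyEmbedded ((H ⊓ Subgroup.normalClosure (S : Set G)).subgroupOf (Subgroup.normalClosure (S : Set G))) ∧
      (S = (T : Subgroup G) ⊓ Subgroup.normalClosure (S : Set G) ∨ S = Cfsg.omegaOne 2 ((T : Subgroup G) ⊓ Subgroup.normalClosure (S : Set G))) ∧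
      (Cfsg.PRankLE 2 1 ↥S → S = (T : Subgroup G) ⊓ Subgroup.normalClosure (S : Set G)) := by
  have h : H331.SCBasic.Hyp T S H := ⟨hS, hsc, hH, hC, hN⟩
  obtain ⟨N, hNn, hTN, hmax⟩ := H331.SCQuot.exists_max (T : Subgroup G) S
  by_cases hSN : S ≤ N
  · have hX : Subgroup.normalClosure (S : Set G) ≤ N := Subgroup.normalClosure_le_normal hSN
    have hXS : (T : Subgroup G) ⊓ Subgroup.normalClosure (S : Set G) ≤ S := (inf_le_inf_left _ hX).trans hTN
    have e : S = (T : Subgroup G) ⊓ Subgroup.normalClosure (S : Set G) := le_antisymm (le_inf hsc.1 h.le_X) hXS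
    exact ⟨h.strong fun t ht htX _ => hXS ⟨ht, htX⟩, Or.inl e, fun _ => e⟩
  have hp2 : Fact (Nat.Prime 2) := ⟨Nat.prime_two⟩
  have hev := H331.SCQuot.even_of_max hsc.1 hTN hmax
  have hcl := Cfsg.Agent.S1250.result T S hsc N
  have hne : S.map (QuotientGroup.mk' N) ≠ ⊥ := by
    intro hb
    apply hSN
    rw [Subgroup.map_eq_bot_iff, QuotientGroup.ker_mk'] at hb
    exact hb
  have hnc : Subgroup.normalClosure ((S.map (QuotientGroup.mk' N) : Subgroup (G ⧸ N)) : Set (G ⧸ N)) ≠ ⊥ := by
    intro hb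
    apply hne
    rw [eq_bot_iff, ← hb]
    exact Subgroup.subset_normalClosure
  obtain ⟨-, r, L, h1, h2, h3, h4, h5⟩ := Cfsg.Agent.S1252.result
    (T.mapSurjective (QuotientGroup.mk'_surjective N)) (S.map (QuotientGroup.mk' N)) hcl
    (by
      have h1 := hev _ Subgroup.normalClosure_normal hnc
      rwa [Subgroup.inf_relIndex_right] at h1) hev
  have D : H331.SCMain.Prd (S.map (QuotientGroup.mk' N)) L :=
    ⟨h1, h2, h3, fun i => (h4 i).1, fun i P => H331.SCExc.sylow_exc (h4 i).2 P, h5⟩
  obtain ⟨i⟩ : Nonempty (Fin r) := by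
    rcases Nat.eq_zero_or_pos r with hr | hr
    · exfalso
      subst hr
      apply hnc
      rw [← h3, iSup_of_empty]
    · exact ⟨⟨0, hr⟩⟩
  have hb := H331.SCMain.inf_eq_bot h hTN D (fun K _ _ => Cfsg.Agent.StrongEmb.Main.bender K)
    (fun K _ _ hK => Cfsg.Agent.S0205.result hK) i
  exact ⟨H331.SCMain.strong h hTN D, Or.inr (H331.SCMain.eq_omega h hTN D hb i),
    fun hr => absurd hr (H331.SCMain.not_rank h hTN D hb i)⟩

end Cfsg.Agent.S3289
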