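import Cfsg.Statements.S5233
import Cfsg.Agent.H803.GenExtraC
import Cfsg.Agent.Lib.FrattiniPGroup

set_option autoImplicit false
open Cfsg

namespace Cfsg.Agent.S5233

open scoped commutatorElement in
theorem ge_of {Ω : Type*} [Group Ω] {S : Subgroup Ω} [Finite S] (p : ℕ) [Fact p.Prime]
    (hS : IsPGroup p S) (F : Cfsg.FusionSystem S) (P : Subgroup Ω)
    (hP : F.StronglyClosed P)
    (hge : frattini ↥P = commutator ↥P ∧ Nat.card ↥(commutator ↥P) = p) :
    H803.GE F p P ((commutator ↥P).map P.subtype) := by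
  have hp : p.Prime := Fact.out
  have hPS := hP.1
  have hfP : Finite P := H802.finite_of_le hPS
  have hPp : IsPGroup p P := hS.of_injective (Subgroup.inclusion hPS) (Subgroup.inclusion_injective hPS)
  have hcardZ : Nat.card ((commutator ↥P).map P.subtype) = p := by
    rw [← hge.2]
    exact (Nat.card_congr (Subgroup.equivMapOfInjective _ P.subtype P.subtype_injective).toEquiv).symm
  have hZP : (commutator ↥P).map P.subtype ≤ P := Subgroup.map_subtype_le _
  refine ⟨hP, hZP, hcardZ, ?_, ?_, ?_, ?_⟩
  · intro a ha b hb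
    refine ⟨⁅(⟨a, ha⟩ : P), ⟨b, hb⟩⁆, ?_, rfl⟩
    rw [commutator_def]
    exact Subgroup.commutator_mem_commutator (Subgroup.mem_top _) (Subgroup.mem_top _)
  · intro a ha
    refine ⟨(⟨a, ha⟩ : P) ^ p, ?_, rfl⟩
    rw [← hge.1]
    exact Cfsg.Agent.Lib.FrattiniPGroup.pow_mem_frattini hPp _
  · -- centrality
    set Z := (commutator ↥P).map P.subtype with hZ
    have hSP : S ≤ Subgroup.normalizer (P : Set Ω) := H759.StronglyClosed.le_normalizer hP
    have hcomm : Z = ⁅P, P⁆ := by
      rw [hZ, commutator_def, Subgroup.map_commutator, ← MonoidHom.range_eq_map, Subgroup.range_subtype]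
    have hSZ : ∀ s ∈ S, ∀ z ∈ Z, s * z * s⁻¹ ∈ Z := by
      intro s hs z hz
      rw [hcomm] at hz ⊢
      have h1 : (⁅P, P⁆).map (MulAut.conj s).toMonoidHom = ⁅P, P⁆ := by
        rw [Subgroup.map_commutator]
        have h2 : P.map (MulAut.conj s).toMonoidHom = P := by
          apply le_antisymm
          · rintro _ ⟨x, hx, rfl⟩
            exact (Subgroup.mem_normalizer_iff.1 (hSP hs) x).1 hx
          · intro x hx
            refine ⟨s⁻¹ * x * s, ?_, by simp [mul_assoc]⟩
            have := (Subgroup.mem_normalizer_iff.1 (hSP (S.inv_mem hs)) x).1 hx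
            simpa using this
        rw [h2]
      rw [← h1]
      exact ⟨z, hz, rfl⟩
    have hZS : Z ≤ S := hZP.trans hPS
    have hN : (Z.subgroupOf S).Normal := ⟨fun n hn g => hSZ g g.2 n hn⟩
    have hnil : Group.IsNilpotent S := hS.isNilpotent
    have hne : Z.subgroupOf S ≠ ⊥ := by
      intro h
      rw [Subgroup.subgroupOf_eq_bot] at h
      have h1 : Z = ⊥ := by
        rw [← le_bot_iff, ← h.eq_bot]
        exact le_inf le_rfl hZS
      rw [h1, Subgroup.card_bot] at hcardZ
      exact hp.one_lt.ne hcardZ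
    have hlt := H803.commutator_top_lt (Z.subgroupOf S) hne
    have hcard' : Nat.card (Z.subgroupOf S) = p := by
      rw [← hcardZ]
      exact Nat.card_congr (Subgroup.subgroupOfEquivOfLe hZS).toEquiv
    have hbot : ⁅Z.subgroupOf S, (⊤ : Subgroup S)⁆ = ⊥ := by
      have hdvd : Nat.card (⁅Z.subgroupOf S, (⊤ : Subgroup S)⁆ : Subgroup S) ∣ p := by
        rw [← hcard']
        exact Subgroup.card_dvd_of_le hlt.le
      rcases (Nat.dvd_prime hp).1 hdvd with h1 | h1
      · exact Subgroup.card_eq_one.1 h1
      · exfalso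
        apply hlt.ne
        apply Subgroup.eq_of_le_of_card_ge hlt.le
        rw [h1, hcard']
    intro z hz s hs
    rw [Subgroup.commutator_eq_bot_iff_le_centralizer] at hbot
    have := Subgroup.mem_centralizer_iff.1 (hbot (show (⟨z, hZS hz⟩ : S) ∈ Z.subgroupOf S from hz))
      ⟨s, hs⟩ (Subgroup.mem_top _)
    exact congrArg Subtype.val this
  · by_contra hcon
    push Not at hcon
    have h1 : commutator ↥P = ⊥ := by
      rw [commutator_def, Subgroup.commutator_eq_bot_iff_le_centralizer]
      intro a _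
      exact Subgroup.mem_centralizer_iff.2 fun b _ => Subtype.ext (hcon b b.2 a a.2)
    have h2 := hge.2
    rw [h1, Subgroup.card_bot] at h2
    exact hp.one_lt.ne h2

/-- Let F be a saturated fusion system over a finite p-group S and P a subgroup of S strongly closed in F that is generalized extraspecial (its Frattini subgroup equals its commutator subgroup and has order p) and not isomorphic to E × A with A elementary abelian and E dihedral of order 8 (p = 2) or extraspecial of order p³ and exponent p (p odd). Then P is normal in F. -/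
theorem result {Ω : Type*} [Group Ω] {S : Subgroup Ω} [Finite S] (p : ℕ) [Fact p.Prime] (hS : IsPGroup p S) (F : Cfsg.FusionSystem S) (hF : F.IsSaturated p) (P : Subgroup Ω) (hP : F.StronglyClosed P) (hge : frattini ↥P = commutator ↥P ∧ Nat.card ↥(commutator ↥P) = p) (h2 : p = 2 → ¬ ∃ (A : Type) (_ : CommGroup A), (∀ a : A, a ^ 2 = 1) ∧ Nonempty (↥P ≃* DihedralGroup 4 × A)) (hodd : p ≠ 2 → ¬ ∃ (E : Type) (_ : Group E) (A : Type) (_ : CommGroup A), Cfsg.IsExtraspecial p E ∧ Nat.card E = p ^ 3 ∧ Monoid.exponent E = p ∧ (∀ a : A, a ^ p = 1) ∧ Nonempty (↥P ≃* E × A)) : F.IsNormal P := by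
  exact (ge_of p hS F P hP hge).isNormal hS hF h2 hodd

end Cfsg.Agent.S5233
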