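import Cfsg.Statements.S4682
import Cfsg.Agent.H649.AbelLocal
import Cfsg.Agent.H649.StabBlock

set_option autoImplicit false
open Cfsg

namespace Cfsg.Agent.S4682

open Cfsg.Agent.H644 Cfsg.Agent.Blocks.Local Cfsg.Agent.H651 Cfsg.Agent.H649

/-- Fix a prime p and a maximal ideal M of the algebraic integers containing p, a p-block B of the finite group G with maximal Brauer pair (P, e), P abelian, and a Brauer pair (Q, f) ≤ (P, e). Let T_Q be the stabilizer of f in N_G(Q) and T_P the stabilizer of e in N_G(P). Then every element of T_Q is a product of an element of T_P and an element of C_G(Q); and the index of C_G(Q) in T_Q equals the index of T_P ∩ C_G(Q) in T_P ∩ N_G(Q). -/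
theorem result {G : Type*} [Group G] [Fintype G] (p : ℕ) [Fact p.Prime] (M : Ideal Cfsg.AlgInt) (hM : Cfsg.IsPModular p M) (B : Set (Cfsg.IrrCharacter G)) (P : Subgroup G) (e : Set (Cfsg.IrrCharacter (Subgroup.centralizer (P : Set G)))) (hmax : Cfsg.IsMaximalBrauerPair p M B P e) (hab : ∀ x ∈ P, ∀ y ∈ P, x * y = y * x) (Q : Subgroup G) (f : Set (Cfsg.IrrCharacter (Subgroup.centralizer (Q : Set G)))) (hQP : Q ≤ P) (hf : Cfsg.IsPBlock M f) (hle : Cfsg.SubpairLE p M Q f P e) (TQ : Subgroup G) (hTQ : ∀ y : G, y ∈ TQ ↔ y ∈ Subgroup.normalizer (Q : Set G) ∧ Cfsg.StabilizesBlock (Subgroup.centralizer (Q : Set G)) f y) (TP : Subgroup G) (hTP : ∀ y : G, y ∈ TP ↔ y ∈ Subgroup.normalizer (P : Set G) ∧ Cfsg.StabilizesBlock (Subgroup.centralizer (P : Set G)) e y) : (∀ x ∈ TQ, ∃ y ∈ TP, ∃ c ∈ Subgroup.centralizer (Q : Set G), x = y * c) ∧ ((Subgroup.centralizer (Q : Set G)).subgroupOf TQ).index = ((TP ⊓ Subgroup.centralizer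 (Q : Set G)).subgroupOf (TP ⊓ Subgroup.normalizer (Q : Set G))).index := by
  have hp : M.IsPrime := hM.2.1.isPrime
  have he : Cfsg.IsPBlock M e := hmax.1.1.2
  have key : ∀ x ∈ TQ, ∃ y ∈ TP, y ∈ Subgroup.normalizer (Q : Set G) ∧
      ∃ c ∈ Subgroup.centralizer (Q : Set G), x = y * c := by
    intro x hx
    obtain ⟨y, h1, h2, c, hc, h3⟩ := exists_mul_of_abelian hM hmax hab hle
      ((conjIdx_eq_iff hf x).2 ((hTQ x).1 hx))
    exact ⟨y, (hTP y).2 ((conjIdx_eq_iff he y).1 h1), ((conjIdx_eq_iff hf y).1 h2).1, c, hc, h3⟩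
  have hTQ' : IsStab Q f TQ := hTQ
  refine ⟨fun x hx => ?_, ?_⟩
  · obtain ⟨y, h1, -, c, hc, h2⟩ := key x hx
    exact ⟨y, h1, c, hc, h2⟩
  have hle2 : TP ⊓ Subgroup.normalizer (Q : Set G) ≤ TQ := by
    rintro y ⟨h1, h2⟩
    refine (hTQ y).2 ((conjIdx_eq_iff hf y).1 ?_)
    have h3 := (conjIdx_eq_iff he y).2 ((hTP y).1 h1)
    have h4 : LEIdx p M (conjIdx y ⟨Q, f⟩) (conjIdx y ⟨P, e⟩) :=
      (leIdx_conjIdx_iff (p := p) (M := M) y (a := ⟨Q, f⟩) (b := ⟨P, e⟩)).2 hle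
    rw [h3] at h4
    have h5 : (conjIdx y ⟨Q, f⟩).1 = Q := (mem_normalizer_iff_map_conj Q y).1 h2
    generalize conjIdx y (⟨Q, f⟩ : Cfsg.BrauerPairIdx G) = a at h4 h5
    obtain ⟨Q', f'⟩ := a
    have h7 : Q' = Q := h5
    subst h7
    rw [subpair_unique hM hmax.1.1 h4 hle]
  have hN : ((Subgroup.centralizer (Q : Set G)).subgroupOf TQ).Normal := hTQ'.normal_centralizer
  have hsup : ((TP ⊓ Subgroup.normalizer (Q : Set G)).subgroupOf TQ) ⊔
      ((Subgroup.centralizer (Q : Set G)).subgroupOf TQ) = ⊤ := by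
    rw [eq_top_iff]
    rintro ⟨x, hx⟩ -
    obtain ⟨y, h1, h2, c, hc, rfl⟩ := key x hx
    have hy : y ∈ TQ := hle2 ⟨h1, h2⟩
    have hcT : c ∈ TQ := hTQ'.centralizer_le hc
    have h3 : (⟨y * c, hx⟩ : TQ) = ⟨y, hy⟩ * ⟨c, hcT⟩ := rfl
    rw [h3]
    exact Subgroup.mul_mem_sup (Subgroup.mem_subgroupOf.2 ⟨h1, h2⟩) (Subgroup.mem_subgroupOf.2 hc)
  have h1 : ((Subgroup.centralizer (Q : Set G)).subgroupOf TQ).index =
      ((Subgroup.centralizer (Q : Set G)).subgroupOf TQ).relIndex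
        ((TP ⊓ Subgroup.normalizer (Q : Set G)).subgroupOf TQ) := by
    rw [← Subgroup.relIndex_sup_right, hsup, Subgroup.relIndex_top_right]
  rw [h1, Subgroup.relIndex_subgroupOf hle2, ← Subgroup.inf_relIndex_right]
  have h2 : Subgroup.centralizer (Q : Set G) ⊓ (TP ⊓ Subgroup.normalizer (Q : Set G)) =
      TP ⊓ Subgroup.centralizer (Q : Set G) := by
    apply le_antisymm
    · rintro x ⟨h1, h2, -⟩
      exact ⟨h2, h1⟩
    · rintro x ⟨h1, h2⟩
      exact ⟨h2, h1, Subgroup.centralizer_le_normalizer _ h2⟩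
  rw [h2]
  rfl

end Cfsg.Agent.S4682
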