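import Cfsg.Statements.S4687
import Cfsg.Agent.H651.NilPair
import Cfsg.Agent.S4655
import Cfsg.Agent.S4658
import Cfsg.Agent.S4660
import Cfsg.Agent.S4677
import Cfsg.Agent.S4682

set_option autoImplicit false
open Cfsg

namespace Cfsg.Agent.S4687

/-- Fix a prime p and a maximal ideal M of the algebraic integers containing p, and a p-block B of the finite group G with maximal Brauer pair (P, e), P abelian. Then B is nilpotent if and only if its inertial quotient is trivial: every element of N_G(P) stabilizing e centralizes P. -/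
theorem result {G : Type*} [Group G] [Fintype G] (p : ℕ) [Fact p.Prime] (M : Ideal Cfsg.AlgInt) (hM : Cfsg.IsPModular p M) (B : Set (Cfsg.IrrCharacter G)) (P : Subgroup G) (e : Set (Cfsg.IrrCharacter (Subgroup.centralizer (P : Set G)))) (hmax : Cfsg.IsMaximalBrauerPair p M B P e) (hab : ∀ x ∈ P, ∀ y ∈ P, x * y = y * x) : Cfsg.IsNilpotentBlock p M B ↔ ∀ x : G, x ∈ Subgroup.normalizer (P : Set G) → Cfsg.StabilizesBlock (Subgroup.centralizer (P : Set G)) e x → x ∈ Subgroup.centralizer (P : Set G) := by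
  classical
  have hprime : M.IsPrime := hM.2.1.isPrime
  have huniq : ∀ (Q : Subgroup G) (f f' : Set (IrrCharacter (Subgroup.centralizer (Q : Set G)))),
      SubpairLE p M Q f P e → SubpairLE p M Q f' P e → f = f' := by
    intro Q f f' h h'
    obtain ⟨_, -, hu⟩ := Cfsg.Agent.S4655.result p M hM P Q e hmax.1.1
      (Cfsg.Agent.H649.SubpairLE.le h)
    rw [hu f ⟨(Cfsg.Agent.H649.SubpairLE.isBrauerPair h hmax.1.1).2, h⟩,
      hu f' ⟨(Cfsg.Agent.H649.SubpairLE.isBrauerPair h' hmax.1.1).2, h'⟩]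
  have hof : ∀ (Q : Subgroup G) (f : Set (IrrCharacter (Subgroup.centralizer (Q : Set G)))),
      SubpairLE p M Q f P e → IsBrauerPairOf p M B Q f := by
    intro Q f h
    exact (Cfsg.Agent.S4658.result p M hM P Q e f hmax.1.1
      (Cfsg.Agent.H649.SubpairLE.isBrauerPair h hmax.1.1) h B hmax.1.2.1).1 hmax.1
  constructor
  · intro hnil x hx hst
    obtain ⟨F, hF, hsat⟩ := Cfsg.Agent.S4677.result p M hM B P e hmax
    have hinner := Cfsg.Agent.H651.hom_eq_inner_of_nilpotent hF hsat huniq hof hnil P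
    have hfix := (Cfsg.Agent.H649.conjIdx_eq_iff hmax.1.1.2 x).2 ⟨hx, hst⟩
    have hmap : P.map (MulAut.conj x).toMonoidHom = P := congrArg (fun b => b.1) hfix
    have hmem : conjHom P x ∈ F.Hom P := by
      refine (hF.2 P _).2 ⟨le_rfl, x, fun u => rfl, hmap.le, e, Relation.ReflTransGen.refl, ?_⟩
      rw [← Cfsg.Agent.H649.leIdx_iff, ← Cfsg.Agent.H649.conjIdx_mk, hfix]
      exact Relation.ReflTransGen.refl
    rw [hinner] at hmem
    obtain ⟨-, u, hu, hux⟩ := hmem
    rw [Subgroup.mem_centralizer_iff]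
    intro z hz
    have h1 : x * z * x⁻¹ = u * z * u⁻¹ := hux ⟨z, hz⟩
    have h2 : u * z * u⁻¹ = z := by rw [hab u hu z hz]; group
    rw [h2] at h1
    calc z * x = (x * z * x⁻¹) * x := by rw [h1]
      _ = x * z := by group
  · intro hst
    rw [Cfsg.Agent.H651.isNilpotentBlock_iff]
    refine ⟨hmax.1.2.1, fun Q f hQf x hx _ => ?_⟩
    obtain ⟨y, hy⟩ := Cfsg.Agent.S4660.result p M hM B P Q e f hmax hQf
    have hxy : Cfsg.Agent.H649.conjIdx (y * x * y⁻¹) (Cfsg.Agent.H649.conjIdx y ⟨Q, f⟩) =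
        Cfsg.Agent.H649.conjIdx y ⟨Q, f⟩ := by
      rw [Cfsg.Agent.H649.conjIdx_conjIdx]
      have h1 : y * x * y⁻¹ * y = y * x := by group
      rw [h1, ← Cfsg.Agent.H649.conjIdx_conjIdx, hx]
    rw [Cfsg.Agent.H649.conjIdx_mk y Q f] at hxy
    have hQ' : Q.map (MulAut.conj y).toMonoidHom ≤ P := Cfsg.Agent.H649.SubpairLE.le hy
    have hf' := (Cfsg.Agent.H649.SubpairLE.isBrauerPair hy hmax.1.1).2
    obtain ⟨h1, -⟩ := Cfsg.Agent.S4682.result p M hM B P e hmax hab _ _ hQ' hf' hy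
      (Cfsg.Agent.H651.idxStab ⟨Q.map (MulAut.conj y).toMonoidHom, conjBlock Q y f⟩)
      (fun z => Cfsg.Agent.H649.conjIdx_eq_iff hf' z)
      (Cfsg.Agent.H651.idxStab ⟨P, e⟩) (fun z => Cfsg.Agent.H649.conjIdx_eq_iff hmax.1.1.2 z)
    obtain ⟨t, ht, c, hc, htc⟩ := h1 _ hxy
    obtain ⟨ht1, ht2⟩ := (Cfsg.Agent.H649.conjIdx_eq_iff hmax.1.1.2 t).1 ht
    have ht3 := hst t ht1 ht2
    have ht4 : t ∈ Subgroup.centralizer ((Q.map (MulAut.conj y).toMonoidHom : Subgroup G) : Set G) :=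
      Subgroup.centralizer_le hQ' ht3
    have hcen := Subgroup.mul_mem _ ht4 hc
    rw [← htc] at hcen
    exact (Cfsg.Agent.H649.map_mem_centralizer_iff (MulAut.conj y) Q x).1 (by
      rw [MulAut.conj_apply]; exact hcen)

end Cfsg.Agent.S4687
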