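import Cfsg.Statements.S4641
import Cfsg.Agent.H646.DegSum

set_option autoImplicit false
open Cfsg

namespace Cfsg.Agent.S4641

/-- Let B be a block of the finite group G relative to a maximal ideal M of the algebraic integers containing the prime p, let p^a be the p-part of the order of G and p^d the order of a defect group D of B, and let g be the greatest common divisor of the degrees of the members of B. Then the p-part of g is exactly p^(a−d), and writing g = p^(a−d)·u there is a positive integer v, prime to p and at least the p-regular rank of B (its number of irreducible Brauer characters), with Σ_{χ ∈ B} χ(1)² = p^(2a−d)·u²·v. -/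
theorem result {G : Type*} [Group G] [Finite G] (p : ℕ) [Fact p.Prime] (M : Ideal Cfsg.AlgInt) (hM : Cfsg.IsPModular p M) (B : Set (Cfsg.IrrCharacter G)) (hB : Cfsg.IsPBlock M B) (D : Subgroup G) (hD : Cfsg.IsDefectGroup p M B D) (a d : ℕ) (ha : (Nat.card G).factorization p = a) (hd : Nat.card D = p ^ d) (g : ℕ) (hg1 : ∀ χ ∈ B, g ∣ Cfsg.charDegree (χ : G → ℂ)) (hg2 : ∀ g' : ℕ, (∀ χ ∈ B, g' ∣ Cfsg.charDegree (χ : G → ℂ)) → g' ∣ g) : g.factorization p = a - d ∧ ∃ v : ℕ, 0 < v ∧ ¬ p ∣ v ∧ Cfsg.blockRank p B ≤ v ∧ ∑ᶠ χ ∈ B, Cfsg.charDegree (χ : G → ℂ) ^ 2 = p ^ (2 * a - d) * (g / p ^ (a - d)) ^ 2 * v := by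
  classical
  have hp : p.Prime := Fact.out
  have hMp : M.IsPrime := hM.2.1.isPrime
  have := Fintype.ofFinite G
  have hdef : Cfsg.blockDefect p B = d := by
    have h1 := Cfsg.Agent.S0908.result p M hM B hB D hD
    rw [hd] at h1
    exact (Nat.pow_right_injective hp.two_le h1).symm
  have hda : d ≤ a := by
    rw [← ha, ← hdef, Cfsg.Agent.Blocks.Basic.blockDefect_def]
    exact Nat.sub_le _ _
  obtain ⟨ψ, hψ, hψ0⟩ := Cfsg.Agent.H648.HeightForm.exists_height_zero hB (p := p)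
  have hne : ∀ χ : Cfsg.IrrCharacter G, Cfsg.charDegree (χ : G → ℂ) ≠ 0 := by
    intro χ h0
    obtain ⟨n, hn, hn'⟩ := Cfsg.Agent.Characters.Core.isIrr_apply_one χ.2
    rw [Cfsg.Agent.Blocks.Basic.irr_one_eq_charDegree χ.2, h0, Nat.cast_zero] at hn'
    exact hn.ne' (by exact_mod_cast hn'.symm)
  have hvψ : (Cfsg.charDegree (ψ : G → ℂ)).factorization p = a - d := by
    have := Cfsg.Agent.H648.HeightForm.defect_add (p := p) B hψ
    rw [hψ0, ha, hdef] at this
    omega
  have hg0 : g ≠ 0 := by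
    rintro rfl
    exact hne ψ (Nat.eq_zero_of_zero_dvd (hg1 ψ hψ))
  have hpg : p ^ (a - d) ∣ g := by
    refine hg2 _ fun χ hχ => ?_
    have h1 := Cfsg.Agent.H646.RegInner.factorization_le_add (p := p) B hχ
    rw [ha, hdef] at h1
    exact (pow_dvd_pow p (by omega)).trans (Nat.ordProj_dvd _ _)
  have hvg : g.factorization p = a - d := by
    apply le_antisymm
    · rw [← hvψ]
      exact (Nat.factorization_le_iff_dvd hg0 (hne ψ)).2 (hg1 ψ hψ) p
    · exact (hp.pow_dvd_iff_le_factorization hg0).1 hpg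
  refine ⟨hvg, ?_⟩
  set u := g / p ^ (a - d) with hu
  have hgu : g = p ^ (a - d) * u := (Nat.mul_div_cancel' hpg).symm
  have hpu : ¬ p ∣ u := by
    rintro ⟨u', hu'⟩
    have h1 : p ^ (a - d + 1) ∣ g := ⟨u', by rw [hgu, hu', pow_succ]; ring⟩
    have h2 := (hp.pow_dvd_iff_le_factorization hg0).1 h1
    omega
  obtain ⟨v, hv1, hv2⟩ := Cfsg.Agent.H646.DegSum.exists_factor hM hB ha hgu hpu hg1
  have hv3 : ∑ᶠ χ ∈ B, Cfsg.charDegree (χ : G → ℂ) ^ 2 = p ^ (2 * a - d) * u ^ 2 * v := by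
    rw [hv2, hgu, show 2 * a - d = (a - d) + a by omega, pow_add]
    ring
  have hpv : ¬ p ∣ v := Cfsg.Agent.H646.DegSum.not_dvd hM hB ha hdef rfl hv3
  refine ⟨v, Nat.pos_of_ne_zero fun h0 => hpv (h0 ▸ dvd_zero p), hpv, hv1, hv3⟩

end Cfsg.Agent.S4641
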