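import Cfsg.Statements.S5866
import Cfsg.Agent.H929.TwelveFinal
import Cfsg.Agent.S0000

set_option autoImplicit false
open Cfsg

namespace Cfsg.Agent.S5866

/-- The maximal subgroups of SU_12(q) in the residual class. Let F be the field with q² elements and H a maximal subgroup of SU_12(q) (determinant-one isometries of the standard unitary form on F^12) lying in the residual class of the unitary case. Then q = p is prime and the perfect socle preimage P of H satisfies one of: P modulo scalars is isomorphic to PSL_2(23), with p a non-square modulo 23; or to the Suzuki sporadic group Suz, with p ≡ 2 mod 3 (p = 2 included). (Residual-class subgroups with socle A_6 are never maximal in SU_12(q) itself.) -/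
theorem result {F : Type*} [Field F] [Fintype F] (q : ℕ) (hF : Fintype.card F = q ^ 2) (H : Subgroup (Matrix.GeneralLinearGroup (Fin 12) F)) (hH : Cfsg.Geo.IsMaximalIn (Cfsg.GU 12 F q ⊓ Cfsg.Geo.specialLinear (Fin 12) F) H) (hS : Cfsg.Geo.InUnitaryResidualClass H) :
    ∃ P : Subgroup (Matrix.GeneralLinearGroup (Fin 12) F), Cfsg.Geo.IsResidualCore H P ∧ q.Prime ∧
    ((Nonempty ((P ⧸ (Cfsg.Geo.scalars (Fin 12) F).subgroupOf P) ≃* Matrix.ProjectiveSpecialLinearGroup (Fin 2) (ZMod 23)) ∧ (q % 23 = 5 ∨ q % 23 = 7 ∨ q % 23 = 10 ∨ q % 23 = 11 ∨ q % 23 = 14 ∨ q % 23 = 15 ∨ q % 23 = 17 ∨ q % 23 = 19 ∨ q % 23 = 20 ∨ q % 23 = 21 ∨ q % 23 = 22)) ∨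
     (Cfsg.Spor.IsoSuz (P ⧸ (Cfsg.Geo.scalars (Fin 12) F).subgroupOf P) ∧ q % 3 = 2)) := by
  exact H929.Twelve.final5866 (fun _ _ _ _ => S0000.result) hF hH hS

end Cfsg.Agent.S5866
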