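import Cfsg.Statements.S5863
import Cfsg.Agent.H929.TwelveFinal
import Cfsg.Agent.S0000

set_option autoImplicit false
open Cfsg

namespace Cfsg.Agent.S5863

/-- The maximal subgroups of SL_12(q) in the residual class. Let F be a finite field with q elements and characteristic p, and H a maximal subgroup of SL_12(F) lying in the residual class of the linear case. Then the perfect socle preimage P of H satisfies one of: P modulo scalars is isomorphic to PSL_2(23), with q = p prime, p ≠ 2 and p a non-zero square modulo 23; or to PSL_3 over the field with 4 elements, with q = 49; or to the Suzuki sporadic group Suz, with q = p ≡ 1 mod 3. (Residual-class subgroups with socle A_6 are never maximal in SL_12(q) itself.) -/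
theorem result {F : Type*} [Field F] [Fintype F] (H : Subgroup (Matrix.GeneralLinearGroup (Fin 12) F)) (hH : Cfsg.Geo.IsMaximalIn (Cfsg.Geo.specialLinear (Fin 12) F) H) (hS : Cfsg.Geo.InLinearResidualClass H) :
    ∃ (P : Subgroup (Matrix.GeneralLinearGroup (Fin 12) F)) (p : ℕ), Cfsg.Geo.IsResidualCore H P ∧ p.Prime ∧ CharP F p ∧
    ((Nonempty ((P ⧸ (Cfsg.Geo.scalars (Fin 12) F).subgroupOf P) ≃* Matrix.ProjectiveSpecialLinearGroup (Fin 2) (ZMod 23)) ∧ Fintype.card F = p ∧ p ≠ 2 ∧ (p % 23 = 1 ∨ p % 23 = 2 ∨ p % 23 = 3 ∨ p % 23 = 4 ∨ p % 23 = 6 ∨ p % 23 = 8 ∨ p % 23 = 9 ∨ p % 23 = 12 ∨ p % 23 = 13 ∨ p % 23 = 16 ∨ p % 23 = 18)) ∨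
     ((∃ (K : Type) (_ : Field K) (_ : Fintype K), Fintype.card K = 4 ∧ Nonempty ((P ⧸ (Cfsg.Geo.scalars (Fin 12) F).subgroupOf P) ≃* Matrix.ProjectiveSpecialLinearGroup (Fin 3) K)) ∧ Fintype.card F = 49) ∨
     (Cfsg.Spor.IsoSuz (P ⧸ (Cfsg.Geo.scalars (Fin 12) F).subgroupOf P) ∧ Fintype.card F = p ∧ p % 3 = 1)) := by
  exact H929.Twelve.final5863 (fun _ _ _ _ => S0000.result) hH hS

end Cfsg.Agent.S5863
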