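import Cfsg.Statements.S4520
import Cfsg.Agent.H611.RealBlock
import Cfsg.Agent.H611.CoverPrincipal
import Cfsg.Agent.S0135

set_option autoImplicit false
open Cfsg

namespace Cfsg.Agent.S4520

open Cfsg.Agent.Blocks Cfsg.Agent.S4490

/-- Let N be a normal subgroup of odd index in the finite group G, M a maximal ideal of the algebraic integers containing 2, and k coprime to the order of G with k ^ (2 ^ e) ≡ 1 modulo the order of G for some e and g ^ k = g⁻¹ for every element g of odd order. Let θ be an irreducible character of N and χ an irreducible character of G over θ, both unchanged by composing with g ↦ g ^ k. Then χ lies in the principal 2-block of G if and only if θ lies in the principal 2-block of N. -/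
theorem result {G : Type*} [Group G] [Fintype G] (M : Ideal Cfsg.AlgInt) (hM : Cfsg.IsPModular 2 M) (N : Subgroup G) [N.Normal] [Fintype N] (hidx : Odd N.index) (k e : ℕ) (hk : Nat.Coprime k (Nat.card G)) (hke : k ^ (2 ^ e) ≡ 1 [MOD Nat.card G]) (hk₂ : ∀ g : G, Odd (orderOf g) → g ^ k = g⁻¹) (θ : Cfsg.IrrCharacter N) (hθ : ∀ n : N, (θ : N → ℂ) (n ^ k) = (θ : N → ℂ) n) (χ : Cfsg.IrrCharacter G) (hχ : ∀ g : G, (χ : G → ℂ) (g ^ k) = (χ : G → ℂ) g) (hover : Cfsg.classInner (fun n : N => (χ : G → ℂ) n) (θ : N → ℂ) ≠ 0) : χ ∈ Cfsg.principalBlock M G ↔ θ ∈ Cfsg.principalBlock M N := by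
  have : Fact (Nat.Prime 2) := ⟨Nat.prime_two⟩
  have hprime : M.IsPrime := Local.isPrime_of_isPModular hM
  constructor
  · exact Cfsg.Agent.H611.CoverPrincipal.mem_principalBlock_of_over 2 hM N χ θ hover
  · intro h
    obtain ⟨ψ, ψ', hs, hψ⟩ :=
      Cfsg.Agent.H611.RealBlock.exists_sameBlock_ker 2 hM N χ θ hover h
    -- `ψ` has odd degree
    have hodd : ¬ 2 ∣ charDegree (ψ : G → ℂ) := by
      have h1 : charDegree (ψ : G → ℂ) = charDegree (ψ' : G ⧸ N → ℂ) := by
        rw [Basic.charDegree_def, Basic.charDegree_def, hψ]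
        rfl
      obtain ⟨n, ρ, hρ, hρ'⟩ := ψ'.2
      have h2 : Module.finrank ℂ (Fin n → ℂ) ∣ Nat.card (G ⧸ N) := Cfsg.Agent.S0135.result ρ
      have h3 : charDegree (ψ' : G ⧸ N → ℂ) = n := by
        apply Basic.charDegree_of_eq
        rw [← hρ', Representation.char_one]
        simp
      rw [Module.finrank_fin_fun, ← h3, ← h1] at h2
      intro h4
      exact (Nat.not_even_iff_odd.2 hidx) (even_iff_two_dvd.2 (h4.trans h2))
    -- the block of `χ` is real
    have h1 := Cfsg.Agent.H611.RealBlock.sameBlock_cj_of_fixed hM k hk₂ χ hχ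
    have h2 := Cfsg.Agent.H611.RealBlock.sameBlock_cj hs
    have h3 : SameBlock M (ψ : G → ℂ) (cj ψ : G → ℂ) :=
      Basic.sameBlock_trans (Basic.sameBlock_symm hs) (Basic.sameBlock_trans h1 h2)
    have h4 := Cfsg.Agent.H611.RealBlock.mem_principalBlock_of_odd hM ψ h3 hodd
    exact Basic.sameBlock_trans h4 (Basic.sameBlock_symm hs)

end Cfsg.Agent.S4520
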