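import Cfsg.Statements.S5845
import Cfsg.Agent.H912.Sp10.Final
import Cfsg.Agent.S0000

set_option autoImplicit false
open Cfsg

namespace Cfsg.Agent.S5845

/-- The maximal subgroups of Sp_10(q) in the residual class. Let F be a finite field with q elements and characteristic p, and H a maximal subgroup of Sp_10(F) (isometries of the standard alternating form on F^10) lying in the residual class of the symplectic case. Then the perfect socle preimage P of H satisfies one of: P modulo scalars is isomorphic to A_6, with q = p ≡ ±1 or ±7 mod 16, or q = p² with p ≡ ±3 mod 8 and p ≠ 3; or to PSL_2(11), with q = p prime, p ≠ 11 and p ≡ ±1 or ±3 mod 8 or p ≡ ±1 or ±11 mod 24, or q = p² with p ≡ ±5 mod 12; or to U_5(2) (PSU_5 over the field with 4 elements), with q = p an odd prime; or to PSL_2(F) itself, with p ≥ 11. -/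
theorem result {F : Type*} [Field F] [Fintype F] (H : Subgroup (Matrix.GeneralLinearGroup (Fin 5 ⊕ Fin 5) F)) (hH : Cfsg.Geo.IsMaximalIn (Cfsg.spGL 5 F) H) (hS : Cfsg.Geo.InSymplecticResidualClass H) :
    ∃ (P : Subgroup (Matrix.GeneralLinearGroup (Fin 5 ⊕ Fin 5) F)) (p : ℕ), Cfsg.Geo.IsResidualCore H P ∧ p.Prime ∧ CharP F p ∧
    ((Nonempty ((P ⧸ (Cfsg.Geo.scalars (Fin 5 ⊕ Fin 5) F).subgroupOf P) ≃* alternatingGroup (Fin 6)) ∧ ((Fintype.card F = p ∧ (p % 16 = 1 ∨ p % 16 = 15 ∨ p % 16 = 7 ∨ p % 16 = 9)) ∨ (Fintype.card F = p ^ 2 ∧ p ≠ 3 ∧ (p % 8 = 3 ∨ p % 8 = 5)))) ∨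
     (Nonempty ((P ⧸ (Cfsg.Geo.scalars (Fin 5 ⊕ Fin 5) F).subgroupOf P) ≃* Matrix.ProjectiveSpecialLinearGroup (Fin 2) (ZMod 11)) ∧ ((Fintype.card F = p ∧ p ≠ 11 ∧ (p % 8 = 1 ∨ p % 8 = 7 ∨ p % 8 = 3 ∨ p % 8 = 5 ∨ p % 24 = 1 ∨ p % 24 = 23 ∨ p % 24 = 11 ∨ p % 24 = 13)) ∨ (Fintype.card F = p ^ 2 ∧ (p % 12 = 5 ∨ p % 12 = 7)))) ∨
     ((∃ (K : Type) (_ : Field K) (_ : Fintype K), Fintype.card K = 4 ∧ Nonempty ((P ⧸ (Cfsg.Geo.scalars (Fin 5 ⊕ Fin 5) F).subgroupOf P) ≃* Cfsg.PSU 5 K 2)) ∧ Fintype.card F = p ∧ Odd p) ∨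
     (Nonempty ((P ⧸ (Cfsg.Geo.scalars (Fin 5 ⊕ Fin 5) F).subgroupOf P) ≃* Matrix.ProjectiveSpecialLinearGroup (Fin 2) F) ∧ 11 ≤ p)) := by
  exact H912.Sp10.row5845 (fun _ _ _ _ => S0000.result) H hH hS

end Cfsg.Agent.S5845
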