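import Cfsg.Statements.S3870
import Cfsg.Agent.H469.MinClosed

set_option autoImplicit false
open Cfsg

namespace Cfsg.Agent.S3870

open Subgroup Cfsg.Agent.H469

/-- A proper subgroup of a `p`-subgroup is properly contained in its normalizer there. -/
theorem exists_normalizing {G : Type*} [Group G] [Finite G] {p : ℕ} [hp : Fact p.Prime]
    {D P : Subgroup G} (hP : IsPGroup p P) (hDP : D ≤ P) (hne : D ≠ P) :
    ∃ x ∈ P, x ∉ D ∧ x ∈ normalizer (D : Set G) := by
  have hnil : Group.IsNilpotent P := hP.isNilpotent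
  have hlt : D.subgroupOf P < ⊤ := by
    rw [lt_top_iff_ne_top]
    intro h
    rw [subgroupOf_eq_top] at h
    exact hne (le_antisymm hDP h)
  have h1 := Group.normalizerCondition_of_isNilpotent (G := P) _ hlt
  obtain ⟨x, hx, hxD⟩ := SetLike.exists_of_lt h1
  refine ⟨x, x.2, fun h => hxD h, ?_⟩
  rw [mem_normalizer_iff] at hx ⊢
  intro d
  constructor
  · intro hd
    have := (hx ⟨d, hDP hd⟩).mp hd
    exact this
  · intro hd
    have hdP : d ∈ P := by
      have := P.mul_mem (P.mul_mem (P.inv_mem x.2) (hDP hd)) x.2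
      group at this
      exact this
    have := (hx ⟨d, hdP⟩).mpr hd
    exact this

/-- The Sylow intersections in a simple group all of whose proper subgroups are `p`-closed. -/
theorem sylow_ti {G : Type*} [Group G] [Finite G] [hs : IsSimpleGroup G] {p : ℕ} [hp : Fact p.Prime]
    (hsub : ∀ H : Subgroup G, H ≠ ⊤ → Cfsg.IsPClosed p ↥H) (P Q : Sylow p G) (hPQ : P ≠ Q) :
    (P : Subgroup G) ⊓ (Q : Subgroup G) = ⊥ := by
  by_contra hne
  obtain ⟨⟨P, Q⟩, ⟨hPQ, hD⟩, hmax⟩ := (Set.toFinite {X : Sylow p G × Sylow p G | X.1 ≠ X.2 ∧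
    ((X.1 : Subgroup G) ⊓ (X.2 : Subgroup G)) ≠ ⊥}).exists_maximalFor
      (fun X : Sylow p G × Sylow p G => Nat.card ((X.1 : Subgroup G) ⊓ (X.2 : Subgroup G) : Subgroup G))
      _ ⟨(P, Q), hPQ, hne⟩
  simp only at hPQ hD hmax
  have hmax' : ∀ X Y : Sylow p G, X ≠ Y → ((X : Subgroup G) ⊓ (Y : Subgroup G)) ≠ ⊥ →
      Nat.card ((X : Subgroup G) ⊓ (Y : Subgroup G) : Subgroup G) ≤
        Nat.card ((P : Subgroup G) ⊓ (Q : Subgroup G) : Subgroup G) := by
    intro X Y h1 h2
    by_contra h3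
    have := hmax (j := (X, Y)) ⟨h1, h2⟩ (le_of_lt (not_le.mp h3))
    exact h3 this
  set D : Subgroup G := (P : Subgroup G) ⊓ (Q : Subgroup G) with hDdef
  have hPQ' : (P : Subgroup G) ≠ (Q : Subgroup G) := fun h => hPQ (Sylow.ext h)
  have hDP : D ≠ (P : Subgroup G) := by
    intro h
    apply hPQ'
    exact (P.is_maximal' Q.isPGroup' (by rw [← h]; exact inf_le_right)).symm
  have hDQ : D ≠ (Q : Subgroup G) := by
    intro h
    apply hPQ'
    exact (Q.is_maximal' P.isPGroup' (by rw [← h]; exact inf_le_left))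
  have hN : normalizer (D : Set G) ≠ ⊤ := by
    intro h
    have hn : D.Normal := normalizer_eq_top_iff.mp h
    rcases hs.eq_bot_or_eq_top_of_normal D hn with h1 | h1
    · exact hD h1
    · have h2 : (P : Subgroup G) = ⊤ := top_le_iff.mp (h1 ▸ inf_le_left)
      have h3 : (Q : Subgroup G) = ⊤ := top_le_iff.mp (h1 ▸ inf_le_right)
      exact hPQ' (h2.trans h3.symm)
  obtain ⟨S, _, hS⟩ := MinClosed.exists_of_isPClosed (hsub _ hN)
  obtain ⟨R, hR⟩ := (S.isPGroup'.map (normalizer (D : Set G)).subtype).exists_le_sylow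
  have hle : ∀ X : Sylow p G, (X : Subgroup G) ⊓ normalizer (D : Set G) ≤ R := by
    intro X x hx
    apply hR
    have h1 : IsPGroup p (((X : Subgroup G) ⊓ normalizer (D : Set G)).subgroupOf
        (normalizer (D : Set G))) :=
      (X.isPGroup'.to_le inf_le_left).comap_of_injective _ (subtype_injective _)
    exact ⟨⟨x, hx.2⟩, hS _ h1 hx, rfl⟩
  have key : ∀ X : Sylow p G, D ≤ X → D ≠ (X : Subgroup G) → X = R := by
    intro X hDX hne
    by_contra hXR
    obtain ⟨x, hxX, hxD, hxN⟩ := exists_normalizing X.isPGroup' hDX hne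
    have h1 : D < (X : Subgroup G) ⊓ (R : Subgroup G) := by
      refine lt_of_le_of_ne (le_inf hDX ?_) ?_
      · exact le_trans (le_inf hDX le_normalizer) (hle X)
      · intro h
        apply hxD
        rw [h]
        exact ⟨hxX, hle X ⟨hxX, hxN⟩⟩
    have h2 : ((X : Subgroup G) ⊓ (R : Subgroup G)) ≠ ⊥ := by
      intro h
      rw [h] at h1
      exact not_lt_bot h1
    have h3 := hmax' X R hXR h2
    have h4 : (D : Set G) ⊂ ((X : Subgroup G) ⊓ (R : Subgroup G) : Subgroup G) := h1
    have h5 := Set.ncard_lt_ncard h4 (Set.toFinite _)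
    rw [Set.ncard_def, Set.ncard_def] at h5
    exact absurd h3 (not_le.mpr h5)
  exact hPQ ((key P inf_le_left hDP).trans (key Q inf_le_right hDQ).symm)

/-- Let G be a finite simple group whose Sylow p-subgroups are not normal but such that every proper subgroup of G has a normal Sylow p-subgroup. Then any two distinct Sylow p-subgroups of G intersect trivially, and for every Sylow p-subgroup P the normalizer of every non-identity subgroup of P lies in the normalizer of P. -/
theorem result {G : Type*} [Group G] [Finite G] [IsSimpleGroup G] {p : ℕ} [Fact p.Prime]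
    (hnc : ¬ Cfsg.IsPClosed p G) (hsub : ∀ H : Subgroup G, H ≠ ⊤ → Cfsg.IsPClosed p ↥H) :
    (∀ P Q : Sylow p G, P ≠ Q → (P : Subgroup G) ⊓ (Q : Subgroup G) = ⊥) ∧
      ∀ (P : Sylow p G) (R : Subgroup G), R ≤ P → R ≠ ⊥ →
        Subgroup.normalizer (R : Set G) ≤ Subgroup.normalizer ((P : Subgroup G) : Set G) := by
  refine ⟨sylow_ti hsub, ?_⟩
  intro P R hRP hR g hg
  have h1 : g • P = P := by
    by_contra hne
    apply hR
    rw [eq_bot_iff, ← sylow_ti hsub (g • P) P hne]
    refine le_inf ?_ hRP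
    intro r hr
    rw [Sylow.coe_subgroup_smul, Subgroup.mem_pointwise_smul_iff_inv_smul_mem]
    apply hRP
    have h2 := (mem_normalizer_iff.mp (inv_mem hg) r).mp hr
    have h3 : (MulAut.conj g)⁻¹ • r = g⁻¹ * r * g⁻¹⁻¹ := by
      rw [← map_inv]
      rfl
    rw [h3]
    exact h2
  exact (Sylow.smul_eq_iff_mem_normalizer).mp h1

end Cfsg.Agent.S3870
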