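import Cfsg.Statements.S3889
-- import your own Cfsg.Agent.* helpers here

set_option autoImplicit false
open Cfsg

namespace Cfsg.Agent.S3889

/-- If `x` has `x ^ p = 1`, `x ≠ 1`, `x ∈ B`, then every element outside `B` has trivial `p`-th power. -/
theorem pow_eq_one_of_notMem {G : Type*} [CommGroup G] (𝓑 : Set (Subgroup G))
    (hcov : ∀ g : G, ∃ B ∈ 𝓑, g ∈ B) (hdisj : ∀ B ∈ 𝓑, ∀ C ∈ 𝓑, B ≠ C → B ⊓ C = ⊥)
    {p : ℕ} {x : G} (hx1 : x ≠ 1) (hxp : x ^ p = 1) {B : Subgroup G} (hB : B ∈ 𝓑) (hxB : x ∈ B)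
    {g : G} (hg : g ∉ B) : g ^ p = 1 := by
  obtain ⟨C, hC, hgC⟩ := hcov g
  obtain ⟨D, hD, hxgD⟩ := hcov (x * g)
  have hBC : B ≠ C := by rintro rfl; exact hg hgC
  have hxC : x ∉ C := by
    intro h
    have : x ∈ B ⊓ C := ⟨hxB, h⟩
    rw [hdisj B hB C hC hBC] at this
    exact hx1 (Subgroup.mem_bot.1 this)
  have hDC : C ≠ D := by
    rintro rfl
    exact hxC ((Subgroup.mul_mem_cancel_right C hgC).1 hxgD)
  have h1 : (x * g) ^ p ∈ D := D.pow_mem hxgD p
  rw [mul_pow, hxp, one_mul] at h1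
  have h2 : g ^ p ∈ C ⊓ D := ⟨C.pow_mem hgC p, h1⟩
  rw [hdisj C hC D hD hDC] at h2
  exact Subgroup.mem_bot.1 h2

/-- A finite abelian group that is the union of a family of proper subgroups any two of which intersect trivially is elementary abelian: its exponent is a prime. -/
theorem result {G : Type*} [CommGroup G] [Finite G] (𝓑 : Set (Subgroup G)) (hprop : ∀ B ∈ 𝓑, B ≠ ⊤)
    (hcov : ∀ g : G, ∃ B ∈ 𝓑, g ∈ B) (hdisj : ∀ B ∈ 𝓑, ∀ C ∈ 𝓑, B ≠ C → B ⊓ C = ⊥) :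
    (Monoid.exponent G).Prime := by
  have hnt : Nontrivial G := by
    by_contra h
    rw [not_nontrivial_iff_subsingleton] at h
    obtain ⟨B, hB, _⟩ := hcov 1
    exact hprop B hB (Subsingleton.elim _ _)
  have hcard : Nat.card G ≠ 1 := by
    intro h
    exact (Finite.one_lt_card (α := G)).ne' h
  obtain ⟨p, hp, hpd⟩ := Nat.exists_prime_and_dvd hcard
  haveI : Fact p.Prime := ⟨hp⟩
  obtain ⟨x, hx⟩ := exists_prime_orderOf_dvd_card' p hpd
  have hx1 : x ≠ 1 := by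
    rintro rfl
    rw [orderOf_one] at hx
    exact hp.one_lt.ne hx
  have hxp : x ^ p = 1 := by rw [← hx]; exact pow_orderOf_eq_one x
  obtain ⟨B, hB, hxB⟩ := hcov x
  obtain ⟨g, hg⟩ : ∃ g : G, g ∉ B := by
    by_contra h
    push Not at h
    exact hprop B hB ((Subgroup.eq_top_iff' B).2 h)
  have hgp : g ^ p = 1 := pow_eq_one_of_notMem 𝓑 hcov hdisj hx1 hxp hB hxB hg
  have hg1 : g ≠ 1 := by rintro rfl; exact hg B.one_mem
  obtain ⟨C, hC, hgC⟩ := hcov g
  have hBC : B ≠ C := by rintro rfl; exact hg hgC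
  have hall : ∀ y : G, y ^ p = 1 := by
    intro y
    by_cases hyB : y ∈ B
    · by_cases hyC : y ∈ C
      · have : y ∈ B ⊓ C := ⟨hyB, hyC⟩
        rw [hdisj B hB C hC hBC] at this
        rw [Subgroup.mem_bot.1 this, one_pow]
      · exact pow_eq_one_of_notMem 𝓑 hcov hdisj hg1 hgp hC hgC hyC
    · exact pow_eq_one_of_notMem 𝓑 hcov hdisj hx1 hxp hB hxB hyB
  have h1 : Monoid.exponent G ∣ p := Monoid.exponent_dvd_of_forall_pow_eq_one hall
  have h2 : Monoid.exponent G ≠ 1 := by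
    intro h
    have := Monoid.order_dvd_exponent x
    rw [h, hx] at this
    exact hp.one_lt.ne' (Nat.dvd_one.1 this)
  rcases (Nat.dvd_prime hp).1 h1 with h | h
  · exact absurd h h2
  · rw [h]; exact hp

end Cfsg.Agent.S3889
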