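import Cfsg.Statements.S4749
import Cfsg.Agent.S0000
import Cfsg.Agent.OrdDiv.Table
import Cfsg.Agent.H666.Assem
import Cfsg.Agent.H666.Two
import Cfsg.Agent.H666.SporTI

set_option autoImplicit false
open scoped Pointwise
open Cfsg

namespace Cfsg.Agent.S4749

/-- Let G be a non-abelian finite simple group with a Sylow p-subgroup P that is not cyclic and meets each conjugate g P g⁻¹ with g outside N_G(P) trivially. Then G is isomorphic to PSL₂(q) with q = pⁿ, n ≥ 2, or to PSU₃(q) with q = pⁿ, n ≥ 1; or p = 2 and G is a Suzuki group; or p = 3 and G is a Ree group of type ²G₂, or PSL₃(4), or the Mathieu group M₁₁; or p = 5 and G is the Tits group or the McLaughlin group; or p = 11 and G is the Janko group J₄ (the sporadic, Suzuki, Ree and Tits alternatives are stated through the order-level recognition predicates). -/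
theorem result {G : Type*} [Group G] [Finite G] [IsSimpleGroup G] (hna : ¬ IsMulCommutative G) (p : ℕ) [Fact p.Prime] (P : Sylow p G) (hTI : ∀ g : G, g ∉ Subgroup.normalizer ((P : Subgroup G) : Set G) → (P : Subgroup G) ⊓ (MulAut.conj g • (P : Subgroup G)) = ⊥) (hnc : ¬ IsCyclic ↥(P : Subgroup G)) : (∃ (F : Type) (_ : Field F) (_ : Fintype F) (n : ℕ), 2 ≤ n ∧ Fintype.card F = p ^ n ∧ Nonempty (G ≃* Matrix.ProjectiveSpecialLinearGroup (Fin 2) F)) ∨ (∃ (F : Type) (_ : Field F) (_ : Fintype F) (n : ℕ), 1 ≤ n ∧ Fintype.card F = (p ^ n) ^ 2 ∧ Nonempty (G ≃* Cfsg.PSU 3 F (p ^ n))) ∨ (p = 2 ∧ Cfsg.IsSuzuki G) ∨ (p = 3 ∧ (Cfsg.IsRee G ∨ (∃ (F : Type) (_ : Field F) (_ : Fintype F), Fintype.card F = 4 ∧ Nonempty (G ≃* Matrix.ProjectiveSpecialLinearGroup (Fin 3) F)) ∨ Cfsg.IsM11 G)) ∨ (p = 5 ∧ (Cfsg.IsTits G ∨ Cfsg.IsMcL G)) ∨ (p = 11 ∧ Cfsg.IsJ4 G) := by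
  have hT := Cfsg.Agent.H666.Link.isTI_of_conj P hTI
  have hP1 : (P : Subgroup G) ≠ ⊥ := by
    intro h
    apply hnc
    rw [h]
    infer_instance
  by_cases hp2 : p = 2
  · subst hp2
    exact Cfsg.Agent.H666.Two.two hna hT P hP1
  · exact Cfsg.Agent.H666.Assem.main hna Cfsg.Agent.S0000.result hp2 hT P hnc
      (Cfsg.Agent.H666.SporTI.spor_ti Cfsg.Agent.OrdDiv.table
        (fun S _ _ _ => Cfsg.Agent.S0000.result) hna hp2 hT P hnc)

end Cfsg.Agent.S4749
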