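import Cfsg.Statements.S3908
import Cfsg.Agent.S0016

set_option autoImplicit false
open Cfsg

namespace Cfsg.Agent.S3908

/-- A finite `p`-group with two distinct subgroups of order `p` contains an abelian subgroup of order `p ^ 2`
and exponent `p`. -/
theorem exists_elementary {P : Type*} [Group P] [Finite P] (p : ℕ) [hp : Fact p.Prime] (hP : IsPGroup p P)
    (H K : Subgroup P) (hH : Nat.card H = p) (hK : Nat.card K = p) (hne : H ≠ K) :
    ∃ E : Subgroup P, IsMulCommutative ↥E ∧ Nat.card ↥E = p ^ 2 ∧ ∀ x ∈ E, x ^ p = 1 := by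
  classical
  have hnt : Nontrivial P := by
    rcases subsingleton_or_nontrivial P with h | h
    · exfalso
      have : Nat.card H = 1 := by
        have := Nat.card_eq_one_iff_unique.2 ⟨(inferInstance : Subsingleton H), ⟨1⟩⟩
        exact this
      rw [hH] at this
      exact hp.out.one_lt.ne' this
    · exact h
  have hcen : Nontrivial (Subgroup.center P) := hP.center_nontrivial
  have hcp : IsPGroup p (Subgroup.center P) := hP.to_subgroup _
  have hdvd : p ∣ Nat.card (Subgroup.center P) := by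
    obtain ⟨n, hn, hcard⟩ := (IsPGroup.nontrivial_iff_card hcp).1 hcen
    rw [hcard]
    exact dvd_pow_self p (by omega)
  obtain ⟨z, hz⟩ := exists_prime_orderOf_dvd_card' p hdvd
  have hzo : orderOf (z : P) = p := by
    rw [Subgroup.orderOf_coe, hz]
  set Z : Subgroup P := Subgroup.zpowers (z : P) with hZ
  have hZc : Nat.card Z = p := by rw [hZ, Nat.card_zpowers, hzo]
  -- one of H, K differs from Z
  obtain ⟨L, hL, hLne⟩ : ∃ L : Subgroup P, Nat.card L = p ∧ L ≠ Z := by
    by_cases h : H = Z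
    · exact ⟨K, hK, fun h' => hne (h.trans h'.symm)⟩
    · exact ⟨H, hH, h⟩
  have hdisj : Z ⊓ L = ⊥ := by
    by_contra hbot
    have hdv : Nat.card ↥(Z ⊓ L) ∣ p := by
      have := Subgroup.card_dvd_of_le (inf_le_left : Z ⊓ L ≤ Z)
      rwa [hZc] at this
    rcases (Nat.dvd_prime hp.out).1 hdv with h1 | h1
    · exact hbot (Subgroup.card_eq_one.1 h1)
    · have e1 : Z ⊓ L = Z := Subgroup.eq_of_le_of_card_ge inf_le_left (by rw [hZc, h1])
      have e2 : Z ⊓ L = L := Subgroup.eq_of_le_of_card_ge inf_le_right (by rw [hL, h1])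
      exact hLne (e2.symm.trans e1)
  -- the group generated
  have hzc : (z : P) ∈ Subgroup.center P := z.2
  have hZle : Z ≤ Subgroup.center P := by
    rw [hZ, Subgroup.zpowers_le]; exact hzc
  have hLcyc : IsCyclic L := isCyclic_of_prime_card hL
  have hZnorm : Z.Normal := by
    constructor
    intro n hn g
    have : g * n = n * g := (Subgroup.mem_center_iff.1 (hZle hn) g)
    rw [this]; simpa using hn
  refine ⟨Z ⊔ L, ?_, ?_, ?_⟩
  · refine ⟨⟨?_⟩⟩
    rintro ⟨a, ha⟩ ⟨b, hb⟩
    rw [Subgroup.mem_sup_of_normal_left] at ha hb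
    obtain ⟨a1, ha1, a2, ha2, rfl⟩ := ha
    obtain ⟨b1, hb1, b2, hb2, rfl⟩ := hb
    apply Subtype.ext
    show a1 * a2 * (b1 * b2) = b1 * b2 * (a1 * a2)
    have h1 : ∀ g, g * a1 = a1 * g := fun g => (Subgroup.mem_center_iff.1 (hZle ha1) g)
    have h2 : ∀ g, g * b1 = b1 * g := fun g => (Subgroup.mem_center_iff.1 (hZle hb1) g)
    have h3 : a2 * b2 = b2 * a2 := by
      have hc : IsMulCommutative L := IsCyclic.isMulCommutative
      have := hc.is_comm.comm ⟨a2, ha2⟩ ⟨b2, hb2⟩
      exact congrArg Subtype.val this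
    calc a1 * a2 * (b1 * b2) = a1 * (a2 * b1) * b2 := by group
      _ = a1 * (b1 * a2) * b2 := by rw [h2]
      _ = (a1 * b1) * (a2 * b2) := by group
      _ = (b1 * a1) * (b2 * a2) := by rw [← h1 b1, h3]
      _ = b1 * (a1 * b2) * a2 := by group
      _ = b1 * (b2 * a1) * a2 := by rw [h1]
      _ = b1 * b2 * (a1 * a2) := by group
  · have := Subgroup.IsComplement'.card_mul_card (H := Z.subgroupOf (Z ⊔ L)) (K := L.subgroupOf (Z ⊔ L)) ?_
    · rw [← this]
      rw [Nat.card_congr (Subgroup.subgroupOfEquivOfLe (le_sup_left : Z ≤ Z ⊔ L)).toEquiv,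
        Nat.card_congr (Subgroup.subgroupOfEquivOfLe (le_sup_right : L ≤ Z ⊔ L)).toEquiv, hZc, hL, pow_two]
    · apply Subgroup.isComplement'_of_disjoint_and_mul_eq_univ
      · rw [disjoint_iff]
        rw [eq_bot_iff]
        intro w hw
        have hw' : (w : P) ∈ Z ⊓ L := ⟨hw.1, hw.2⟩
        rw [hdisj] at hw'
        exact Subtype.ext (Subgroup.mem_bot.1 hw')
      · rw [Set.eq_univ_iff_forall]
        rintro ⟨x, hx⟩
        rw [Subgroup.mem_sup_of_normal_left] at hx
        obtain ⟨a, ha, b, hb, rfl⟩ := hx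
        exact ⟨⟨a, (le_sup_left : Z ≤ Z ⊔ L) ha⟩, ha, ⟨b, (le_sup_right : L ≤ Z ⊔ L) hb⟩, hb, rfl⟩
  · intro x hx
    rw [Subgroup.mem_sup_of_normal_left] at hx
    obtain ⟨a, ha, b, hb, rfl⟩ := hx
    have hab : Commute a b := ((Subgroup.mem_center_iff.1 (hZle ha) b)).symm
    rw [hab.mul_pow]
    have h1 : a ^ p = 1 := by
      have := pow_card_eq_one' (x := (⟨a, ha⟩ : Z))
      rw [hZc] at this
      exact congrArg Subtype.val this
    have h2 : b ^ p = 1 := by
      have := pow_card_eq_one' (x := (⟨b, hb⟩ : L))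
      rw [hL] at this
      exact congrArg Subtype.val this
    rw [h1, h2, one_mul]

/-- Let G be a finite group in which any two abelian subgroups of the same order are conjugate. Then a Sylow 2-subgroup of G is cyclic, elementary abelian or generalized quaternion, and for an odd prime p a Sylow p-subgroup of G is cyclic or has exponent dividing p. -/
theorem result {G : Type*} [Group G] [Finite G] (hB : ∀ A B : Subgroup G, IsMulCommutative ↥A → IsMulCommutative ↥B → Nat.card ↥A = Nat.card ↥B → ∃ g : G, B = A.map (MulAut.conj g).toMonoidHom) :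
    (∀ P : Sylow 2 G, IsCyclic ↥(P : Subgroup G) ∨ Cfsg.IsElementaryAbelian 2 (P : Subgroup G) ∨ ∃ k : ℕ, Nonempty (↥(P : Subgroup G) ≃* QuaternionGroup (2 ^ k))) ∧
    ∀ (p : ℕ) [Fact p.Prime], p ≠ 2 → ∀ P : Sylow p G, IsCyclic ↥(P : Subgroup G) ∨ ∀ x ∈ (P : Subgroup G), x ^ p = 1 := by
  have key : ∀ (p : ℕ) [Fact p.Prime] (P : Sylow p G), (∀ x ∈ (P : Subgroup G), x ^ p = 1) ∨
      (IsCyclic ↥(P : Subgroup G) ∨ (p = 2 ∧ ∃ n : ℕ, Nonempty (↥(P : Subgroup G) ≃* QuaternionGroup (2 ^ n)))) := by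
    intro p hp P
    by_cases hexp : ∀ x ∈ (P : Subgroup G), x ^ p = 1
    · exact Or.inl hexp
    right
    push Not at hexp
    obtain ⟨x, hxP, hx⟩ := hexp
    refine Cfsg.Agent.S0016.result p P.isPGroup' ?_
    intro H K hH hK
    by_contra hne
    obtain ⟨E, hEc, hEcard, hEexp⟩ := exists_elementary p P.isPGroup' H K hH hK hne
    -- an element of order p ^ 2
    obtain ⟨n, hn⟩ := (IsPGroup.iff_orderOf.1 P.isPGroup') ⟨x, hxP⟩
    rw [← Subgroup.orderOf_coe] at hn
    change orderOf x = p ^ n at hn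
    have hn2 : 2 ≤ n := by
      by_contra hlt
      have : n ≤ 1 := by omega
      have hd : orderOf x ∣ p := by
        rw [hn]
        calc p ^ n ∣ p ^ 1 := pow_dvd_pow p this
          _ = p := pow_one p
      exact hx (orderOf_dvd_iff_pow_eq_one.1 hd)
    obtain ⟨m, rfl⟩ := Nat.exists_eq_add_of_le hn2
    have hy : orderOf (x ^ (p ^ m)) = p ^ 2 := by
      rw [orderOf_pow' x (pow_ne_zero _ hp.out.ne_zero), hn]
      have : Nat.gcd (p ^ (2 + m)) (p ^ m) = p ^ m :=
        Nat.gcd_eq_right (pow_dvd_pow p (by omega))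
      rw [this, pow_add, Nat.mul_div_cancel _ (pow_pos hp.out.pos m)]
    set y := x ^ (p ^ m) with hydef
    have hA : IsMulCommutative ↥(Subgroup.zpowers y) := inferInstance
    have hB' : IsMulCommutative ↥(E.map (P : Subgroup G).subtype) := by
      refine ⟨⟨?_⟩⟩
      rintro ⟨a, ha⟩ ⟨b, hb⟩
      obtain ⟨a', ha', rfl⟩ := ha
      obtain ⟨b', hb', rfl⟩ := hb
      apply Subtype.ext
      have h := hEc.is_comm.comm ⟨a', ha'⟩ ⟨b', hb'⟩
      have h' : a' * b' = b' * a' := congrArg Subtype.val h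
      show (P : Subgroup G).subtype a' * (P : Subgroup G).subtype b' = (P : Subgroup G).subtype b' * (P : Subgroup G).subtype a'
      rw [← map_mul, h', map_mul]
    obtain ⟨g, hg⟩ := hB _ _ hB' hA (by
      rw [Nat.card_zpowers, hy]
      rw [← hEcard]
      exact Nat.card_congr (E.equivMapOfInjective _ (P : Subgroup G).subtype_injective).toEquiv.symm)
    have hyp : y ^ p = 1 := by
      have hymem : y ∈ (E.map (P : Subgroup G).subtype).map (MulAut.conj g).toMonoidHom := by
        rw [← hg]; exact Subgroup.mem_zpowers y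
      obtain ⟨w, ⟨e, he, rfl⟩, hw⟩ := hymem
      rw [← hw, ← map_pow, ← map_pow, hEexp e he, map_one, map_one]
    have : p ^ 2 ∣ p := by
      rw [← hy]; exact orderOf_dvd_of_pow_eq_one hyp
    have hle := Nat.le_of_dvd hp.out.pos this
    have h1 := hp.out.one_lt
    nlinarith
  constructor
  · intro P
    haveI : Fact (Nat.Prime 2) := ⟨Nat.prime_two⟩
    rcases key 2 P with h | h | ⟨-, h⟩
    · right; left
      refine ⟨⟨⟨?_⟩⟩, h⟩
      rintro ⟨a, ha⟩ ⟨b, hb⟩
      apply Subtype.ext
      show a * b = b * a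
      have h1 := h a ha
      have h2 := h b hb
      have h3 := h (a * b) (mul_mem ha hb)
      have e1 : a⁻¹ = a := by rw [inv_eq_iff_mul_eq_one, ← pow_two, h1]
      have e2 : b⁻¹ = b := by rw [inv_eq_iff_mul_eq_one, ← pow_two, h2]
      have e3 : (a * b)⁻¹ = a * b := by rw [inv_eq_iff_mul_eq_one, ← pow_two, h3]
      rw [mul_inv_rev, e1, e2] at e3
      exact e3.symm
    · exact Or.inl h
    · exact Or.inr (Or.inr h)
  · intro p hp hp2 P
    rcases key p P with h | h | ⟨h, -⟩
    · exact Or.inr h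
    · exact Or.inl h
    · exact absurd h hp2

end Cfsg.Agent.S3908
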