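import Cfsg.Statements.S4906
import Cfsg.Agent.H704.DS.Final
import Cfsg.Agent.S0000
import Cfsg.Agent.S4760

set_option autoImplicit false
open Cfsg

namespace Cfsg.Agent.S4906

/-- Itô–Michler for a nonabelian simple group -/
theorem im_of {X : Type*} [Group X] [Finite X] [IsSimpleGroup X] (hna : ¬ IsMulCommutative X) :
    Cfsg.Agent.H704.DS.IM X := by
  intro p hp hpX
  haveI : Fact p.Prime := ⟨hp⟩
  obtain ⟨P⟩ : Nonempty (Sylow p X) := inferInstance
  by_contra hcon
  obtain ⟨h1, h2⟩ := (Cfsg.Agent.S4760.result p P).2 (fun χ hdiv =>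
    hcon ⟨χ, charDegree (χ : X → ℂ), χ.2, Cfsg.Agent.Blocks.Basic.irr_one_eq_charDegree χ.2, hdiv⟩)
  rcases h1.eq_bot_or_eq_top with h3 | h3
  · have h4 := P.card_eq_multiplicity
    rw [h3, Subgroup.card_bot] at h4
    have h5 : (Nat.card X).factorization p ≠ 0 := (hp.factorization_pos_of_dvd Nat.card_pos.ne' hpX).ne'
    exact absurd h4 (Nat.one_lt_pow h5 hp.one_lt).ne
  · apply hna
    refine ⟨⟨fun a b => ?_⟩⟩
    have h4 := h2.is_comm.comm ⟨a, by rw [h3]; exact Subgroup.mem_top a⟩ ⟨b, by rw [h3]; exact Subgroup.mem_top b⟩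
    exact congrArg Subtype.val h4

/-- Let n ≥ 5, S a finite non-abelian simple group and G a group of automorphisms of S containing all inner automorphisms (an almost simple group with socle S). If every irreducible complex character degree of G is an irreducible character degree of the symmetric group of degree n, then S is isomorphic to the alternating group of degree n. -/
theorem result {S : Type*} [Group S] [Finite S] [IsSimpleGroup S] (hS : ¬ IsMulCommutative S) (G : Subgroup (MulAut S)) (hG : (MulAut.conj : S →* MulAut S).range ≤ G) (n : ℕ) (hn : 5 ≤ n) (h : Cfsg.charDegrees ↥G ⊆ Cfsg.charDegrees (Equiv.Perm (Fin n))) : Nonempty (S ≃* ↥(alternatingGroup (Fin n))) :=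
  Cfsg.Agent.H704.DS.main hS (fun _ _ _ _ => Cfsg.Agent.S0000.result) (fun _ _ _ _ hX => im_of hX) G hG hn h

end Cfsg.Agent.S4906
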