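import Cfsg.Statements.S1948
import Cfsg.Agent.Dichotomy.Constraint
import Cfsg.Agent.Lib.HallHigman

set_option autoImplicit false
open Cfsg

namespace Cfsg.Agent.S1948

open Cfsg.Agent.SignalizersComponents
open Cfsg.Agent.Lib.Cores

/-- A finite group with a normal Sylow `p`-subgroup and trivial `p'`-core has characteristic `p`. -/
theorem charP_of_normal_sylow {Q : Type*} [Group Q] [Finite Q] {p : ℕ} [hp : Fact p.Prime]
    (S : Subgroup Q) (hSp : IsPGroup p S) (hSi : ¬ p ∣ S.index) (hSn : S.Normal)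
    (h : pPrimeCore p Q = ⊥) :
    Subgroup.centralizer (pCore p Q : Set Q) ≤ pCore p Q := by
  refine Lib.HallHigman.centralizer_pCore_le_of_sep p h ?_
  intro N K hN hK hNK
  by_cases hle : K ⊓ S ≤ N
  · refine ⟨K, hK, hNK, le_rfl, Or.inr ?_⟩
    -- the index `|K : N|` divides `|K : K ∩ S|`, which is prime to `p`
    have h1 : N.relIndex K ∣ (K ⊓ S).relIndex K := by
      have := Subgroup.relIndex_mul_relIndex (K ⊓ S) N K hle hNK.le
      exact Dvd.intro_left _ this
    have h2 : (K ⊓ S).relIndex K = S.relIndex K := by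
      rw [inf_comm, Subgroup.inf_relIndex_right]
    have h3 : S.relIndex K ∣ S.index := by
      have := S.relIndex_dvd_index_of_normal K
      exact this
    rw [h2] at h1
    exact ((Nat.Prime.coprime_iff_not_dvd hp.out).2 fun hd => hSi ((hd.trans h1).trans h3)).symm
  · refine ⟨N ⊔ (K ⊓ S), ?_, ?_, ?_, Or.inl ?_⟩
    · have := hN
      have := hK
      have := hSn
      infer_instance
    · refine lt_of_le_of_ne le_sup_left fun he => hle ?_
      rw [he]; exact le_sup_right
    · exact sup_le hNK.le inf_le_left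
    · have h1 : N.relIndex (N ⊔ (K ⊓ S)) = N.relIndex (K ⊓ S) := by
        rw [sup_comm, Subgroup.relIndex_sup_right]
      have h2 : IsPGroup p (K ⊓ S : Subgroup Q) := hSp.to_le inf_le_right
      rw [h1]
      obtain ⟨m, hm⟩ := IsPGroup.iff_card.mp h2
      have h3 : N.relIndex (K ⊓ S) ∣ Nat.card (K ⊓ S : Subgroup Q) := Subgroup.relIndex_dvd_card _ _
      rw [hm] at h3
      obtain ⟨j, -, hj⟩ := (Nat.dvd_prime_pow hp.out).1 h3
      exact ⟨j, hj⟩

/-- Let S be a Sylow p-subgroup of the finite group G. Then G = N_G(S)·O_{p'}(G) if and only if G is p-constrained and N_G(S) controls fusion in S, in the sense that whenever a subgroup Q of S has a conjugate g Q g⁻¹ inside S, the element g is a product n c with n normalizing S and c centralizing Q. -/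
theorem result {G : Type*} [Group G] [Finite G] {p : ℕ} [Fact p.Prime] (S : Sylow p G) :
    Subgroup.normalizer ((S : Subgroup G) : Set G) ⊔ Cfsg.pPrimeCore p G = ⊤ ↔
      (Cfsg.IsPConstrained p G ∧
        ∀ Q : Subgroup G, Q ≤ (S : Subgroup G) → ∀ g : G, Q.map (MulAut.conj g).toMonoidHom ≤ (S : Subgroup G) →
          ∃ n ∈ Subgroup.normalizer ((S : Subgroup G) : Set G), ∃ c ∈ Subgroup.centralizer (Q : Set G), g = n * c) := by
  have hO : (pPrimeCore p G).Normal := Cfsg.Agent.Lib.Cores.pPrimeCore_normal (G := G) p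
  have hdisj : (S : Subgroup G) ⊓ pPrimeCore p G = ⊥ := by
    have h1 := pPrimeCore_coprime (G := G) p
    obtain ⟨n, hn⟩ := IsPGroup.iff_card.mp S.2
    exact disjoint_iff.1 (Subgroup.disjoint_of_coprime_natCard
      (by rw [hn]; exact (h1.symm.pow_left n)))
  constructor
  · intro h
    constructor
    · -- `p`-constraint
      rw [PConstrained.isPConstrained_iff_quotient]
      set π := QuotientGroup.mk' (pPrimeCore p G) with hπ
      have hsurj : Function.Surjective π := QuotientGroup.mk'_surjective _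
      refine charP_of_normal_sylow ((S : Subgroup G).map π) (S.2.map π) ?_ ?_
        (Lib.Cores.pPrimeCore_quotient_pPrimeCore p)
      · intro hd
        exact S.not_dvd_index (hd.trans (Subgroup.index_map_dvd _ hsurj))
      · constructor
        rintro _ ⟨s, hs, rfl⟩ y
        obtain ⟨g, rfl⟩ := hsurj y
        have hg : g ∈ Subgroup.normalizer ((S : Subgroup G) : Set G) ⊔ pPrimeCore p G := by
          rw [h]; trivial
        obtain ⟨n, hn, o, ho, rfl⟩ := Subgroup.mem_sup_of_normal_right.1 hg
        have ho1 : π o = 1 := (QuotientGroup.eq_one_iff o).2 ho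
        rw [map_mul, ho1, mul_one]
        refine ⟨n * s * n⁻¹, ?_, by simp⟩
        exact (Subgroup.mem_normalizer_iff.1 hn s).1 hs
    · intro Q hQ g hg
      have hgm : g ∈ Subgroup.normalizer ((S : Subgroup G) : Set G) ⊔ pPrimeCore p G := by
        rw [h]; trivial
      obtain ⟨n, hn, o, ho, rfl⟩ := Subgroup.mem_sup_of_normal_right.1 hgm
      refine ⟨n, hn, o, ?_, rfl⟩
      rw [Subgroup.mem_centralizer_iff]
      intro x hx
      have hxS : x ∈ (S : Subgroup G) := hQ hx
      have h1 : n * o * x * (n * o)⁻¹ ∈ (S : Subgroup G) := hg ⟨x, hx, rfl⟩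
      have h2 : o * x * o⁻¹ ∈ (S : Subgroup G) := by
        rw [Subgroup.mem_normalizer_iff] at hn
        rw [hn]
        have : n * (o * x * o⁻¹) * n⁻¹ = n * o * x * (n * o)⁻¹ := by group
        rw [this]; exact h1
      have h3 : o * x * o⁻¹ * x⁻¹ ∈ (S : Subgroup G) ⊓ pPrimeCore p G := by
        refine ⟨Subgroup.mul_mem _ h2 (Subgroup.inv_mem _ hxS), ?_⟩
        have : o * x * o⁻¹ * x⁻¹ = o * (x * o⁻¹ * x⁻¹) := by group
        rw [this]
        exact mul_mem ho (hO.conj_mem _ (inv_mem ho) x)
      rw [hdisj, Subgroup.mem_bot] at h3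
      have h4 : o * x * o⁻¹ = x := by
        rw [mul_inv_eq_one] at h3; exact h3
      rw [mul_inv_eq_iff_eq_mul] at h4
      exact h4.symm
  · rintro ⟨hc, hf⟩
    rw [PConstrained.isPConstrained_iff_quotient] at hc
    rw [eq_top_iff]
    intro g _
    obtain ⟨o, ho, n, hn, rfl⟩ := Dichotomy.Constraint.frattini S g
    have hle : (S : Subgroup G) ⊓ pPrimePCore p G ≤ (S : Subgroup G) := inf_le_left
    have hmap : ((S : Subgroup G) ⊓ pPrimePCore p G).map (MulAut.conj n).toMonoidHom ≤
        (S : Subgroup G) := by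
      rintro _ ⟨x, hx, rfl⟩
      have : n * x * n⁻¹ ∈ (S : Subgroup G) ⊓ pPrimePCore p G :=
        (Subgroup.mem_normalizer_iff.1 hn x).1 hx
      exact this.1
    obtain ⟨m, hm, c, hcc, rfl⟩ := hf _ hle n hmap
    have hcM : c ∈ pPrimePCore p G := by
      refine Dichotomy.Constraint.mem_of_commute hc S fun q hq => ?_
      exact (Subgroup.mem_centralizer_iff.1 hcc q hq).symm
    obtain ⟨q, hq, o', ho', rfl⟩ := Dichotomy.Constraint.exists_mul_of_mem S hcM
    have hqN : q ∈ Subgroup.normalizer ((S : Subgroup G) : Set G) :=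
      Subgroup.le_normalizer hq.1
    exact mul_mem (Subgroup.mem_sup_right ho) (mul_mem (Subgroup.mem_sup_left hm)
      (mul_mem (Subgroup.mem_sup_left hqN) (Subgroup.mem_sup_right ho')))

end Cfsg.Agent.S1948
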