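import Cfsg.Statements.S4872
import Cfsg.Agent.H692.RealOver
import Cfsg.Agent.H692.Cliff

set_option autoImplicit false
open Cfsg

namespace Cfsg.Agent.S4872

open Cfsg.Agent.Characters.Core Cfsg.Agent.H692.SqRoot

/-- Let N be a normal subgroup of the finite group G with G/N a 2-group, and let φ be an irreducible complex character of N of 2-defect zero (the 2-part of #N divides φ(1)) whose complex conjugate is G-conjugate to φ. Then some irreducible character of G with Frobenius–Schur indicator +1 contains φ with multiplicity exactly one on restriction to N. -/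
theorem result {G : Type*} [Group G] [Finite G] (N : Subgroup G) [N.Normal] (h2 : IsPGroup 2 (G ⧸ N)) (φ : Cfsg.IrrCharacter ↥N) (hdef : 2 ^ (Nat.card ↥N).factorization 2 ∣ Cfsg.charDegree (φ : ↥N → ℂ)) (hconj : ∃ g : G, ∀ n n' : ↥N, (n' : G) = g * (n : G) * g⁻¹ → (φ : ↥N → ℂ) n' = (starRingEnd ℂ) ((φ : ↥N → ℂ) n)) : ∃ χ : Cfsg.IrrCharacter G, (Nat.card G : ℂ)⁻¹ * ∑ᶠ g : G, (χ : G → ℂ) (g * g) = 1 ∧ (Nat.card ↥N : ℂ)⁻¹ * ∑ᶠ n : ↥N, (χ : G → ℂ) n * (starRingEnd ℂ) ((φ : ↥N → ℂ) n) = 1 := by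
  classical
  have hG := Fintype.ofFinite G
  have hN := Fintype.ofFinite N
  obtain ⟨g, hg⟩ := hconj
  have S : Sylow 2 G := default
  obtain ⟨χ, hχr, hχ1, ⟨e, heo, he⟩, -⟩ := Cfsg.Agent.H692.RealOver.exists_real_over N S φ.2 hdef
    ⟨g, fun n => hg n _ (MulAut.conjNormal_apply g n)⟩
  have he0 : e ≠ 0 := by
    rintro rfl
    exact (Nat.not_odd_zero) heo
  obtain ⟨-, hd⟩ := Cfsg.Agent.H692.Cliff.degree_formula_nat N φ.2 χ.2 he0 he
  obtain ⟨k, hk⟩ := h2.exists_card_eq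
  have hidx : N.index = 2 ^ k := hk
  rw [hidx] at hd
  have he2 : e ∣ 2 ^ k := (Dvd.intro_left _ rfl).trans hd
  have he1 : e = 1 := by
    obtain ⟨j, _, hj⟩ := (Nat.dvd_prime_pow Nat.prime_two).1 he2
    rcases Nat.eq_zero_or_pos j with h0 | h0
    · rw [hj, h0, pow_zero]
    · exfalso
      rw [hj] at heo
      exact (Nat.not_even_iff_odd.2 heo) ((even_iff_two_dvd).2 (dvd_pow_self 2 h0.ne'))
  refine ⟨χ, ?_, ?_⟩
  · rw [finsum_eq_sum_of_fintype]
    exact hχ1
  · rw [finsum_eq_sum_of_fintype]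
    rw [he1, Nat.cast_one] at he
    exact he

end Cfsg.Agent.S4872
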