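import Cfsg.Statements.S3559
import Cfsg.Agent.H391.SRingComm

set_option autoImplicit false
open Cfsg

namespace Cfsg.Agent.S3559

open Cfsg.Agent.H391.SRing

/-- In a cyclic group whose order is divisible by `p` the equation `z ^ p = 1` has `p` solutions. -/
theorem card_pow_eq_one {H : Type*} [CommGroup H] [Finite H] [IsCyclic H] {p : ℕ} (hp : p.Prime)
    (hpH : p ∣ Nat.card H) : Nat.card {z : H // z ^ p = 1} = p := by
  classical
  haveI := Fintype.ofFinite H
  apply le_antisymm
  · rw [Nat.card_eq_fintype_card, Fintype.card_subtype]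
    exact IsCyclic.card_pow_eq_one_le hp.pos
  · haveI : Fact p.Prime := ⟨hp⟩
    obtain ⟨z, hz⟩ := exists_prime_orderOf_dvd_card' (G := H) p hpH
    calc p = Nat.card (Subgroup.zpowers z) := by rw [Nat.card_zpowers, hz]
      _ ≤ Nat.card {z : H // z ^ p = 1} := by
        refine Nat.card_le_card_of_injective (fun x : Subgroup.zpowers z => (⟨(x : H), ?_⟩ : {z : H // z ^ p = 1})) ?_
        · obtain ⟨k, hk⟩ := x.2
          simp only at hk
          rw [← hk, ← zpow_natCast, ← zpow_mul, mul_comm, zpow_mul, zpow_natCast, ← hz, pow_orderOf_eq_one, one_zpow]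
        · intro x y hxy
          apply Subtype.ext
          exact Subtype.mk.inj hxy

/-- Let G act faithfully and transitively on a finite set whose number of points n ≥ 2 is not a prime power, and suppose G has a cyclic subgroup acting regularly (transitively with trivial point stabilizers). Then G is imprimitive or doubly transitive. -/
theorem result {G Ω : Type*} [Group G] [Finite G] [MulAction G Ω] [FaithfulSMul G Ω] [Finite Ω]
    (htrans : MulAction.IsPretransitive G Ω) (hn : 2 ≤ Nat.card Ω) (hnp : ¬ IsPrimePow (Nat.card Ω))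
    (C : Subgroup G) (hcyc : IsCyclic ↥C) (hC : MulAction.IsPretransitive ↥C Ω ∧ ∀ a : Ω, MulAction.stabilizer ↥C a = ⊥) :
    ¬ MulAction.IsPreprimitive G Ω ∨ MulAction.IsMultiplyPretransitive G Ω 2 := by
  classical
  by_cases hprim : MulAction.IsPreprimitive G Ω
  swap
  · exact Or.inl hprim
  right
  obtain ⟨ω⟩ : Nonempty Ω := (Nat.card_pos_iff.1 (by omega)).1
  obtain ⟨ψ, e, he, hA⟩ := exists_hom C ω hC.1 hC.2
  letI : CommGroup ↥C := IsCyclic.commGroup
  have hP := prim_of_isPreprimitive_aux hprim ψ e he hA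
  have hcard : Nat.card ↥C = Nat.card Ω := Nat.card_congr e
  -- a prime divisor
  obtain ⟨p, hp, hpn⟩ := Nat.exists_prime_and_dvd (n := Nat.card Ω) (by omega)
  have hpC : p ∣ Nat.card ↥C := by rw [hcard]; exact hpn
  -- an element of order prime to `p`
  obtain ⟨q, hq, hqn, hqp⟩ : ∃ q : ℕ, q.Prime ∧ q ∣ Nat.card ↥C ∧ q ≠ p := by
    by_contra hcon
    push Not at hcon
    apply hnp
    rw [← hcard]
    have h2 : Nat.card ↥C ≠ 0 := by rw [hcard]; omega
    have h1 := (Nat.eq_prime_pow_of_unique_prime_dvd h2 (fun {d} hd hdd => hcon d hd hdd))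
    rw [h1]
    apply hp.isPrimePow.pow
    intro h0
    rw [h0, pow_zero] at h1
    omega
  haveI : Fact q.Prime := ⟨hq⟩
  obtain ⟨y, hy⟩ := exists_prime_orderOf_dvd_card' (G := ↥C) q hqn
  have hy1 : y ≠ 1 := by
    rintro rfl
    rw [orderOf_one] at hy
    exact hq.one_lt.ne hy
  have hyp : (orderOf y).Coprime p := by
    rw [hy]; exact (Nat.coprime_primes hq hp).2 hqp
  apply two_transitive_of_rel ψ e he hA
  intro x z hx hz
  exact rel_of_prim hA hP hp (card_pow_eq_one hp hpC) hy1 hyp hx hz

end Cfsg.Agent.S3559
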