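import Cfsg.Statements.S4036

set_option autoImplicit false
open Cfsg

namespace Cfsg.Agent.S4036

/-- Let P be a finite abelian p-group and K a group of automorphisms of P (a subgroup of Aut P) whose order is divisible by p. If all non-identity elements of K have the same fixed-point subgroup on P, then K has no non-trivial normal subgroup of order prime to p. -/
theorem result {P : Type*} [CommGroup P] [Finite P] {p : ℕ}
    [Fact p.Prime] (hP : IsPGroup p P) (K : Subgroup (MulAut P)) (hK : p ∣ Nat.card K)
    (hfix : ∀ x y : MulAut P, x ∈ K → y ∈ K → x ≠ 1 → y ≠ 1 → ∀ v : P, x v = v ↔ y v = v) :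
    ∀ N : Subgroup ↥K, N.Normal → ¬ p ∣ Nat.card N → N = ⊥ := by
  classical
  intro N hN hpN
  by_contra hbot
  have : Fintype N := Fintype.ofFinite _
  have : Fintype P := Fintype.ofFinite _
  -- the norm map
  let ν : P →* P := ∏ n : N, ((n : K) : MulAut P).toMonoidHom
  have hν : ∀ v, ν v = ∏ n : N, ((n : K) : MulAut P) v := by
    intro v
    simp only [ν, MonoidHom.finsetProd_apply]
    rfl
  -- an element of order p in K
  obtain ⟨k, hk⟩ := exists_prime_orderOf_dvd_card' (G := K) p hK
  have hk1 : (k : MulAut P) ≠ 1 := by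
    intro h
    have : k = 1 := Subtype.ext h
    rw [this, orderOf_one] at hk
    exact (Fact.out : p.Prime).one_lt.ne hk
  obtain ⟨n₀, hn₀⟩ := Subgroup.ne_bot_iff_exists_ne_one.mp hbot
  have hn₀1 : ((n₀ : K) : MulAut P) ≠ 1 := by
    intro h
    apply hn₀
    exact Subtype.ext (Subtype.ext h)
  -- invariance of the norm under N
  have hinv : ∀ (n : N) (v : P), ν (((n : K) : MulAut P) v) = ν v := by
    intro n v
    rw [hν, hν]
    refine Fintype.prod_equiv (Equiv.mulRight n) _ _ ?_
    intro a
    simp
  have hconj : ∀ (g : K) (v : P), ν ((g : MulAut P) v) = (g : MulAut P) (ν v) := by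
    intro g v
    rw [hν, hν, map_prod]
    refine Fintype.prod_equiv (MulAut.conjNormal g⁻¹).toEquiv _ _ ?_
    intro a
    simp
  -- the kernel D of the norm
  set D : Subgroup P := ν.ker with hD
  have hDK : ∀ (g : K) (v : P), v ∈ D → (g : MulAut P) v ∈ D := by
    intro g v hv
    rw [hD, MonoidHom.mem_ker] at hv ⊢
    rw [hconj, hv, map_one]
  -- fixed points of n₀ in D are trivial
  have hFD : ∀ v ∈ D, (k : MulAut P) v = v → v = 1 := by
    intro v hv hkv
    have hall : ∀ n : N, ((n : K) : MulAut P) v = v := by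
      intro n
      by_cases h : ((n : K) : MulAut P) = 1
      · rw [h]; rfl
      · exact (hfix k n k.2 n.1.2 hk1 h v).mp hkv
    have h1 : ν v = v ^ Nat.card N := by
      rw [hν, Finset.prod_congr rfl (fun n _ => hall n), Finset.prod_const, Finset.card_univ,
        Nat.card_eq_fintype_card]
    rw [hD, MonoidHom.mem_ker, h1] at hv
    have h2 : orderOf v ∣ Nat.card N := orderOf_dvd_of_pow_eq_one hv
    obtain ⟨j, hj⟩ := IsPGroup.iff_orderOf.mp hP v
    rw [hj] at h2
    rcases Nat.eq_zero_or_pos j with rfl | hj0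
    · simpa using hj
    · exact absurd ((dvd_pow_self p hj0.ne').trans h2) hpN
  -- hence D is trivial
  have hDbot : D = ⊥ := by
    by_contra hDne
    have hDp : IsPGroup p D := hP.to_subgroup D
    have hZ : IsPGroup p (Subgroup.zpowers k) := by
      apply IsPGroup.of_card (n := 1)
      rw [Nat.card_zpowers, hk, pow_one]
    let act : MulAction (Subgroup.zpowers k) D :=
      { smul := fun g v => ⟨((g : K) : MulAut P) v, hDK g v v.2⟩
        one_smul := fun v => rfl
        mul_smul := fun g h v => rfl }
    have hpD : p ∣ Nat.card D := by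
      rcases hDp.card_eq_or_dvd with h | h
      · exact absurd (Subgroup.card_eq_one.mp h) hDne
      · exact h
    have h1f : (1 : D) ∈ MulAction.fixedPoints (Subgroup.zpowers k) D := by
      intro g
      exact Subtype.ext (map_one ((g : K) : MulAut P))
    obtain ⟨b, hb, hb1⟩ := hZ.exists_fixed_point_of_prime_dvd_card_of_fixed_point D hpD h1f
    have hbk := hb ⟨k, Subgroup.mem_zpowers k⟩
    have hbk' : (k : MulAut P) (b : P) = b := congrArg Subtype.val hbk
    exact hb1 (Subtype.ext (hFD b b.2 hbk').symm)
  apply hn₀1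
  ext v
  have h1 : (((n₀ : K) : MulAut P) v) * v⁻¹ ∈ D := by
    rw [hD, MonoidHom.mem_ker, map_mul, hinv, map_inv, mul_inv_cancel]
  rw [hDbot, Subgroup.mem_bot] at h1
  simpa [mul_inv_eq_one] using h1

end Cfsg.Agent.S4036
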