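import Cfsg.Statements.S2482
import Cfsg.Agent.H159.SpClassCount
import Cfsg.Agent.H169.SpLower

set_option autoImplicit false
open Cfsg

namespace Cfsg.Agent.S2482

/-- The number of conjugacy classes of Sp(2n,q), q odd: for F a finite field of odd order q and n ≥ 1, the number k of conjugacy classes of Sp(2n,F) satisfies q^n ≤ k ≤ 10.8·q^n. -/
theorem result {F : Type*} [Field F] [Fintype F] (hodd : Odd (Fintype.card F)) (n : ℕ) (hn : 1 ≤ n) :
    Fintype.card F ^ n ≤ Nat.card (ConjClasses (Matrix.symplecticGroup (Fin n) F)) ∧ 5 * Nat.card (ConjClasses (Matrix.symplecticGroup (Fin n) F)) ≤ 54 * Fintype.card F ^ n := by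
  have h3 : 3 ≤ Fintype.card F := by
    have h1 : 1 < Fintype.card F := Fintype.one_lt_card
    obtain ⟨k, hk⟩ := hodd
    omega
  have h2 : (2 : F) ≠ 0 := by
    intro h
    obtain ⟨p, hp⟩ := CharP.exists F
    have hpf := CharP.char_is_prime F p
    have h4 : p ∣ 2 := (CharP.cast_eq_zero_iff F p 2).1 (by exact_mod_cast h)
    have h5 : p = 2 := (Nat.prime_dvd_prime_iff_eq hpf Nat.prime_two).1 h4
    subst h5
    obtain ⟨k, -, hk⟩ := FiniteField.card F 2
    rw [hk] at hodd
    exact absurd hodd (Nat.not_odd_iff_even.2 ((Nat.even_pow.2 ⟨even_two, k.pos.ne'⟩)))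
  refine ⟨?_, ?_⟩
  · exact Cfsg.Agent.H169.SpLower.card_pow_le n
  · exact (Nat.mul_le_mul_left 5 (Cfsg.Agent.H159.SpClassCount.card_le h2)).trans
      (Cfsg.Agent.H151.SpCount.card_data_le h3 n)

end Cfsg.Agent.S2482
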