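import Cfsg.Statements.S4150
import Cfsg.Agent.H529.ManyPrimes
import Cfsg.Agent.H529.TwoCycles
import Cfsg.Agent.H529.TwinThirteen
import Cfsg.Agent.H529.AltIndex

set_option autoImplicit false
open Cfsg

namespace Cfsg.Agent.S4150

open Equiv MulAction Cfsg.Agent.H529

theorem core {α : Type*} [Fintype α] [DecidableEq α] {x y : Perm α} {p q : ℕ}
    (hp : p.Prime) (hq : q.Prime) (hx : orderOf x = p) (hy : orderOf y = q)
    (hxA : x ∈ alternatingGroup α) (hyA : y ∈ alternatingGroup α)
    (hcov : ∀ a, x a ≠ a ∨ y a ≠ a) (hpq : p < q) (hle : Fintype.card α ≤ 2 * p)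
    (hcase : q + 3 ≤ Fintype.card α ∨ (Fintype.card α < 2 * p ∧ p + 3 ≤ Fintype.card α) ∨
      (p = 3 ∧ q = 5) ∨ (p = 5 ∧ q = 7 ∧ Fintype.card α = 7) ∨ (p = 11 ∧ q = 13 ∧ Fintype.card α = 13)) :
    ∃ d : ℕ, 5 ≤ d ∧ Nonempty (Subgroup.closure ({x, y} : Set (Perm α)) ≃* alternatingGroup (Fin d)) := by
  set H : Subgroup (Perm α) := Subgroup.closure ({x, y} : Set (Perm α)) with hH
  have hxH : x ∈ H := Subgroup.subset_closure (by simp)
  have hyH : y ∈ H := Subgroup.subset_closure (by simp)
  have hHA : H ≤ alternatingGroup α := by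
    rw [hH, Subgroup.closure_le]
    rintro z (rfl | rfl)
    · exact hxA
    · exact hyA
  have hyc : y.IsCycle := Perm.isCycle_of_prime_order' (by rw [hy]; exact hq) (by rw [hy]; omega)
  have hys : y.support.card = q := by rw [← hyc.orderOf, hy]
  have hqc : q ≤ Fintype.card α := by rw [← hys]; exact Finset.card_le_univ _
  have htrans : IsPretransitive H α :=
    TwoCycles.isPretransitive hp hx hyc hys hcov (by omega) hxH hyH
  have hprim : IsPreprimitive H α :=
    TwoCycles.isPreprimitive_of_cycle hq hyc hys (by omega) htrans hyH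
  have h2p := hp.two_le
  have h2q := hq.two_le
  have hp3 : p ≠ 2 := by
    rintro rfl
    have : q ≤ 4 := by omega
    have h3 : q = 3 ∨ q = 4 := by omega
    rcases h3 with rfl | rfl
    · rcases hcase with h | h | h | h | h <;> omega
    · revert hq; norm_num
  have h5 : 5 ≤ q := by
    by_contra hcon
    have : q = 4 := by omega
    subst this
    revert hq; norm_num
  have hend : H = alternatingGroup α → ∃ d : ℕ, 5 ≤ d ∧ Nonempty (H ≃* alternatingGroup (Fin d)) := by
    intro h
    refine ⟨Fintype.card α, by omega, ⟨(MulEquiv.subgroupCongr h).trans (Equiv.altCongrHom (Fintype.equivFin α))⟩⟩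
  rcases hcase with h | ⟨h1, h2⟩ | ⟨rfl, rfl⟩ | ⟨rfl, rfl, h3⟩ | ⟨rfl, rfl, h3⟩
  · exact hend (le_antisymm hHA (Cfsg.Agent.S0713.result H hprim hq (by omega) h hyc hys hyH))
  · have hxc : x.IsCycle := Perm.isCycle_of_prime_order' (by rw [hx]; exact hp) (by rw [hx]; exact h1)
    have hxs : x.support.card = p := by rw [← hxc.orderOf, hx]
    exact hend (le_antisymm hHA (Cfsg.Agent.S0713.result H hprim hp (by omega) h2 hxc hxs hxH))
  · have h6 : Fintype.card α = 5 ∨ Fintype.card α = 6 := by omega
    rcases h6 with h6 | h6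
    · have hxc : x.IsCycle := Perm.isCycle_of_prime_order' (by rw [hx]; exact hp) (by rw [hx, h6]; norm_num)
      have hxs : x.support.card = 3 := by rw [← hxc.orderOf, hx]
      have h7 : x.IsThreeCycle := card_support_eq_three_iff.1 hxs
      exact hend (le_antisymm hHA
        (Equiv.Perm.alternatingGroup_le_of_isPreprimitive_of_isThreeCycle_mem hprim h7 hxH))
    · exact AltIndex.degree_six h6 hHA htrans hyc hys hyH
  · have hxc : x.IsCycle := Perm.isCycle_of_prime_order' (by rw [hx]; exact hp) (by rw [hx, h3]; norm_num)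
    have hxs : x.support.card = 5 := by rw [← hxc.orderOf, hx]
    exact hend (TwinCycle.eq_alternating_seven h3 hHA hprim hxc hxs hxH)
  · have hxc : x.IsCycle := Perm.isCycle_of_prime_order' (by rw [hx]; exact hp) (by rw [hx, h3]; norm_num)
    have hxs : x.support.card = 11 := by rw [← hxc.orderOf, hx]
    exact hend (TwinCycle.eq_alternating_thirteen h3 hHA hprim hxc hxs hxH)

/-- reduction to the union of the supports -/
theorem main {m : ℕ} {p q : ℕ} (hp : p.Prime) (hq : q.Prime) (hpq : p < q) (hle : m ≤ 2 * p)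
    (hcase : ∀ c, q ≤ c → c ≤ m → q + 3 ≤ c ∨ (c < 2 * p ∧ p + 3 ≤ c) ∨
      (p = 3 ∧ q = 5) ∨ (p = 5 ∧ q = 7 ∧ c = 7) ∨ (p = 11 ∧ q = 13 ∧ c = 13))
    (x y : alternatingGroup (Fin m)) (hx : orderOf x = p) (hy : orderOf y = q) :
    ∃ d : ℕ, 5 ≤ d ∧ Nonempty (Subgroup.closure ({x, y} : Set (alternatingGroup (Fin m))) ≃* alternatingGroup (Fin d)) := by
  classical
  set X : Perm (Fin m) := x.1 with hX
  set Y : Perm (Fin m) := y.1 with hY
  let P : Fin m → Prop := fun a => X a ≠ a ∨ Y a ≠ a
  have hPX : ∀ a, P (X a) ↔ P a := by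
    intro a
    rw [← not_iff_not]
    simp only [P, not_or, not_not]
    constructor
    · rintro ⟨h1, h2⟩
      have h3 := X.injective h1
      rw [h3] at h2
      exact ⟨h3, h2⟩
    · rintro ⟨h1, h2⟩
      rw [h1]
      exact ⟨h1, h2⟩
  have hPY : ∀ a, P (Y a) ↔ P a := by
    intro a
    rw [← not_iff_not]
    simp only [P, not_or, not_not]
    constructor
    · rintro ⟨h1, h2⟩
      have h3 := Y.injective h2
      rw [h3] at h1
      exact ⟨h1, h3⟩
    · rintro ⟨h1, h2⟩
      rw [h2]
      exact ⟨h1, h2⟩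
  set x' : Perm {a // P a} := Perm.subtypePerm X hPX with hx'
  set y' : Perm {a // P a} := Perm.subtypePerm Y hPY with hy'
  have hofx : Perm.ofSubtype x' = X := Perm.ofSubtype_subtypePerm hPX (fun a ha => Or.inl ha)
  have hofy : Perm.ofSubtype y' = Y := Perm.ofSubtype_subtypePerm hPY (fun a ha => Or.inr ha)
  have hψ : Function.Injective (Perm.ofSubtype : Perm {a // P a} →* Perm (Fin m)) := Perm.ofSubtype_injective
  have hox : orderOf x' = p := by
    rw [← hx, ← Subgroup.orderOf_coe x, ← hX, ← hofx]
    exact (orderOf_injective _ hψ x').symm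
  have hoy : orderOf y' = q := by
    rw [← hy, ← Subgroup.orderOf_coe y, ← hY, ← hofy]
    exact (orderOf_injective _ hψ y').symm
  have hxA : x' ∈ alternatingGroup {a // P a} := by
    rw [Perm.mem_alternatingGroup, ← Perm.sign_ofSubtype, hofx]
    exact Perm.mem_alternatingGroup.1 x.2
  have hyA : y' ∈ alternatingGroup {a // P a} := by
    rw [Perm.mem_alternatingGroup, ← Perm.sign_ofSubtype, hofy]
    exact Perm.mem_alternatingGroup.1 y.2
  have hcov : ∀ a : {a // P a}, x' a ≠ a ∨ y' a ≠ a := by
    intro a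
    rcases a.2 with h | h
    · left
      intro h'
      exact h (congrArg Subtype.val h')
    · right
      intro h'
      exact h (congrArg Subtype.val h')
  have hcm : Fintype.card {a // P a} ≤ m := by
    have := Fintype.card_subtype_le P
    rwa [Fintype.card_fin] at this
  have hyc : y'.IsCycle := Perm.isCycle_of_prime_order' (by rw [hoy]; exact hq) (by rw [hoy]; omega)
  have hqc : q ≤ Fintype.card {a // P a} := by
    have hys : y'.support.card = q := by rw [← hyc.orderOf, hoy]
    rw [← hys]; exact Finset.card_le_univ _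
  obtain ⟨d, hd, ⟨e⟩⟩ := core hp hq hox hoy hxA hyA hcov hpq (hcm.trans hle) (hcase _ hqc hcm)
  refine ⟨d, hd, ⟨?_⟩⟩
  have hm1 : (Subgroup.closure ({x, y} : Set (alternatingGroup (Fin m)))).map (alternatingGroup (Fin m)).subtype =
      Subgroup.closure {X, Y} := by
    rw [MonoidHom.map_closure, Set.image_pair]
    rfl
  have hm2 : (Subgroup.closure ({x', y'} : Set (Perm {a // P a}))).map Perm.ofSubtype =
      Subgroup.closure {X, Y} := by
    rw [MonoidHom.map_closure, Set.image_pair, hofx, hofy]
  have e1 : Subgroup.closure ({x, y} : Set (alternatingGroup (Fin m))) ≃*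
      (Subgroup.closure ({x, y} : Set (alternatingGroup (Fin m)))).map (alternatingGroup (Fin m)).subtype :=
    Subgroup.equivMapOfInjective _ _ (Subgroup.subtype_injective _)
  have e2 : Subgroup.closure ({x', y'} : Set (Perm {a // P a})) ≃*
      (Subgroup.closure ({x', y'} : Set (Perm {a // P a}))).map Perm.ofSubtype :=
    Subgroup.equivMapOfInjective _ _ hψ
  exact e1.trans ((MulEquiv.subgroupCongr (hm1.trans hm2.symm)).trans (e2.symm.trans e))

/-- Let m ≥ 5. Then there are primes p < q with m/2 ≤ p and q ≤ m such that any two elements x, y of the alternating group of degree m with x of order p and y of order q generate a subgroup isomorphic to an alternating group of some degree d ≥ 5. -/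
theorem result (m : ℕ) (hm : 5 ≤ m) :
    ∃ p q : ℕ, p.Prime ∧ q.Prime ∧ m ≤ 2 * p ∧ p < q ∧ q ≤ m ∧
      ∀ x y : alternatingGroup (Fin m), orderOf x = p → orderOf y = q →
        ∃ d : ℕ, 5 ≤ d ∧ Nonempty (Subgroup.closure ({x, y} : Set (alternatingGroup (Fin m))) ≃* alternatingGroup (Fin d)) := by
  rcases lt_or_ge m 7 with h | h7
  · refine ⟨3, 5, by norm_num, by norm_num, by omega, by omega, by omega, fun x y hx hy => ?_⟩
    exact main (by norm_num) (by norm_num) (by norm_num) (by omega) (by intro c _ _; omega) x y hx hy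
  rcases lt_or_ge m 11 with h | h11
  · refine ⟨5, 7, by norm_num, by norm_num, by omega, by omega, by omega, fun x y hx hy => ?_⟩
    exact main (by norm_num) (by norm_num) (by norm_num) (by omega) (by intro c _ _; omega) x y hx hy
  rcases lt_or_ge m 15 with h | h15
  · refine ⟨7, 11, by norm_num, by norm_num, by omega, by omega, by omega, fun x y hx hy => ?_⟩
    exact main (by norm_num) (by norm_num) (by norm_num) (by omega) (by intro c _ _; omega) x y hx hy
  rcases lt_or_ge m 17 with h | h17
  · refine ⟨11, 13, by norm_num, by norm_num, by omega, by omega, by omega, fun x y hx hy => ?_⟩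
    exact main (by norm_num) (by norm_num) (by norm_num) (by omega) (by intro c _ _; omega) x y hx hy
  · obtain ⟨p, q, hp, hq, h1, h2, h3⟩ := ManyPrimes.exists_two_primes h17
    refine ⟨p, q, hp, hq, by omega, by omega, by omega, fun x y hx hy => ?_⟩
    exact main hp hq (by omega) (by omega) (by intro c _ _; omega) x y hx hy

end Cfsg.Agent.S4150
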