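import Cfsg.Statements.S4106
import Mathlib

set_option autoImplicit false
open Cfsg

namespace Cfsg.Agent.S4106

universe u

/-- splitting an element into its `p`-part and `p'`-part -/
theorem split {G : Type u} [Group G] [Finite G] (p : ℕ) (hp : p.Prime) (g : G) :
    ∃ x y : G, x * y = g ∧ Commute x y ∧ (∃ k : ℕ, orderOf x ∣ p ^ k) ∧ ¬ p ∣ orderOf y ∧
      orderOf x ∣ orderOf g ∧ orderOf y ∣ orderOf g := by
  have hn : orderOf g ≠ 0 := (orderOf_pos g).ne'
  obtain ⟨a, b, hpb, hab⟩ := Nat.exists_eq_pow_mul_and_not_dvd hn p hp.ne_one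
  have hcop : Nat.Coprime (p ^ a) b := ((Nat.Prime.coprime_iff_not_dvd hp).2 hpb).pow_left a
  have hbez : (1 : ℤ) = (p ^ a : ℕ) * Nat.gcdA (p ^ a) b + b * Nat.gcdB (p ^ a) b := by
    have := Nat.gcd_eq_gcd_ab (p ^ a) b
    rw [hcop] at this
    exact_mod_cast this
  refine ⟨g ^ ((b : ℤ) * Nat.gcdB (p ^ a) b), g ^ (((p ^ a : ℕ) : ℤ) * Nat.gcdA (p ^ a) b), ?_, ?_, ⟨a, ?_⟩, ?_, ?_, ?_⟩
  · rw [← zpow_add, add_comm, ← hbez, zpow_one]
  · exact (Commute.refl g).zpow_zpow _ _
  · apply orderOf_dvd_of_pow_eq_one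
    rw [← zpow_natCast, ← zpow_mul]
    have : ((b : ℤ) * Nat.gcdB (p ^ a) b) * ((p ^ a : ℕ) : ℤ) = ((orderOf g : ℕ) : ℤ) * Nat.gcdB (p ^ a) b := by
      rw [hab]; push_cast; ring
    rw [this, zpow_mul, zpow_natCast, pow_orderOf_eq_one, one_zpow]
  · intro h
    apply hpb
    refine h.trans ?_
    apply orderOf_dvd_of_pow_eq_one
    rw [← zpow_natCast, ← zpow_mul]
    have : (((p ^ a : ℕ) : ℤ) * Nat.gcdA (p ^ a) b) * (b : ℤ) = ((orderOf g : ℕ) : ℤ) * Nat.gcdA (p ^ a) b := by
      rw [hab]; push_cast; ring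
    rw [this, zpow_mul, zpow_natCast, pow_orderOf_eq_one, one_zpow]
  · exact orderOf_dvd_of_mem_zpowers (Subgroup.mem_zpowers_iff.2 ⟨_, rfl⟩)
  · exact orderOf_dvd_of_mem_zpowers (Subgroup.mem_zpowers_iff.2 ⟨_, rfl⟩)

theorem key (s : Finset ℕ) : (∀ q ∈ s, q.Prime) → ∀ (G : Type u) [Group G] [Finite G],
    Nat.card {C : ConjClasses G // ∃ g : G, ConjClasses.mk g = C ∧
      ∀ q : ℕ, q.Prime → q ∣ orderOf g → q ∈ s} ≤ ∏ q ∈ s, q ^ (Nat.card G).factorization q := by
  induction s using Finset.induction_on with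
  | empty =>
    intro _ G _ _
    have : Subsingleton {C : ConjClasses G // ∃ g : G, ConjClasses.mk g = C ∧
      ∀ q : ℕ, q.Prime → q ∣ orderOf g → q ∈ (∅ : Finset ℕ)} := by
      constructor
      rintro ⟨_, g, rfl, hg⟩ ⟨_, h, rfl, hh⟩
      have h1 : ∀ g : G, (∀ q : ℕ, q.Prime → q ∣ orderOf g → q ∈ (∅ : Finset ℕ)) → g = 1 := by
        intro g hg
        by_contra hne
        have : orderOf g ≠ 1 := fun h => hne (orderOf_eq_one_iff.1 h)
        obtain ⟨q, hq, hqd⟩ := Nat.exists_prime_and_dvd this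
        exact absurd (hg q hq hqd) (Finset.notMem_empty q)
      rw [Subtype.mk.injEq, h1 g hg, h1 h hh]
    simpa using Finite.card_le_one_iff_subsingleton.2 this
  | insert p s hps ih =>
    intro hprime G _ _
    have hp : p.Prime := hprime p (Finset.mem_insert_self _ _)
    haveI : Fact p.Prime := ⟨hp⟩
    have ih' := ih (fun q hq => hprime q (Finset.mem_insert_of_mem hq))
    obtain ⟨P⟩ : Nonempty (Sylow p G) := inferInstance
    let T : (x : P) → Type u := fun x => {C : ConjClasses (Subgroup.centralizer ({(x : G)} : Set G)) //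
      ∃ g : (Subgroup.centralizer ({(x : G)} : Set G)), ConjClasses.mk g = C ∧
      ∀ q : ℕ, q.Prime → q ∣ orderOf g → q ∈ s}
    let A : Type u := {C : ConjClasses G // ∃ g : G, ConjClasses.mk g = C ∧
      ∀ q : ℕ, q.Prime → q ∣ orderOf g → q ∈ insert p s}
    have hmap : ∀ z : (Σ x : P, T x), ∃ C : A, ∀ g : (Subgroup.centralizer ({((z.1 : P) : G)} : Set G)),
        ConjClasses.mk g = z.2.1 → C.1 = ConjClasses.mk (((z.1 : P) : G) * (g : G)) := by
      rintro ⟨x, ⟨C, g, hgC, hg⟩⟩
      have hcomm : Commute (x : G) (g : G) := by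
        have := g.2
        rw [Subgroup.mem_centralizer_singleton_iff] at this
        exact this.symm
      refine ⟨⟨ConjClasses.mk ((x : G) * (g : G)), (x : G) * (g : G), rfl, ?_⟩, ?_⟩
      · intro q hq hqd
        have h1 : q ∣ orderOf (x : G) * orderOf (g : G) := hqd.trans (hcomm.orderOf_mul_dvd_mul_orderOf)
        rcases (Nat.Prime.dvd_mul hq).1 h1 with h | h
        · obtain ⟨k, hk⟩ := (IsPGroup.iff_orderOf.1 P.isPGroup') x
          rw [← Subgroup.orderOf_coe] at hk
          rw [hk] at h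
          rw [(Nat.prime_dvd_prime_iff_eq hq hp).1 (hq.dvd_of_dvd_pow h)]
          exact Finset.mem_insert_self _ _
        · rw [Subgroup.orderOf_coe] at h
          exact Finset.mem_insert_of_mem (hg q hq h)
      · intro g' hg'
        simp only at hg'
        have : ConjClasses.mk g' = ConjClasses.mk g := hg'.trans hgC.symm
        rw [ConjClasses.mk_eq_mk_iff_isConj, isConj_iff] at this
        obtain ⟨c, hc⟩ := this
        simp only
        rw [ConjClasses.mk_eq_mk_iff_isConj, isConj_iff]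
        refine ⟨(c : G)⁻¹, ?_⟩
        have hcx : (c : G) * x = x * c := by
          have := c.2
          rw [Subgroup.mem_centralizer_singleton_iff] at this
          exact this
        have hc' : (c : G) * g' * (c : G)⁻¹ = g := by
          have := congrArg Subtype.val hc
          simpa using this
        rw [← hc']
        calc (c : G)⁻¹ * (x * (c * g' * (c : G)⁻¹)) * (c : G)⁻¹⁻¹ = (c : G)⁻¹ * (x * c) * g' := by group
          _ = (c : G)⁻¹ * (c * x) * g' := by rw [hcx]
          _ = x * g' := by group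
    choose f hf using hmap
    have hsurj : Function.Surjective f := by
      rintro ⟨_, g, rfl, hg⟩
      obtain ⟨x, y, hxy, hcomm, ⟨k, hk⟩, hy, hxg, hyg⟩ := split p hp g
      -- x conj into P
      have hxp : IsPGroup p (Subgroup.zpowers x) := by
        rw [IsPGroup.iff_card]
        rw [Nat.card_zpowers]
        obtain ⟨j, _, hj⟩ := (Nat.dvd_prime_pow hp).1 hk
        exact ⟨j, hj⟩
      obtain ⟨Q, hQ⟩ := hxp.exists_le_sylow
      obtain ⟨c, hc⟩ := MulAction.exists_smul_eq G Q P
      have hxc : c * x * c⁻¹ ∈ P := by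
        rw [← hc]
        have : x ∈ Q := hQ (Subgroup.mem_zpowers x)
        exact Subgroup.smul_mem_pointwise_smul x (MulAut.conj c) (Q : Subgroup G) this
      have hyc : c * y * c⁻¹ ∈ Subgroup.centralizer ({c * x * c⁻¹} : Set G) := by
        rw [Subgroup.mem_centralizer_singleton_iff]
        have := hcomm.eq
        calc c * y * c⁻¹ * (c * x * c⁻¹) = c * (y * x) * c⁻¹ := by group
          _ = c * (x * y) * c⁻¹ := by rw [this]
          _ = c * x * c⁻¹ * (c * y * c⁻¹) := by group
      have hcy : ∀ q : ℕ, q.Prime → q ∣ orderOf (⟨c * y * c⁻¹, hyc⟩ : Subgroup.centralizer ({c * x * c⁻¹} : Set G)) → q ∈ s := by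
        intro q hq hqd
        rw [← Subgroup.orderOf_coe] at hqd
        have ho : orderOf (c * y * c⁻¹) = orderOf y := by
          have := MulAut.conj_apply c y
          rw [← this]
          exact orderOf_injective (MulAut.conj c).toMonoidHom (MulAut.conj c).injective y
        simp only at hqd
        rw [ho] at hqd
        have := hg q hq (hqd.trans hyg)
        rcases Finset.mem_insert.1 this with h | h
        · exact absurd (h ▸ hqd) hy
        · exact h
      let z : (Σ x : P, T x) := ⟨⟨c * x * c⁻¹, hxc⟩, ⟨ConjClasses.mk ⟨c * y * c⁻¹, hyc⟩, ⟨c * y * c⁻¹, hyc⟩, rfl, hcy⟩⟩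
      refine ⟨z, ?_⟩
      apply Subtype.ext
      rw [hf z ⟨c * y * c⁻¹, hyc⟩ rfl]
      show ConjClasses.mk (c * x * c⁻¹ * (c * y * c⁻¹)) = ConjClasses.mk g
      rw [ConjClasses.mk_eq_mk_iff_isConj, isConj_iff]
      refine ⟨c⁻¹, ?_⟩
      rw [← hxy]
      group
    calc Nat.card A ≤ Nat.card (Σ x : P, T x) := Nat.card_le_card_of_surjective f hsurj
      _ = ∑ᶠ x : P, Nat.card (T x) := by
          haveI : Fintype P := Fintype.ofFinite P
          rw [Nat.card_sigma, finsum_eq_sum_of_fintype]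
      _ ≤ ∑ᶠ x : P, ∏ q ∈ s, q ^ (Nat.card G).factorization q := by
          haveI : Fintype P := Fintype.ofFinite P
          rw [finsum_eq_sum_of_fintype, finsum_eq_sum_of_fintype]
          apply Finset.sum_le_sum
          intro x _
          refine (ih' (Subgroup.centralizer ({(x : G)} : Set G))).trans ?_
          apply Finset.prod_le_prod'
          intro q hq
          have hqp : q.Prime := hprime q (Finset.mem_insert_of_mem hq)
          apply Nat.pow_le_pow_right hqp.pos
          exact (Nat.factorization_le_iff_dvd Nat.card_pos.ne' Nat.card_pos.ne').2 (Subgroup.card_subgroup_dvd_card _) q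
      _ = Nat.card P * ∏ q ∈ s, q ^ (Nat.card G).factorization q := by
          haveI : Fintype P := Fintype.ofFinite P
          rw [finsum_eq_sum_of_fintype, Finset.sum_const, smul_eq_mul, Finset.card_univ]
          congr 1
          exact Nat.card_eq_fintype_card.symm
      _ = ∏ q ∈ insert p s, q ^ (Nat.card G).factorization q := by
          rw [Finset.prod_insert hps, Sylow.card_eq_multiplicity]

/-- Let G be a finite group, π a set of primes and m the π-part of the order of G. Then the number of conjugacy classes of G consisting of π-elements (elements whose order is divisible only by primes in π) is at most m. -/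
theorem result {G : Type*} [Group G] [Finite G]
    (π : Set ℕ) (hπ : ∀ q ∈ π, q.Prime)
    (m : ℕ) (hm : m ∣ Nat.card G) (hmπ : ∀ q : ℕ, q.Prime → q ∣ m → q ∈ π)
    (hm' : ∀ q ∈ π, ¬ q ∣ Nat.card G / m) :
    Nat.card {C : ConjClasses G // ∀ q : ℕ, q.Prime → (∃ g : G, ConjClasses.mk g = C ∧ q ∣ orderOf g) → q ∈ π} ≤ m := by
  classical
  have hG : Nat.card G ≠ 0 := Nat.card_pos.ne'
  have hm0 : m ≠ 0 := fun h => by rw [h, zero_dvd_iff] at hm; exact hG hm
  have hs : ∀ q ∈ m.primeFactors, q.Prime := fun q hq => Nat.prime_of_mem_primeFactors hq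
  have hk := key m.primeFactors hs G
  have hprod : ∏ q ∈ m.primeFactors, q ^ (Nat.card G).factorization q = m := by
    have h1 : ∏ q ∈ m.primeFactors, q ^ (Nat.card G).factorization q =
        ∏ q ∈ m.primeFactors, q ^ m.factorization q := by
      apply Finset.prod_congr rfl
      intro q hq
      have hqp := hs q hq
      have hqm : q ∣ m := Nat.dvd_of_mem_primeFactors hq
      obtain ⟨c, hc⟩ := hm
      have hc0 : c ≠ 0 := fun h => hG (by rw [hc, h, mul_zero])
      have hqc : ¬ q ∣ c := by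
        have := hm' q (hmπ q hqp hqm)
        rwa [hc, Nat.mul_div_cancel_left _ (Nat.pos_of_ne_zero hm0)] at this
      rw [hc, Nat.factorization_mul hm0 hc0, Finsupp.add_apply, Nat.factorization_eq_zero_of_not_dvd hqc, add_zero]
    rw [h1]
    exact Nat.prod_factorization_pow_eq_self hm0
  rw [hprod] at hk
  refine le_trans ?_ hk
  have hin : ∀ C : {C : ConjClasses G // ∀ q : ℕ, q.Prime → (∃ g : G, ConjClasses.mk g = C ∧ q ∣ orderOf g) → q ∈ π},
      ∃ g : G, ConjClasses.mk g = C.1 ∧ ∀ q : ℕ, q.Prime → q ∣ orderOf g → q ∈ m.primeFactors := by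
    rintro ⟨C, hC⟩
    obtain ⟨g, rfl⟩ := ConjClasses.exists_rep C
    refine ⟨g, rfl, ?_⟩
    intro q hq hqd
    have hqπ := hC q hq ⟨g, rfl, hqd⟩
    rw [Nat.mem_primeFactors]
    refine ⟨hq, ?_, hm0⟩
    by_contra hqm
    have hqG : q ∣ Nat.card G := hqd.trans (orderOf_dvd_natCard g)
    apply hm' q hqπ
    have h2 : m * (Nat.card G / m) = Nat.card G := Nat.mul_div_cancel' hm
    rw [← h2] at hqG
    exact (hq.dvd_mul.1 hqG).resolve_left hqm
  refine Nat.card_le_card_of_injective (fun C => (⟨C.1, hin C⟩ : {C : ConjClasses G // ∃ g : G, ConjClasses.mk g = C ∧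
      ∀ q : ℕ, q.Prime → q ∣ orderOf g → q ∈ m.primeFactors})) ?_
  intro C D h
  rw [Subtype.mk.injEq] at h
  exact Subtype.ext h

end Cfsg.Agent.S4106
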