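import Cfsg.Statements.S4142

set_option autoImplicit false
open Cfsg

namespace Cfsg.Agent.S4142

/-- Counting the elements of `N` which occur as commutators with `g`. -/
theorem key {G : Type*} [Group G] [Finite G] (N : Subgroup G) [N.Normal] (g : G) :
    Nat.card {n : N // ∃ x : G, x * g * x⁻¹ = g * n} *
        Nat.card (Subgroup.centralizer ({g} : Set G)) =
      Nat.card N * Nat.card (Subgroup.centralizer ({(QuotientGroup.mk g : G ⧸ N)} : Set (G ⧸ N))) := by
  classical
  set C := Subgroup.centralizer ({g} : Set G) with hC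
  set C' := Subgroup.centralizer ({(QuotientGroup.mk g : G ⧸ N)} : Set (G ⧸ N)) with hC'
  set D : Subgroup G := C'.comap (QuotientGroup.mk' N) with hD
  have hmemD : ∀ x : G, x ∈ D ↔ g⁻¹ * (x * g * x⁻¹) ∈ N := by
    intro x
    rw [hD, Subgroup.mem_comap, hC', Subgroup.mem_centralizer_singleton_iff, ← QuotientGroup.eq]
    constructor
    · intro h
      have h1 : (QuotientGroup.mk (x * g * x⁻¹) : G ⧸ N) = QuotientGroup.mk g := by
        have : (QuotientGroup.mk' N x) * (QuotientGroup.mk g : G ⧸ N) * (QuotientGroup.mk' N x)⁻¹ =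
            QuotientGroup.mk g := by
          rw [h]; group
        simpa using this
      exact h1.symm
    · intro h
      have h1 : (QuotientGroup.mk' N x) * (QuotientGroup.mk g : G ⧸ N) * (QuotientGroup.mk' N x)⁻¹ =
            QuotientGroup.mk g := by
        simpa using h.symm
      exact mul_inv_eq_iff_eq_mul.mp h1
  have hCD : C ≤ D := by
    intro x hx
    rw [hmemD]
    rw [hC, Subgroup.mem_centralizer_singleton_iff] at hx
    rw [hx]
    simpa using N.one_mem
  -- the coset space
  let f : D ⧸ C.subgroupOf D → {n : N // ∃ x : G, x * g * x⁻¹ = g * n} :=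
    Quotient.lift (fun d : D => (⟨⟨g⁻¹ * ((d : G) * g * (d : G)⁻¹), (hmemD d).mp d.2⟩,
      (d : G), by simp [mul_assoc]⟩ : {n : N // ∃ x : G, x * g * x⁻¹ = g * n})) (by
      intro a b hab
      have hab' : a⁻¹ * b ∈ C.subgroupOf D := QuotientGroup.leftRel_apply.mp hab
      rw [Subgroup.mem_subgroupOf, hC, Subgroup.mem_centralizer_singleton_iff] at hab'
      apply Subtype.ext
      apply Subtype.ext
      simp only [mul_right_inj]
      have h2 : (a : G)⁻¹ * b * g = g * ((a : G)⁻¹ * b) := by simpa using hab'
      have h3 : (b : G) * g = a * (g * ((a : G)⁻¹ * b)) := by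
        rw [← h2]; group
      rw [h3]; group)
  have hf : Function.Bijective f := by
    constructor
    · intro a b
      induction a using QuotientGroup.induction_on with | _ a => ?_
      induction b using QuotientGroup.induction_on with | _ b => ?_
      intro hab
      have h1 : g⁻¹ * ((a : G) * g * (a : G)⁻¹) = g⁻¹ * ((b : G) * g * (b : G)⁻¹) := by
        have := congrArg (fun z : {n : N // ∃ x : G, x * g * x⁻¹ = g * n} => ((z : N) : G)) hab
        exact this
      rw [mul_right_inj] at h1
      rw [QuotientGroup.eq, Subgroup.mem_subgroupOf, hC, Subgroup.mem_centralizer_singleton_iff]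
      have h2 : (b : G) * g = a * g * (a : G)⁻¹ * b := by rw [h1]; group
      simp only [Subgroup.coe_mul, Subgroup.coe_inv]
      rw [mul_assoc, h2]; group
    · rintro ⟨⟨n, hn⟩, x, hx⟩
      simp only at hx
      have hxD : x ∈ D := by rw [hmemD, hx]; simpa using hn
      refine ⟨QuotientGroup.mk ⟨x, hxD⟩, ?_⟩
      apply Subtype.ext
      apply Subtype.ext
      show g⁻¹ * (x * g * x⁻¹) = n
      rw [hx]; group
  have h1 : Nat.card {n : N // ∃ x : G, x * g * x⁻¹ = g * n} = (C.subgroupOf D).index :=
    (Nat.card_congr (Equiv.ofBijective f hf)).symm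
  have h2 : (C.subgroupOf D).index * Nat.card C = Nat.card D := by
    have := (C.subgroupOf D).card_mul_index
    rw [mul_comm, ← this, Nat.card_congr (Subgroup.subgroupOfEquivOfLe hCD).toEquiv]
  rw [h1, h2]
  have h3 : Nat.card D * D.index = Nat.card G := D.card_mul_index
  have h4 : D.index = C'.index := by
    rw [hD]
    exact Subgroup.index_comap_of_surjective _ (QuotientGroup.mk'_surjective N)
  have h5 : Nat.card C' * C'.index = Nat.card (G ⧸ N) := C'.card_mul_index
  have h6 : Nat.card G = Nat.card (G ⧸ N) * Nat.card N := Subgroup.card_eq_card_quotient_mul_card_subgroup N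
  have h7 : D.index ≠ 0 := Subgroup.index_ne_zero_of_finite
  apply Nat.eq_of_mul_eq_mul_right (Nat.pos_of_ne_zero h7)
  rw [h3, h6, ← h5, h4]; ring

/-- Let G be a finite group and N a normal subgroup. Then the conjugacy class of every element g outside N is a union of cosets of N (gn is conjugate to g for all n ∈ N) if and only if for every g outside N the centralizer of g in G has the same order as the centralizer of gN in G/N. -/
theorem result {G : Type*} [Group G] [Finite G] (N : Subgroup G) [N.Normal] :
    (∀ g : G, g ∉ N → ∀ n ∈ N, ∃ x : G, x * g * x⁻¹ = g * n) ↔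
      ∀ g : G, g ∉ N → Nat.card (Subgroup.centralizer ({g} : Set G)) =
        Nat.card (Subgroup.centralizer ({(QuotientGroup.mk g : G ⧸ N)} : Set (G ⧸ N))) := by
  have hN : 0 < Nat.card N := Nat.card_pos
  constructor
  · intro h g hg
    have hk := key N g
    have h1 : Nat.card {n : N // ∃ x : G, x * g * x⁻¹ = g * n} = Nat.card N :=
      Nat.card_congr (Equiv.subtypeUnivEquiv fun n => h g hg n n.2)
    rw [h1] at hk
    exact Nat.eq_of_mul_eq_mul_left hN hk
  · intro h g hg n hn
    have hk := key N g
    rw [h g hg] at hk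
    have h1 : Nat.card {n : N // ∃ x : G, x * g * x⁻¹ = g * n} = Nat.card N :=
      Nat.eq_of_mul_eq_mul_right Nat.card_pos hk
    by_contra hcon
    have h2 : Function.Surjective (Subtype.val : {n : N // ∃ x : G, x * g * x⁻¹ = g * n} → N) := by
      have := (Nat.bijective_iff_injective_and_card
        (Subtype.val : {n : N // ∃ x : G, x * g * x⁻¹ = g * n} → N)).mpr
        ⟨Subtype.val_injective, h1⟩
      exact this.2
    obtain ⟨⟨m, hm⟩, hmn⟩ := h2 ⟨n, hn⟩
    apply hcon
    simp only at hmn
    rw [hmn] at hm
    exact hm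

end Cfsg.Agent.S4142
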