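import Cfsg.Statements.S4218
import Cfsg.Agent.Lib.PSolvable
import Cfsg.Agent.Lib.Cores
import Cfsg.Agent.PLocal.PSolvable
import Cfsg.Agent.H940.FrattiniAut

set_option autoImplicit false
open Cfsg

namespace Cfsg.Agent.S4218

/-- The automorphisms acting trivially on the Frattini quotient. -/
def trivFrat (Q : Type*) [Group Q] : Subgroup (MulAut Q) where
  carrier := {α | ∀ x : Q, α x * x⁻¹ ∈ frattini Q}
  mul_mem' := by
    intro α β ha hb x
    have h := (frattini Q).mul_mem (ha (β x)) (hb x)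
    simpa [mul_assoc] using h
  one_mem' := by
    intro x
    simp
  inv_mem' := by
    intro α ha x
    have h := (frattini Q).inv_mem (ha (α⁻¹ x))
    simpa using h

theorem mem_trivFrat {Q : Type*} [Group Q] (α : MulAut Q) :
    α ∈ trivFrat Q ↔ ∀ x : Q, α x * x⁻¹ ∈ frattini Q := Iff.rfl

theorem apply_mem_frattini {Q : Type*} [Group Q] (γ : MulAut Q) {x : Q} (hx : x ∈ frattini Q) :
    γ x ∈ frattini Q := by
  have h : (frattini Q).comap γ.toMonoidHom = frattini Q :=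
    (inferInstance : (frattini Q).Characteristic).fixed γ
  rw [← h] at hx
  exact hx

theorem trivFrat_normal (Q : Type*) [Group Q] : (trivFrat Q).Normal := by
  constructor
  intro α ha γ x
  have h := apply_mem_frattini γ (ha (γ⁻¹ x))
  simpa using h

theorem trivFrat_isPGroup {Q : Type*} [Group Q] [Finite Q] {p : ℕ} [Fact p.Prime]
    (hQ : IsPGroup p Q) : IsPGroup p (trivFrat Q) := by
  obtain ⟨n, hn⟩ := IsPGroup.iff_card.1 hQ
  have h1 : (frattini Q).index ∣ p ^ n := by rw [← hn]; exact Subgroup.index_dvd_card _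
  obtain ⟨r, hr, hr'⟩ := (Nat.dvd_prime_pow Fact.out).1 h1
  have h2 := Cfsg.Agent.H940.card_trivial_on_frattini_dvd hn hr' (trivFrat Q) (fun α ha => ha)
  obtain ⟨k, hk, hk'⟩ := (Nat.dvd_prime_pow Fact.out).1 h2
  exact IsPGroup.of_card hk'

theorem core {H : Type*} [Group H] [Finite H] {p : ℕ} [Fact p.Prime]
    (hC : Subgroup.centralizer (Cfsg.pCore p H : Set H) ≤ Cfsg.pCore p H) (h : H) :
    (∀ y : Cfsg.pCore p H, ∃ z ∈ frattini (Cfsg.pCore p H), h * y * h⁻¹ * (y : H)⁻¹ = z) ↔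
      h ∈ Cfsg.pCore p H := by
  have hn : (Cfsg.pCore p H).Normal := inferInstance
  have hQ : IsPGroup p (Cfsg.pCore p H) := Cfsg.Agent.Lib.Cores.pCore_isPGroup p
  let f : H →* MulAut (Cfsg.pCore p H) := MulAut.conjNormal
  have hK : IsPGroup p ((trivFrat (Cfsg.pCore p H)).comap f) := by
    refine (trivFrat_isPGroup hQ).comap_of_ker_isPGroup f ?_
    refine hQ.to_le (le_trans ?_ hC)
    intro x hx
    rw [Subgroup.mem_centralizer_iff]
    intro y hy
    have h1 : f x ⟨y, hy⟩ = ⟨y, hy⟩ := by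
      rw [MonoidHom.mem_ker.1 hx]; rfl
    have h2 : x * y * x⁻¹ = y := congrArg Subtype.val h1
    rw [mul_inv_eq_iff_eq_mul] at h2
    exact h2.symm
  have hKn : ((trivFrat (Cfsg.pCore p H)).comap f).Normal := by
    have := trivFrat_normal (Cfsg.pCore p H)
    exact Subgroup.Normal.comap this f
  have hle : (trivFrat (Cfsg.pCore p H)).comap f ≤ Cfsg.pCore p H := le_sSup ⟨hKn, hK⟩
  constructor
  · intro hy
    apply hle
    rw [Subgroup.mem_comap, mem_trivFrat]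
    intro y
    obtain ⟨z, hz, hz'⟩ := hy y
    have h3 : f h y * y⁻¹ = z := Subtype.ext hz'
    rw [h3]; exact hz
  · intro hh y
    refine ⟨⟨h, hh⟩ * y * ⟨h, hh⟩⁻¹ * y⁻¹, ?_, rfl⟩
    exact Cfsg.Agent.S0014.commutator_mem_frattini hQ _ _

theorem frattini_equiv {A B : Type*} [Group A] [Group B] (e : A ≃* B) (x : A) :
    e x ∈ frattini B ↔ x ∈ frattini A := by
  constructor
  · intro h
    have h1 := frattini_le_comap_frattini_of_surjective (φ := e.symm.toMonoidHom) e.symm.surjective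
    have h2 := h1 h
    rw [Subgroup.mem_comap] at h2
    simpa using h2
  · intro h
    exact frattini_le_comap_frattini_of_surjective (φ := e.toMonoidHom) e.surjective h

/-- Let `G` be a finite `p`-solvable group, `N₀ = O_{p'}(G)`, `P₁ = O_{p',p}(G)`, and let `F ≤ P₁` be the preimage of the Frattini subgroup of `P₁/N₀`. Then an element `g` of `G` induces the identity on `P₁/F` by conjugation (that is, `g x g⁻¹ x⁻¹ ∈ F` for all `x ∈ P₁`) if and only if `g ∈ P₁`: the group `G/P₁` acts faithfully on `P₁/F`. -/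
theorem result {G : Type*} [Group G] [Finite G] {p : ℕ} [Fact p.Prime] (hG : Cfsg.IsPSolvable p G) (g : G) : (∀ x ∈ Cfsg.pPrimePCore p G, g * x * g⁻¹ * x⁻¹ ∈ ((frattini (↥(Cfsg.pPrimePCore p G) ⧸ (Cfsg.pPrimeCore p G).subgroupOf (Cfsg.pPrimePCore p G))).comap (QuotientGroup.mk' ((Cfsg.pPrimeCore p G).subgroupOf (Cfsg.pPrimePCore p G)))).map (Cfsg.pPrimePCore p G).subtype) ↔ g ∈ Cfsg.pPrimePCore p G := by
  have hQp : IsPGroup p (Cfsg.pCore p (G ⧸ Cfsg.pPrimeCore p G)) := Cfsg.Agent.Lib.Cores.pCore_isPGroup p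
  have hC : Subgroup.centralizer (Cfsg.pCore p (G ⧸ Cfsg.pPrimeCore p G) : Set (G ⧸ Cfsg.pPrimeCore p G))
      ≤ Cfsg.pCore p (G ⧸ Cfsg.pPrimeCore p G) := by
    apply Cfsg.Agent.Lib.PSolvable.centralizer_pCore_le_of_pSolvable
    · exact Cfsg.Agent.PLocal.PSolvable.isPSolvable_quotient hG _
    · exact Cfsg.Agent.Lib.Cores.pPrimeCore_quotient_pPrimeCore p
  let ψ : ↥(Cfsg.pPrimePCore p G) →* ↥(Cfsg.pCore p (G ⧸ Cfsg.pPrimeCore p G)) :=
    ((QuotientGroup.mk' (Cfsg.pPrimeCore p G)).comp (Cfsg.pPrimePCore p G).subtype).codRestrict _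
      (fun x => x.2)
  have hψs : Function.Surjective ψ := by
    rintro ⟨y, hy⟩
    obtain ⟨x, rfl⟩ := QuotientGroup.mk'_surjective (Cfsg.pPrimeCore p G) y
    exact ⟨⟨x, hy⟩, rfl⟩
  have hψk : ψ.ker = (Cfsg.pPrimeCore p G).subgroupOf (Cfsg.pPrimePCore p G) := by
    ext x
    rw [MonoidHom.mem_ker, Subgroup.mem_subgroupOf, Subtype.ext_iff]
    exact QuotientGroup.eq_one_iff (x : G)
  let e : (↥(Cfsg.pPrimePCore p G) ⧸ (Cfsg.pPrimeCore p G).subgroupOf (Cfsg.pPrimePCore p G)) ≃*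
      ↥(Cfsg.pCore p (G ⧸ Cfsg.pPrimeCore p G)) :=
    (QuotientGroup.quotientMulEquivOfEq hψk.symm).trans
      (QuotientGroup.quotientKerEquivOfSurjective ψ hψs)
  have he : ∀ x : ↥(Cfsg.pPrimePCore p G), e (QuotientGroup.mk' _ x) = ψ x := fun x => rfl
  have hmem : g ∈ Cfsg.pPrimePCore p G ↔
      (QuotientGroup.mk' (Cfsg.pPrimeCore p G) g) ∈ Cfsg.pCore p (G ⧸ Cfsg.pPrimeCore p G) := Iff.rfl
  rw [hmem, ← core hC]
  constructor
  · rintro h ⟨y, hy⟩
    obtain ⟨x, rfl⟩ := QuotientGroup.mk'_surjective (Cfsg.pPrimeCore p G) y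
    obtain ⟨w, hw, hw'⟩ := h x hy
    refine ⟨ψ w, ?_, ?_⟩
    · rw [← he, frattini_equiv]
      exact hw
    · show _ = QuotientGroup.mk' (Cfsg.pPrimeCore p G) (w : G)
      have : (w : G) = g * x * g⁻¹ * x⁻¹ := hw'
      rw [this]
      simp
  · intro h x hx
    obtain ⟨z, hz, hz'⟩ := h (ψ ⟨x, hx⟩)
    have hgx : g * x * g⁻¹ * x⁻¹ ∈ Cfsg.pPrimePCore p G := by
      have hn : (Cfsg.pPrimePCore p G).Normal := Subgroup.Normal.comap inferInstance _
      exact Subgroup.mul_mem _ (hn.conj_mem x hx g) (Subgroup.inv_mem _ hx)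
    refine ⟨⟨g * x * g⁻¹ * x⁻¹, hgx⟩, ?_, rfl⟩
    show QuotientGroup.mk' _ _ ∈ frattini _
    rw [← frattini_equiv e, he]
    have : ψ ⟨g * x * g⁻¹ * x⁻¹, hgx⟩ = z := by
      apply Subtype.ext
      rw [← hz']
      rfl
    rw [this]; exact hz

end Cfsg.Agent.S4218
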