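import Cfsg.Statements.S4033
import Cfsg.Agent.H503.TwoRegD
import Cfsg.Agent.S4034

set_option autoImplicit false
open Cfsg

namespace Cfsg.Agent.S4033

open Subgroup Cfsg.Agent.H503 Cfsg.Agent.H503.TwoReg

/-- Let G be a finite group and p a prime, and suppose the conjugacy classes of p-regular elements of G (elements of order prime to p) have exactly two distinct sizes. Then either G has an abelian p-complement (an abelian subgroup of order prime to p and p-power index), or there are a prime q ≠ p, a Sylow p-subgroup P, a Sylow q-subgroup Q and a central subgroup A such that PQ is a normal subgroup of order #P·#Q and G is the internal direct product PQ × A. -/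
theorem result {G : Type*} [Group G] [Finite G] {p : ℕ} (hp : p.Prime)
    (h2 : Set.ncard (Set.range fun x : {x : G // (orderOf x).Coprime p} => (ConjClasses.mk (x : G)).carrier.ncard) = 2) :
    (∃ H : Subgroup G, IsMulCommutative H ∧ ¬ p ∣ Nat.card H ∧ ∃ k : ℕ, H.index = p ^ k) ∨
    (∃ (q : ℕ) (_ : Fact q.Prime) (P : Sylow p G) (Q : Sylow q G) (A : Subgroup G), q ≠ p ∧
        A ≤ Subgroup.center G ∧ Nat.card ↥((P : Subgroup G) ⊔ (Q : Subgroup G)) = Nat.card P * Nat.card Q ∧
        ((P : Subgroup G) ⊔ (Q : Subgroup G)).Normal ∧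
        ((P : Subgroup G) ⊔ (Q : Subgroup G)) ⊓ A = ⊥ ∧ ((P : Subgroup G) ⊔ (Q : Subgroup G)) ⊔ A = ⊤) := by
  classical
  have := Fact.mk hp
  -- the two sizes are `1` and `m`
  obtain ⟨m, hm1, hHH⟩ : ∃ m : ℕ, m ≠ 1 ∧ HH G p m := by
    obtain ⟨a, b, hab, hset⟩ := Set.ncard_eq_two.mp h2
    have h1 : 1 ∈ (Set.range fun x : {x : G // (orderOf x).Coprime p} =>
        (ConjClasses.mk (x : G)).carrier.ncard) := by
      refine ⟨⟨1, by simp⟩, ?_⟩
      show (ConjClasses.mk (1 : G)).carrier.ncard = 1
      rw [ncard_class]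
      rw [mem_center_iff_centralizer.mp (one_mem _), index_top]
    have key : ∀ m : ℕ, m ≠ 1 → (Set.range fun x : {x : G // (orderOf x).Coprime p} =>
        (ConjClasses.mk (x : G)).carrier.ncard) ⊆ {1, m} → HH G p m := by
      intro m hm hsub x hx
      have h3 : (ConjClasses.mk x).carrier.ncard ∈ (Set.range fun x : {x : G // (orderOf x).Coprime p} =>
        (ConjClasses.mk (x : G)).carrier.ncard) := ⟨⟨x, hx.1⟩, rfl⟩
      have h4 := hsub h3
      rw [ncard_class] at h4
      rcases h4 with h5 | h5
      · exfalso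
        apply hx.2
        rw [mem_center_iff_centralizer, ← index_eq_one, h5]
      · exact h5
    rw [hset] at h1
    rcases h1 with rfl | h1
    · exact ⟨b, hab.symm, key b hab.symm hset.le⟩
    · rw [Set.mem_singleton_iff] at h1
      subst h1
      refine ⟨a, hab, key a hab ?_⟩
      rw [hset, Set.pair_comm]
  -- there is a non-central `p`-regular element
  obtain ⟨x, hx⟩ : ∃ x : G, PR p x := by
    by_contra hcon
    push Not at hcon
    have hsub : (Set.range fun x : {x : G // (orderOf x).Coprime p} =>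
        (ConjClasses.mk (x : G)).carrier.ncard) ⊆ {1} := by
      rintro _ ⟨⟨x, hx⟩, rfl⟩
      have h3 : x ∈ center G := by
        by_contra h4
        exact hcon x ⟨hx, h4⟩
      show (ConjClasses.mk x).carrier.ncard = 1
      rw [ncard_class, mem_center_iff_centralizer.mp h3, index_top]
    have := Set.ncard_le_ncard hsub
    rw [h2, Set.ncard_singleton] at this
    omega
  obtain ⟨q, hq, hqp, y, -, hy, hyq⟩ := exists_primary (orderOf x) x rfl hx
  by_cases hπ : ∃ r : ℕ, r.Prime ∧ r ≠ p ∧ r ≠ q ∧ ∃ v : G, PR p v ∧ ∃ k, v ^ r ^ k = 1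
  · -- two primes
    left
    obtain ⟨r, hr, hrp, hrq, v, hv, hvr⟩ := hπ
    have hT : TI G p := fun x u hx hu hc => hHH.typeI hq hr hrq.symm hp hy hv hyq hvr hx hu hc
    have honly : ∀ s : ℕ, s.Prime → s ∣ m → s = p := by
      intro s hs hsm
      by_contra hsp
      by_cases hsr : s = r
      · exact false_of_typeI hHH hT hp hs hq hsp hqp (hsr ▸ hrq) hsm hy hyq
      · exact false_of_typeI hHH hT hp hs hr hsp hrp hsr hsm hv hvr
    have hmp : ∃ k, m = p ^ k :=
      ⟨_, Nat.eq_prime_pow_of_unique_prime_dvd (hHH.pos hx).ne' (fun {d} hd hdm => honly d hd hdm)⟩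
    obtain ⟨k, hk⟩ := hmp
    refine (Cfsg.Agent.S4034.result (G := G) hp).mp fun x hxp => ?_
    rw [ncard_class]
    by_cases hxc : x ∈ center G
    · exact ⟨0, by rw [mem_center_iff_centralizer.mp hxc, index_top, pow_zero]⟩
    · exact ⟨k, by rw [hHH x ⟨hxp, hxc⟩, hk]⟩
  · right
    push Not at hπ
    have := Fact.mk hq
    -- the elements of order prime to `p` and `q` are central
    have hcen : ∀ g : G, (orderOf g).Coprime p → (orderOf g).Coprime q → g ∈ center G := by
      intro g hgp hgq
      by_contra hgc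
      obtain ⟨s, hs, hsp, w, hwg, hw, k, hk⟩ := exists_primary (orderOf g) g rfl ⟨hgp, hgc⟩
      by_cases hsq : s = q
      · subst hsq
        have h3 : orderOf w ∣ 1 := by
          have h4 : (orderOf g).Coprime (s ^ k) := Nat.Coprime.pow_right _ hgq
          rw [← h4]
          exact Nat.dvd_gcd (orderOf_dvd_of_mem_zpowers hwg) (orderOf_dvd_of_pow_eq_one hk)
        apply hw.2
        rw [orderOf_eq_one_iff.mp (Nat.dvd_one.mp h3)]
        exact one_mem _
      · exact hπ s hs hsp hsq w hw k hk
    let A : Subgroup G :=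
      { carrier := {g | g ∈ center G ∧ (orderOf g).Coprime p ∧ (orderOf g).Coprime q}
        one_mem' := ⟨one_mem _, by simp, by simp⟩
        mul_mem' := by
          rintro a b ⟨ha, hap, haq⟩ ⟨hb, hbp, hbq⟩
          have hc : Commute a b := mem_center_iff.mp hb a
          refine ⟨mul_mem ha hb, ?_, ?_⟩
          · exact Nat.Coprime.coprime_dvd_left hc.orderOf_mul_dvd_mul_orderOf (Nat.Coprime.mul_left hap hbp)
          · exact Nat.Coprime.coprime_dvd_left hc.orderOf_mul_dvd_mul_orderOf (Nat.Coprime.mul_left haq hbq)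
        inv_mem' := by
          rintro a ⟨ha, hap, haq⟩
          refine ⟨inv_mem ha, ?_, ?_⟩ <;> rwa [orderOf_inv] }
    have hAc : A ≤ center G := fun g hg => hg.1
    have hAn : A.Normal := by
      refine ⟨fun n hn g => ?_⟩
      rw [mem_center_iff.mp (hAc hn) g, mul_inv_cancel_right]
      exact hn
    have hAprime : ∀ s : ℕ, s.Prime → s ∣ Nat.card A → s ≠ p ∧ s ≠ q := by
      intro s hs hd
      have := Fact.mk hs
      obtain ⟨a, ha⟩ := exists_prime_orderOf_dvd_card' s hd
      have h3 := a.2.2
      rw [Subgroup.orderOf_coe, ha] at h3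
      refine ⟨?_, ?_⟩
      · rintro rfl
        exact hs.one_lt.ne' ((Nat.coprime_self s).mp h3.1)
      · rintro rfl
        exact hs.one_lt.ne' ((Nat.coprime_self s).mp h3.2)
    have hAi : ∀ s : ℕ, s.Prime → s ∣ A.index → s = p ∨ s = q := by
      intro s hs hd
      by_contra hcon
      push Not at hcon
      have := Fact.mk hs
      let T : Sylow s G := default
      have hTA : (T : Subgroup G) ≤ A := by
        intro t ht
        obtain ⟨k, hk⟩ := T.isPGroup' ⟨t, ht⟩
        have hk' : t ^ s ^ k = 1 := congrArg Subtype.val hk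
        have h4 : (orderOf t).Coprime p := coprime_of_pow hs ((Nat.coprime_primes hs hp).mpr hcon.1) hk'
        have h5 : (orderOf t).Coprime q := coprime_of_pow hs ((Nat.coprime_primes hs hq).mpr hcon.2) hk'
        exact ⟨hcen t h4 h5, h4, h5⟩
      exact T.not_dvd_index (hd.trans (index_dvd_of_le hTA))
    have hcop : (Nat.card A).Coprime A.index := by
      refine Nat.Coprime.symm (Nat.coprime_of_dvd fun s hs h1 h2 => ?_)
      obtain ⟨h3, h4⟩ := hAprime s hs h2
      rcases hAi s hs h1 with h5 | h5
      · exact h3 h5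
      · exact h4 h5
    obtain ⟨K, hK⟩ := exists_right_complement'_of_coprime hcop
    have hKcard : Nat.card K = A.index := hK.symm.index_eq_card.symm
    have hKi : K.index = Nat.card A := hK.index_eq_card
    have hKn : K.Normal := by
      rw [← normalizer_eq_top_iff, eq_top_iff, ← hK.sup_eq_top]
      refine sup_le ?_ le_normalizer
      exact (hAc.trans (center_le_normalizer _))
    have hpK : ¬ p ∣ K.index := by
      rw [hKi]; intro h; exact (hAprime p hp h).1 rfl
    have hqK : ¬ q ∣ K.index := by
      rw [hKi]; intro h; exact (hAprime q hq h).2 rfl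
    obtain ⟨P, -, hPK⟩ := exists_sylow_le K hpK ⊥ IsPGroup.of_bot bot_le
    obtain ⟨Q, -, hQK⟩ := exists_sylow_le K hqK ⊥ IsPGroup.of_bot bot_le
    have hGK : Nat.card G = Nat.card K * Nat.card A := by
      rw [← hKi, Subgroup.card_mul_index]
    have hcardP : Nat.card P = p ^ (Nat.card K).factorization p := by
      rw [P.card_eq_multiplicity, hGK, Nat.factorization_mul Nat.card_pos.ne' Nat.card_pos.ne',
        Finsupp.add_apply, ← hKi, Nat.factorization_eq_zero_of_not_dvd hpK, add_zero]
    have hcardQ : Nat.card Q = q ^ (Nat.card K).factorization q := by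
      rw [Q.card_eq_multiplicity, hGK, Nat.factorization_mul Nat.card_pos.ne' Nat.card_pos.ne',
        Finsupp.add_apply, ← hKi, Nat.factorization_eq_zero_of_not_dvd hqK, add_zero]
    have hcardK : Nat.card K ∣ Nat.card P * Nat.card Q := by
      rw [← Nat.factorization_prime_le_iff_dvd Nat.card_pos.ne' (mul_pos Nat.card_pos Nat.card_pos).ne']
      intro s hs
      rw [Nat.factorization_mul Nat.card_pos.ne' Nat.card_pos.ne', Finsupp.add_apply, hcardP, hcardQ]
      by_cases hsK : s ∣ Nat.card K
      · rw [hKcard] at hsK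
        rcases hAi s hs hsK with rfl | rfl
        · rw [hs.factorization_pow]
          simp
        · rw [hs.factorization_pow]
          simp
      · rw [Nat.factorization_eq_zero_of_not_dvd hsK]
        exact Nat.zero_le _
    have hPQcop : (Nat.card P).Coprime (Nat.card Q) := by
      rw [hcardP, hcardQ]
      exact Nat.Coprime.pow _ _ ((Nat.coprime_primes hp hq).mpr hqp.symm)
    have hle : (P : Subgroup G) ⊔ (Q : Subgroup G) ≤ K := sup_le hPK hQK
    have hdvd : Nat.card P * Nat.card Q ∣ Nat.card ((P : Subgroup G) ⊔ (Q : Subgroup G) : Subgroup G) :=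
      Nat.Coprime.mul_dvd_of_dvd_of_dvd hPQcop (card_dvd_of_le le_sup_left) (card_dvd_of_le le_sup_right)
    have hKeq : (P : Subgroup G) ⊔ (Q : Subgroup G) = K := by
      apply eq_of_le_of_card_ge hle
      exact Nat.le_of_dvd Nat.card_pos (hcardK.trans hdvd)
    refine ⟨q, ⟨hq⟩, P, Q, A, hqp, hAc, ?_, ?_, ?_, ?_⟩
    · rw [hKeq]
      rw [hKeq] at hdvd
      exact Nat.dvd_antisymm hcardK hdvd
    · rw [hKeq]; exact hKn
    · rw [hKeq]; exact hK.symm.disjoint.eq_bot
    · rw [hKeq]; exact hK.symm.sup_eq_top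

end Cfsg.Agent.S4033
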