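import Cfsg.Statements.S5943
import Cfsg.Agent.H948.PSLMax

set_option autoImplicit false
open Cfsg

namespace Cfsg.Agent.S5943

open Cfsg.Agent.H948.PSLMax Cfsg.Agent.ClassicalGeometry.PSL2Basic
open Cfsg.Agent.ClassicalGeometry.PSL2Solvable


/-- Let K and F be finite fields of characteristic 2 with #K = q > 2 and #F = q^r for a prime r. Then PSL_2(F) has a maximal subgroup isomorphic to PSL_2(K) (which equals PGL_2(K) in characteristic 2). -/
theorem result {F K : Type*} [Field F] [Fintype F] [Field K] [Fintype K] (q r : ℕ) (hK : Fintype.card K = q) (hF : Fintype.card F = q ^ r) (hq : Even q) (hq2 : q ≠ 2) (hr : r.Prime) : ∃ H : Subgroup (Matrix.ProjectiveSpecialLinearGroup (Fin 2) F), IsCoatom H ∧ Nonempty (H ≃* Matrix.ProjectiveSpecialLinearGroup (Fin 2) K) := by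
  subst hK
  obtain ⟨f⟩ := exists_ringHom_of_card_pow hF.symm
  obtain ⟨p, hchar⟩ := CharP.exists F
  have hpf : Fact p.Prime := ⟨by
    obtain ⟨n, hp, -⟩ := FiniteField.card F p
    exact hp⟩
  have h4 : 4 ≤ Fintype.card K := by
    have h1 : 1 < Fintype.card K := Fintype.one_lt_card
    rw [Nat.even_iff] at hq
    omega
  have hns := not_isSolvable_psl K h4
  set H := (pslMap (n := Fin 2) f).range with hH
  have e : H ≃* Matrix.ProjectiveSpecialLinearGroup (Fin 2) K :=
    (MonoidHom.ofInjective (pslMap_injective f)).symm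
  have hcH : Nat.card H = Nat.card (Matrix.ProjectiveSpecialLinearGroup (Fin 2) K) :=
    Nat.card_congr e.toEquiv
  have hcK := card_PSL2_even K hq
  have h60 : 60 ≤ Nat.card H := by
    rw [hcH, hcK]
    exact Nat.mul_le_mul h4 (Nat.sub_le_sub_right (Nat.pow_le_pow_left h4 2) 1)
  refine ⟨H, isCoatom_of_not_solvable p H ?_ ?_ ?_ ?_, ⟨e⟩⟩
  · intro h
    have h1 := card_psl_mono (K₀ := K) (K := F) hr.two_le hF.symm
    rw [h, Subgroup.card_top] at hcH
    have h2 := Nat.le_of_dvd (card_pgl_pos K) (card_psl_dvd_pgl K)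
    omega
  · intro hs
    have : Group.IsSolvable H := hs
    exact hns (Group.isSolvable_of_surjective (f := e.toMonoidHom) e.surjective)
  · rintro M hM ⟨e'⟩
    exfalso
    have hcM : Nat.card M = 60 := by
      rw [Nat.card_congr e'.toEquiv, Nat.card_eq_fintype_card]
      decide +kernel
    exact hM.ne (Subgroup.eq_of_le_of_card_ge hM.le (by omega))
  · intro M hM K' _ _ m hm hK'
    have hdvd : Nat.card (Matrix.ProjectiveSpecialLinearGroup (Fin 2) K) ∣
        Nat.card (Matrix.ProjGenLinGroup (Fin 2) K') := by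
      rw [← hcH]
      refine (Subgroup.card_dvd_of_le hM.le).trans ?_
      rcases hK' with ⟨⟨e'⟩⟩ | ⟨⟨e'⟩⟩
      · rw [Nat.card_congr e'.toEquiv]
        exact card_psl_dvd_pgl K'
      · rw [Nat.card_congr e'.toEquiv]
    rcases card_eq_or_eq (F := F) (K₀ := K) (K := K') hr hF hm hdvd with h1 | h1
    · exfalso
      have hcM : Nat.card M = Nat.card H := by
        rcases hK' with ⟨⟨e'⟩⟩ | ⟨⟨e'⟩⟩
        · rw [Nat.card_congr e'.toEquiv, hcH, card_PSL2_div, card_PSL2_div, h1]
        · rw [Nat.card_congr e'.toEquiv, hcH, card_PGL2, hcK, h1]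
      exact hM.ne (Subgroup.eq_of_le_of_card_ge hM.le hcM.le)
    · exact eq_top_of_card_eq M h1 hK'

end Cfsg.Agent.S5943
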