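import Cfsg.Statements.S4110
import Cfsg.Agent.H519.KnownTriv
import Cfsg.Agent.S0000

set_option autoImplicit false
open Cfsg

namespace Cfsg.Agent.S4110

/-- Let G be a finite group and α an automorphism of G of order coprime to the order of G such that g⁻¹α(g) has odd order for every g ∈ G. Then the subgroup [G, α] generated by all the elements g⁻¹α(g) lies in O(G), the largest normal subgroup of G of odd order. -/
theorem result {G : Type*} [Group G] [Finite G] (α : MulAut G) (hα : (orderOf α).Coprime (Nat.card G))
    (hodd : ∀ g : G, Odd (orderOf (g⁻¹ * α g))) :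
    Subgroup.closure {y : G | ∃ g : G, y = g⁻¹ * α g} ≤ Cfsg.oddCore G := by
  have key := Cfsg.Agent.H519.CopRed.reduce (fun K _ _ _ hna IH α hc ho g => by
    rw [Cfsg.Agent.H519.KnownTriv.triv_of_known hna (Cfsg.Agent.S0000.result (G := K)) IH α hc ho]
    simp only [MulAut.one_apply, inv_mul_cancel, one_mem]) G α hα hodd
  rw [Subgroup.closure_le]
  rintro _ ⟨g, rfl⟩
  exact key g

end Cfsg.Agent.S4110
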