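import Cfsg.Statements.S4771
import Cfsg.Agent.H671.Three
import Cfsg.Agent.H671.FactsFin

set_option autoImplicit false
open Cfsg

namespace Cfsg.Agent.S4771

/-- Let G be a finite group that is not solvable. Then the character degree graph of G has exactly three connected components if and only if G is isomorphic to the direct product of SL(2,F) with an abelian group, for some finite field F of characteristic 2 with at least 4 elements. -/
theorem result {G : Type*} [Group G] [Finite G] (hG : ¬ Group.IsSolvable G) : Nat.card ((Cfsg.degreeGraph G).induce (Cfsg.degreePrimes G)).ConnectedComponent = 3 ↔ ∃ (F : Type) (_ : Field F) (_ : Fintype F) (A : Type) (_ : CommGroup A), CharP F 2 ∧ 4 ≤ Fintype.card F ∧ Nonempty (G ≃* (Matrix.SpecialLinearGroup (Fin 2) F × A)) := by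
  exact Cfsg.Agent.H671.Three.three_iff Cfsg.Agent.H671.GraphAsm.factIM_all Cfsg.Agent.H671.GraphAsm.factConn_all
    Cfsg.Agent.H671.GraphAsm.factExt_all hG

end Cfsg.Agent.S4771
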