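import Cfsg.Statements.S4811
import Cfsg.Agent.H681.DegStruct

set_option autoImplicit false
open Cfsg

namespace Cfsg.Agent.S4811

open Cfsg.Agent.H681.DegBasic Cfsg.Agent.H681.DegStruct

/-- Two vertices whose product of primes divides a degree are reachable from each other. -/
theorem reachable_of_dvd {G : Type*} [Group G] (v w : ↥(Cfsg.degreePrimes G)) {n : ℕ}
    (hn : n ∈ charDegrees G) (hv : (v : ℕ) ∣ n) (hw : (w : ℕ) ∣ n) :
    ((Cfsg.degreeGraph G).induce (Cfsg.degreePrimes G)).Reachable v w := by
  by_cases h : v = w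
  · rw [h]
  · apply SimpleGraph.Adj.reachable
    have hne : (v : ℕ) ≠ w := fun h' => h (Subtype.ext h')
    refine ⟨hne, v.2.1, w.2.1, n, hn, ?_⟩
    exact Nat.Coprime.mul_dvd_of_dvd_of_dvd ((Nat.coprime_primes v.2.1 w.2.1).2 hne) hv hw

/-- For every finite solvable group G the character degree graph of G (vertices: the primes dividing some irreducible complex character degree; edges: distinct primes whose product divides some degree) has at most two connected components. -/
theorem result {G : Type*} [Group G] [Finite G] [Group.IsSolvable G] : Nat.card ((Cfsg.degreeGraph G).induce (Cfsg.degreePrimes G)).ConnectedComponent ≤ 2 := by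
  classical
  by_cases hG : commutator G = ⊥
  · -- abelian: no vertices
    have hempty : IsEmpty ↥(Cfsg.degreePrimes G) := by
      constructor
      rintro ⟨q, hq, n, hn, hqn⟩
      obtain ⟨χ, hχ, hχn⟩ := mem_charDegrees.1 hn
      have hcomm : ∀ a b : G, a * b = b * a := by
        rw [commutator_eq_bot_iff_center_eq_top, Subgroup.eq_top_iff'] at hG
        intro a b
        exact (Subgroup.mem_center_iff.1 (hG b) a)
      have h1 := Cfsg.Agent.S0187.result.1 hcomm ⟨χ, hχ⟩
      change χ 1 = 1 at h1
      rw [hχn] at h1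
      have h2 : n = 1 := by exact_mod_cast h1
      rw [h2] at hqn
      exact hq.one_lt.ne' (Nat.dvd_one.1 hqn)
    have : IsEmpty ((Cfsg.degreeGraph G).induce (Cfsg.degreePrimes G)).ConnectedComponent := by
      constructor
      intro c
      obtain ⟨v, -⟩ := c.exists_rep
      exact hempty.false v
    rw [Nat.card_of_isEmpty]
    exact Nat.zero_le _
  · obtain ⟨p, f, hp, hf, h⟩ := exists_prime_degree hG
    -- `f` is a degree
    have hfG : f ∈ charDegrees G := by
      obtain ⟨d, hd, -, hd2⟩ := h 1 one_mem
      rw [Nat.dvd_one.1 hd] at hd2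
      rcases hd2 with h2 | h2
      · exact absurd (Nat.dvd_one.1 h2) hp.one_lt.ne'
      · rwa [mul_one] at h2
    have hr0 : f.minFac.Prime := Nat.minFac_prime hf.ne'
    let r0 : ↥(Cfsg.degreePrimes G) := ⟨f.minFac, hr0, f, hfG, Nat.minFac_dvd f⟩
    have key : ∀ v : ↥(Cfsg.degreePrimes G),
        ((Cfsg.degreeGraph G).induce (Cfsg.degreePrimes G)).Reachable v r0 ∨
        ∃ hp' : p ∈ Cfsg.degreePrimes G,
          ((Cfsg.degreeGraph G).induce (Cfsg.degreePrimes G)).Reachable v ⟨p, hp'⟩ := by
      rintro ⟨q, hq, n, hn, hqn⟩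
      obtain ⟨d, hd1, hd2, hd3⟩ := h n hn
      rcases (Nat.Prime.dvd_mul hq).1 (hqn.trans hd2) with h1 | h1
      · exact Or.inl (reachable_of_dvd _ _ hfG h1 (Nat.minFac_dvd f))
      · rcases hd3 with h2 | h2
        · exact Or.inr ⟨⟨hp, n, hn, h2.trans hd1⟩, reachable_of_dvd _ _ hn hqn (h2.trans hd1)⟩
        · exact Or.inl (reachable_of_dvd _ _ h2 (h1.trans (Dvd.intro_left f rfl))
            ((Nat.minFac_dvd f).trans (Dvd.intro d rfl)))
    let F : Bool → ((Cfsg.degreeGraph G).induce (Cfsg.degreePrimes G)).ConnectedComponent :=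
      fun b => if b then SimpleGraph.connectedComponentMk _ r0 else
        if hp' : p ∈ Cfsg.degreePrimes G then SimpleGraph.connectedComponentMk _ ⟨p, hp'⟩
        else SimpleGraph.connectedComponentMk _ r0
    have hF : Function.Surjective F := by
      intro c
      obtain ⟨v, rfl⟩ := c.exists_rep
      rcases key v with h1 | ⟨hp', h1⟩
      · refine ⟨true, ?_⟩
        simp only [F, if_true]
        exact (SimpleGraph.ConnectedComponent.sound h1).symm
      · refine ⟨false, ?_⟩
        simp only [F, hp', dif_pos]
        exact (SimpleGraph.ConnectedComponent.sound h1).symm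
    have := Nat.card_le_card_of_surjective F hF
    simpa using this

end Cfsg.Agent.S4811
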