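import Cfsg.Statements.S4199
import Cfsg.Agent.H540.Assembly
import Cfsg.Agent.S0000

set_option autoImplicit false
open Cfsg

namespace Cfsg.Agent.S4199

/-- Let S be a primitive permutation group on a finite set with n ≥ 7 elements whose order is not divisible by p, where p is one of 3, 5, 7. Then the number k(S) of conjugacy classes of S satisfies k(S)² ≤ 2^n, that is k(S) ≤ 2^(n/2). -/
theorem result {α : Type*} [Fintype α] [DecidableEq α] (S : Subgroup (Equiv.Perm α)) (hprim : MulAction.IsPreprimitive S α) (hn : 7 ≤ Fintype.card α) (p : ℕ) (hp : p = 3 ∨ p = 5 ∨ p = 7) (hcop : ¬ p ∣ Nat.card S) : Nat.card (ConjClasses S) ^ 2 ≤ 2 ^ Fintype.card α := by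
  exact Cfsg.Agent.H540.Main.s4199 hp
    (Cfsg.Agent.H540.Assembly.tab (fun T _ _ _ => Cfsg.Agent.S0000.result) hp) S hprim hn hcop

end Cfsg.Agent.S4199
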