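import Cfsg.Statements.S3050
import Mathlib
import Cfsg.Agent.OddCyclic.FFBasic
import Cfsg.Agent.OddCyclic.FpfThree
import Cfsg.Agent.H274.SL2Fpf

set_option autoImplicit false
open Cfsg

namespace Cfsg.Agent.S3050

open Subgroup TwoFusion.FpfThree
open scoped commutatorElement Pointwise

/-- `[α q, r] = α² [q, r]` -/
theorem comm_map {Q : Type*} [Group Q] [Finite Q] {α : Q →* Q} (h : Fpf3 α) (hQ : IsPGroup 2 Q) (q r : Q) :
    ⁅α q, r⁆ = α (α ⁅q, r⁆) := by
  have hc := OddCyclic.FpfThree.comm_mem_center h hQ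
  have hr := OddCyclic.FpfThree.comm_mul_right h hQ
  have hl := OddCyclic.FpfThree.comm_mul_left h hQ
  have e : ∀ a : Q, ⁅a, α a⁆ = 1 := fun a => commutatorElement_eq_one_iff_mul_comm.2 (h.comm a)
  have swap : ∀ a b : Q, ⁅a, α b⁆ = ⁅α a, b⁆ := by
    intro a b
    have h1 := e (a * b)
    rw [map_mul, hl, hr, hr, e a, e b, one_mul, mul_one] at h1
    rw [← commutatorElement_inv b (α a)]
    exact eq_inv_of_mul_eq_one_left h1
  rw [map_commutatorElement, map_commutatorElement, swap (α (α q)), h.cube, swap]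

theorem sq_eq_inv {G : Type*} [Group G] {x : G} (hx : x ^ 3 = 1) : x * x = x⁻¹ := by
  rw [eq_inv_iff_mul_eq_one, ← pow_two, ← pow_succ]
  exact hx

theorem inv_sq {G : Type*} [Group G] {x : G} (hx : x ^ 3 = 1) : x⁻¹ * x⁻¹ = x := by
  rw [← mul_inv_rev, sq_eq_inv hx, inv_inv]

section

variable {G : Type*} [Group G] [Finite G] (Q : Subgroup G) [Q.Normal] (hQ : IsPGroup 2 ↥Q)

include hQ in
theorem comm_conj {x : G} (hx : x ^ 3 = 1) (hfpf : ∀ q ∈ Q, x * q = q * x → q = 1) {q r : G} (hq : q ∈ Q)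
    (hr : r ∈ Q) : ⁅x * q * x⁻¹, r⁆ = x⁻¹ * ⁅q, r⁆ * x := by
  have hxn : x ∈ normalizer (Q : Set G) := by rw [normalizer_eq_top]; trivial
  have h1 := comm_map (OddCyclic.FpfThree.fpf3 hxn hx hfpf) hQ ⟨q, hq⟩ ⟨r, hr⟩
  have h2 : ⁅x * q * x⁻¹, r⁆ = x * (x * ⁅q, r⁆ * x⁻¹) * x⁻¹ := congrArg Subtype.val h1
  rw [h2]
  have h3 : x * x = x⁻¹ := sq_eq_inv hx
  have h4 : x⁻¹ * x⁻¹ = x := inv_sq hx
  calc x * (x * ⁅q, r⁆ * x⁻¹) * x⁻¹ = (x * x) * ⁅q, r⁆ * (x⁻¹ * x⁻¹) := by group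
    _ = _ := by rw [h3, h4]

theorem conj_fpf {x : G} (hfpf : ∀ q ∈ Q, x * q = q * x → q = 1) (g : G) :
    ∀ q ∈ Q, (g * x * g⁻¹) * q = q * (g * x * g⁻¹) → q = 1 := by
  intro q hq h
  have hn : Q.Normal := inferInstance
  have h1 := hfpf (g⁻¹ * q * g) (by simpa using hn.conj_mem q hq g⁻¹) (by
    calc x * (g⁻¹ * q * g) = g⁻¹ * ((g * x * g⁻¹) * q) * g := by group
      _ = g⁻¹ * (q * (g * x * g⁻¹)) * g := by rw [h]
      _ = g⁻¹ * q * g * x := by group)
  calc q = g * (g⁻¹ * q * g) * g⁻¹ := by group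
    _ = 1 := by rw [h1]; group

include hQ in
/-- conjugates of `x` commute modulo the centralizer of `[Q, Q]` -/
theorem commutator_mem {x : G} (hx : x ^ 3 = 1) (hfpf : ∀ q ∈ Q, x * q = q * x → q = 1) (g : G) :
    x * (g * x * g⁻¹)⁻¹ * x⁻¹ * (g * x * g⁻¹) ∈ centralizer ((⁅Q, Q⁆ : Subgroup G) : Set G) := by
  have hn : Q.Normal := inferInstance
  set y := g * x * g⁻¹ with hy
  have hy3 : y ^ 3 = 1 := by rw [hy, conj_pow, hx]; group
  have hyf : ∀ q ∈ Q, y * q = q * y → q = 1 := conj_fpf Q hfpf g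
  have hyi : (y⁻¹) ^ 3 = 1 := by rw [inv_pow, hy3, inv_one]
  have hyif : ∀ q ∈ Q, y⁻¹ * q = q * y⁻¹ → q = 1 := by
    intro q hq h
    apply hyf q hq
    calc y * q = y * (q * y⁻¹) * y := by group
      _ = y * (y⁻¹ * q) * y := by rw [h]
      _ = q * y := by group
  have hz3 : (y * x * y⁻¹) ^ 3 = 1 := by rw [conj_pow, hx]; group
  have hzf := conj_fpf Q hfpf y
  have hyy : y * y = y⁻¹ := sq_eq_inv hy3
  -- the element `y⁻¹ x y⁻¹ x⁻¹ y⁻¹` fixes all commutators
  have key : ∀ q ∈ Q, ∀ r ∈ Q, (y⁻¹ * x * y⁻¹ * x⁻¹ * y⁻¹) * ⁅q, r⁆ = ⁅q, r⁆ * (y⁻¹ * x * y⁻¹ * x⁻¹ * y⁻¹) := by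
    intro q hq r hr
    have h1 := comm_conj Q hQ hz3 hzf hq hr
    have hq1 : y⁻¹ * q * y ∈ Q := by simpa using hn.conj_mem q hq y⁻¹
    have hq2 : x * (y⁻¹ * q * y) * x⁻¹ ∈ Q := hn.conj_mem _ hq1 x
    have h2 := comm_conj Q hQ hyi hyif hq hr
    rw [inv_inv] at h2
    have h3 := comm_conj Q hQ hx hfpf hq1 hr
    have h4 := comm_conj Q hQ hy3 hyf hq2 hr
    have h5 : y * x * y⁻¹ * q * (y * x * y⁻¹)⁻¹ = y * (x * (y⁻¹ * q * y) * x⁻¹) * y⁻¹ := by group
    rw [h5, h4, h3, h2] at h1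
    -- `y⁻¹ x⁻¹ y c y⁻¹ x y = z⁻¹ c z`
    have h6 : ⁅q, r⁆ = (y⁻¹ * x * y) * (y * x⁻¹ * y⁻¹ * ⁅q, r⁆ * (y * x * y⁻¹)) * (y⁻¹ * x⁻¹ * y) := by
      have h7 : (y * x * y⁻¹)⁻¹ * ⁅q, r⁆ * (y * x * y⁻¹) = y * x⁻¹ * y⁻¹ * ⁅q, r⁆ * (y * x * y⁻¹) := by group
      rw [← h7, ← h1]
      group
    have h8 : (y⁻¹ * x * y⁻¹ * x⁻¹ * y⁻¹) = (y⁻¹ * x * y) * (y * x⁻¹ * y⁻¹) := by
      calc (y⁻¹ * x * y⁻¹ * x⁻¹ * y⁻¹) = y⁻¹ * x * (y * y) * x⁻¹ * y⁻¹ := by rw [hyy]
        _ = _ := by group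
    rw [h8]
    calc (y⁻¹ * x * y) * (y * x⁻¹ * y⁻¹) * ⁅q, r⁆ =
        ((y⁻¹ * x * y) * (y * x⁻¹ * y⁻¹ * ⁅q, r⁆ * (y * x * y⁻¹)) * (y⁻¹ * x⁻¹ * y)) *
          ((y⁻¹ * x * y) * (y * x⁻¹ * y⁻¹)) := by group
      _ = _ := by rw [← h6]
  have hmem : y⁻¹ * x * y⁻¹ * x⁻¹ * y⁻¹ ∈ centralizer ((⁅Q, Q⁆ : Subgroup G) : Set G) := by
    rw [← zpowers_le, le_centralizer_iff, commutator_le]
    intro q hq r hr
    rw [mem_centralizer_iff]
    intro z hz
    obtain ⟨n, rfl⟩ := hz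
    have := key q hq r hr
    exact (Commute.zpow_left this n)
  have hN : (centralizer ((⁅Q, Q⁆ : Subgroup G) : Set G)).Normal := inferInstance
  have h9 := hN.conj_mem _ hmem y
  have h10 : y * (y⁻¹ * x * y⁻¹ * x⁻¹ * y⁻¹) * y⁻¹ = x * y⁻¹ * x⁻¹ * y := by
    have hy2 : y⁻¹ * y⁻¹ = y := inv_sq hy3
    calc y * (y⁻¹ * x * y⁻¹ * x⁻¹ * y⁻¹) * y⁻¹ = x * y⁻¹ * x⁻¹ * (y⁻¹ * y⁻¹) := by group
      _ = _ := by rw [hy2]
  rw [h10] at h9
  exact h9

include hQ in
/-- `Q` is abelian -/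
theorem commutator_eq_bot {K : Type*} [Field K] [Fintype K] [CharP K 2] (hK : 4 ≤ Fintype.card K)
    (e : G ⧸ Q ≃* Matrix.SpecialLinearGroup (Fin 2) K)
    (x : G) (hx : orderOf x = 3) (hfpf : ∀ q ∈ Q, x * q = q * x → q = 1) : ⁅Q, Q⁆ = ⊥ := by
  have hx3 : x ^ 3 = 1 := by rw [← hx]; exact pow_orderOf_eq_one x
  have hs := OddCyclic.FFBasic.isSimpleGroup_sl2 hK
  have hQn : Q.Normal := inferInstance
  let φ : G →* Matrix.SpecialLinearGroup (Fin 2) K := e.toMonoidHom.comp (QuotientGroup.mk' Q)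
  have hφs : Function.Surjective φ := e.surjective.comp (QuotientGroup.mk'_surjective Q)
  have hφk : ∀ g, φ g = 1 ↔ g ∈ Q := by
    intro g
    show e (QuotientGroup.mk' Q g) = 1 ↔ _
    rw [map_eq_one_iff e e.injective, QuotientGroup.mk'_apply, QuotientGroup.eq_one_iff]
  have hDn : (centralizer ((⁅Q, Q⁆ : Subgroup G) : Set G)).Normal := inferInstance
  have hQD : Q ≤ centralizer ((⁅Q, Q⁆ : Subgroup G) : Set G) := by
    rw [le_centralizer_iff]
    exact OddCyclic.FpfThree.commutator_le_centralizer hQ (by rw [normalizer_eq_top]; trivial) hx3 hfpf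
  have hcase := hs.eq_bot_or_eq_top_of_normal _ (hDn.map φ hφs)
  rcases hcase with h | h
  · exfalso
    -- conjugates of `φ x` commute with `φ x`
    have h1 : ∀ l : Matrix.SpecialLinearGroup (Fin 2) K, l * φ x * l⁻¹ ∈ centralizer {φ x} := by
      intro l
      obtain ⟨g, rfl⟩ := hφs l
      have h2 := commutator_mem Q hQ hx3 hfpf g
      have h3 : φ (x * (g * x * g⁻¹)⁻¹ * x⁻¹ * (g * x * g⁻¹)) = 1 := by
        rw [← mem_bot, ← h]
        exact ⟨_, h2, rfl⟩
      rw [mem_centralizer_singleton_iff]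
      simp only [map_mul, map_inv] at h3
      have h4 := mul_eq_one_iff_eq_inv.mp h3
      have h5 : φ x * (φ g * φ x * (φ g)⁻¹)⁻¹ * (φ x)⁻¹ = (φ g * φ x * (φ g)⁻¹)⁻¹ := h4
      have h6 : φ x * (φ g * φ x * (φ g)⁻¹) * (φ x)⁻¹ = (φ g * φ x * (φ g)⁻¹) := by
        have := congrArg (·⁻¹) h5
        simp only [mul_inv_rev, inv_inv] at this ⊢
        rw [← mul_assoc] at this
        exact this
      exact (mul_inv_eq_iff_eq_mul.mp h6).symm
    have h2 : normalClosure {φ x} ≤ centralizer {φ x} := by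
      rw [normalClosure, closure_le]
      intro l hl
      rw [Group.mem_conjugatesOfSet_iff] at hl
      obtain ⟨y, hy, hyl⟩ := hl
      rw [Set.mem_singleton_iff] at hy
      rw [hy, isConj_iff] at hyl
      obtain ⟨c, rfl⟩ := hyl
      exact h1 c
    have hne : φ x ≠ 1 := by
      intro h3
      rw [hφk] at h3
      have h4 := hfpf x h3 rfl
      rw [h4, orderOf_one] at hx
      omega
    have h3 : normalClosure {φ x} = ⊤ := by
      rcases hs.eq_bot_or_eq_top_of_normal (normalClosure {φ x}) inferInstance with h4 | h4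
      · exact absurd (by
          have : φ x ∈ normalClosure {φ x} := subset_normalClosure rfl
          rw [h4, mem_bot] at this
          exact this) hne
      · exact h4
    rw [h3, top_le_iff] at h2
    apply hne
    rw [← mem_bot, ← OddCyclic.FFBasic.center_sl2 (F := K), mem_center_iff]
    intro g
    have : g ∈ centralizer {φ x} := by rw [h2]; trivial
    exact mem_centralizer_singleton_iff.mp this
  · have h1 : x ∈ centralizer ((⁅Q, Q⁆ : Subgroup G) : Set G) := by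
      have h2 : φ x ∈ (centralizer ((⁅Q, Q⁆ : Subgroup G) : Set G)).map φ := by rw [h]; trivial
      obtain ⟨y, hy, hyx⟩ := h2
      have h3 : y⁻¹ * x ∈ Q := by
        rw [← hφk, map_mul, map_inv, hyx, inv_mul_cancel]
      have h4 : x = y * (y⁻¹ * x) := by group
      rw [h4]
      exact mul_mem hy (hQD h3)
    rw [eq_bot_iff]
    intro c hc
    rw [mem_centralizer_iff] at h1
    exact hfpf c (commutator_le_left Q Q hc) (h1 c hc).symm

end

/-- Let G be a finite group with a normal 2-subgroup Q such that G/Q is isomorphic to SL(2, 2ⁿ) with n ≥ 2, and suppose some element of G of order 3 fixes no nonidentity element of Q under conjugation. Then Q is elementary abelian and is the direct product of normal subgroups of G on each of which G acts as SL(2, 2ⁿ) acts on its natural two-dimensional module (a Galois twist of the natural action allowed). -/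
theorem result {G : Type*} [Group G] [Finite G]
    (Q : Subgroup G) [Q.Normal] (hQ : IsPGroup 2 ↥Q) (n : ℕ) (hn : 2 ≤ n)
    (K : Type*) [Field K] [Fintype K] (hK : Fintype.card K = 2 ^ n)
    (e : G ⧸ Q ≃* Matrix.SpecialLinearGroup (Fin 2) K)
    (x : G) (hx : orderOf x = 3) (hfpf : ∀ q ∈ Q, x * q * x⁻¹ = q → q = 1) :
    Cfsg.IsElementaryAbelian 2 Q ∧
      ∃ (k : ℕ) (V : Fin k → Subgroup G), (∀ i, V i ≤ Q ∧ (V i).Normal ∧
        Cfsg.ActsAsSL2OnSection K ⊤ ⊤ (V i) ⊥) ∧ iSupIndep V ∧ ⨆ i, V i = Q := by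
  have hQn : Q.Normal := inferInstance
  have hchar : CharP K 2 := by
    obtain ⟨p, hp⟩ := CharP.exists K
    have hpp : p.Prime := (CharP.char_is_prime_or_zero K p).resolve_right (CharP.char_ne_zero_of_finite K p)
    have := Fact.mk hpp
    obtain ⟨m, hpm, hm⟩ := FiniteField.card K p
    have h1 : p ∣ 2 ^ n := by
      rw [← hK, hm]
      exact dvd_pow_self p m.ne_zero
    have h2 := (Nat.prime_dvd_prime_iff_eq hpp Nat.prime_two).mp (hpp.dvd_of_dvd_pow h1)
    rw [← h2]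
    exact hp
  have hK4 : 4 ≤ Fintype.card K := by
    rw [hK]
    calc 4 = 2 ^ 2 := by norm_num
      _ ≤ 2 ^ n := Nat.pow_le_pow_right (by norm_num) hn
  have hfpf' : ∀ q ∈ Q, x * q = q * x → q = 1 := fun q hq h => hfpf q hq (by rw [h]; group)
  have hbot := commutator_eq_bot Q hQ hK4 e x hx hfpf'
  have hcomm : ∀ a ∈ Q, ∀ b ∈ Q, a * b = b * a := by
    intro a ha b hb
    have : ⁅a, b⁆ ∈ ⁅Q, Q⁆ := commutator_mem_commutator ha hb
    rw [hbot, mem_bot, commutatorElement_eq_one_iff_mul_comm] at this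
    exact this
  let φ : G →* Matrix.SpecialLinearGroup (Fin 2) K := e.toMonoidHom.comp (QuotientGroup.mk' Q)
  have hφs : Function.Surjective φ := e.surjective.comp (QuotientGroup.mk'_surjective Q)
  have hφk : ∀ g, φ g = 1 ↔ g ∈ Q := by
    intro g
    show e (QuotientGroup.mk' Q g) = 1 ↔ _
    rw [map_eq_one_iff e e.injective, QuotientGroup.mk'_apply, QuotientGroup.eq_one_iff]
  -- the action of `SL₂(K)` on `Q`
  let _ : CommGroup ↥Q := { (inferInstance : Group ↥Q) with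
    mul_comm := fun a b => Subtype.ext (hcomm a a.2 b b.2) }
  have hker : ∀ g ∈ Q, (MulAut.conjNormal g : MulAut ↥Q) = 1 := by
    intro g hg
    ext q
    rw [MulAut.conjNormal_apply, MulAut.one_apply, hcomm g hg q q.2]
    group
  let ρ₀ : G ⧸ Q →* MulAut ↥Q := QuotientGroup.lift Q MulAut.conjNormal hker
  let ρ : Matrix.SpecialLinearGroup (Fin 2) K →* MulAut ↥Q := ρ₀.comp e.symm.toMonoidHom
  have hρ : ∀ (g : G) (q : ↥Q), ((ρ (φ g) q : ↥Q) : G) = g * q * g⁻¹ := by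
    intro g q
    show ((ρ₀ (e.symm (e (QuotientGroup.mk' Q g))) q : ↥Q) : G) = _
    rw [e.symm_apply_apply]
    show (((MulAut.conjNormal g : MulAut ↥Q) q : ↥Q) : G) = _
    rw [MulAut.conjNormal_apply]
  let _ : DistribMulAction (Matrix.SpecialLinearGroup (Fin 2) K) (Additive ↥Q) :=
    { smul := fun l v => Additive.ofMul (ρ l v.toMul)
      one_smul := by
        intro v
        show Additive.ofMul (ρ 1 v.toMul) = v
        rw [map_one]; rfl
      mul_smul := by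
        intro l l' v
        show Additive.ofMul (ρ (l * l') v.toMul) = Additive.ofMul (ρ l (ρ l' v.toMul))
        rw [map_mul]; rfl
      smul_zero := by
        intro l
        show Additive.ofMul (ρ l 1) = 0
        rw [map_one]; rfl
      smul_add := by
        intro l v v'
        show Additive.ofMul (ρ l (v.toMul * v'.toMul)) = _
        rw [map_mul]; rfl }
  have hsm : ∀ (g : G) (v : Additive ↥Q), (((φ g • v : Additive ↥Q).toMul : ↥Q) : G) = g * (v.toMul : ↥Q) * g⁻¹ :=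
    fun g v => hρ g v.toMul
  have hex : ∃ a : K, a ≠ 0 ∧ a ≠ 1 := by
    classical
    by_contra hcon
    push Not at hcon
    have h1 : (Finset.univ : Finset K) ⊆ {0, 1} := by
      intro a _
      by_cases h0 : a = 0
      · simp [h0]
      · simp [hcon a h0]
    have h2 := Finset.card_le_card h1
    rw [Finset.card_univ] at h2
    have h3 : ({0, 1} : Finset K).card ≤ 2 := Finset.card_le_two
    omega
  have hx3 : x ^ 3 = 1 := by rw [← hx]; exact pow_orderOf_eq_one x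
  have hord : orderOf (φ x) = 3 := by
    have : Fact (Nat.Prime 3) := ⟨Nat.prime_three⟩
    apply orderOf_eq_prime
    · rw [← map_pow, hx3, map_one]
    · intro h3
      rw [hφk] at h3
      have h4 := hfpf' x h3 rfl
      rw [h4, orderOf_one] at hx
      omega
  obtain ⟨h2, k, f, π, hf, hπ, hπ0, hsum⟩ := H274.SL2Fpf.main (K := K) (V := Additive ↥Q) hex hord (by
    intro v hv
    have h1 := hsm x v
    rw [hv] at h1
    have h2 := hfpf _ v.toMul.2 h1.symm
    exact Subtype.ext h2)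
  let F : Fin k → (Multiplicative (Fin 2 → K) →* ↥Q) := fun i => (f i).toMultiplicativeLeft
  let P : Fin k → (↥Q →* Multiplicative (Fin 2 → K)) := fun i => (π i).toMultiplicativeRight
  have hPF : ∀ i v, P i (F i v) = v := fun i v => hπ i v
  have hPF0 : ∀ i j v, i ≠ j → P i (F j v) = 1 := fun i j v h => hπ0 i j v h
  have hFe : ∀ i (g : G) (v : Multiplicative (Fin 2 → K)),
      g * (F i v : G) * g⁻¹ = (F i (Multiplicative.ofAdd ((φ g).1.mulVec (Multiplicative.toAdd v))) : G) := by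
    intro i g v
    have h1 := hsm g (f i (Multiplicative.toAdd v))
    rw [hf] at h1
    exact h1.symm
  let V : Fin k → Subgroup G := fun i => (Q.subtype.comp (F i)).range
  have hV : ∀ i g, g ∈ V i ↔ ∃ v, (F i v : G) = g := fun i g => Iff.rfl
  have hVQ : ∀ i, V i ≤ Q := by
    rintro i _ ⟨v, rfl⟩
    exact (F i v).2
  have hVn : ∀ i, (V i).Normal := by
    intro i
    refine ⟨?_⟩
    rintro _ ⟨v, rfl⟩ g
    exact ⟨_, (hFe i g v).symm⟩
  refine ⟨⟨⟨⟨mul_comm⟩⟩, ?_⟩, k, V, ?_, ?_, ?_⟩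
  · intro a ha
    have h3 := h2 (Additive.ofMul ⟨a, ha⟩)
    have h4 : (⟨a, ha⟩ : ↥Q) * ⟨a, ha⟩ = 1 := h3
    rw [pow_two]
    exact congrArg Subtype.val h4
  · intro i
    refine ⟨hVQ i, hVn i, ?_, bot_le, ?_⟩
    · have := hVn i
      rw [normalizer_eq_top]
    · refine ⟨φ.comp (Subgroup.subtype ⊤), (P i).comp (Subgroup.inclusion (hVQ i)), ?_, ?_, ?_, ?_⟩
      · rw [eq_top_iff]
        intro l _
        obtain ⟨g, hg⟩ := hφs l
        exact ⟨⟨g, mem_top g⟩, hg⟩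
      · intro v
        exact ⟨⟨(F i v : G), v, rfl⟩, hPF i v⟩
      · rintro ⟨u, v, rfl⟩
        have h3 : ((P i).comp (Subgroup.inclusion (hVQ i))) ⟨(Q.subtype.comp (F i)) v, v, rfl⟩ = v := hPF i v
        rw [h3, mem_bot]
        constructor
        · rintro rfl
          exact map_one (Q.subtype.comp (F i))
        · intro h4
          have h5 : F i v = 1 := Subtype.ext h4
          rw [← hPF i v, h5, map_one]
      · rintro g ⟨u, v, rfl⟩
        refine ⟨⟨(g : G) * (F i v : G) * (g : G)⁻¹, (hVn i).conj_mem _ ⟨v, rfl⟩ g⟩, rfl, ?_⟩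
        have h3 : ((P i).comp (Subgroup.inclusion (hVQ i))) ⟨(Q.subtype.comp (F i)) v, v, rfl⟩ = v := hPF i v
        rw [h3]
        have h4 : (Subgroup.inclusion (hVQ i)) ⟨(g : G) * (F i v : G) * (g : G)⁻¹, (hVn i).conj_mem _ ⟨v, rfl⟩ g⟩ =
            F i (Multiplicative.ofAdd ((φ g).1.mulVec (Multiplicative.toAdd v))) := Subtype.ext (hFe i g v)
        rw [MonoidHom.comp_apply, h4, hPF]
        rfl
  · intro i
    rw [Subgroup.disjoint_def]
    rintro _ ⟨v, rfl⟩ h3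
    have h4 : ⨆ j, ⨆ (_ : j ≠ i), V j ≤ ((P i).ker).map Q.subtype := by
      refine iSup_le fun j => iSup_le fun hj => ?_
      rintro _ ⟨v, rfl⟩
      exact ⟨F j v, hPF0 i j v hj.symm, rfl⟩
    obtain ⟨q, hq, hqv⟩ := h4 h3
    have h5 : q = F i v := Subtype.ext hqv
    rw [h5] at hq
    have h6 : P i (F i v) = 1 := hq
    rw [hPF] at h6
    rw [h6, map_one]
  · apply le_antisymm (iSup_le hVQ)
    intro q hq
    have h3 := hsum (Additive.ofMul ⟨q, hq⟩)
    have h4 : Additive.ofMul (⟨q, hq⟩ : ↥Q) ∈ Subgroup.toAddSubgroup ((⨆ i, V i).subgroupOf Q) := by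
      rw [h3]
      refine AddSubgroup.sum_mem _ fun i _ => ?_
      show ((F i (P i ⟨q, hq⟩) : ↥Q) : G) ∈ ⨆ i, V i
      exact (le_iSup V i) ⟨_, rfl⟩
    exact h4

end Cfsg.Agent.S3050
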