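import Cfsg.Statements.S3952
import Cfsg.Agent.Characters.CentralCharacter
import Cfsg.Agent.Characters.Counting
import Cfsg.Agent.H487.SchurMult
import Mathlib.GroupTheory.FiniteAbelian.Duality

set_option autoImplicit false
open Cfsg

namespace Cfsg.Agent.S3952

open Cfsg.Agent.H487 Cfsg.Agent.Characters.CentralCharacter Cfsg.Agent.Characters.Counting
  Cfsg.Agent.Characters.Core

universe u v

/-- The central character of an irreducible character, on a subgroup of the centre; if the subgroup is also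
contained in the derived group, its `χ(1)`-th power is trivial. -/
theorem exists_central_char {Γ : Type u} [Group Γ] {χ : Γ → ℂ} (hχ : IsIrrCharacter Γ χ) (Z : Subgroup Γ)
    (hZ : Z ≤ Subgroup.center Γ) :
    ∃ (n : ℕ) (ω : Z →* ℂˣ), 0 < n ∧ χ 1 = n ∧ (∀ z : Z, χ z = n * (ω z : ℂ)) ∧
      (Z ≤ _root_.commutator Γ → ω ^ n = 1) := by
  obtain ⟨n, ρ, hρ, rfl⟩ := hχ
  have hn : 0 < n := by
    have := finrank_pos_of_irreducible ρ
    rwa [Module.finrank_fin_fun] at this
  have h1 : ∀ z : Z, ∃ c : ℂ, (ρ z : Module.End ℂ (Fin n → ℂ)) = c • LinearMap.id := by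
    intro z
    refine exists_scalar_of_commute ρ (ρ z) (fun g v => ?_)
    have h1 := Subgroup.mem_center_iff.1 (hZ z.2) g
    rw [← Module.End.mul_apply, ← Module.End.mul_apply, ← map_mul, ← map_mul, h1]
  choose c hc using h1
  have hinj : ∀ a b : ℂ, a • (LinearMap.id : Module.End ℂ (Fin n → ℂ)) = b • LinearMap.id → a = b := by
    intro a b hab
    have h2 := congrFun (LinearMap.congr_fun hab (fun _ => 1)) ⟨0, hn⟩
    simpa using h2
  let ω0 : Z →* ℂ :=
    { toFun := c
      map_one' := by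
        apply hinj
        rw [← hc, one_smul]
        exact map_one ρ
      map_mul' := fun a b => by
        apply hinj
        rw [← hc, mul_smul, ← hc b]
        have h2 : ρ ((a * b : Z) : Γ) = ρ (a : Γ) * ρ (b : Γ) := map_mul ρ _ _
        rw [h2, hc a]
        ext v
        simp }
  refine ⟨n, ω0.toHomUnits, hn, ?_, ?_, ?_⟩
  · rw [Representation.char_one]
    simp
  · intro z
    change LinearMap.trace ℂ _ (ρ z) = _
    rw [hc z, map_smul, LinearMap.trace_id, Module.finrank_fin_fun, smul_eq_mul, mul_comm]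
    rfl
  · intro hle
    ext z
    change (c z) ^ n = 1
    set D : Γ →* ℂ := (LinearMap.det : Module.End ℂ (Fin n → ℂ) →* ℂ).comp ρ with hD
    have h1 : (z : Γ) ∈ (D.toHomUnits).ker := Abelianization.commutator_subset_ker _ (hle z.2)
    have h2 : D z = 1 := by
      have h3 := congrArg Units.val (MonoidHom.mem_ker.1 h1)
      simpa using h3
    rw [hD, MonoidHom.comp_apply] at h2
    change LinearMap.det (ρ z : Module.End ℂ (Fin n → ℂ)) = 1 at h2
    rw [hc z, LinearMap.det_smul, LinearMap.det_id, mul_one, Module.finrank_fin_fun] at h2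
    exact h2

/-- Orthogonality of the linear characters of a finite group. -/
theorem sum_hom_eq_zero {Z : Type u} [Group Z] [Fintype Z] (μ : Z →* ℂˣ) (hμ : μ ≠ 1) :
    ∑ z : Z, (μ z : ℂ) = 0 := by
  obtain ⟨a, ha⟩ : ∃ a, μ a ≠ 1 := by
    by_contra h
    push Not at h
    exact hμ (MonoidHom.ext h)
  have h1 : (μ a : ℂ) * ∑ z : Z, (μ z : ℂ) = ∑ z : Z, (μ z : ℂ) := by
    rw [Finset.mul_sum]
    refine Fintype.sum_equiv (Equiv.mulLeft a) _ _ (fun z => ?_)
    rw [Equiv.coe_mulLeft, map_mul, Units.val_mul]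
  have h2 : ((μ a : ℂ) - 1) * ∑ z : Z, (μ z : ℂ) = 0 := by
    rw [sub_mul, one_mul, h1, sub_self]
  rcases mul_eq_zero.1 h2 with h3 | h3
  · exact absurd (Units.ext (sub_eq_zero.1 h3)) ha
  · exact h3

/-- If a finite group `Γ` has a subgroup `Z` in the centre and the derived group with a linear character of order
`e`, then `e ^ 2` divides `|Γ : Z|`. -/
theorem sq_dvd_index {Γ : Type u} [Group Γ] [Finite Γ] (Z : Subgroup Γ) (hZ : Z ≤ Subgroup.center Γ)
    (hZ' : Z ≤ _root_.commutator Γ) (μ : Z →* ℂˣ) : orderOf μ ^ 2 ∣ Z.index := by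
  classical
  have := finite_irr (G := Γ)
  let _ : Fintype (IrrCharacter Γ) := Fintype.ofFinite _
  let _ : Fintype Z := Fintype.ofFinite _
  have hex := fun χ : IrrCharacter Γ => exists_central_char χ.2 Z hZ
  choose n ω hn h1 h2 h3 using hex
  have key : (∑ χ : IrrCharacter Γ, if ω χ = μ then (n χ : ℂ) ^ 2 else 0) = (Z.index : ℂ) := by
    have h4 : ∑ z : Z, ∑ χ : IrrCharacter Γ, (χ : Γ → ℂ) 1 * (χ : Γ → ℂ) z * ((μ z)⁻¹ : ℂˣ) =
        (Nat.card Γ : ℂ) := by
      have h5 : ∀ z : Z, ∑ χ : IrrCharacter Γ, (χ : Γ → ℂ) 1 * (χ : Γ → ℂ) z * ((μ z)⁻¹ : ℂˣ) =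
          if z = 1 then (Nat.card Γ : ℂ) else 0 := by
        intro z
        rw [← Finset.sum_mul, sum_irr_one_mul]
        by_cases hz : z = 1
        · subst hz
          simp
        · have hz' : (z : Γ) ≠ 1 := fun h => hz (Subtype.ext h)
          rw [if_neg hz', if_neg hz, zero_mul]
      rw [Finset.sum_congr rfl (fun z _ => h5 z)]
      simp
    rw [Finset.sum_comm] at h4
    have h6 : ∀ χ : IrrCharacter Γ, ∑ z : Z, (χ : Γ → ℂ) 1 * (χ : Γ → ℂ) z * ((μ z)⁻¹ : ℂˣ) =
        (Nat.card Z : ℂ) * (if ω χ = μ then (n χ : ℂ) ^ 2 else 0) := by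
      intro χ
      have h7 : ∀ z : Z, (χ : Γ → ℂ) 1 * (χ : Γ → ℂ) z * ((μ z)⁻¹ : ℂˣ) =
          (n χ : ℂ) ^ 2 * ((ω χ * μ⁻¹ : Z →* ℂˣ) z : ℂ) := by
        intro z
        rw [h1, h2, MonoidHom.mul_apply, MonoidHom.inv_apply, Units.val_mul]
        ring
      rw [Finset.sum_congr rfl (fun z _ => h7 z), ← Finset.mul_sum]
      by_cases hω : ω χ = μ
      · have h8 : ∀ z : Z, ((ω χ * μ⁻¹ : Z →* ℂˣ) z : ℂ) = 1 := by
          intro z
          rw [hω, MonoidHom.mul_apply, MonoidHom.inv_apply, mul_inv_cancel, Units.val_one]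
        rw [if_pos hω, Finset.sum_congr rfl (fun z _ => h8 z), Finset.sum_const, Finset.card_univ,
          nsmul_eq_mul, mul_one, mul_comm, Nat.card_eq_fintype_card]
      · rw [if_neg hω, sum_hom_eq_zero, mul_zero, mul_zero]
        intro h8
        apply hω
        ext z
        have h9 := DFunLike.congr_fun h8 z
        rw [MonoidHom.mul_apply, MonoidHom.inv_apply, MonoidHom.one_apply] at h9
        exact congrArg Units.val (mul_inv_eq_one.1 h9)
    rw [Finset.sum_congr rfl (fun χ _ => h6 χ), ← Finset.mul_sum] at h4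
    have h9 : (Nat.card Z : ℂ) ≠ 0 := by exact_mod_cast Nat.card_pos.ne'
    apply mul_left_cancel₀ h9
    rw [h4, ← Subgroup.card_mul_index Z, Nat.cast_mul]
  have hdvd : ∀ χ, ω χ = μ → orderOf μ ∣ n χ := by
    intro χ hχ
    rw [orderOf_dvd_iff_pow_eq_one, ← hχ]
    exact h3 χ hZ'
  have key2 : (∑ χ : IrrCharacter Γ, if ω χ = μ then (n χ) ^ 2 else 0) = Z.index := by
    have : ((∑ χ : IrrCharacter Γ, if ω χ = μ then (n χ) ^ 2 else 0 : ℕ) : ℂ) = (Z.index : ℂ) := by
      rw [← key]
      push_cast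
      rfl
    exact_mod_cast this
  rw [← key2]
  apply Finset.dvd_sum
  intro χ _
  split_ifs with h
  · exact pow_dvd_pow_of_dvd (hdvd χ h) 2
  · exact dvd_zero _

/-- If `A` is the Schur multiplier of the finite group `Q`, then the square of the exponent of `A` divides the order of `Q`. -/
theorem result {Q : Type*} [Group Q] [Finite Q] {A : Type*} [CommGroup A] (hA : Cfsg.HasSchurMultiplier Q A) : Monoid.exponent A ^ 2 ∣ Nat.card Q := by
  have : Finite A := finite_multiplier hA
  obtain ⟨⟨Γ, _, _, σ, ⟨hs, hc, hk⟩, ⟨e⟩⟩, -⟩ := hA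
  have : NeZero (Monoid.exponent A) := ⟨Monoid.exponent_ne_zero_of_finite⟩
  have : NeZero ((Monoid.exponent A : ℕ) : ℂ) := ⟨by exact_mod_cast NeZero.ne (Monoid.exponent A)⟩
  obtain ⟨eA⟩ := CommGroup.monoidHom_mulEquiv_of_hasEnoughRootsOfUnity A ℂ
  obtain ⟨a, ha⟩ := Monoid.exists_orderOf_eq_exponent (Monoid.ExponentExists.of_finite (G := A))
  have h1 := sq_dvd_index σ.ker hc hk ((eA.symm a).comp e.toMonoidHom)
  have h2 : orderOf ((eA.symm a).comp e.toMonoidHom) = Monoid.exponent A := by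
    rw [← ha]
    have h3 : ∀ k : ℕ, ((eA.symm a).comp e.toMonoidHom) ^ k = 1 ↔ a ^ k = 1 := by
      intro k
      constructor
      · intro h
        have h4 : (eA.symm a) ^ k = 1 := by
          ext x
          have := DFunLike.congr_fun h (e.symm x)
          have h5 : (eA.symm a (e (e.symm x))) ^ k = 1 := this
          rw [e.apply_symm_apply] at h5
          exact congrArg Units.val h5
        apply eA.symm.injective
        rw [map_pow, h4, map_one]
      · intro h
        have h4 : (eA.symm a) ^ k = 1 := by rw [← map_pow, h, map_one]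
        ext x
        exact congrArg Units.val (DFunLike.congr_fun h4 (e x))
    apply Nat.dvd_antisymm
    · rw [orderOf_dvd_iff_pow_eq_one, h3, pow_orderOf_eq_one]
    · rw [orderOf_dvd_iff_pow_eq_one, ← h3, pow_orderOf_eq_one]
  rw [h2] at h1
  have h3 : σ.ker.index = Nat.card Q := by
    rw [Subgroup.index_eq_card]
    exact Nat.card_congr (QuotientGroup.quotientKerEquivOfSurjective σ hs).toEquiv
  rwa [h3] at h1

end Cfsg.Agent.S3952
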