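import Cfsg.Statements.S4366
import Cfsg.Agent.H576.PrimAll
import Cfsg.Agent.S0000

set_option autoImplicit false
open Cfsg

namespace Cfsg.Agent.S4366

/-- Let N be a normal subgroup of a finite group G, p a prime and a ≥ 1. Suppose that for every element x of N of prime-power order lying outside the center of N, the largest power of p dividing the size of the conjugacy class of x in G is exactly pᵃ. Then N is solvable and has a normal p-complement (a normal subgroup of N of order prime to p and p-power index in N). -/
theorem result {G : Type*} [Group G] [Finite G]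
    (N : Subgroup G) [N.Normal] (p : ℕ) [Fact p.Prime] (a : ℕ) (ha : 1 ≤ a)
    (h : ∀ x : G, x ∈ N → (∃ y ∈ N, x * y ≠ y * x) → IsPrimePow (orderOf x) →
      ((Subgroup.centralizer ({x} : Set G)).index).factorization p = a) :
    Group.IsSolvable N ∧ ∃ K : Subgroup G, K ≤ N ∧ (K.subgroupOf N).Normal ∧ ¬ p ∣ Nat.card K ∧
      ∃ k : ℕ, K.relIndex N = p ^ k := by
  exact Cfsg.Agent.H576.Prim.main N p a ha h fun S _ _ _ hS =>
    Cfsg.Agent.H576.Prim.good_known hS Cfsg.Agent.S0000.result

end Cfsg.Agent.S4366
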