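import Cfsg.Statements.S4194
import Cfsg.Agent.H539.CaminaHerzog

set_option autoImplicit false
open Cfsg

namespace Cfsg.Agent.S4194

/-- A finite group G has commutative Sylow 2-subgroups if and only if every 2-element of G (element of order a power of 2) is 2-central, that is, its centralizer contains a Sylow 2-subgroup of G. -/
theorem result {G : Type*} [Group G] [Finite G] (P : Sylow 2 G) :
    IsMulCommutative (P : Subgroup G) ↔ ∀ x : G, (∃ k : ℕ, orderOf x = 2 ^ k) → (∃ Q : Sylow 2 G, (Q : Subgroup G) ≤ Subgroup.centralizer ({x} : Set G)) := by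
  constructor
  · rintro hc x ⟨k, hk⟩
    have hp : IsPGroup 2 (Subgroup.zpowers x) := by
      apply IsPGroup.of_card (n := k)
      rw [Nat.card_zpowers, hk]
    obtain ⟨Q, hQ⟩ := hp.exists_le_sylow
    have hxQ : x ∈ (Q : Subgroup G) := hQ (Subgroup.mem_zpowers x)
    obtain ⟨g, hg⟩ := MulAction.exists_smul_eq G Q P
    have hmem : ∀ y ∈ (Q : Subgroup G), g * y * g⁻¹ ∈ (P : Subgroup G) := by
      intro y hy
      rw [← hg]
      show g * y * g⁻¹ ∈ ((g • Q : Sylow 2 G) : Subgroup G)
      rw [Sylow.coe_subgroup_smul]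
      exact Subgroup.smul_mem_pointwise_smul y (MulAut.conj g) _ hy
    refine ⟨Q, ?_⟩
    intro y hy
    rw [Subgroup.mem_centralizer_singleton_iff]
    have h1 := hc.is_comm.comm (⟨g * y * g⁻¹, hmem y hy⟩ : (P : Subgroup G)) ⟨g * x * g⁻¹, hmem x hxQ⟩
    have h2 : (g * y * g⁻¹) * (g * x * g⁻¹) = (g * x * g⁻¹) * (g * y * g⁻¹) := congrArg Subtype.val h1
    have h3 : g * (y * x) * g⁻¹ = g * (x * y) * g⁻¹ := by
      calc g * (y * x) * g⁻¹ = (g * y * g⁻¹) * (g * x * g⁻¹) := by group
        _ = (g * x * g⁻¹) * (g * y * g⁻¹) := h2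
        _ = g * (x * y) * g⁻¹ := by group
    exact mul_left_cancel (mul_right_cancel h3)
  · intro h
    have hprop : Cfsg.Agent.H539.CaminaHerzog.Prop1 (P : Subgroup G) := by
      intro x hx
      obtain ⟨k, hk⟩ := (IsPGroup.iff_orderOf.1 P.isPGroup') ⟨x, hx⟩
      rw [Subgroup.orderOf_mk] at hk
      obtain ⟨Q, hQ⟩ := h x ⟨k, hk⟩
      -- `x ∈ Q`
      have hcen : ∀ y ∈ (Q : Subgroup G), y * x = x * y := fun y hy =>
        Subgroup.mem_centralizer_singleton_iff.1 (hQ hy)
      have hxQ : x ∈ (Q : Subgroup G) := by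
        have hnorm : Subgroup.zpowers x ≤ Subgroup.normalizer ((Q : Subgroup G) : Set G) := by
          rw [Subgroup.zpowers_le, Subgroup.mem_normalizer_iff]
          intro y
          constructor
          · intro hy
            have : x * y * x⁻¹ = y := by rw [← hcen y hy]; group
            rwa [this]
          · intro hy
            have h1 := hcen _ hy
            have h2 : x * y * x⁻¹ = y := by
              have h3 : x * (y * x⁻¹ * x) = x * (x * y * x⁻¹) := by
                calc x * (y * x⁻¹ * x) = x * y * x⁻¹ * x := by group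
                  _ = x * (x * y * x⁻¹) := h1
              have h4 := mul_left_cancel h3
              rw [← h4]; group
            rwa [h2] at hy
        have hpx : IsPGroup 2 (Subgroup.zpowers x) := by
          apply IsPGroup.of_card (n := k)
          rw [Nat.card_zpowers, hk]
        have hle : Subgroup.zpowers x ≤ (Q : Subgroup G) := by
          have h5 : IsPGroup 2 ((Subgroup.zpowers x ⊔ (Q : Subgroup G) : Subgroup G)) :=
            hpx.to_sup_of_normal_right' Q.isPGroup' hnorm
          have h6 := Q.is_maximal' h5 le_sup_right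
          rw [← h6]
          exact le_sup_left
        exact hle (Subgroup.mem_zpowers x)
      obtain ⟨g, hg⟩ := MulAction.exists_smul_eq G Q P
      refine ⟨g, ?_, ?_⟩
      · rw [← hg]
        show g * x * g⁻¹ ∈ ((g • Q : Sylow 2 G) : Subgroup G)
        rw [Sylow.coe_subgroup_smul]
        exact Subgroup.smul_mem_pointwise_smul x (MulAut.conj g) _ hxQ
      · intro y hy
        rw [← hg] at hy
        change y ∈ ((g • Q : Sylow 2 G) : Subgroup G) at hy
        rw [Sylow.coe_subgroup_smul] at hy
        obtain ⟨z, hz, rfl⟩ := hy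
        have h1 := hcen z hz
        show (g * z * g⁻¹) * (g * x * g⁻¹) = (g * x * g⁻¹) * (g * z * g⁻¹)
        calc (g * z * g⁻¹) * (g * x * g⁻¹) = g * (z * x) * g⁻¹ := by group
          _ = g * (x * z) * g⁻¹ := by rw [h1]
          _ = _ := by group
    have hmain := Cfsg.Agent.H539.CaminaHerzog.main _ G rfl P hprop
    exact ⟨⟨fun a b => Subtype.ext (hmain a a.2 b b.2)⟩⟩

end Cfsg.Agent.S4194
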