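import Cfsg.Statements.S4476
import Cfsg.Agent.CharactersDeep.FeitOddAux
import Cfsg.Agent.Characters.Counting
import Cfsg.Agent.Blocks.Basic
-- import your own Cfsg.Agent.* helpers here

set_option autoImplicit false
open Cfsg

namespace Cfsg.Agent.S4476

open Cfsg.Agent.Characters Cfsg.Agent.Characters.Core
open scoped ComplexConjugate

universe u
variable {G : Type u} [Group G]

/-- The Frobenius-Schur count of square roots of one. -/
theorem sum_indicator [Fintype G] [Fintype (IrrCharacter G)] {ν : IrrCharacter G → ℤ}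
    (hν : ∀ χ : IrrCharacter G, (Nat.card G : ℂ)⁻¹ * ∑ s : G, (χ : G → ℂ) (s * s) = ν χ) :
    ∑ χ : IrrCharacter G, ν χ * (charDegree (χ : G → ℂ) : ℤ) = Nat.card {s : G // s * s = 1} := by
  classical
  have hne : (Nat.card G : ℂ) ≠ 0 := Core.card_ne_zero_complex
  have h2 : ((∑ χ : IrrCharacter G, ν χ * (charDegree (χ : G → ℂ) : ℤ) : ℤ) : ℂ) =
      ((Nat.card {s : G // s * s = 1} : ℤ) : ℂ) := by
    push_cast
    calc ∑ χ : IrrCharacter G, (ν χ : ℂ) * (charDegree (χ : G → ℂ) : ℂ)
        = ∑ χ : IrrCharacter G, (Nat.card G : ℂ)⁻¹ *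
            ∑ s : G, (χ : G → ℂ) 1 * (χ : G → ℂ) (s * s) := by
          refine Finset.sum_congr rfl fun χ _ => ?_
          rw [← hν χ, ← Blocks.Basic.irr_one_eq_charDegree χ.2, mul_assoc, Finset.sum_mul]
          congr 1
          exact Finset.sum_congr rfl fun s _ => mul_comm _ _
      _ = (Nat.card G : ℂ)⁻¹ * ∑ s : G, if s * s = 1 then (Nat.card G : ℂ) else 0 := by
          rw [← Finset.mul_sum, Finset.sum_comm]
          congr 1
          refine Finset.sum_congr rfl fun s _ => ?_
          rw [Counting.sum_irr_one_mul]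
      _ = (Nat.card {s : G // s * s = 1} : ℂ) := by
          rw [← Finset.sum_filter, Finset.sum_const, nsmul_eq_mul, mul_comm, mul_assoc,
            mul_inv_cancel₀ hne, mul_one, Nat.card_eq_fintype_card, Fintype.card_subtype]
  exact_mod_cast h2

/-- The sum of the squares of the degrees. -/
theorem sum_sq [Finite G] [Fintype (IrrCharacter G)] :
    ∑ χ : IrrCharacter G, charDegree (χ : G → ℂ) ^ 2 = Nat.card G := by
  classical
  have h := Counting.sum_irr_one_mul (G := G) 1
  rw [if_pos rfl] at h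
  have h2 : ((∑ χ : IrrCharacter G, charDegree (χ : G → ℂ) ^ 2 : ℕ) : ℂ) = (Nat.card G : ℂ) := by
    rw [← h]
    push_cast
    refine Finset.sum_congr rfl fun χ _ => ?_
    rw [Blocks.Basic.irr_one_eq_charDegree χ.2, pow_two]
  exact_mod_cast h2

/-- The number of solutions of `s * s = 1`. -/
theorem card_sq_eq_one [Finite G] :
    Nat.card {s : G // s * s = 1} = Nat.card {x : G // orderOf x = 2} + 1 := by
  classical
  have := Fintype.ofFinite G
  rw [Nat.card_eq_fintype_card, Nat.card_eq_fintype_card, Fintype.card_subtype,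
    Fintype.card_subtype]
  have : (Finset.univ.filter (fun s : G => s * s = 1)) =
      insert 1 (Finset.univ.filter (fun x : G => orderOf x = 2)) := by
    ext x
    simp only [Finset.mem_filter, Finset.mem_univ, true_and, Finset.mem_insert]
    rw [← pow_two]
    constructor
    · intro h
      by_cases h1 : x = 1
      · exact Or.inl h1
      · exact Or.inr (orderOf_eq_prime h h1)
    · rintro (rfl | h)
      · simp
      · rw [← h, pow_orderOf_eq_one]
  rw [this, Finset.card_insert_of_notMem]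
  simp

/-- The sum of the orders of the centralizers. -/
theorem sum_card_centralizer [Fintype G] :
    ∑ x : G, Nat.card (Subgroup.centralizer ({x} : Set G)) =
      Nat.card (ConjClasses G) * Nat.card G := by
  rw [← card_comm_eq_card_conjClasses_mul_card]
  rw [Nat.card_congr (Equiv.subtypeProdEquivSigmaSubtype (fun a b : G => Commute a b)),
    Nat.card_sigma]
  refine Finset.sum_congr rfl fun x _ => ?_
  refine Nat.card_congr (Equiv.subtypeEquivRight fun y => ?_)
  rw [Subgroup.mem_centralizer_singleton_iff]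
  exact ⟨fun h => h.symm, fun h => h.symm⟩

/-- Let G be a finite group of even order g with exactly t involutions, and put α = (g − 1)/t (a rational number). Then (a) some non-identity element x of G has at most α² conjugates; and (b) some non-principal real-valued irreducible character of G has degree at most α. -/
theorem result {G : Type*} [Group G] [Fintype G] (heven : Even (Nat.card G)) (t : ℕ) (ht : Nat.card {x : G // orderOf x = 2} = t) : (∃ x : G, x ≠ 1 ∧ ((Subgroup.centralizer ({x} : Set G)).index : ℚ) ≤ (((Nat.card G : ℚ) - 1) / t) ^ 2) ∧ ∃ χ : Cfsg.IrrCharacter G, (χ : G → ℂ) ≠ (fun _ => 1) ∧ (∀ g : G, ((χ : G → ℂ) g).im = 0) ∧ (Cfsg.charDegree (χ : G → ℂ) : ℚ) ≤ ((Nat.card G : ℚ) - 1) / t := by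
  classical
  have hfin : Finite (IrrCharacter G) := finite_irr
  have hft : Fintype (IrrCharacter G) := Fintype.ofFinite _
  -- positivity of t
  obtain ⟨u, hu⟩ := exists_prime_orderOf_dvd_card' (G := G) 2 heven.two_dvd
  have htpos : 0 < t := by
    rw [← ht]
    have : Nonempty {x : G // orderOf x = 2} := ⟨⟨u, hu⟩⟩
    exact Nat.card_pos
  have hu1 : u ≠ 1 := by
    rintro rfl
    rw [orderOf_one] at hu
    omega
  have hg2 : 2 ≤ Nat.card G := by
    have : 1 < Nat.card G := by
      have : Nontrivial G := ⟨⟨u, 1, hu1⟩⟩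
      exact Finite.one_lt_card
    omega
  -- indicators
  choose ν hν3 hν hν0 using fun χ : IrrCharacter G =>
    CharactersDeep.FeitOddAux.exists_indicator (G := G) χ.2
  have hsum := sum_indicator hν
  rw [card_sq_eq_one, ht] at hsum
  set one : IrrCharacter G := ⟨1, isIrr_one⟩ with hone
  have hdone : charDegree (one : G → ℂ) = 1 := Blocks.Basic.charDegree_of_eq (by simp [hone])
  have hνone : ν one = 1 := by
    have h1 := hν one
    have h2 : (Nat.card G : ℂ)⁻¹ * ∑ s : G, (one : G → ℂ) (s * s) = 1 := by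
      simp only [hone, Pi.one_apply, Finset.sum_const, Finset.card_univ, nsmul_eq_mul, mul_one]
      rw [Nat.card_eq_fintype_card]
      exact inv_mul_cancel₀ (by exact_mod_cast Fintype.card_ne_zero)
    rw [h2] at h1
    exact_mod_cast h1.symm
  -- the set of nonprincipal real characters
  set R : Finset (IrrCharacter G) := (Finset.univ.erase one).filter (fun χ => ν χ ≠ 0) with hR
  have hRreal : ∀ χ ∈ R, (χ : G → ℂ) ≠ (fun _ => 1) ∧ ∀ g : G, ((χ : G → ℂ) g).im = 0 := by
    intro χ hχ
    rw [hR, Finset.mem_filter, Finset.mem_erase] at hχ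
    refine ⟨fun h => hχ.1.1 (Subtype.ext h), ?_⟩
    intro g
    by_contra hg
    exact hχ.2 ((hν0 χ).2 ⟨g, hg⟩)
  have hRt : t ≤ ∑ χ ∈ R, charDegree (χ : G → ℂ) := by
    rw [← Finset.add_sum_erase Finset.univ _ (Finset.mem_univ one), hνone, hdone] at hsum
    have h1 : (t : ℤ) = ∑ χ ∈ Finset.univ.erase one, ν χ * (charDegree (χ : G → ℂ) : ℤ) := by
      push_cast at hsum
      linarith
    have h2 : (t : ℤ) ≤ ∑ χ ∈ R, (charDegree (χ : G → ℂ) : ℤ) := by
      rw [h1, hR, Finset.sum_filter]
      refine Finset.sum_le_sum fun χ _ => ?_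
      have hd : (0 : ℤ) ≤ charDegree (χ : G → ℂ) := Int.natCast_nonneg _
      rcases hν3 χ with h | h | h
      · rw [h]; simp
      · rw [h]; simp
      · rw [h]; simp
    exact_mod_cast h2
  have hRsq : ∑ χ ∈ R, charDegree (χ : G → ℂ) ^ 2 + 1 ≤ Nat.card G := by
    rw [← sum_sq (G := G), ← Finset.add_sum_erase Finset.univ _ (Finset.mem_univ one), hdone]
    have : ∑ χ ∈ R, charDegree (χ : G → ℂ) ^ 2 ≤
        ∑ χ ∈ Finset.univ.erase one, charDegree (χ : G → ℂ) ^ 2 := by
      rw [hR]
      exact Finset.sum_le_sum_of_subset (Finset.filter_subset _ _)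
    omega
  have hRcard : R.card + 1 ≤ Nat.card (ConjClasses G) := by
    rw [← card_irr, Nat.card_eq_fintype_card, ← Finset.card_univ,
      ← Finset.card_erase_add_one (Finset.mem_univ one)]
    exact Nat.add_le_add_right (Finset.card_le_card (Finset.filter_subset _ _)) 1
  -- casts to ℚ
  have htq : (0 : ℚ) < t := by exact_mod_cast htpos
  have hgq : (0 : ℚ) < (Nat.card G : ℚ) - 1 := by
    have : (2 : ℚ) ≤ (Nat.card G : ℚ) := by exact_mod_cast hg2
    linarith
  have hRtq : (t : ℚ) ≤ ∑ χ ∈ R, (charDegree (χ : G → ℂ) : ℚ) := by exact_mod_cast hRt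
  have hRsqq : ∑ χ ∈ R, (charDegree (χ : G → ℂ) : ℚ) ^ 2 ≤ (Nat.card G : ℚ) - 1 := by
    have : ((∑ χ ∈ R, charDegree (χ : G → ℂ) ^ 2 + 1 : ℕ) : ℚ) ≤ (Nat.card G : ℚ) := by
      exact_mod_cast hRsq
    push_cast at this
    linarith
  set α : ℚ := ((Nat.card G : ℚ) - 1) / t with hα
  have hαpos : 0 < α := div_pos hgq htq
  have hαt : α * t = (Nat.card G : ℚ) - 1 := div_mul_cancel₀ _ htq.ne'
  refine ⟨?_, ?_⟩
  · by_contra hcon
    push Not at hcon
    -- |C(x)| α² < g for all x ≠ 1
    have hC : ∀ x : G, x ≠ 1 →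
        (Nat.card (Subgroup.centralizer ({x} : Set G)) : ℚ) * α ^ 2 < Nat.card G := by
      intro x hx
      have h1 := hcon x hx
      have h2 : (Nat.card (Subgroup.centralizer ({x} : Set G)) : ℚ) *
          (Subgroup.centralizer ({x} : Set G)).index = Nat.card G := by
        exact_mod_cast Subgroup.card_mul_index _
      rw [← h2]
      have h3 : (0 : ℚ) < Nat.card (Subgroup.centralizer ({x} : Set G)) := by
        exact_mod_cast Nat.card_pos
      exact mul_lt_mul_of_pos_left h1 h3
    have hcc := sum_card_centralizer (G := G)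
    have hccq : ∑ x : G, (Nat.card (Subgroup.centralizer ({x} : Set G)) : ℚ) =
        Nat.card (ConjClasses G) * Nat.card G := by exact_mod_cast hcc
    rw [← Finset.add_sum_erase Finset.univ _ (Finset.mem_univ (1 : G))] at hccq
    have hC1 : (Nat.card (Subgroup.centralizer ({(1 : G)} : Set G)) : ℚ) = Nat.card G := by
      have : Subgroup.centralizer ({(1 : G)} : Set G) = ⊤ := by
        rw [eq_top_iff]
        intro x _
        rw [Subgroup.mem_centralizer_singleton_iff, mul_one, one_mul]
      rw [this, Subgroup.card_top]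
    rw [hC1] at hccq
    have hlt : (∑ x ∈ Finset.univ.erase (1 : G),
        (Nat.card (Subgroup.centralizer ({x} : Set G)) : ℚ)) * α ^ 2 <
        ((Nat.card G : ℚ) - 1) * Nat.card G := by
      rw [Finset.sum_mul]
      calc ∑ x ∈ Finset.univ.erase (1 : G),
            (Nat.card (Subgroup.centralizer ({x} : Set G)) : ℚ) * α ^ 2
          < ∑ x ∈ Finset.univ.erase (1 : G), (Nat.card G : ℚ) := by
            refine Finset.sum_lt_sum_of_nonempty ⟨u, Finset.mem_erase.2 ⟨hu1, Finset.mem_univ u⟩⟩ ?_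
            intro x hx
            exact hC x (Finset.ne_of_mem_erase hx)
        _ = ((Nat.card G : ℚ) - 1) * Nat.card G := by
            rw [Finset.sum_const, nsmul_eq_mul, Finset.card_erase_of_mem (Finset.mem_univ _),
              Finset.card_univ, ← Nat.card_eq_fintype_card, Nat.cast_sub (by omega)]
            simp
    -- Cauchy-Schwarz
    have hCS : (∑ χ ∈ R, (charDegree (χ : G → ℂ) : ℚ)) ^ 2 ≤
        R.card * ∑ χ ∈ R, (charDegree (χ : G → ℂ) : ℚ) ^ 2 := sq_sum_le_card_mul_sum_sq
    have hkq : (R.card : ℚ) ≤ (Nat.card (ConjClasses G) : ℚ) - 1 := by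
      have : ((R.card + 1 : ℕ) : ℚ) ≤ Nat.card (ConjClasses G) := by exact_mod_cast hRcard
      push_cast at this
      linarith
    have h1 : (t : ℚ) ^ 2 ≤ ((Nat.card (ConjClasses G) : ℚ) - 1) * ((Nat.card G : ℚ) - 1) := by
      calc (t : ℚ) ^ 2 ≤ (∑ χ ∈ R, (charDegree (χ : G → ℂ) : ℚ)) ^ 2 :=
            pow_le_pow_left₀ htq.le hRtq 2
        _ ≤ R.card * ∑ χ ∈ R, (charDegree (χ : G → ℂ) : ℚ) ^ 2 := hCS
        _ ≤ ((Nat.card (ConjClasses G) : ℚ) - 1) * ((Nat.card G : ℚ) - 1) := by
            refine mul_le_mul hkq hRsqq (Finset.sum_nonneg fun _ _ => sq_nonneg _) ?_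
            exact le_trans (Nat.cast_nonneg _) hkq
    have h2 : (∑ x ∈ Finset.univ.erase (1 : G),
        (Nat.card (Subgroup.centralizer ({x} : Set G)) : ℚ)) =
        ((Nat.card (ConjClasses G) : ℚ) - 1) * Nat.card G := by
      linarith
    rw [h2] at hlt
    have hGpos : (0 : ℚ) < Nat.card G := by linarith
    have h3 : ((Nat.card (ConjClasses G) : ℚ) - 1) * α ^ 2 < (Nat.card G : ℚ) - 1 := by
      by_contra hle
      push Not at hle
      have := mul_le_mul_of_nonneg_right hle hGpos.le
      nlinarith [this, hlt]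
    have h4 : ((Nat.card G : ℚ) - 1) ^ 2 =
        α ^ 2 * (t : ℚ) ^ 2 := by rw [← hαt]; ring
    have h5 : α ^ 2 * (t : ℚ) ^ 2 ≤
        α ^ 2 * (((Nat.card (ConjClasses G) : ℚ) - 1) * ((Nat.card G : ℚ) - 1)) :=
      mul_le_mul_of_nonneg_left h1 (sq_nonneg α)
    have h6 : α ^ 2 * (((Nat.card (ConjClasses G) : ℚ) - 1) * ((Nat.card G : ℚ) - 1)) <
        ((Nat.card G : ℚ) - 1) * ((Nat.card G : ℚ) - 1) := by
      calc α ^ 2 * (((Nat.card (ConjClasses G) : ℚ) - 1) * ((Nat.card G : ℚ) - 1))
          = (((Nat.card (ConjClasses G) : ℚ) - 1) * α ^ 2) * ((Nat.card G : ℚ) - 1) := by ring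
        _ < _ := mul_lt_mul_of_pos_right h3 hgq
    rw [← h4, pow_two] at h5
    exact absurd (lt_of_le_of_lt h5 h6) (lt_irrefl _)
  · by_contra hcon
    push Not at hcon
    have hd : ∀ χ ∈ R, α < charDegree (χ : G → ℂ) := fun χ hχ =>
      hcon χ (hRreal χ hχ).1 (hRreal χ hχ).2
    have hRne : R.Nonempty := by
      rw [Finset.nonempty_iff_ne_empty]
      intro h0
      rw [h0, Finset.sum_empty] at hRt
      omega
    have h1 : ∑ χ ∈ R, α * (charDegree (χ : G → ℂ) : ℚ) <
        ∑ χ ∈ R, (charDegree (χ : G → ℂ) : ℚ) ^ 2 := by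
      refine Finset.sum_lt_sum_of_nonempty hRne fun χ hχ => ?_
      rw [pow_two]
      exact mul_lt_mul_of_pos_right (hd χ hχ) (hαpos.trans (hd χ hχ))
    rw [← Finset.mul_sum] at h1
    have h2 : α * (t : ℚ) ≤ α * ∑ χ ∈ R, (charDegree (χ : G → ℂ) : ℚ) :=
      mul_le_mul_of_nonneg_left hRtq hαpos.le
    linarith

end Cfsg.Agent.S4476
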