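import Cfsg.Statements.S4604
import Cfsg.Agent.S0876
import Cfsg.Agent.Blocks.ExistsModular
import Cfsg.Agent.Characters.GaloisBasic

set_option autoImplicit false
open Cfsg

namespace Cfsg.Agent.S4604

open Module

/-- `χ(g)^{p^a} ≡ χ(g^{p^a})` modulo `p` in the algebraic integers. -/
theorem pow_congr {G : Type*} [Group G] [Finite G] (p : ℕ) [hp : Fact p.Prime] {χ : G → ℂ}
    (hχ : IsIrrCharacter G χ) (g : G) (a : ℕ) :
    ∃ γ : AlgInt, χ g ^ (p ^ a) - χ (g ^ (p ^ a)) = (p : ℂ) * (γ : ℂ) := by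
  classical
  obtain ⟨m, ρ, -, rfl⟩ := hχ
  have hn : orderOf g ≠ 0 := (orderOf_pos g).ne'
  obtain ⟨μ, hμ1, hμ⟩ := Characters.GaloisBasic.exists_fin_pow ρ g hn (pow_orderOf_eq_one g)
  have hint : ∀ i, IsIntegral ℤ (μ i) := fun i => by
    refine IsIntegral.of_pow (Nat.pos_of_ne_zero hn) ?_
    rw [hμ1 i]
    exact isIntegral_one
  let ζ : Fin (finrank ℂ (Fin m → ℂ)) → AlgInt := fun i => ⟨μ i, hint i⟩
  obtain ⟨M, hM⟩ := Blocks.ExistsModular.exists_isPModular hp.out
  have hnu : (p : AlgInt) ∈ nonunits AlgInt := by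
    intro hu
    exact hM.2.1.ne_top (M.eq_top_of_isUnit_mem hM.2.2 hu)
  have hc : CharP (AlgInt ⧸ (Ideal.span ({(p : AlgInt)} : Set AlgInt))) p := CharP.quotient _ p hnu
  have h1 : Ideal.Quotient.mk (Ideal.span ({(p : AlgInt)} : Set AlgInt)) ((∑ i, ζ i) ^ (p ^ a))
      = Ideal.Quotient.mk (Ideal.span ({(p : AlgInt)} : Set AlgInt)) (∑ i, ζ i ^ (p ^ a)) := by
    rw [map_pow, map_sum, map_sum, sum_pow_char_pow]
    simp
  rw [Ideal.Quotient.eq, Ideal.mem_span_singleton'] at h1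
  obtain ⟨γ, hγ⟩ := h1
  refine ⟨γ, ?_⟩
  have h2 : ρ.character g = ∑ i, μ i := by
    have := hμ 1
    simpa using this
  rw [h2, hμ, mul_comm]
  have h3 := congrArg (fun z : AlgInt => (z : ℂ)) hγ
  push_cast at h3
  rw [h3]

theorem irr_conj {G : Type*} [Group G] (χ : IrrCharacter G) {g h : G} (hgh : IsConj g h) :
    (χ : G → ℂ) g = (χ : G → ℂ) h := by
  obtain ⟨m, ρ, -, hρ⟩ := χ.2
  obtain ⟨c, rfl⟩ := isConj_iff.mp hgh
  rw [← hρ]
  exact (ρ.char_conj g c).symm

theorem isConj_pow_of_isConj {G : Type*} [Group G] {x y : G} (h : IsConj x y) (n : ℕ) :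
    IsConj (x ^ n) (y ^ n) := by
  obtain ⟨c, hc⟩ := isConj_iff.mp h
  exact isConj_iff.mpr ⟨c, by rw [← hc, conj_pow]⟩

/-- The `p^a`-th power of an element with `p^a` the `p`-part of `|G|` is that of its `p'`-part. -/
theorem pow_eq {G : Type*} [Group G] [Finite G] (p : ℕ) [hp : Fact p.Prime] (x x' : G)
    (hx : (∃ k : ℕ, orderOf (x * x'⁻¹) = p ^ k) ∧ Commute (x * x'⁻¹) x' ∧ ¬ p ∣ orderOf x') :
    x ^ (p ^ (Nat.card G).factorization p) = x' ^ (p ^ (Nat.card G).factorization p) := by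
  obtain ⟨⟨k, hk⟩, hc, -⟩ := hx
  have h1 : x = (x * x'⁻¹) * x' := by simp
  have h2 : k ≤ (Nat.card G).factorization p := by
    rw [← hp.out.pow_dvd_iff_le_factorization (Nat.card_pos.ne'), ← hk]
    exact orderOf_dvd_natCard _
  conv_lhs => rw [h1]
  rw [hc.mul_pow]
  have h3 : (x * x'⁻¹) ^ (p ^ (Nat.card G).factorization p) = 1 := by
    rw [← orderOf_dvd_iff_pow_eq_one, hk]
    exact pow_dvd_pow p h2
  rw [h3, one_mul]

/-- Let G be a finite group, p a prime and p^a the p-part of the order of G. Let x, y ∈ G and let x′, y′ be their p-regular parts: x′ has order prime to p, commutes with x·x′⁻¹, and x·x′⁻¹ has p-power order (likewise for y). Then x′ and y′ are conjugate in G if and only if for every irreducible character χ of G the algebraic integer χ(x)^(p^a) − χ(y)^(p^a) is p times an algebraic integer. -/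
theorem result {G : Type*} [Group G] [Finite G] (p : ℕ) [Fact p.Prime] (x y x' y' : G)
    (hx : (∃ k : ℕ, orderOf (x * x'⁻¹) = p ^ k) ∧ Commute (x * x'⁻¹) x' ∧ ¬ p ∣ orderOf x')
    (hy : (∃ k : ℕ, orderOf (y * y'⁻¹) = p ^ k) ∧ Commute (y * y'⁻¹) y' ∧ ¬ p ∣ orderOf y') :
    IsConj x' y' ↔ ∀ χ : Cfsg.IrrCharacter G, ∃ γ : Cfsg.AlgInt,
      (χ : G → ℂ) x ^ (p ^ (Nat.card G).factorization p) - (χ : G → ℂ) y ^ (p ^ (Nat.card G).factorization p) = (p : ℂ) * (γ : ℂ) := by
  classical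
  have hp : Fact p.Prime := inferInstance
  set a := (Nat.card G).factorization p with ha
  constructor
  · intro h χ
    obtain ⟨γ₁, h₁⟩ := pow_congr p χ.2 x a
    obtain ⟨γ₂, h₂⟩ := pow_congr p χ.2 y a
    refine ⟨γ₁ - γ₂, ?_⟩
    have e : (χ : G → ℂ) (x ^ (p ^ a)) = (χ : G → ℂ) (y ^ (p ^ a)) := by
      rw [pow_eq p x x' hx, pow_eq p y y' hy]
      exact irr_conj χ (isConj_pow_of_isConj h _)
    push_cast
    rw [mul_sub, ← h₁, ← h₂, e]
    ring
  · intro h
    obtain ⟨M, hM⟩ := Blocks.ExistsModular.exists_isPModular hp.out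
    have hprime : M.IsPrime := hM.2.1.isPrime
    have hcp : CharP (AlgInt ⧸ M) p := CharactersDeep.ModCongr.quotient_charP hM
    have hpx : IsPPart p x (x * x'⁻¹) := ⟨x', by simp, hx.2.1, hx.1, hx.2.2⟩
    have hpy : IsPPart p y (y * y'⁻¹) := ⟨y', by simp, hy.2.1, hy.1, hy.2.2⟩
    have key := (S0876.result p M hM x y _ _ hpx hpy).mpr ?_
    · simpa using key
    · intro χ
      obtain ⟨γ, hγ⟩ := h χ
      have hix := CharactersDeep.ModCongr.isIntegral_irr χ.2 x
      have hiy := CharactersDeep.ModCongr.isIntegral_irr χ.2 y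
      let u : AlgInt := ⟨_, hix⟩
      let v : AlgInt := ⟨_, hiy⟩
      have huv : u ^ (p ^ a) - v ^ (p ^ a) = (p : AlgInt) * γ := by
        apply Subtype.ext
        push_cast
        exact hγ
      have h1 : (Ideal.Quotient.mk M u) ^ (p ^ a) = (Ideal.Quotient.mk M v) ^ (p ^ a) := by
        rw [← map_pow, ← map_pow, Ideal.Quotient.eq, huv]
        exact M.mul_mem_right _ hM.2.2
      have h2 : Ideal.Quotient.mk M u = Ideal.Quotient.mk M v := by
        apply iterateFrobenius_inj (AlgInt ⧸ M) p a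
        rw [iterateFrobenius_def, iterateFrobenius_def, h1]
      have h3 : u - v ∈ M := Ideal.Quotient.eq.1 h2
      have h4 := (CharactersDeep.ModCongr.memLocalIdeal_coe_iff hprime (u - v)).mpr h3
      push_cast at h4
      exact h4

end Cfsg.Agent.S4604
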