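import Cfsg.Statements.S4342
import Cfsg.Agent.H571.SylowNumber

set_option autoImplicit false
open Cfsg

namespace Cfsg.Agent.S4342

/-- A central quotient has the same number of Sylow subgroups. -/
theorem card_sylow_quotient_central {G : Type*} [Group G] [Finite G] (p : ℕ) [Fact p.Prime]
    (Z : Subgroup G) [Z.Normal] (hZ : Z ≤ Subgroup.center G) :
    Nat.card (Sylow p (G ⧸ Z)) = Nat.card (Sylow p G) := by
  obtain ⟨P⟩ : Nonempty (Sylow p G) := inferInstance
  rw [H571.SylowNumber.card_sylow_eq_mul P Z]
  have h1 : Nat.card (Sylow p ((P : Subgroup G) ⊔ Z : Subgroup G)) = 1 := by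
    rw [H571.SylowNumber.card_sylow_eq_relIndex P _ le_sup_left, Subgroup.relIndex_eq_one]
    apply sup_le Subgroup.le_normalizer
    intro z hz
    rw [Subgroup.mem_normalizer_iff]
    intro x
    have hc : z * x = x * z := ((Subgroup.mem_center_iff.1 (hZ hz)) x).symm
    rw [hc, mul_inv_cancel_right]
  rw [h1, mul_one]

/-- Let H be a normal subgroup of a finite group G and p a prime not dividing the index of H. Then the number of Sylow p-subgroups of H/Z(H) equals the number of Sylow p-subgroups of G. -/
theorem result {G : Type*} [Group G] [Finite G]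
    (p : ℕ) [Fact p.Prime] (H : Subgroup G) [H.Normal] (hp : ¬ p ∣ H.index) :
    Nat.card (Sylow p (H ⧸ Subgroup.center H)) = Nat.card (Sylow p G) := by
  rw [card_sylow_quotient_central p (Subgroup.center H) le_rfl]
  obtain ⟨P⟩ : Nonempty (Sylow p G) := inferInstance
  apply H571.SylowNumber.card_sylow_of_le_normal P H
  -- `P ≤ H` because `|P : P ∩ H|` divides `|G : H|`
  have h1 : H.relIndex (P : Subgroup G) ∣ H.index := Subgroup.relIndex_dvd_index_of_normal _ _
  have h2 : H.relIndex (P : Subgroup G) ∣ Nat.card (P : Subgroup G) := Subgroup.relIndex_dvd_card _ _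
  obtain ⟨n, hn⟩ := IsPGroup.iff_card.1 P.isPGroup'
  rw [hn] at h2
  obtain ⟨k, -, hk⟩ := (Nat.dvd_prime_pow (Fact.out : p.Prime)).1 h2
  rw [← Subgroup.relIndex_eq_one, hk]
  rcases k with _ | k
  · simp
  · exact absurd ((hk ▸ (dvd_pow_self p (Nat.succ_ne_zero k))).trans h1) hp

end Cfsg.Agent.S4342
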