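import Cfsg.Statements.S5744
import Cfsg.Agent.H898.Three
import Cfsg.Agent.H898.SqInner
import Cfsg.Agent.H898.FiCase
import Cfsg.Agent.LieClassical.OrthCenter
import Cfsg.Agent.LieClassical.OmegaReindex
import Cfsg.Agent.S0816
import Cfsg.Agent.S1686

set_option autoImplicit false
open Cfsg

namespace Cfsg.Agent.S5744

open Cfsg.Agent.TwoESix.Iso Cfsg.Agent.TwoESix.FiInst Cfsg.Agent.H898.Diag Cfsg.Agent.H898.NotIn
open Cfsg.Agent.H898.FiCase
open Cfsg.Agent.LieClassical.OmegaReindex (quadOdd coe_quadOdd quadOdd_nondegenerate)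

theorem center_omega : Subgroup.center (Cfsg.Omega (ZMod 3) (Cfsg.quadFormOdd 3 (ZMod 3))) = ⊥ := by
  classical
  have h2 : (2 : ZMod 3) ≠ 0 := by decide
  have h3 := Cfsg.Agent.LieClassical.OrthCenter.center_omega_eq_bot
    (quadOdd_nondegenerate (F := ZMod 3) (m := 3) h2) (by decide)
    ⟨Pi.single (.inr (.inl 0)) 1, by
      intro h
      have := congrFun h (.inr (.inl 0))
      rw [Pi.single_eq_same] at this
      exact one_ne_zero this, by
      rw [coe_quadOdd]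
      unfold Cfsg.quadFormOdd
      rw [Fin.sum_univ_three]
      simp⟩
    (by
      intro g hg h
      have h4 := Cfsg.Agent.LieClassical.OrthCenter.det_of_mem_omega g hg
      have h5 : Fintype.card (Unit ⊕ (Fin 3 ⊕ Fin 3)) = 7 := by decide
      rw [h, Matrix.det_neg, Matrix.det_one, h5] at h4
      apply h2
      linear_combination -h4)
  rwa [coe_quadOdd] at h3

/-- `PΩ₇(3) ≃ Ω₇(3)` -/
theorem exists_equiv : Nonempty (Cfsg.POmega (ZMod 3) (Cfsg.quadFormOdd 3 (ZMod 3)) ≃*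
    Cfsg.Omega (ZMod 3) (Cfsg.quadFormOdd 3 (ZMod 3))) :=
  ⟨(QuotientGroup.quotientMulEquivOfEq center_omega).trans QuotientGroup.quotientBot⟩

theorem center_of_equiv {X Y : Type*} [Group X] [Group Y] (e : X ≃* Y) (h : Subgroup.center Y = ⊥) :
    Subgroup.center X = ⊥ := by
  rw [eq_bot_iff]
  intro x hx
  rw [Subgroup.mem_center_iff] at hx
  have h1 : e x ∈ Subgroup.center Y := by
    rw [Subgroup.mem_center_iff]
    intro y
    obtain ⟨z, rfl⟩ := e.surjective y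
    rw [← map_mul, ← map_mul, hx]
  rw [h, Subgroup.mem_bot] at h1
  rw [Subgroup.mem_bot]
  exact e.injective (h1.trans (map_one e).symm)

theorem autSq : Cfsg.Agent.H898.SqInner.AutSq (Cfsg.POmega (ZMod 3) (Cfsg.quadFormOdd 3 (ZMod 3))) := by
  obtain ⟨e⟩ := exists_equiv
  have hfin : Finite (Cfsg.POmega (ZMod 3) (Cfsg.quadFormOdd 3 (ZMod 3))) := inferInstance
  refine Cfsg.Agent.H898.SqInner.of_card (center_of_equiv e center_omega) ?_
  have : Fact (Nat.Prime 3) := ⟨Nat.prime_three⟩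
  have h := Cfsg.Agent.S0816.result (F := ZMod 3) 3 1 le_rfl (by simp [ZMod.card]) (by decide) 3 le_rfl
  rw [h, mul_one]

/-- The simple group ²E₆(2) (the twisted group of type E₆ over the field with 4 elements) contains at least three pairwise non-conjugate subgroups isomorphic to the orthogonal group Ω₇(3) (the commutator subgroup of the isometry group of x₀² + x₁y₁ + x₂y₂ + x₃y₃ over the field with 3 elements). -/
theorem result {K : Type*} [Field K] [Fintype K] (hK : Fintype.card K = 4) :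
    ∃ H : Fin 3 → Subgroup (Cfsg.Lie.twistedE6 K 2),
      (∀ i, Nonempty ((H i) ≃* Cfsg.Omega (ZMod 3) (Cfsg.quadFormOdd 3 (ZMod 3)))) ∧
      (∀ i j, i ≠ j → ∀ g : (Cfsg.Lie.twistedE6 K 2), (H i).map (MulAut.conj g).toMonoidHom ≠ H j) := by
  obtain ⟨w, f, -, -, hf, hmap, -⟩ := exists_phi K hK
  obtain ⟨e⟩ := exists_equiv
  obtain ⟨e1⟩ := Cfsg.Agent.S1686.result
  have hinj := fiHom_injective K hK
  obtain ⟨C, hC⟩ : ∃ C : Subgroup Cfsg.Spor.Fi22, C = ((Subgroup.closure ({Cfsg.Spor.Fi22.b, Cfsg.Spor.Fi22.c, Cfsg.Spor.Fi22.d, Cfsg.Spor.Fi22.e, Cfsg.Spor.Fi22.f, Cfsg.Spor.Fi22.g, Cfsg.Spor.Fi22.h, Cfsg.Spor.Fi22.i} : Set (FreeGroup Cfsg.Spor.Fi22.Gen))).map (PresentedGroup.mk (Cfsg.Spor.coxRelators Cfsg.Spor.Fi22.edges ∪ {r | r ∈ Cfsg.Spor.Fi22.extra}))) := ⟨_, rfl⟩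
  rw [← hC] at e1
  have hle : C.map fiHom ≤ Gam := by
    rintro _ ⟨g, -, rfl⟩
    exact fiHom_mem g
  let e2 : C.map fiHom ≃* Cfsg.POmega (ZMod 3) (Cfsg.quadFormOdd 3 (ZMod 3)) :=
    (C.equivMapOfInjective fiHom hinj).symm.trans e1
  have ha : Cfsg.Agent.H898.SqInner.AutSq (C.map fiHom) := Cfsg.Agent.H898.SqInner.congr e2 autSq
  have hgen : ∀ x ∈ gens, fiHom (PresentedGroup.of x) ∈ C.map fiHom := by
    intro x hx
    refine Subgroup.mem_map_of_mem _ ?_
    rw [hC]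
    refine Subgroup.mem_map_of_mem (PresentedGroup.mk _) (Subgroup.subset_closure ?_)
    simp only [gens, List.mem_cons, List.mem_nil_iff, or_false] at hx
    rcases hx with rfl | rfl | rfl | rfl | rfl | rfl | rfl | rfl
    · exact Or.inl rfl
    · exact Or.inr (Or.inl rfl)
    · exact Or.inr (Or.inr (Or.inl rfl))
    · exact Or.inr (Or.inr (Or.inr (Or.inl rfl)))
    · exact Or.inr (Or.inr (Or.inr (Or.inr (Or.inl rfl))))
    · exact Or.inr (Or.inr (Or.inr (Or.inr (Or.inr (Or.inl rfl)))))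
    · exact Or.inr (Or.inr (Or.inr (Or.inr (Or.inr (Or.inr (Or.inl rfl))))))
    · exact Or.inr (Or.inr (Or.inr (Or.inr (Or.inr (Or.inr (Or.inr rfl))))))
  have hb : ∀ c : GL (Fin 78) (ZMod 2), (∀ h ∈ C.map fiHom, c * h = h * c) → c * c = 1 := by
    intro c hc
    rw [eq_one_of_gens fun x hx => hc _ (hgen x hx), one_mul]
  obtain ⟨S, hS1, hS2⟩ := Cfsg.Agent.H898.Three.exists_three Gam (C.map fiHom) Dg Dg_pow (fun e he => Dg_conj_mem he)
    (Dg_not_mem K hK) hle ha hb f hf (Cfsg.Lie.twistedE6 K 2) hmap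
  exact ⟨S, fun i => ⟨((hS1 i).some.trans e2).trans e⟩, hS2⟩

end Cfsg.Agent.S5744
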