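import Cfsg.Statements.S4437
import Cfsg.Agent.Blocks.ExtendedFMT
import Cfsg.Agent.H592.NormalCase
import Cfsg.Agent.H592.Transit
import Cfsg.Agent.S0912
import Cfsg.Agent.S0917
import Cfsg.Agent.S0920
-- import your own Cfsg.Agent.* helpers here

set_option autoImplicit false
open Cfsg

namespace Cfsg.Agent.S4437

open Cfsg.Agent.Blocks Cfsg.Agent.Blocks.Local Cfsg.Agent.H592
open Cfsg.Agent.H592.Transport Cfsg.Agent.H592.Transit
open Cfsg.Agent.Blocks.Covering (conjIrr conjIrr_apply)

variable {G : Type*} [Group G]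

theorem induced_defined {G : Type*} [Group G] [Fintype G] (p : ℕ) [Fact p.Prime] {M : Ideal AlgInt}
    (hM : IsPModular p M) (P : Subgroup G) [P.Normal] (hP : IsPGroup p P) (L : Subgroup G)
    (hL : L = P ⊔ Subgroup.centralizer (P : Set G)) [Fintype L]
    (b : Set (IrrCharacter L)) (hb : IsPBlock M b) :
    ∃ B : Set (IrrCharacter G), IsInducedBlock M L b B := by
  subst hL
  exact (Cfsg.Agent.S0971.result p M hM P hP b hb).1

/-- Stabilizers in terms of the copy inside `N`. -/
theorem stab_iff {H N : Subgroup G} (hHN : H ≤ N) (hn : (H.subgroupOf N).Normal)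
    (b : Set (IrrCharacter H)) (g : N) :
    (∀ θ ∈ b, ∀ θ' : IrrCharacter H, (∀ h h' : H, (h' : G) = g * h * (g : G)⁻¹ →
      (θ' : H → ℂ) h' = (θ : H → ℂ) h) → θ' ∈ b) ↔
    ∀ φ ∈ trSet (inK hHN) b, conjIrr (H.subgroupOf N) g⁻¹ φ ∈ trSet (inK hHN) b := by
  constructor
  · intro h φ hφ
    rw [mem_trSet]
    refine h _ (mem_trSet.1 hφ) _ fun x x' hx => ?_
    rw [tr_apply, tr_apply, conjIrr_apply]
    refine congrArg (φ : H.subgroupOf N → ℂ) ?_
    apply Subtype.ext
    apply Subtype.ext
    rw [MulAut.conjNormal_apply]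
    change (g⁻¹ : G) * (x' : G) * ((g⁻¹ : G))⁻¹ = x
    rw [hx]
    group
  · intro h θ hθ θ' hθ'
    have h1 := h _ (tr_mem_trSet.2 hθ)
    rw [mem_trSet] at h1
    have h2 : tr (inK hHN).symm (conjIrr (H.subgroupOf N) g⁻¹ (tr (inK hHN) θ)) = θ' := by
      refine Subtype.ext (funext fun x' => ?_)
      rw [tr_apply, conjIrr_apply, tr_apply]
      symm
      refine hθ' _ x' ?_
      change (x' : G) = g * ((g⁻¹ : G) * (x' : G) * ((g⁻¹ : G))⁻¹) * (g : G)⁻¹
      group
    rwa [h2] at h1

/-- Let P be a p-subgroup of the finite group G, H = P·C_G(P), and b a block of H (relative to a maximal ideal M of the algebraic integers containing p) having P as a defect group; let B be the block of G induced by b. Let T be the stabilizer of b in N_G(P): the elements g of N_G(P) such that the g-conjugate of every member of b is again a member of b. Then B has defect group P if and only if p does not divide the index of H in T. -/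
theorem result {G : Type*} [Group G] [Fintype G] (p : ℕ) [Fact p.Prime] (M : Ideal Cfsg.AlgInt) (hM : Cfsg.IsPModular p M) (P : Subgroup G) (hP : IsPGroup p P) (H : Subgroup G) [Fintype H] (hH : H = P ⊔ Subgroup.centralizer (P : Set G)) (b : Set (Cfsg.IrrCharacter H)) (hb : Cfsg.IsPBlock M b) (hbP : Cfsg.IsDefectGroup p M b (P.subgroupOf H)) (B : Set (Cfsg.IrrCharacter G)) (hind : Cfsg.IsInducedBlock M H b B) (T : Subgroup G) (hT : ∀ g : G, g ∈ T ↔ (g ∈ Subgroup.normalizer (P : Set G) ∧ ∀ θ ∈ b, ∀ θ' : Cfsg.IrrCharacter H, (∀ h h' : H, (h' : G) = g * h * g⁻¹ → (θ' : H → ℂ) h' = (θ : H → ℂ) h) → θ' ∈ b)) : Cfsg.IsDefectGroup p M B P ↔ ¬ p ∣ H.relIndex T := by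
  classical
  have hprime : M.IsPrime := isPrime_of_isPModular hM
  set N : Subgroup G := Subgroup.normalizer (P : Set G) with hN
  have hHN : H ≤ N := by
    rw [hH]
    exact ExtendedFMT.L_le_normalizer P
  have hPN : P ≤ N := Subgroup.le_normalizer
  have hPH : P ≤ H := hH ▸ le_sup_left
  have hTN : T ≤ N := fun g hg => ((hT g).1 hg).1
  have hPn : (P.subgroupOf N).Normal := Subgroup.normal_subgroupOf_of_le_normalizer le_rfl
  have hPp : IsPGroup p (P.subgroupOf N) := hP.comap_subtype
  -- `H` inside `N`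
  have hH' : H.subgroupOf N = P.subgroupOf N ⊔
      Subgroup.centralizer ((P.subgroupOf N : Subgroup N) : Set N) := by
    apply le_antisymm
    · rintro ⟨x, hx⟩ hxH
      have hx' : x ∈ P ⊔ Subgroup.centralizer (P : Set G) := hH ▸ (Subgroup.mem_subgroupOf.1 hxH)
      obtain ⟨y, hy, z, hz, rfl⟩ : ∃ y ∈ P, ∃ z ∈ Subgroup.centralizer (P : Set G), y * z = x := by
        have h1 : P ⊔ Subgroup.centralizer (P : Set G) = Subgroup.centralizer (P : Set G) ⊔ P :=
          sup_comm _ _
        rw [h1, ← SetLike.mem_coe,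
          Subgroup.sup_eq_closure_mul] at hx'
        refine Subgroup.closure_induction (p := fun x _ => ∃ y ∈ P,
          ∃ z ∈ Subgroup.centralizer (P : Set G), y * z = x) ?_ ?_ ?_ ?_ hx'
        · rintro _ ⟨z, hz, y, hy, rfl⟩
          exact ⟨y, hy, z, hz, Subgroup.mem_centralizer_iff.1 hz y hy⟩
        · exact ⟨1, one_mem _, 1, one_mem _, one_mul _⟩
        · rintro _ _ _ _ ⟨y, hy, z, hz, rfl⟩ ⟨y', hy', z', hz', rfl⟩
          refine ⟨y * y', mul_mem hy hy', z * z', mul_mem hz hz', ?_⟩
          have h2 := Subgroup.mem_centralizer_iff.1 hz y' hy'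
          calc y * y' * (z * z') = y * (y' * z) * z' := by group
            _ = y * (z * y') * z' := by rw [h2]
            _ = y * z * (y' * z') := by group
        · rintro _ _ ⟨y, hy, z, hz, rfl⟩
          refine ⟨y⁻¹, inv_mem hy, z⁻¹, inv_mem hz, ?_⟩
          have h2 := Subgroup.mem_centralizer_iff.1 hz y hy
          rw [h2, mul_inv_rev]
      have hzN : z ∈ N := Subgroup.centralizer_le_normalizer _ hz
      have h1 : (⟨y * z, hx⟩ : N) = ⟨y, hPN hy⟩ * ⟨z, hzN⟩ := rfl
      rw [h1]
      refine mul_mem (Subgroup.mem_sup_left (Subgroup.mem_subgroupOf.2 hy))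
        (Subgroup.mem_sup_right ?_)
      rw [Subgroup.mem_centralizer_iff]
      intro u hu
      apply Subtype.ext
      exact Subgroup.mem_centralizer_iff.1 hz (u : G) (Subgroup.mem_subgroupOf.1 hu)
    · refine sup_le ?_ ?_
      · intro x hx
        rw [Subgroup.mem_subgroupOf] at hx ⊢
        exact hPH hx
      · intro x hx
        rw [Subgroup.mem_subgroupOf, hH]
        refine Subgroup.mem_sup_right ?_
        rw [Subgroup.mem_centralizer_iff] at hx ⊢
        intro u hu
        exact congrArg Subtype.val (hx ⟨u, hPN hu⟩ (Subgroup.mem_subgroupOf.2 hu))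
  have hHn : (H.subgroupOf N).Normal := by
    have h1 := hH'
    rw [h1]
    have h2 : (Subgroup.centralizer ((P.subgroupOf N : Subgroup N) : Set N)).Normal :=
      Subgroup.normal_centralizer
    exact Subgroup.sup_normal _ _
  have hFN : Fintype N := Fintype.ofFinite _
  have hFH : Fintype (H.subgroupOf N) := Fintype.ofFinite _
  -- the block of the copy
  set b' := trSet (inK hHN) b with hb'
  have hb'P : IsPBlock M b' := isPBlock_trSet (inK hHN) hb
  have hdef : IsDefectGroup p M b' ((P.subgroupOf N).subgroupOf (H.subgroupOf N)) := by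
    have h1 := isDefectGroup_trSet (inK hHN) hbP
    have h2 : (P.subgroupOf H).comap (inK hHN).toMonoidHom =
        (P.subgroupOf N).subgroupOf (H.subgroupOf N) := by
      ext x
      rw [Subgroup.mem_comap, Subgroup.mem_subgroupOf, Subgroup.mem_subgroupOf,
        Subgroup.mem_subgroupOf]
      rfl
    rwa [h2] at h1
  obtain ⟨C, hC⟩ := induced_defined p hM (P.subgroupOf N) hPp (H.subgroupOf N) hH' b' hb'P
  have hCB : IsInducedBlock M N C B := (trans_induced hHN hb hC).1 hind
  have hHT : H ≤ T := by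
    intro x hx
    rw [hT]
    refine ⟨hHN hx, fun θ hθ θ' h => ?_⟩
    have h1 : θ' = θ := by
      refine Subtype.ext (funext fun y => ?_)
      have h2 := h (⟨x, hx⟩⁻¹ * y * ⟨x, hx⟩) y (by push_cast; group)
      rw [h2]
      have h3 := Basic.irr_conj θ.2 y (⟨x, hx⟩⁻¹ : H)
      rwa [inv_inv] at h3
    rw [h1]
    exact hθ
  -- the normal case
  have hnorm := NormalCase.defect_iff p hM (P.subgroupOf N) hPp (H.subgroupOf N) hH' b' hb'P hdef
    C hC (T.subgroupOf N) (by
      intro g
      rw [Subgroup.mem_subgroupOf, ← inv_mem_iff (H := T), hT]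
      have h1 := stab_iff hHN hHn b g⁻¹
      rw [inv_inv] at h1
      rw [← hb'] at h1
      rw [← h1]
      constructor
      · rintro ⟨-, h2⟩
        exact h2
      · intro h2
        exact ⟨inv_mem g.2, h2⟩)
  rw [Subgroup.relIndex_subgroupOf hTN] at hnorm
  rw [← hnorm]
  constructor
  · -- descend
    intro hBP
    obtain ⟨D, hD⟩ := Defect.exists_defectGroup p hM hC.2.1
    have hPD : P.subgroupOf N ≤ D :=
      (Cfsg.Agent.Lib.Cores.le_pCore hPn hPp).trans
        (Cfsg.Agent.S0912.result p M hM C hC.2.1 D hD)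
    obtain ⟨E, hE, hDE⟩ := Cfsg.Agent.S0917.result p M hM N C hC.2.1 B hind.2.1 hCB D hD
    have h1 : (Nat.card E).factorization p = (Nat.card P).factorization p := by
      rw [Defect.factorization_card_defect p hM hind.2.1 hE,
        Defect.factorization_card_defect p hM hind.2.1 hBP]
    have h2 : Nat.card D ∣ Nat.card E := by
      have h3 := Subgroup.card_dvd_of_le hDE
      rwa [Nat.card_congr (D.equivMapOfInjective _ (Subgroup.subtype_injective _)).toEquiv.symm]
        at h3
    have h3 : (Nat.card D).factorization p ≤ (Nat.card (P.subgroupOf N)).factorization p := by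
      rw [Nat.card_congr (Subgroup.subgroupOfEquivOfLe hPN).toEquiv, ← h1]
      exact (Nat.factorization_le_iff_dvd Nat.card_pos.ne' Nat.card_pos.ne').2 h2 p
    rw [Defect.eq_of_le_of_factorization p hPp (Defect.isPGroup_of_isDefectGroup hD) hPD h3]
    exact hD
  · intro hCP
    obtain ⟨B', hB', hB'P, hCB'⟩ := (Cfsg.Agent.S0920.result p M hM P hP).1 C hC.2.1 hCP
    rw [induced_unique hCB hCB']
    exact hB'P

end Cfsg.Agent.S4437
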