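import Cfsg.Statements.S4481
import Cfsg.Agent.H602.Dih.Vanish

set_option autoImplicit false
open Cfsg

namespace Cfsg.Agent.S4481

open DihedralGroup Cfsg.Agent.Characters Cfsg.Agent.Classification.BGDefs
open Cfsg.Agent.Classification.BGOrder
open Cfsg.Agent.Classification.BGBasic (half_ne_zero half_add_half eq_zero_or_half t_mem tt tt_comm)
open Cfsg.Agent.Classification.BGSplit Cfsg.Agent.Classification.BGBlockB0
open Cfsg.Agent.Classification Cfsg.Agent.Blocks Cfsg.Agent.H602.Dih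
open scoped ComplexConjugate

section Ring

variable {N : ℕ} [NeZero N]

/-- A primitive `N`-th root of unity is `e N c` for a unit `c`. -/
theorem exists_unit {ζ : ℂ} (hζ : IsPrimitiveRoot ζ N) :
    ∃ c : (ZMod N)ˣ, ∀ k : ℕ, ζ ^ k = e N (c * (k : ZMod N)) := by
  have hN : N ≠ 0 := NeZero.ne N
  have hprim : IsPrimitiveRoot (e N (1 : ZMod N)) N := by
    rw [IsPrimitiveRoot.iff_def]
    constructor
    · rw [← AddChar.map_nsmul_eq_pow, nsmul_eq_mul, ZMod.natCast_self, zero_mul,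
        AddChar.map_zero_eq_one]
    · intro l hl
      rw [← AddChar.map_nsmul_eq_pow, nsmul_eq_mul, mul_one, e_eq_one_iff] at hl
      exact (ZMod.natCast_eq_zero_iff l N).1 hl
  obtain ⟨i, -, hi⟩ := hprim.eq_pow_of_pow_eq_one hζ.pow_eq_one
  have hcop : Nat.Coprime i N := by
    rw [← hi] at hζ
    exact (hprim.pow_iff_coprime (Nat.pos_of_ne_zero hN) i).1 hζ
  refine ⟨ZMod.unitOfCoprime i hcop, fun k => ?_⟩
  rw [ZMod.coe_unitOfCoprime, ← hi, ← pow_mul, ← AddChar.map_nsmul_eq_pow, nsmul_eq_mul, mul_one,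
    Nat.cast_mul]

theorem e_neg (a : ZMod N) : e N (-a) = (e N a)⁻¹ := AddChar.map_neg_eq_inv _ _

theorem mu_mul (a b : ZMod N) : mu (r (a + b)) = mu (r a) * mu (r b) := by
  rw [mu_r, mu_r, mu_r, mul_add, AddChar.map_add_eq_mul]

theorem mu_unit (h2 : 2 ∣ N) (u : (ZMod N)ˣ) : mu (r (u : ZMod N)) = -1 := by
  rcases mu_cases h2 (u : ZMod N) with h | h
  · exfalso
    rw [mu_r, e_eq_one_iff] at h
    have h1 := congrArg (fun x => x * ((u⁻¹ : (ZMod N)ˣ) : ZMod N)) h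
    simp only [mul_assoc, Units.mul_inv, mul_one, zero_mul] at h1
    exact half_ne_zero h2 h1
  · exact h

theorem mu_unit_mul (h2 : 2 ∣ N) (u : (ZMod N)ˣ) (l : ℕ) :
    mu (r ((u : ZMod N) * (l : ZMod N))) = (-1) ^ l := by
  induction l with
  | zero =>
    rw [Nat.cast_zero, mul_zero, mu_r, mul_zero, AddChar.map_zero_eq_one, pow_zero]
  | succ l ih =>
    rw [Nat.cast_succ, mul_add, mul_one, mu_mul, ih, mu_unit h2, pow_succ]

end Ring

section Card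

/-- The number of elements of a set listed as four elements and an injective family. -/
theorem card_list {α : Type*} {k : ℕ} (a₀ a₁ a₂ a₃ : α) (a' : Fin k → α)
    (hinj : Function.Injective a') (h01 : a₁ ≠ a₀) (h02 : a₂ ≠ a₀) (h03 : a₃ ≠ a₀)
    (h12 : a₁ ≠ a₂) (h13 : a₁ ≠ a₃) (h23 : a₂ ≠ a₃)
    (h' : ∀ j, a' j ≠ a₁ ∧ a' j ≠ a₂ ∧ a' j ≠ a₃ ∧ a' j ≠ a₀) :
    Nat.card ({x | x = a₀ ∨ x = a₁ ∨ x = a₂ ∨ x = a₃ ∨ ∃ j, x = a' j} : Set α) = 4 + k := by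
  classical
  have h1 : ({x | x = a₀ ∨ x = a₁ ∨ x = a₂ ∨ x = a₃ ∨ ∃ j, x = a' j} : Set α) =
      (({a₀, a₁, a₂, a₃} ∪ Finset.univ.image a' : Finset α) : Set α) := by
    ext x
    simp only [Set.mem_ofPred_eq, Finset.coe_union, Finset.coe_insert, Finset.coe_singleton,
      Finset.coe_image, Finset.coe_univ, Set.image_univ, Set.mem_union, Set.mem_insert_iff,
      Set.mem_singleton_iff, Set.mem_range]
    constructor
    · rintro (h | h | h | h | ⟨j, h⟩)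
      · exact Or.inl (Or.inl h)
      · exact Or.inl (Or.inr (Or.inl h))
      · exact Or.inl (Or.inr (Or.inr (Or.inl h)))
      · exact Or.inl (Or.inr (Or.inr (Or.inr h)))
      · exact Or.inr ⟨j, h.symm⟩
    · rintro ((h | h | h | h) | ⟨j, h⟩)
      · exact Or.inl h
      · exact Or.inr (Or.inl h)
      · exact Or.inr (Or.inr (Or.inl h))
      · exact Or.inr (Or.inr (Or.inr (Or.inl h)))
      · exact Or.inr (Or.inr (Or.inr (Or.inr ⟨j, h.symm⟩)))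
  rw [h1, Nat.card_coe_set_eq, Set.ncard_coe_finset, Finset.card_union_of_disjoint,
    Finset.card_image_of_injective _ hinj, Finset.card_univ, Fintype.card_fin]
  · congr 1
    rw [Finset.card_insert_of_notMem, Finset.card_insert_of_notMem, Finset.card_insert_of_notMem,
      Finset.card_singleton]
    · simpa using h23
    · simpa using ⟨h12, h13⟩
    · simpa using ⟨h01.symm, h02.symm, h03.symm⟩
  · rw [Finset.disjoint_left]
    intro x hx hx'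
    rw [Finset.mem_image] at hx'
    obtain ⟨j, -, rfl⟩ := hx'
    simp only [Finset.mem_insert, Finset.mem_singleton] at hx
    obtain ⟨n1, n2, n3, n0⟩ := h' j
    rcases hx with h | h | h | h
    · exact n0 h
    · exact n1 h
    · exact n2 h
    · exact n3 h

end Card

section Sign

variable {G : Type*} [Group G]

/-- A signed member of the block. -/
theorem exists_sign {B : Set (IrrCharacter G)} {X : G → ℂ} (hX : InB B X) :
    ∃ χ ∈ B, ∃ δ : ℤ, (δ = 1 ∨ δ = -1) ∧ (∀ g, X g = δ * (χ : G → ℂ) g) := by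
  obtain ⟨χ, hχ, h | h⟩ := hX
  · exact ⟨χ, hχ, 1, Or.inl rfl, fun g => by rw [h]; simp⟩
  · exact ⟨χ, hχ, -1, Or.inr rfl, fun g => by rw [h]; simp⟩

theorem sign_or {X : G → ℂ} {χ : IrrCharacter G} {δ : ℤ} (hδ : δ = 1 ∨ δ = -1)
    (h : ∀ g, X g = δ * (χ : G → ℂ) g) : X = (χ : G → ℂ) ∨ X = -(χ : G → ℂ) := by
  rcases hδ with rfl | rfl
  · left; funext g; rw [h]; simp
  · right; funext g; rw [h]; simp

theorem sign_mul_self {δ : ℤ} (hδ : δ = 1 ∨ δ = -1) : ((δ : ℂ)) * δ = 1 := by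
  rcases hδ with rfl | rfl <;> norm_num

end Sign

/-- The principal 2-block of a group with dihedral Sylow 2-subgroups. Let G be a finite group whose Sylow 2-subgroup P is dihedral of order 2^n ≥ 8, let σ be an element of P of order 2^(n−1), ζ a primitive 2^(n−1)-th root of unity, and M a maximal ideal of the algebraic integers containing 2. Then the principal 2-block consists of exactly 3 + 2^(n−2) irreducible characters, which can be labelled 1, χ₁, χ₂, χ₃ and χ^(j) for 1 ≤ j ≤ 2^(n−2) − 1 (all distinct), with signs δ₁, δ₂, δ₃ such that for 0 < λ < 2^(n−1): χ₁(σ^λ) = δ₁, χ₂(σ^λ) = δ₂(−1)^(λ+1), χ₃(σ^λ) = δ₃(−1)^(λ+1) and χ^(j)(σ^λ) = δ₁(ζ^(jλ) + ζ^(−jλ)); and for every element ρ of odd order and every j: 1 + δ₁χ₁(ρ) = −δ₂χ₂(ρ) − δ₃χ₃(ρ) = δ₁χ^(j)(ρ). -/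
theorem result {G : Type*} [Group G] [Finite G] (M : Ideal Cfsg.AlgInt) (hM : Cfsg.IsPModular 2 M) (n : ℕ) (hn : 3 ≤ n) (P : Sylow 2 G) (hP : Nonempty ((P : Subgroup G) ≃* DihedralGroup (2 ^ (n - 1)))) (σ : G) (hσ : σ ∈ (P : Subgroup G)) (hσo : orderOf σ = 2 ^ (n - 1)) (ζ : ℂ) (hζ : IsPrimitiveRoot ζ (2 ^ (n - 1))) : Nat.card (Cfsg.principalBlock M G) = 3 + 2 ^ (n - 2) ∧ ∃ (χ₁ χ₂ χ₃ : Cfsg.IrrCharacter G) (χ' : Fin (2 ^ (n - 2) - 1) → Cfsg.IrrCharacter G) (δ₁ δ₂ δ₃ : ℤ), (δ₁ = 1 ∨ δ₁ = -1) ∧ (δ₂ = 1 ∨ δ₂ = -1) ∧ (δ₃ = 1 ∨ δ₃ = -1) ∧ Function.Injective χ' ∧ (χ₁ : G → ℂ) ≠ (fun _ => 1) ∧ (χ₂ : G → ℂ) ≠ (fun _ => 1) ∧ (χ₃ : G → ℂ) ≠ (fun _ => 1) ∧ χ₁ ≠ χ₂ ∧ χ₁ ≠ χ₃ ∧ χ₂ ≠ χ₃ ∧ (∀ j, χ' j ≠ χ₁ ∧ χ' j ≠ χ₂ ∧ χ' j ≠ χ₃ ∧ (χ' j : G → ℂ) ≠ (fun _ => 1)) ∧ Cfsg.principalBlock M G = {χ : Cfsg.IrrCharacter G | (χ : G → ℂ) = (fun _ => 1) ∨ χ = χ₁ ∨ χ = χ₂ ∨ χ = χ₃ ∨ ∃ j, χ = χ' j} ∧ (∀ l :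 ℕ, 0 < l → l < 2 ^ (n - 1) → (χ₁ : G → ℂ) (σ ^ l) = δ₁ ∧ (χ₂ : G → ℂ) (σ ^ l) = δ₂ * (-1) ^ (l + 1) ∧ (χ₃ : G → ℂ) (σ ^ l) = δ₃ * (-1) ^ (l + 1) ∧ ∀ j : Fin (2 ^ (n - 2) - 1), (χ' j : G → ℂ) (σ ^ l) = δ₁ * (ζ ^ (((j : ℕ) + 1) * l) + (ζ ^ (((j : ℕ) + 1) * l))⁻¹)) ∧ ∀ ρ : G, Odd (orderOf ρ) → ∀ j : Fin (2 ^ (n - 2) - 1), 1 + δ₁ * (χ₁ : G → ℂ) ρ = -δ₂ * (χ₂ : G → ℂ) ρ - δ₃ * (χ₃ : G → ℂ) ρ ∧ 1 + δ₁ * (χ₁ : G → ℂ) ρ = δ₁ * (χ' j : G → ℂ) ρ := by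
  classical
  have := Fintype.ofFinite G
  obtain ⟨e⟩ := hP
  obtain ⟨N, hN⟩ : ∃ N, N = 2 ^ (n - 1) := ⟨_, rfl⟩
  obtain ⟨K, hK⟩ : ∃ K, K = 2 ^ (n - 2) := ⟨_, rfl⟩
  have hNK : N = 2 * K := by
    rw [hN, hK, ← pow_succ']; congr 1; omega
  have hK2 : 2 ≤ K := by
    rw [hK]
    calc 2 = 2 ^ 1 := rfl
      _ ≤ 2 ^ (n - 2) := Nat.pow_le_pow_right (by norm_num) (by omega)
  rw [← hN] at e hσo hζ
  rw [← hN, ← hK]
  have : NeZero N := ⟨by omega⟩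
  have h2N : 2 ∣ N := ⟨K, hNK⟩
  obtain ⟨t, ht⟩ : ∃ t, t = ((e.symm (r ((N / 2 : ℕ) : ZMod N)) : (P : Subgroup G)) : G) := ⟨_, rfl⟩
  obtain ⟨hcent, π, hD, hπ⟩ := exists_dhyp P (n - 1) (by omega) hN e t ht
  obtain ⟨X₁, X₂, X₃, T, f, hC⟩ := dih_characters hD (by omega) hM
  -- `σ`
  obtain ⟨u, hu⟩ : ∃ u : (ZMod N)ˣ, e ⟨σ, hσ⟩ = r (u : ZMod N) := by
    have ho : orderOf (e ⟨σ, hσ⟩) = N := by
      rw [MulEquiv.orderOf_eq, ← hσo]
      exact (Subgroup.orderOf_coe (⟨σ, hσ⟩ : (P : Subgroup G))).symm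
    rcases hd : e ⟨σ, hσ⟩ with i | i
    · rw [hd, DihedralGroup.orderOf_r] at ho
      have hg : Nat.gcd N i.val = 1 := by
        have h1 := Nat.gcd_dvd_left N i.val
        have h2 := Nat.div_mul_cancel h1
        rw [ho] at h2
        have h3 : 0 < N := by omega
        exact Nat.eq_of_mul_eq_mul_left h3 (by rw [h2, mul_one])
      refine ⟨ZMod.unitOfCoprime i.val (Nat.Coprime.symm hg), ?_⟩
      rw [ZMod.coe_unitOfCoprime, ZMod.natCast_zmod_val]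
    · rw [hd, DihedralGroup.orderOf_sr] at ho
      omega
  have hπσ : ∀ l : ℕ, ∀ hx : σ ^ l ∈ Subgroup.centralizer ({t} : Set G),
      π ⟨σ ^ l, hx⟩ = r ((u : ZMod N) * (l : ZMod N)) := by
    intro l hx
    have h1 := hπ ((⟨σ, hσ⟩ : (P : Subgroup G)) ^ l) hx
    rw [map_pow, hu, r_pow] at h1
    exact h1
  have hσc : ∀ l : ℕ, σ ^ l ∈ Subgroup.centralizer ({t} : Set G) := fun l =>
    hcent ((⟨σ, hσ⟩ : (P : Subgroup G)) ^ l)
  have hul : ∀ l : ℕ, 0 < l → l < N → (u : ZMod N) * (l : ZMod N) ≠ 0 := by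
    intro l h1 h2 h3
    rw [Units.mul_right_eq_zero, ZMod.natCast_eq_zero_iff] at h3
    have := Nat.le_of_dvd h1 h3
    omega
  -- `ζ`
  obtain ⟨c, hc⟩ := exists_unit hζ
  set w : (ZMod N)ˣ := c * u⁻¹ with hw
  have hwu : (w : ZMod N) * (u : ZMod N) = c := by rw [hw, ← Units.val_mul, inv_mul_cancel_right]
  set ix : Fin (K - 1) → ZMod N := fun j => (w : ZMod N) * (((j : ℕ) + 1 : ℕ) : ZMod N) with hix
  have hwne : ∀ a : ℕ, 0 < a → a < N → (w : ZMod N) * (a : ZMod N) ≠ 0 := by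
    intro a h1 h2 h3
    rw [Units.mul_right_eq_zero, ZMod.natCast_eq_zero_iff] at h3
    have := Nat.le_of_dvd h1 h3
    omega
  have hix2 : ∀ j, ix j + ix j ≠ 0 := by
    intro j
    have h1 : ix j + ix j = (w : ZMod N) * ((2 * ((j : ℕ) + 1) : ℕ) : ZMod N) := by
      simp only [hix]; push_cast; ring
    rw [h1]
    exact hwne _ (by omega) (by omega)
  -- the characters
  obtain ⟨χ₁, hB₁, δ₁, hδ₁, e₁⟩ := exists_sign hC.s₁
  obtain ⟨χ₂, hB₂, δ₂, hδ₂, e₂⟩ := exists_sign hC.s₂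
  obtain ⟨χ₃, hB₃, δ₃, hδ₃, e₃⟩ := exists_sign hC.s₃
  -- the sign of the `T i`
  have hsT : ∀ i, i + i ≠ 0 → ∃ χ ∈ principalBlock M G, ∀ g, T i g = δ₁ * (χ : G → ℂ) g := by
    intro i hi
    obtain ⟨χ, hχ, δ, hδ, eχ⟩ := exists_sign (hC.sT i hi)
    refine ⟨χ, hχ, ?_⟩
    suffices hsame : δ = δ₁ by rw [← hsame]; exact eχ
    obtain ⟨d, hd0, hd⟩ := Core.isIrr_apply_one χ.2
    obtain ⟨d₁, hd10, hd1⟩ := Core.isIrr_apply_one χ₁.2
    have h1 := hC.hTf i hi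
    rw [eχ, hd, ← hC.hf, e₁, hd1] at h1
    have h2 : δ * (d : ℤ) = 1 + δ₁ * (d₁ : ℤ) := by exact_mod_cast h1
    rcases hδ with rfl | rfl <;> rcases hδ₁ with rfl | rfl
    · rfl
    · omega
    · omega
    · rfl
  choose χ' hB' e' using fun j => hsT (ix j) (hix2 j)
  set χ₀ : IrrCharacter G := ⟨fun _ => 1, Core.isIrr_one⟩ with hχ₀
  have hMp : M.IsPrime := Local.isPrime_of_isPModular hM
  have hB₀ : χ₀ ∈ principalBlock M G := Basic.sameBlock_refl _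
  have s₀ : (1 : G → ℂ) = (χ₀ : G → ℂ) ∨ (1 : G → ℂ) = -(χ₀ : G → ℂ) := Or.inl rfl
  have s₁ := sign_or hδ₁ e₁
  have s₂ := sign_or hδ₂ e₂
  have s₃ := sign_or hδ₃ e₃
  have s' : ∀ j, T (ix j) = (χ' j : G → ℂ) ∨ T (ix j) = -(χ' j : G → ℂ) := fun j =>
    sign_or hδ₁ (e' j)
  have n10 : χ₁ ≠ χ₀ := inner_ne s₀ (inner_zero_of_signed s₁ (inner_symm_zero hC.ho.one₁))
  have n20 : χ₂ ≠ χ₀ := inner_ne s₀ (inner_zero_of_signed s₂ (inner_symm_zero hC.ho.one₂))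
  have n30 : χ₃ ≠ χ₀ := inner_ne s₀ (inner_zero_of_signed s₃ (inner_symm_zero hC.ho.one₃))
  have n21 : χ₂ ≠ χ₁ := inner_ne s₁ (inner_zero_of_signed s₂ hC.ho.x₁₂)
  have n31 : χ₃ ≠ χ₁ := inner_ne s₁ (inner_zero_of_signed s₃ hC.ho.x₁₃)
  have n32 : χ₃ ≠ χ₂ := inner_ne s₂ (inner_zero_of_signed s₃ hC.ho.x₂₃)
  have n'0 : ∀ j, χ' j ≠ χ₀ := fun j =>
    inner_ne s₀ (inner_zero_of_signed (s' j) (inner_symm_zero (hC.ho.one_T _ (hix2 j))))
  have n'1 : ∀ j, χ' j ≠ χ₁ := fun j =>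
    inner_ne s₁ (inner_zero_of_signed (s' j) (inner_symm_zero (hC.ho.T_x₁ _ (hix2 j))))
  have n'2 : ∀ j, χ' j ≠ χ₂ := fun j =>
    inner_ne s₂ (inner_zero_of_signed (s' j) (inner_symm_zero (hC.ho.T_x₂ _ (hix2 j))))
  have n'3 : ∀ j, χ' j ≠ χ₃ := fun j =>
    inner_ne s₃ (inner_zero_of_signed (s' j) (inner_symm_zero (hC.ho.T_x₃ _ (hix2 j))))
  have hinj : Function.Injective χ' := by
    intro j k hjk
    have hwc : ∀ a b : ZMod N, (w : ZMod N) * a = (w : ZMod N) * b → a = b := by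
      intro a b hab
      have h1 : (w : ZMod N) * (a - b) = 0 := by rw [mul_sub, hab, sub_self]
      rw [Units.mul_right_eq_zero] at h1
      exact sub_eq_zero.1 h1
    by_contra hne
    have hne' : (j : ℕ) ≠ (k : ℕ) := fun h => hne (Fin.ext h)
    have h1 : ix j ≠ ix k := by
      intro h1
      have h2 := hwc _ _ h1
      rw [ZMod.natCast_eq_natCast_iff, Nat.ModEq, Nat.mod_eq_of_lt (by omega),
        Nat.mod_eq_of_lt (by omega)] at h2
      omega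
    have h2 : ix j ≠ -ix k := by
      intro h1
      have h2 : (w : ZMod N) * ((((j : ℕ) + 1) + ((k : ℕ) + 1) : ℕ) : ZMod N) = 0 := by
        have h3 : ix j + ix k = 0 := by rw [h1]; ring
        rw [← h3]
        simp only [hix]
        push_cast
        ring
      exact hwne _ (by omega) (by omega) h2
    have h3 := inner_ne (s' k) (inner_zero_of_signed (s' j)
      (inner_symm_zero (hC.ho.T_T _ _ (hix2 j) (hix2 k) h1 h2)))
    exact h3 hjk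
  have hneg : ∀ i, i + i ≠ 0 → T (-i) = T i := by
    intro i hi
    have hi' : -i + -i ≠ 0 := by
      intro h0
      apply hi
      rw [← neg_add, neg_eq_zero] at h0
      exact h0
    have h1 := hC.hT (-i) hi'
    rw [BGFourier.bth_neg, hC.hT i hi] at h1
    have h3 := sub_right_injective h1
    exact h3.symm
  -- every `T i` is one of the `T (ix j)`
  have hcov : ∀ i, i + i ≠ 0 → ∃ j, T i = T (ix j) := by
    intro i hi
    set a : ZMod N := ((w⁻¹ : (ZMod N)ˣ) : ZMod N) * i with ha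
    have hia : i = (w : ZMod N) * a := by
      rw [ha, ← mul_assoc, Units.mul_inv, one_mul]
    have hav : a.val < N := ZMod.val_lt a
    have hacast : ((a.val : ℕ) : ZMod N) = a := ZMod.natCast_zmod_val a
    have ha0 : a.val ≠ 0 := by
      intro h0
      rw [h0, Nat.cast_zero] at hacast
      apply hi
      rw [hia, ← hacast]; ring
    have haK : a.val ≠ K := by
      intro h0
      apply hi
      have h1 : i + i = (w : ZMod N) * ((2 * K : ℕ) : ZMod N) := by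
        rw [hia, ← hacast, h0]; push_cast; ring
      rw [h1, ← hNK, ZMod.natCast_self, mul_zero]
    rcases lt_or_gt_of_ne haK with hlt | hgt
    · refine ⟨⟨a.val - 1, by omega⟩, ?_⟩
      congr 1
      simp only [hix]
      rw [hia]
      congr 1
      rw [← hacast]
      congr 1
      have : (a.val : ZMod N).val = a.val := by rw [hacast]
      rw [this]
      omega
    · refine ⟨⟨N - a.val - 1, by omega⟩, ?_⟩
      rw [← hneg i hi]
      congr 1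
      simp only [hix]
      have h1 : N - a.val - 1 + 1 = N - a.val := by omega
      rw [h1, Nat.cast_sub hav.le, ZMod.natCast_self, hacast, zero_sub, hia]
      ring
  have hset : principalBlock M G = {χ : IrrCharacter G | χ = χ₀ ∨ χ = χ₁ ∨ χ = χ₂ ∨ χ = χ₃ ∨
      ∃ j, χ = χ' j} := by
    ext χ
    constructor
    · intro hχ
      by_contra hnot
      simp only [Set.mem_ofPred_eq, not_or, not_exists] at hnot
      obtain ⟨m0, m1, m2, m3, m'⟩ := hnot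
      have orth : ∀ (X : G → ℂ) (ψ : IrrCharacter G), (X = (ψ : G → ℂ) ∨ X = -(ψ : G → ℂ)) →
          χ ≠ ψ → classInner X (χ : G → ℂ) = 0 := by
        intro X ψ hX hne
        have h1 : classInner (ψ : G → ℂ) (χ : G → ℂ) = 0 :=
          Core.classInner_irr_ne ψ.2 χ.2 (fun h => hne (Subtype.ext h).symm)
        rcases hX with rfl | rfl
        · exact h1
        · rw [Core.classInner_neg_left, h1, neg_zero]
      refine hC.complete hD hM P e ht hχ (orth _ _ s₀ m0) (orth _ _ s₁ m1) (orth _ _ s₂ m2)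
        (orth _ _ s₃ m3) ?_
      intro i hi
      obtain ⟨j, hj⟩ := hcov i hi
      rw [hj]
      exact orth _ _ (s' j) (m' j)
    · rintro (rfl | rfl | rfl | rfl | ⟨j, rfl⟩)
      · exact hB₀
      · exact hB₁
      · exact hB₂
      · exact hB₃
      · exact hB' j
  have hfun : ∀ χ : IrrCharacter G, ((χ : G → ℂ) = (fun _ => 1)) ↔ χ = χ₀ := fun χ =>
    ⟨fun h => Subtype.ext h, fun h => congrArg Subtype.val h⟩
  refine ⟨?_, χ₁, χ₂, χ₃, χ', δ₁, -δ₂, -δ₃, hδ₁, ?_, ?_, hinj, ?_, ?_, ?_, n21.symm, n31.symm,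
    n32.symm, ?_, ?_, ?_, ?_⟩
  · rw [hset, card_list χ₀ χ₁ χ₂ χ₃ χ' hinj n10 n20 n30 n21.symm n31.symm n32.symm
      (fun j => ⟨n'1 j, n'2 j, n'3 j, n'0 j⟩)]
    omega
  · rcases hδ₂ with rfl | rfl
    · right; rfl
    · left; rfl
  · rcases hδ₃ with rfl | rfl
    · right; rfl
    · left; rfl
  · rwa [Ne, hfun]
  · rwa [Ne, hfun]
  · rwa [Ne, hfun]
  · intro j
    refine ⟨n'1 j, n'2 j, n'3 j, ?_⟩
    rw [Ne, hfun]
    exact n'0 j
  · rw [hset]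
    ext χ
    simp only [Set.mem_ofPred_eq, hfun]
  · intro l hl0 hl1
    have hval := hC.val ⟨σ ^ l, hσc l⟩ _ (hul l hl0 hl1) (hπσ l (hσc l))
    obtain ⟨v1, v2, v3, vT⟩ := hval
    have k₁ := sign_mul_self hδ₁
    have k₂ := sign_mul_self hδ₂
    have k₃ := sign_mul_self hδ₃
    rw [e₁] at v1
    rw [e₂, mu_unit_mul h2N] at v2
    rw [e₃, mu_unit_mul h2N] at v3
    refine ⟨?_, ?_, ?_, ?_⟩
    · calc (χ₁ : G → ℂ) (σ ^ l) = (δ₁ * δ₁) * (χ₁ : G → ℂ) (σ ^ l) := by rw [k₁, one_mul]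
        _ = δ₁ * (δ₁ * (χ₁ : G → ℂ) (σ ^ l)) := by ring
        _ = δ₁ := by rw [v1, mul_one]
    · calc (χ₂ : G → ℂ) (σ ^ l) = (δ₂ * δ₂) * (χ₂ : G → ℂ) (σ ^ l) := by rw [k₂, one_mul]
        _ = δ₂ * (δ₂ * (χ₂ : G → ℂ) (σ ^ l)) := by ring
        _ = ((-δ₂ : ℤ) : ℂ) * (-1) ^ (l + 1) := by rw [v2]; push_cast; ring
    · calc (χ₃ : G → ℂ) (σ ^ l) = (δ₃ * δ₃) * (χ₃ : G → ℂ) (σ ^ l) := by rw [k₃, one_mul]
        _ = δ₃ * (δ₃ * (χ₃ : G → ℂ) (σ ^ l)) := by ring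
        _ = ((-δ₃ : ℤ) : ℂ) * (-1) ^ (l + 1) := by rw [v3]; push_cast; ring
    · intro j
      have v4 := vT (ix j) (hix2 j)
      rw [e' j, theta_r, e_neg] at v4
      have h5 : ix j * ((u : ZMod N) * (l : ZMod N)) =
          (c : ZMod N) * (((((j : ℕ) + 1) * l : ℕ)) : ZMod N) := by
        rw [← hwu]
        simp only [hix]
        push_cast
        ring
      rw [h5, ← hc] at v4
      calc (χ' j : G → ℂ) (σ ^ l) = (δ₁ * δ₁) * (χ' j : G → ℂ) (σ ^ l) := by rw [k₁, one_mul]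
        _ = δ₁ * (δ₁ * (χ' j : G → ℂ) (σ ^ l)) := by ring
        _ = _ := by rw [v4]
  · intro ρ hρ j
    have h1 := hC.oddX ρ hρ
    have h2 := hC.oddT (ix j) (hix2 j) ρ hρ
    rw [e₁, e₂, e₃] at h1
    rw [e₁, e' j] at h2
    constructor
    · push_cast
      linear_combination h1
    · linear_combination h2

end Cfsg.Agent.S4481
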