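import Cfsg.Statements.S2548
import Cfsg.Agent.Nodes.RGDClass
import Cfsg.Agent.H167.HasSt
import Cfsg.Agent.H167.SmallOrth
import Cfsg.Agent.S0299
import Cfsg.Agent.S0305

set_option autoImplicit false
open Cfsg

namespace Cfsg.Agent.S2548

/-- Let F be a finite field of characteristic p and consider the group PΩ⁺_{2m}(F) of the hyperbolic quadratic form Σ x_i y_i with m ≥ 1, where Ω denotes the commutator subgroup of the full isometry group. This group has an irreducible complex character χ whose degree equals the order of a Sylow p-subgroup (equal to q^(m(m−1)) when #F = q, except in the degenerate case m = 2, q = 2, where this commutator subgroup has order 18 and its Sylow 2-subgroups have order 2) and whose restriction to any Sylow p-subgroup P is the regular character of P: χ vanishes on the non-identity elements of P. (This is the Steinberg character.) -/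
theorem result {F : Type*} [Field F] [Fintype F] (p : ℕ) [Fact p.Prime] [CharP F p] (m : ℕ) (hm : 1 ≤ m) : ∃ χ : Cfsg.POmega F (Cfsg.quadFormPlus m F) → ℂ, Cfsg.IsIrrCharacter (Cfsg.POmega F (Cfsg.quadFormPlus m F)) χ ∧ ∀ P : Sylow p (Cfsg.POmega F (Cfsg.quadFormPlus m F)), χ 1 = Nat.card P ∧ ∀ x : Cfsg.POmega F (Cfsg.quadFormPlus m F), x ∈ P → x ≠ 1 → χ x = 0 := by
  have hp : p.Prime := Fact.out
  have hdvd : p ∣ Fintype.card F := by
    obtain ⟨n, -, hn⟩ := FiniteField.card F p
    rw [hn]
    exact dvd_pow_self p n.ne_zero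
  have h1 := Fintype.one_lt_card (α := F)
  rw [← Cfsg.Agent.H167.StChar.hasSt_iff]
  obtain rfl | rfl | ⟨n, rfl⟩ : m = 1 ∨ m = 2 ∨ ∃ n, m = n + 3 := by
    rcases Nat.lt_or_ge m 3 with h | h
    · omega
    · exact Or.inr (Or.inr ⟨m - 3, by omega⟩)
  · -- `m = 1` : the group is a `p'`-group
    obtain ⟨e⟩ := Cfsg.Agent.S0305.result (F := F) rfl
    refine Cfsg.Agent.H167.SmallOrth.hasSt_of_dihedral (n := Fintype.card F - 1) (by omega) ?_ e
    intro h
    have h2 : p ∣ 1 := by
      have h3 := Nat.dvd_sub hdvd h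
      rwa [Nat.sub_sub_self h1.le] at h3
    exact hp.one_lt.ne' (Nat.dvd_one.1 h2)
  · rcases Nat.lt_or_ge (Fintype.card F) 3 with h | h
    · have hF : Fintype.card F = 2 := by omega
      obtain rfl : p = 2 := by
        rw [hF] at hdvd
        exact (Nat.prime_dvd_prime_iff_eq hp Nat.prime_two).1 hdvd
      exact Cfsg.Agent.H167.SmallOrth.hasSt_plus_two hF
    · obtain ⟨e⟩ := Cfsg.Agent.S0299.result h
      have : Finite (Matrix.ProjectiveSpecialLinearGroup (Fin 2) F) :=
        Finite.of_surjective _ (QuotientGroup.mk'_surjective _)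
      have h2 : Cfsg.Agent.H167.StChar.HasSt p (Matrix.ProjectiveSpecialLinearGroup (Fin 2) F) :=
        Cfsg.Agent.H167.StChar.HasSt.of_hasRGD (Cfsg.Agent.Nodes.RGDClass.hasRGD_PSL 1)
      exact (h2.prod h2).of_equiv e
  · exact Cfsg.Agent.H167.StChar.HasSt.of_hasRGD (Cfsg.Agent.Nodes.WittInst.hasRGD_PO_plus n)

end Cfsg.Agent.S2548
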