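import Cfsg.Statements.S4951
import Cfsg.Agent.H712.GmnTab
import Cfsg.Agent.H142.GmnFinal

set_option autoImplicit false
open Cfsg

namespace Cfsg.Agent.S4951

/-- Let G be a finite group, p an odd prime, M a maximal ideal of the algebraic integers containing p, and P a Sylow p-subgroup of G whose normalizer N equals P·C_G(P). Then for every irreducible character χ of G of degree not divisible by p lying in the principal p-block there is exactly one linear character of N occurring in the restriction of χ to N; it occurs with multiplicity one, lies in the principal p-block of N, every other irreducible constituent of the restriction has degree divisible by p, and every linear character of N in the principal p-block of N arises in this way from exactly one such χ. -/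
theorem result {G : Type*} [Group G] [Fintype G] (p : ℕ) [Fact p.Prime] (hp : p ≠ 2) (M : Ideal Cfsg.AlgInt) (hM : Cfsg.IsPModular p M) (P : Sylow p G) [Fintype ↥(Subgroup.normalizer ((P : Subgroup G) : Set G))]
    (hdec : Subgroup.normalizer ((P : Subgroup G) : Set G) = (P : Subgroup G) ⊔ Subgroup.centralizer ((P : Subgroup G) : Set G)) :
    (∀ χ : Cfsg.IrrCharacter G, χ ∈ Cfsg.principalBlock M G → ¬ p ∣ Cfsg.charDegree (χ : G → ℂ) →
        (∃! μ : Cfsg.IrrCharacter ↥(Subgroup.normalizer ((P : Subgroup G) : Set G)), Cfsg.charDegree (μ : ↥(Subgroup.normalizer ((P : Subgroup G) : Set G)) → ℂ) = 1 ∧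
            Cfsg.classInner (fun x : ↥(Subgroup.normalizer ((P : Subgroup G) : Set G)) => (χ : G → ℂ) x) (μ : ↥(Subgroup.normalizer ((P : Subgroup G) : Set G)) → ℂ) ≠ 0) ∧
        (∀ μ : Cfsg.IrrCharacter ↥(Subgroup.normalizer ((P : Subgroup G) : Set G)), Cfsg.classInner (fun x : ↥(Subgroup.normalizer ((P : Subgroup G) : Set G)) => (χ : G → ℂ) x) (μ : ↥(Subgroup.normalizer ((P : Subgroup G) : Set G)) → ℂ) ≠ 0 →
            (Cfsg.charDegree (μ : ↥(Subgroup.normalizer ((P : Subgroup G) : Set G)) → ℂ) = 1 ∧ μ ∈ Cfsg.principalBlock M ↥(Subgroup.normalizer ((P : Subgroup G) : Set G)) ∧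
              Cfsg.classInner (fun x : ↥(Subgroup.normalizer ((P : Subgroup G) : Set G)) => (χ : G → ℂ) x) (μ : ↥(Subgroup.normalizer ((P : Subgroup G) : Set G)) → ℂ) = 1) ∨
            p ∣ Cfsg.charDegree (μ : ↥(Subgroup.normalizer ((P : Subgroup G) : Set G)) → ℂ))) ∧
    (∀ μ : Cfsg.IrrCharacter ↥(Subgroup.normalizer ((P : Subgroup G) : Set G)), μ ∈ Cfsg.principalBlock M ↥(Subgroup.normalizer ((P : Subgroup G) : Set G)) → Cfsg.charDegree (μ : ↥(Subgroup.normalizer ((P : Subgroup G) : Set G)) → ℂ) = 1 →
        ∃! χ : Cfsg.IrrCharacter G, χ ∈ Cfsg.principalBlock M G ∧ ¬ p ∣ Cfsg.charDegree (χ : G → ℂ) ∧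
          Cfsg.classInner (fun x : ↥(Subgroup.normalizer ((P : Subgroup G) : Set G)) => (χ : G → ℂ) x) (μ : ↥(Subgroup.normalizer ((P : Subgroup G) : Set G)) → ℂ) ≠ 0) := by
  exact H142.GmnBlock.final p M hM (H142.GmnFinal.table_of_tab (H712.GmnTab.tab hp))
    (fun Q _ h => H142.GmnFinal.corr_of_tab (H712.GmnTab.tab hp) Q h) P hdec

end Cfsg.Agent.S4951
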