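import Cfsg.Statements.S5212
import Cfsg.Agent.H772.EssAbelTwo

set_option autoImplicit false
open Cfsg

namespace Cfsg.Agent.S5212

open Cfsg.FusionSystem Cfsg.Agent.H802 Cfsg.Agent.H772

/-- Let S be a finite metacyclic 2-group that is not homocyclic abelian (a direct product of cyclic groups of one common order), not dihedral, not semidihedral and not generalized quaternion. Then every saturated fusion system over S is the inner fusion system of S. -/
theorem result {Ω : Type*} [Group Ω] {S : Subgroup Ω} [Finite S] (hS : IsPGroup 2 S) (F : Cfsg.FusionSystem S) (hF : F.IsSaturated 2) (hm : Cfsg.IsMetacyclic ↥S) (hh : ¬ ∃ n k : ℕ, Nonempty (↥S ≃* Multiplicative (Fin k → ZMod (2 ^ n)))) (hd : ¬ ∃ m : ℕ, Nonempty (↥S ≃* DihedralGroup m)) (hq : ¬ ∃ m : ℕ, Nonempty (↥S ≃* QuaternionGroup m)) (hsd : ¬ Cfsg.IsQuasiDihedral ↥S) : ∀ P : Subgroup Ω, F.Hom P = (Cfsg.innerFusionSystem S).Hom P := by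
  classical
  -- products of two cyclic groups as functions
  have hpair : ∀ n : ℕ, Nonempty (Multiplicative (ZMod (2 ^ n)) × Multiplicative (ZMod (2 ^ n)) ≃*
      Multiplicative (Fin 2 → ZMod (2 ^ n))) := by
    intro n
    refine ⟨?_⟩
    exact (MulEquiv.prodMultiplicative _ _).symm.trans
      (AddEquiv.toMultiplicative (LinearEquiv.finTwoArrow ℤ (ZMod (2 ^ n))).symm.toAddEquiv)
  -- a fully automized subgroup whose automorphism group is a 2-group
  have hinner : ∀ Q : Subgroup Ω, Q ≤ S → autInducedBy S Q ≤ (innerFusionSystem S).autGroup Q :=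
    fun Q hQ => autInducedBy_le_autGroup _ hQ
  intro P
  refine Set.Subset.antisymm ?_ ?_
  swap
  · rintro φ ⟨hP, g, hg, h⟩
    have : φ = conjHom P g := MonoidHom.ext h
    rw [this]
    exact F.conj_mem hP hg
  refine le_of_essential hS hF (innerFusionSystem S) ?_ ?_ P
  · -- automorphisms of `S`
    have hA : IsPGroup 2 (MulAut S) := by
      by_contra hA
      rcases S1896.result hS hm hA with h | ⟨n, ⟨e⟩⟩
      · exact hq ⟨2, h⟩
      · obtain ⟨e'⟩ := hpair n
        exact hh ⟨n, 2, ⟨e.trans e'⟩⟩
    have hfa : F.IsFullyAutomized 2 S := by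
      obtain ⟨Q, hQ1, hQ2, hQ3⟩ := hF S le_rfl
      have : Q = S := eq_of_le_card_eq hQ2.1 (isConj_card_eq hQ1).symm
      rwa [this] at hQ2
    exact (autGroup_le_of_isPGroup hfa (hA.to_subgroup _)).trans (hinner S le_rfl)
  · intro Q hQ _
    have hQS := hQ.2.1.1
    have hfinQ : Finite Q := finite_of_le hQS
    have hQp : IsPGroup 2 Q := hS.to_le hQS
    have hC : centralizerIn S Q ≤ Q := hQ.1.2 Q (isConj_refl F hQS)
    have hne := ne_of_isEssential hS hF hQ
    have hmQ : Cfsg.IsMetacyclic Q := OddOrderLocal.Metacyclic.isMetacyclic_of_le hm hQS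
    have hfa := isFullyAutomized_of_isFullyNormalized hS hF hQ.2.1
    have hCS : Subgroup.centralizer ((Q.subgroupOf S : Subgroup S) : Set S) ≤ Q.subgroupOf S := by
      intro g hg
      rw [Subgroup.mem_subgroupOf]
      apply hC
      refine ⟨g.2, Subgroup.mem_centralizer_iff.2 fun x hx => ?_⟩
      have := Subgroup.mem_centralizer_iff.1 hg ⟨x, hQS hx⟩ (Subgroup.mem_subgroupOf.2 hx)
      exact congrArg Subtype.val this
    by_cases hA : IsPGroup 2 (MulAut Q)
    · exact (autGroup_le_of_isPGroup hfa (hA.to_subgroup _)).trans (hinner Q hQS)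
    · exfalso
      rcases S1896.result hQp hmQ hA with ⟨⟨e⟩⟩ | ⟨n, ⟨e⟩⟩
      · -- quaternion
        rcases cases_of_quaternion hS (Q.subgroupOf S)
          ((Subgroup.subgroupOfEquivOfLe hQS).trans e) hCS with h | h | h
        · exact hd h
        · exact hsd h
        · exact hq h
      · have hab : ∀ a b : Q, a * b = b * a := by
          intro a b
          apply e.injective
          rw [map_mul, map_mul, mul_comm]
        have h2n : 0 < 2 ^ n := by positivity
        have hNZ : NeZero (2 ^ n) := ⟨h2n.ne'⟩
        have hcard : Nat.card Q = 2 ^ n * 2 ^ n := by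
          rw [Nat.card_congr e.toEquiv, Nat.card_prod]
          have : Nat.card (Multiplicative (ZMod (2 ^ n))) = 2 ^ n := by
            rw [Nat.card_congr Multiplicative.toAdd, Nat.card_zmod]
          rw [this]
        have hexp : ∀ q : Q, q ^ 2 ^ n = 1 := by
          intro q
          apply e.injective
          rw [map_pow, map_one]
          have h1 : ∀ s : Multiplicative (ZMod (2 ^ n)), s ^ 2 ^ n = 1 := by
            intro s
            apply Multiplicative.toAdd.injective
            rw [toAdd_pow, toAdd_one, nsmul_eq_mul, ZMod.natCast_self, zero_mul]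
          exact Prod.ext (h1 _) (h1 _)
        rcases Nat.lt_or_ge n 2 with hn | hn
        · interval_cases n
          · -- trivial
            apply hA
            have hc1 : Nat.card Q = 1 := by simpa using hcard
            have : Subsingleton Q := (Nat.card_eq_one_iff_unique.1 hc1).1
            have : Subsingleton (MulAut Q) := ⟨fun a b => by ext x; exact congrArg _ (Subsingleton.elim _ _)⟩
            exact IsPGroup.of_subsingleton _ _
          · have hc4 : Nat.card (Q.subgroupOf S) = 4 := by
              rw [Nat.card_congr (Subgroup.subgroupOfEquivOfLe hQS).toEquiv, hcard]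
              norm_num
            have hV2 : ∀ v ∈ Q.subgroupOf S, v ^ 2 = 1 := by
              intro v hv
              apply Subtype.ext
              have := congrArg Subtype.val (hexp ⟨v, hv⟩)
              simpa using this
            rcases cases_of_four hS (Q.subgroupOf S) hc4 hV2 hCS with h | h | h
            · exact hd h
            · exact hsd h
            · apply hne
              apply eq_of_le_card_eq hQS
              rw [h, hcard]
              norm_num
        · exact essential_homocyclic_false hS hF hm hQ hab n hn hcard hexp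

end Cfsg.Agent.S5212
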