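import Cfsg.Statements.S3910
import Cfsg.Agent.H477.Basic
import Cfsg.Agent.H477.Quot
import Cfsg.Agent.S0016
import Cfsg.Agent.S0065

set_option autoImplicit false
open Cfsg

namespace Cfsg.Agent.S3910

open Subgroup Cfsg.Agent.H477

/-- In a nilpotent group a nontrivial normal `p`-subgroup contains a central element of order `p`. -/
theorem exists_central {G : Type*} [Group G] [Finite G] [hnil : Group.IsNilpotent G] {p : ℕ}
    [hp : Fact p.Prime] (P : Subgroup G) [P.Normal] (hP : IsPGroup p ↥P) (hne : P ≠ ⊥) :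
    ∃ z ∈ P, z ∈ Subgroup.center G ∧ orderOf z = p := by
  have h := Cfsg.Agent.S0065.result P hne
  have hpg : IsPGroup p ↥(P ⊓ Subgroup.center G) := hP.to_le inf_le_left
  have hdvd : p ∣ Nat.card ↥(P ⊓ Subgroup.center G) := by
    obtain ⟨n, hn⟩ := IsPGroup.iff_card.mp hpg
    rw [hn]
    apply dvd_pow_self
    rintro rfl
    rw [pow_zero, Subgroup.card_eq_one] at hn
    exact h hn
  obtain ⟨z, hz⟩ := exists_prime_orderOf_dvd_card' (G := ↥(P ⊓ Subgroup.center G)) p hdvd
  refine ⟨z, z.2.1, z.2.2, ?_⟩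
  rw [← hz, Subgroup.orderOf_coe]

/-- The unique subgroup of its order. -/
theorem eq_of_normal {G : Type*} [Group G] (hB : IsB G) {N A : Subgroup G} [hN : N.Normal]
    (hNc : IsMulCommutative ↥N) (hAc : IsMulCommutative ↥A) (h : Nat.card ↥N = Nat.card ↥A) :
    A = N := by
  obtain ⟨g, hg⟩ := hB N A hNc hAc h
  rw [hg]
  exact hN.conjAct g

theorem isMulCommutative_of_card_sq {G : Type*} [Group G] {p : ℕ} [hp : Fact p.Prime]
    {A : Subgroup G} (h : Nat.card ↥A = p ^ 2) : IsMulCommutative ↥A :=
  ⟨⟨(IsPGroup.isMulCommutative_of_card_eq_prime_sq h).is_comm.comm⟩⟩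

/-- Normal `p`-subgroups of a nilpotent B-group are cyclic. -/
theorem isCyclic_of_pGroup {G : Type*} [Group G] [Finite G] [hnil : Group.IsNilpotent G] (hB : IsB G)
    (p : ℕ) [hp : Fact p.Prime] (P : Subgroup G) [P.Normal] (hP : IsPGroup p ↥P) : IsCyclic ↥P := by
  by_cases hne : P = ⊥
  · have : Subsingleton ↥P := by rw [hne]; infer_instance
    exact isCyclic_of_subsingleton
  obtain ⟨z, hzP, hzc, hzo⟩ := exists_central P hP hne
  have hzn : (Subgroup.zpowers z).Normal := by
    refine ⟨fun x hx g => ?_⟩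
    have : x ∈ Subgroup.center G := (Subgroup.zpowers_le.mpr hzc) hx
    rw [Subgroup.mem_center_iff.mp this g, mul_inv_cancel_right]
    exact hx
  have huniq : ∀ H K : Subgroup ↥P, Nat.card H = p → Nat.card K = p → H = K := by
    have h1 : ∀ H : Subgroup ↥P, Nat.card H = p → H.map P.subtype = Subgroup.zpowers z := by
      intro H hH
      have hc : Nat.card ↥(H.map P.subtype) = p := by
        rw [Subgroup.card_map_of_injective P.subtype_injective, hH]
      have hcyc : IsCyclic ↥(H.map P.subtype) := isCyclic_of_prime_card hc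
      exact eq_of_normal hB inferInstance inferInstance (by rw [Nat.card_zpowers, hzo, hc])
    intro H K hH hK
    exact Subgroup.map_injective P.subtype_injective ((h1 H hH).trans (h1 K hK).symm)
  rcases Cfsg.Agent.S0016.result p hP huniq with h | ⟨rfl, n, ⟨e⟩⟩
  · exact h
  rcases Nat.eq_zero_or_pos n with rfl | hn
  · have := QuaternionGroup.quaternionGroup_one_isCyclic
    rw [pow_zero] at e
    exact isCyclic_of_surjective e.symm e.symm.surjective
  exfalso
  have hcardP : Nat.card ↥P = 4 * 2 ^ n := by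
    rw [Nat.card_congr e.toEquiv, Nat.card_eq_fintype_card, QuaternionGroup.card]
  -- a normal subgroup of order four
  obtain ⟨N, hNn, hNP, hN4⟩ : ∃ N : Subgroup G, N.Normal ∧ N ≤ P ∧ Nat.card ↥N = 2 ^ 2 := by
    let Z := Subgroup.zpowers z
    let π := QuotientGroup.mk' Z
    have hPZ : Z ≤ P := Subgroup.zpowers_le.mpr hzP
    have hPn : (P.map π).Normal := Subgroup.Normal.map inferInstance π (QuotientGroup.mk'_surjective Z)
    have hPne : P.map π ≠ ⊥ := by
      intro h
      rw [Subgroup.map_eq_bot_iff, QuotientGroup.ker_mk'] at h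
      have h1 : P = Z := le_antisymm h hPZ
      have h2 : Nat.card ↥P = 2 := by rw [h1, Nat.card_zpowers, hzo]
      rw [hcardP] at h2
      have := Nat.one_le_two_pow (n := n)
      omega
    obtain ⟨w, hwP, hwc, hwo⟩ := exists_central (p := 2) (P.map π) (hP.map π) hPne
    have hwn : (Subgroup.zpowers w).Normal := by
      refine ⟨fun x hx g => ?_⟩
      have : x ∈ Subgroup.center (G ⧸ Z) := (Subgroup.zpowers_le.mpr hwc) hx
      rw [Subgroup.mem_center_iff.mp this g, mul_inv_cancel_right]
      exact hx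
    refine ⟨(Subgroup.zpowers w).comap π, inferInstance, ?_, ?_⟩
    · have h1 : Subgroup.zpowers w ≤ P.map π := Subgroup.zpowers_le.mpr hwP
      have h2 := Subgroup.comap_mono (f := π) h1
      rwa [Subgroup.comap_map_eq, QuotientGroup.ker_mk', sup_of_le_left hPZ] at h2
    · rw [card_comap_of_surjective π (QuotientGroup.mk'_surjective Z), QuotientGroup.ker_mk',
        Nat.card_zpowers, Nat.card_zpowers, hzo, hwo]
      norm_num
  have key : ∀ i : ZMod (2 * 2 ^ n), Subgroup.zpowers ((e.symm (QuaternionGroup.xa i) : ↥P) : G) = N := by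
    intro i
    apply eq_of_normal hB (isMulCommutative_of_card_sq hN4) inferInstance
    rw [hN4, Nat.card_zpowers, Subgroup.orderOf_coe, MulEquiv.orderOf_eq, QuaternionGroup.orderOf_xa]
    norm_num
  have hmem : ((e.symm (QuaternionGroup.xa 1) : ↥P) : G) ∈
      Subgroup.zpowers ((e.symm (QuaternionGroup.xa 0) : ↥P) : G) := by
    rw [key 0, ← key 1]; exact Subgroup.mem_zpowers _
  obtain ⟨k, hk⟩ := Subgroup.mem_zpowers_iff.mp hmem
  have hcomm : ((e.symm (QuaternionGroup.xa 1) : ↥P) : G) * ((e.symm (QuaternionGroup.xa 0) : ↥P) : G)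
      = ((e.symm (QuaternionGroup.xa 0) : ↥P) : G) * ((e.symm (QuaternionGroup.xa 1) : ↥P) : G) := by
    rw [← hk]
    exact ((Commute.refl _).zpow_left k).eq
  have hcomm2 : (QuaternionGroup.xa 1 : QuaternionGroup (2 ^ n)) * QuaternionGroup.xa 0
      = QuaternionGroup.xa 0 * QuaternionGroup.xa 1 := by
    apply e.symm.injective
    rw [map_mul, map_mul]
    exact Subtype.ext hcomm
  rw [QuaternionGroup.xa_mul_xa, QuaternionGroup.xa_mul_xa, QuaternionGroup.a.injEq] at hcomm2
  have h2 : ((2 : ℕ) : ZMod (2 * 2 ^ n)) = 0 := by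
    push_cast
    linear_combination -hcomm2
  rw [ZMod.natCast_eq_zero_iff] at h2
  have h3 := Nat.le_of_dvd (by norm_num) h2
  have h4 : 2 ^ 1 ≤ 2 ^ n := Nat.pow_le_pow_right (by norm_num) hn
  omega

/-- A finite nilpotent group in which any two abelian subgroups of the same order are conjugate is cyclic. -/
theorem result {G : Type*} [Group G] [Finite G] (hB : ∀ A B : Subgroup G, IsMulCommutative ↥A → IsMulCommutative ↥B → Nat.card ↥A = Nat.card ↥B → ∃ g : G, B = A.map (MulAut.conj g).toMonoidHom) (hnil : Group.IsNilpotent G) : IsCyclic G := by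
  have hZ : IsZGroup G := by
    refine ⟨fun p hp P => ?_⟩
    have : Fact p.Prime := ⟨hp⟩
    exact isCyclic_of_pGroup hB p (P : Subgroup G) P.isPGroup'
  infer_instance

end Cfsg.Agent.S3910
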