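import Cfsg.Statements.S2327
import Cfsg.Agent.H167.AltChev
import Cfsg.Agent.S1027

set_option autoImplicit false
open Cfsg

namespace Cfsg.Agent.S2327

/-- In a Chevalley group of type G₂, B₂, D₄, F₄, E₆, E₇ or E₈ over a finite field with q elements, the Steinberg character (the alternating sum of the permutation characters on the standard parabolic subgroups) has degree q^N, N the number of positive roots; this is the order of U and the largest power of the characteristic dividing the group order. -/
theorem result {F : Type*} [Field F] [Fintype F] (D : Cfsg.Lie.ChevalleyDatum) (hD : D ∈ [Cfsg.Lie.chevG2, Cfsg.Lie.chevB2, Cfsg.Lie.chevD4, Cfsg.Lie.chevF4, Cfsg.Lie.chevE6, Cfsg.Lie.chevE7, Cfsg.Lie.chevE8]) :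
    D.steinbergCharacter F 1 = (Fintype.card F : ℂ) ^ (D.nroots / 2) := by
  obtain ⟨l, M, hp⟩ := Cfsg.Agent.H167.AltChev.exists_isType hD
  have h1 := (Cfsg.Agent.H167.AltChev.main (K := F) hp).2 1 (one_mem _)
  have h2 : Nat.card {u : (D.posUnipotent F).subgroupOf (D.group F) // (u : ↥(D.group F))⁻¹ * 1 * u ∈
      Cfsg.Agent.H167.AltChev.Tc D F} = Fintype.card F ^ (D.nroots / 2) := by
    rw [← Cfsg.Agent.S1027.result (F := F) D hD]
    refine Nat.card_congr ((Equiv.subtypeUnivEquiv ?_).trans
      (Subgroup.subgroupOfEquivOfLe (Cfsg.Agent.ChevalleyStructure.Elts.posUnipotent_le_group hD F)).toEquiv)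
    intro u
    rw [mul_one, inv_mul_cancel]
    exact one_mem _
  rw [h1, h2]
  push_cast
  rfl

end Cfsg.Agent.S2327
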