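import Cfsg.Statements.S2318
import Cfsg.Agent.H996.BruChev
import Cfsg.Agent.S2311
import Cfsg.Agent.S2326
import Cfsg.Agent.S2327
import Cfsg.Agent.S1027

set_option autoImplicit false
open Cfsg

namespace Cfsg.Agent.S2318

theorem not_dvd {G : Type*} [Group G] [Finite G] {p : ℕ} (hp : p.Prime) {d : ℕ} (hd0 : d ≠ 0) (hd : d ∣ Nat.card G)
    (hdvd : p ^ (Nat.card G).factorization p ∣ d) : ¬ p ∣ Nat.card G / d := by
  intro h
  obtain ⟨c, hc⟩ := hd
  rw [hc, Nat.mul_div_cancel_left _ (Nat.pos_of_ne_zero hd0)] at h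
  have h1 : p ^ ((Nat.card G).factorization p + 1) ∣ Nat.card G := by
    rw [pow_succ]
    conv_rhs => rw [hc]
    exact mul_dvd_mul hdvd h
  exact Nat.pow_succ_factorization_not_dvd Nat.card_pos.ne' hp h1

theorem aux {F : Type*} [Field F] [Fintype F] (p : ℕ) [Fact p.Prime] [CharP F p] (D : Cfsg.Lie.ChevalleyDatum)
    (hD : D ∈ [Cfsg.Lie.chevG2, Cfsg.Lie.chevB2, Cfsg.Lie.chevD4, Cfsg.Lie.chevF4, Cfsg.Lie.chevE6, Cfsg.Lie.chevE7, Cfsg.Lie.chevE8])
    (hirr : Cfsg.IsIrrCharacter ↥(D.group F) (D.steinbergCharacter F))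
    (hst : D.steinbergCharacter F 1 = (Fintype.card F : ℂ) ^ (D.nroots / 2))
    (χ : ↥(D.group F) → ℂ) (hχ : Cfsg.IsIrrCharacter ↥(D.group F) χ)
    (hdeg : ∃ d : ℕ, χ 1 = (d : ℂ) ∧ p ^ (Nat.card ↥(D.group F)).factorization p ∣ d) :
    χ = D.steinbergCharacter F := by
  have hp : p.Prime := Fact.out
  obtain ⟨P, hP⟩ := S2326.result (F := F) p D hD
  have hcard : p ^ (Nat.card ↥(D.group F)).factorization p = Fintype.card F ^ (D.nroots / 2) := by
    rw [← P.card_eq_multiplicity, ← S1027.result (F := F) D hD]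
    have h1 : Nat.card P = Nat.card (P : Subgroup ↥(D.group F)) := rfl
    rw [h1, hP]
    exact Nat.card_congr (Subgroup.subgroupOfEquivOfLe
      (ChevalleyStructure.Elts.posUnipotent_le_group hD F)).toEquiv
  have key : ∀ (ψ : ↥(D.group F) → ℂ) (hψ : Cfsg.IsIrrCharacter ↥(D.group F) ψ),
      (∃ d : ℕ, ψ 1 = (d : ℂ) ∧ p ^ (Nat.card ↥(D.group F)).factorization p ∣ d) →
      ¬ p ∣ Nat.card ↥(D.group F) / charDegree ψ := by
    rintro ψ hψ ⟨d, hd, hdvd⟩
    obtain ⟨h1, h2, h3⟩ := S0914.degree_spec (⟨ψ, hψ⟩ : IrrCharacter ↥(D.group F))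
    have h4 : charDegree ψ = d := by
      have : (charDegree ψ : ℂ) = (d : ℂ) := by rw [← hd]; exact h1.symm
      exact_mod_cast this
    rw [h4] at h2 h3 ⊢
    exact not_dvd hp (by omega) h3 hdvd
  have h := H996.BruChev.unique hD (F := F) p ⟨χ, hχ⟩ ⟨D.steinbergCharacter F, hirr⟩ (key χ hχ hdeg)
    (key _ hirr ⟨Fintype.card F ^ (D.nroots / 2), (by show D.steinbergCharacter F 1 = _; rw [hst]; push_cast; rfl), by rw [hcard]⟩)
  exact congrArg Subtype.val h

/-- In a Chevalley group of type G₂, B₂, D₄, F₄, E₆, E₇ or E₈ over a finite field of characteristic p (for types G₂ and B₂ the field is assumed to have at least 3 elements, so that the group is perfect), the Steinberg character is the only irreducible complex character whose degree is divisible by the full power of p dividing the group order (the only irreducible character of p-defect zero). -/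
theorem result {F : Type*} [Field F] [Fintype F] (p : ℕ) [Fact p.Prime] [CharP F p] (D : Cfsg.Lie.ChevalleyDatum) (hD : D ∈ [Cfsg.Lie.chevG2, Cfsg.Lie.chevB2, Cfsg.Lie.chevD4, Cfsg.Lie.chevF4, Cfsg.Lie.chevE6, Cfsg.Lie.chevE7, Cfsg.Lie.chevE8]) (hq : (D = Cfsg.Lie.chevG2 ∨ D = Cfsg.Lie.chevB2) → 3 ≤ Fintype.card F)
    (χ : ↥(D.group F) → ℂ) (hχ : Cfsg.IsIrrCharacter ↥(D.group F) χ)
    (hdeg : ∃ d : ℕ, χ 1 = (d : ℂ) ∧ p ^ (Nat.card ↥(D.group F)).factorization p ∣ d) :
    χ = D.steinbergCharacter F := by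
  exact aux p D hD (S2311.result D hD) (S2327.result D hD) χ hχ hdeg

end Cfsg.Agent.S2318
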