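import Cfsg.Statements.S5009
import Cfsg.Agent.S0000
import Cfsg.Agent.H652.Four.Main

set_option autoImplicit false
open Cfsg

namespace Cfsg.Agent.S5009

/-- Let `G` be a finite group none of whose irreducible complex character degrees is divisible by 4. Then either `G` is solvable, or `G` has a solvable normal subgroup `N` with `G/N` isomorphic to the alternating group of degree 7. The known proof uses the classification of finite simple groups. -/
theorem result {G : Type*} [Group G] [Finite G]
    (h : ∀ χ : Cfsg.IrrCharacter G, ¬ 4 ∣ Cfsg.charDegree (χ : G → ℂ)) :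
    Group.IsSolvable G ∨ ∃ N : Subgroup G, ∃ hN : N.Normal, Group.IsSolvable ↥N ∧ Nonempty (G ⧸ N ≃* ↥(alternatingGroup (Fin 7))) :=
  Cfsg.Agent.H652.Four.main (fun _ _ _ _ => Cfsg.Agent.S0000.result) h

end Cfsg.Agent.S5009
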