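import Cfsg.Statements.S4365

set_option autoImplicit false
open Cfsg

namespace Cfsg.Agent.S4365

open scoped IsMulCommutative

/-- `(u g)^n = (∏_{i<n} g^i u g^{-i}) g^n`. -/
theorem mul_pow_eq {P : Type*} [Group P] (A : Subgroup P) [A.Normal] [IsMulCommutative A]
    (u : A) (g : P) (n : ℕ) :
    ((u : P) * g) ^ n =
      ((∏ i ∈ Finset.range n, (MulAut.conjNormal (H := A) (g ^ i)) u : A) : P) * g ^ n := by
  induction n with
  | zero => simp
  | succ n ih =>
    rw [pow_succ, ih, Finset.prod_range_succ, Subgroup.coe_mul, MulAut.conjNormal_apply, pow_succ]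
    group

/-- Reindexing the product over a cyclic group of order `p`. -/
theorem prod_reindex {A : Type*} [CommGroup A] (p : ℕ) [Fact p.Prime] (σ : MulAut A)
    (hσ : σ ^ p = 1) (u : A) (i : ℕ) (hi : i ≠ 0) (hip : i < p) :
    ∏ j ∈ Finset.range p, (σ ^ (i * j)) u = ∏ j ∈ Finset.range p, (σ ^ j) u := by
  have hp : p.Prime := Fact.out
  have : NeZero p := ⟨hp.ne_zero⟩
  have hmod : ∀ n : ℕ, σ ^ n = σ ^ (n % p) := fun n => by
    conv_lhs => rw [← Nat.mod_add_div n p, pow_add, pow_mul, hσ, one_pow, mul_one]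
  have hval : ∀ n : ℕ, (σ ^ ((n : ZMod p).val)) u = (σ ^ n) u := fun n => by
    rw [ZMod.val_natCast, ← hmod]
  have h1 : ∀ f : ℕ → A, ∏ j ∈ Finset.range p, f j = ∏ k : ZMod p, f k.val := by
    intro f
    refine Finset.prod_bij' (fun j _ => (j : ZMod p)) (fun k _ => k.val) ?_ ?_ ?_ ?_ ?_
    · intro _ _; exact Finset.mem_univ _
    · intro k _; exact Finset.mem_range.2 (ZMod.val_lt k)
    · intro j hj; exact ZMod.val_cast_of_lt (Finset.mem_range.1 hj)
    · intro k _; exact ZMod.natCast_zmod_val k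
    · intro j hj; rw [ZMod.val_cast_of_lt (Finset.mem_range.1 hj)]
  rw [h1, h1]
  have hi0 : (i : ZMod p) ≠ 0 := by
    intro h
    rw [ZMod.natCast_eq_zero_iff] at h
    exact absurd (Nat.le_of_dvd (Nat.pos_of_ne_zero hi) h) (by omega)
  rw [← Equiv.prod_comp (Equiv.mulLeft₀ (i : ZMod p) hi0) (fun k : ZMod p => (σ ^ k.val) u)]
  refine Finset.prod_congr rfl fun k _ => ?_
  rw [← hval (i * k.val)]
  have : (Equiv.mulLeft₀ (i : ZMod p) hi0) k = ((i * k.val : ℕ) : ZMod p) := by
    push_cast
    rw [ZMod.natCast_zmod_val]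
    rfl
  rw [this]

/-- Let P be a finite p-group whose conjugacy class sizes are exactly 1 and pᵃ for some a ≥ 1. Then every element of P has its p-th power in the center of P (P/Z(P) has exponent p). -/
theorem result {P : Type*} [Group P] [Finite P] (p : ℕ) [Fact p.Prime]
    (hP : IsPGroup p P) (a : ℕ) (ha : 1 ≤ a)
    (hcs : {k : ℕ | ∃ x : P, (Subgroup.centralizer ({x} : Set P)).index = k} = {1, p ^ a}) (x : P) :
    x ^ p ∈ Subgroup.center P := by
  have hp : p.Prime := Fact.out
  by_contra hxp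
  have hpa : p ^ a ≠ 1 := by
    intro h
    rcases (Nat.pow_eq_one.1 h) with h | h
    · exact hp.one_lt.ne' h
    · omega
  -- class sizes
  have hcen : ∀ y : P, y ∉ Subgroup.center P →
      (Subgroup.centralizer ({y} : Set P)).index = p ^ a := by
    intro y hy
    have : (Subgroup.centralizer ({y} : Set P)).index ∈ ({1, p ^ a} : Set ℕ) := by
      rw [← hcs]; exact ⟨y, rfl⟩
    rcases this with h | h
    · exfalso
      rw [Subgroup.index_eq_one] at h
      apply hy
      rw [Subgroup.mem_center_iff]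
      intro g
      have : g ∈ Subgroup.centralizer ({y} : Set P) := by rw [h]; trivial
      rw [Subgroup.mem_centralizer_singleton_iff] at this
      exact this
    · exact h
  have heq : ∀ y z : P, y ∉ Subgroup.center P → z ∉ Subgroup.center P →
      Subgroup.centralizer ({y} : Set P) ≤ Subgroup.centralizer ({z} : Set P) →
      Subgroup.centralizer ({y} : Set P) = Subgroup.centralizer ({z} : Set P) := by
    intro y z hy hz hle
    refine Subgroup.eq_of_le_of_card_ge hle ?_
    have h1 := (Subgroup.centralizer ({y} : Set P)).index_mul_card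
    have h2 := (Subgroup.centralizer ({z} : Set P)).index_mul_card
    rw [hcen y hy] at h1
    rw [hcen z hz, ← h1] at h2
    exact (Nat.eq_of_mul_eq_mul_left (pow_pos hp.pos a) h2).le
  have hpow : ∀ y : P, y ^ p ∉ Subgroup.center P →
      Subgroup.centralizer ({y} : Set P) = Subgroup.centralizer ({y ^ p} : Set P) := by
    intro y hy
    refine heq _ _ (fun h => hy (Subgroup.pow_mem _ h _)) hy ?_
    intro g hg
    rw [Subgroup.mem_centralizer_singleton_iff] at hg ⊢
    exact ((show Commute g y from hg).pow_right p)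
  -- the case `a = 1`
  have ha2 : 2 ≤ a := by
    by_contra hlt
    have ha1 : a = 1 := by omega
    apply hxp
    rw [Subgroup.mem_center_iff]
    intro y
    by_cases hy : y ∈ Subgroup.center P
    · exact (Subgroup.mem_center_iff.1 hy _).symm
    · have hi := hcen y hy
      rw [ha1, pow_one] at hi
      obtain ⟨n, hn⟩ := (IsPGroup.iff_card).1 hP
      have hn0 : n ≠ 0 := by
        rintro rfl
        rw [pow_zero] at hn
        have := (Subgroup.centralizer ({y} : Set P)).index_dvd_card
        rw [hi, hn] at this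
        exact hp.one_lt.ne' (Nat.dvd_one.1 this)
      have hnorm : (Subgroup.centralizer ({y} : Set P)).Normal := by
        apply Subgroup.normal_of_index_eq_minFac_card
        rw [hi, hn, hp.pow_minFac hn0]
      have := Subgroup.pow_index_mem (Subgroup.centralizer ({y} : Set P)) x
      rw [hi, Subgroup.mem_centralizer_singleton_iff] at this
      exact this.symm
  -- `y₀`
  have hx0 : x ∉ Subgroup.center P := fun h => hxp (Subgroup.pow_mem _ h _)
  have hQ : IsPGroup p (P ⧸ Subgroup.center P) := hP.to_quotient _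
  have hnt : Nontrivial (P ⧸ Subgroup.center P) := by
    refine ⟨⟨(x : P ⧸ Subgroup.center P), 1, ?_⟩⟩
    intro h
    exact hx0 ((QuotientGroup.eq_one_iff x).1 h)
  have := hQ.center_nontrivial
  have hQc : IsPGroup p (Subgroup.center (P ⧸ Subgroup.center P)) := hQ.to_subgroup _
  obtain ⟨k, hk⟩ := (IsPGroup.iff_card).1 hQc
  have hk0 : k ≠ 0 := by
    rintro rfl
    rw [pow_zero, Nat.card_eq_one_iff_unique] at hk
    exact not_subsingleton _ hk.1
  obtain ⟨⟨y', hy'c⟩, hy'o⟩ := exists_prime_orderOf_dvd_card' (G := Subgroup.center (P ⧸ Subgroup.center P)) p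
    (by rw [hk]; exact dvd_pow_self p hk0)
  obtain ⟨y₀, rfl⟩ := QuotientGroup.mk_surjective y'
  have hy0 : y₀ ∉ Subgroup.center P := by
    intro h
    have : (y₀ : P ⧸ Subgroup.center P) = 1 := (QuotientGroup.eq_one_iff y₀).2 h
    rw [← Subgroup.orderOf_coe] at hy'o
    simp only [this, orderOf_one] at hy'o
    exact hp.one_lt.ne hy'o
  have hy0p : y₀ ^ p ∈ Subgroup.center P := by
    rw [← QuotientGroup.eq_one_iff, QuotientGroup.mk_pow]
    rw [← Subgroup.orderOf_coe] at hy'o
    simp only at hy'o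
    rw [← hy'o]
    exact pow_orderOf_eq_one _
  have hcomm : ∀ g : P, y₀ * g * y₀⁻¹ * g⁻¹ ∈ Subgroup.center P := by
    intro g
    rw [← QuotientGroup.eq_one_iff]
    have := Subgroup.mem_center_iff.1 hy'c (g : P ⧸ Subgroup.center P)
    simp only [QuotientGroup.mk_mul, QuotientGroup.mk_inv]
    rw [← this]
    group
  -- the homomorphism `g ↦ [y₀, g]`
  let φ : P →* P :=
    { toFun := fun g => y₀ * g * y₀⁻¹ * g⁻¹
      map_one' := by group
      map_mul' := by
        intro g h
        have h2 := Subgroup.mem_center_iff.1 (hcomm h) g⁻¹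
        calc y₀ * (g * h) * y₀⁻¹ * (g * h)⁻¹
            = y₀ * g * y₀⁻¹ * ((y₀ * h * y₀⁻¹ * h⁻¹) * g⁻¹) := by group
          _ = y₀ * g * y₀⁻¹ * g⁻¹ * (y₀ * h * y₀⁻¹ * h⁻¹) := by rw [← h2]; group }
  have hφ : ∀ g, φ g = y₀ * g * y₀⁻¹ * g⁻¹ := fun g => rfl
  have hφ1 : ∀ g, φ g = 1 ↔ g ∈ Subgroup.centralizer ({y₀} : Set P) := by
    intro g
    rw [hφ, Subgroup.mem_centralizer_singleton_iff, mul_inv_eq_one, mul_inv_eq_iff_eq_mul]
    exact eq_comm
  set M := Subgroup.centralizer ({y₀} : Set P) with hM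
  have hMφ : M = φ.ker := by
    ext g
    rw [MonoidHom.mem_ker, hφ1]
  have hMn : M.Normal := by rw [hMφ]; infer_instance
  have hMidx : M.index = p ^ a := hcen y₀ hy0
  -- `g ^ p ∈ M`
  have hgp : ∀ g : P, g ^ p ∈ M := by
    intro g
    rw [← hφ1, map_pow]
    have key : ∀ n : ℕ, φ g ^ n = y₀ ^ n * g * (y₀ ^ n)⁻¹ * g⁻¹ := by
      intro n
      induction n with
      | zero => group
      | succ n ih =>
        rw [pow_succ', ih]
        have h2 := Subgroup.mem_center_iff.1 (hcomm g) (y₀ ^ n)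
        have h3 : (φ g) * y₀ ^ n = y₀ ^ n * (φ g) := h2.symm
        calc φ g * (y₀ ^ n * g * (y₀ ^ n)⁻¹ * g⁻¹)
            = (φ g * y₀ ^ n) * g * (y₀ ^ n)⁻¹ * g⁻¹ := by group
          _ = y₀ ^ n * (y₀ * g * y₀⁻¹ * g⁻¹) * g * (y₀ ^ n)⁻¹ * g⁻¹ := by rw [h3, hφ]
          _ = y₀ ^ (n + 1) * g * (y₀ ^ (n + 1))⁻¹ * g⁻¹ := by
              rw [pow_succ]; group
    rw [key, mul_inv_eq_one, mul_inv_eq_iff_eq_mul]
    exact (Subgroup.mem_center_iff.1 hy0p g).symm
  -- elements with noncentral `p`-th power lie in `M`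
  have hxM : ∀ z : P, z ^ p ∉ Subgroup.center P → z ∈ M := by
    intro z hz
    have h1 : y₀ ∈ Subgroup.centralizer ({z ^ p} : Set P) := by
      have := hgp z
      rw [hM, Subgroup.mem_centralizer_singleton_iff] at this
      rw [Subgroup.mem_centralizer_singleton_iff]
      exact this.symm
    rw [← hpow z hz, Subgroup.mem_centralizer_singleton_iff] at h1
    rw [hM, Subgroup.mem_centralizer_singleton_iff]
    exact h1.symm
  have hxMem := hxM x hxp
  -- `C(x) = M`
  have hCx : Subgroup.centralizer ({x} : Set P) ≤ M := by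
    intro c hc
    by_contra hcM
    rw [Subgroup.mem_centralizer_singleton_iff] at hc
    have h1 : c ^ p ∈ Subgroup.center P := by
      by_contra h; exact hcM (hxM c h)
    have h2 : (x * c) ^ p ∈ Subgroup.center P := by
      by_contra h
      exact hcM ((Subgroup.mul_mem_cancel_left M hxMem).1 (hxM _ h))
    rw [(show Commute x c from hc.symm).mul_pow] at h2
    exact hxp ((Subgroup.mul_mem_cancel_right _ h1).1 h2)
  have hCxM : Subgroup.centralizer ({x} : Set P) = M := heq x y₀ hx0 hy0 hCx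
  -- the abelian normal subgroup
  let A : Subgroup P := M ⊓ Subgroup.centralizer (M : Set P)
  have hAn : A.Normal := by
    have : (Subgroup.centralizer (M : Set P)).Normal := inferInstance
    infer_instance
  have hAc : IsMulCommutative A := by
    refine ⟨⟨fun u v => Subtype.ext ?_⟩⟩
    exact (Subgroup.mem_centralizer_iff.1 u.2.2 v v.2.1).symm
  have hxA : x ∈ A := by
    refine ⟨hxMem, Subgroup.mem_centralizer_iff.2 ?_⟩
    intro m hm
    have : m ∈ Subgroup.centralizer ({x} : Set P) := by rw [hCxM]; exact hm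
    rw [Subgroup.mem_centralizer_singleton_iff] at this
    exact this
  let u : A := ⟨x, hxA⟩
  let c : P →* MulAut A := MulAut.conjNormal (H := A)
  have hcM : ∀ m ∈ M, c m = 1 := by
    intro m hm
    ext v
    change m * (v : P) * m⁻¹ = v
    rw [Subgroup.mem_centralizer_iff.1 v.2.2 m hm, mul_inv_cancel_right]
  -- norms are central
  have hnorm : ∀ g : P, g ∉ M → ∀ v : A,
      ((∏ i ∈ Finset.range p, (c (g ^ i)) v : A) : P) ∈ Subgroup.center P := by
    intro g hg v
    have h1 : g ^ p ∈ Subgroup.center P := by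
      by_contra h; exact hg (hxM g h)
    have h2 : ((v : P) * g) ^ p ∈ Subgroup.center P := by
      by_contra h
      exact hg ((Subgroup.mul_mem_cancel_left M v.2.1).1 (hxM _ h))
    rw [mul_pow_eq A v g p] at h2
    exact (Subgroup.mul_mem_cancel_right _ h1).1 h2
  -- choose `h ∉ M`, `g ∉ ⟨h⟩ M`
  obtain ⟨h, hh⟩ : ∃ h, h ∉ M := by
    by_contra hcon
    push Not at hcon
    have : M = ⊤ := by ext z; exact ⟨fun _ => trivial, fun _ => hcon z⟩
    rw [this, Subgroup.index_top] at hMidx
    exact hpa hMidx.symm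
  obtain ⟨g, hg⟩ : ∃ g, ∀ j : ℕ, g * h ^ j ∉ M := by
    by_contra hcon
    push Not at hcon
    -- then `P / M = ⟨h⟩` has order at most `p`
    have hcard : Nat.card (P ⧸ M) ≤ p := by
      have hsurj : Function.Surjective (fun j : Fin p => ((h : P ⧸ M)⁻¹) ^ (j : ℕ)) := by
        intro q
        obtain ⟨z, rfl⟩ := QuotientGroup.mk_surjective q
        obtain ⟨j, hj⟩ := hcon z
        refine ⟨⟨j % p, Nat.mod_lt _ hp.pos⟩, ?_⟩
        have h1 : ((z * h ^ j : P) : P ⧸ M) = 1 := (QuotientGroup.eq_one_iff _).2 hj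
        rw [QuotientGroup.mk_mul, QuotientGroup.mk_pow, mul_eq_one_iff_eq_inv] at h1
        have h3 : ((h : P ⧸ M)⁻¹) ^ p = 1 := by
          rw [inv_pow, ← QuotientGroup.mk_pow, (QuotientGroup.eq_one_iff _).2 (hgp h), inv_one]
        simp only
        rw [h1, ← inv_pow]
        conv_rhs => rw [← Nat.mod_add_div j p, pow_add, pow_mul, h3, one_pow, mul_one]
      have := Nat.card_le_card_of_surjective _ hsurj
      rwa [Nat.card_fin] at this
    have h2 : M.index = Nat.card (P ⧸ M) := rfl
    rw [← h2, hMidx] at hcard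
    have : p ^ 2 ≤ p ^ a := Nat.pow_le_pow_right hp.pos ha2
    nlinarith [hp.one_lt]
  -- the double product
  have hch : (c h) ^ p = 1 := by rw [← map_pow]; exact hcM _ (hgp h)
  have hcomm2 : Commute (c g) (c h) := by
    have h1 : c (g * h * g⁻¹ * h⁻¹) = 1 := by
      apply hcM
      rw [← hφ1]
      simp only [map_mul, map_inv]
      have := Subgroup.mem_center_iff.1 (hcomm g) (φ h)
      change φ h * φ g = φ g * φ h at this
      rw [← this]
      group
    simp only [map_mul, map_inv] at h1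
    rw [mul_inv_eq_one, mul_inv_eq_iff_eq_mul] at h1
    exact h1
  have htot : ((∏ j ∈ Finset.range p, ∏ i ∈ Finset.range p, (c ((g * h ^ j) ^ i)) u : A) : P) ∈
      Subgroup.center P := by
    have : (∏ j ∈ Finset.range p, ∏ i ∈ Finset.range p, (c ((g * h ^ j) ^ i)) u : A) ∈
        (Subgroup.center P).subgroupOf A := by
      refine Subgroup.prod_mem _ fun j _ => ?_
      rw [Subgroup.mem_subgroupOf]
      exact hnorm _ (hg j) u
    rwa [Subgroup.mem_subgroupOf] at this
  rw [Finset.prod_comm] at htot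
  have hmem : ∀ i ∈ Finset.range p, i ≠ 0 →
      (∏ j ∈ Finset.range p, (c ((g * h ^ j) ^ i)) u : A) ∈ (Subgroup.center P).subgroupOf A := by
    intro i hi hi0
    have h1 : ∀ j, (c ((g * h ^ j) ^ i)) u = (c (g ^ i)) ((c h ^ (i * j)) u) := by
      intro j
      rw [map_pow, map_mul, map_pow, (hcomm2.pow_right j).mul_pow, ← pow_mul, mul_comm j i,
        MulAut.mul_apply, map_pow]
    simp_rw [h1]
    rw [← map_prod, prod_reindex p (c h) hch u i hi0 (Finset.mem_range.1 hi)]
    have h2 := hnorm h hh u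
    simp_rw [map_pow] at h2
    rw [Subgroup.mem_subgroupOf]
    have h3 : (((c (g ^ i)) (∏ j ∈ Finset.range p, (c h ^ j) u) : A) : P) =
        (∏ j ∈ Finset.range p, (c h ^ j) u : A) := by
      change g ^ i * ((∏ j ∈ Finset.range p, (c h ^ j) u : A) : P) * (g ^ i)⁻¹ = _
      rw [Subgroup.mem_center_iff.1 h2 (g ^ i), mul_inv_cancel_right]
    rw [h3]
    exact h2
  have hp0 : (0 : ℕ) ∈ Finset.range p := Finset.mem_range.2 hp.pos
  rw [← Finset.mul_prod_erase _ _ hp0] at htot
  have hrest : (∏ i ∈ (Finset.range p).erase 0, ∏ j ∈ Finset.range p, (c ((g * h ^ j) ^ i)) u : A) ∈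
      (Subgroup.center P).subgroupOf A :=
    Subgroup.prod_mem _ fun i hi => hmem i (Finset.mem_of_mem_erase hi) (Finset.ne_of_mem_erase hi)
  rw [Subgroup.coe_mul, Subgroup.mul_mem_cancel_right _ (Subgroup.mem_subgroupOf.1 hrest)] at htot
  simp only [pow_zero, map_one, MulAut.one_apply, Finset.prod_const, Finset.card_range] at htot
  exact hxp htot

end Cfsg.Agent.S4365
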