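import Cfsg.Statements.S4134
import Cfsg.Agent.H683.TwoSizeCase
import Cfsg.Agent.S4365

set_option autoImplicit false
open Cfsg

namespace Cfsg.Agent.S4134

open Subgroup Cfsg.Agent.H683.TwoSize

/-- All `p'`-elements are central for some prime `p`. -/
theorem exists_prime {G : Type*} [Group G] [Finite G] {n : ℕ}
    (h : TwoG (⊤ : Subgroup G) n) (hex : ∃ x : G, x ∉ center G) :
    ∃ p : ℕ, p.Prime ∧ ∀ w : G, (orderOf w).Coprime p → w ∈ center G := by
  by_cases hgood : ∃ (s t : ℕ) (x w : G), s.Prime ∧ t.Prime ∧ s < t ∧ (∃ k, orderOf x = s ^ k) ∧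
      (∃ k, orderOf w = t ^ k) ∧ x ∉ center G ∧ w ∉ center G ∧ Commute x w
  · exfalso
    obtain ⟨s, t, x, w, hs, ht, hst, hxs, hwt, hxZ, hwZ, hc⟩ := hgood
    have hcard : ∀ z : G, z ∉ center G →
        (center G).relIndex (cz z) = (center G).relIndex (cz x) := by
      intro z hz
      have h1 := h.card_eq (mem_top z) hz (mem_top x) hxZ
      have e1 := Subgroup.card_mul_index ((center G).subgroupOf (cz z))
      have e2 := Subgroup.card_mul_index ((center G).subgroupOf (cz x))
      have e3 : ∀ z : G, Nat.card ((center G).subgroupOf (cz z)) = Nat.card (center G) :=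
        fun z => Nat.card_congr (Subgroup.subgroupOfEquivOfLe (center_le_cz z)).toEquiv
      rw [e3] at e1 e2
      rw [h1, ← e2] at e1
      exact Nat.eq_of_mul_eq_mul_left Nat.card_pos e1
    have hsa : s ∣ (center G).relIndex (cz x) := by
      obtain ⟨k, hk⟩ := hxs
      exact dvd_relIndex_center hs (self_mem_cz x) hxZ hk
    have hta : t ∣ (center G).relIndex (cz x) := by
      obtain ⟨k, hk⟩ := hwt
      exact dvd_relIndex_center ht (mem_cz.2 hc.eq.symm) hwZ hk
    refine case_one h hex (p := s) (q := t) ?_ hcard hs ht hst hsa hta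
    intro z hzZ
    obtain ⟨q, y, hq, hyq, hyz, hyZ⟩ := exists_primary _ _ rfl hzZ
    have h1 : cz z = cz y := h.eq_of_le (mem_top _) hzZ (mem_top _) hyZ (cz_le_of_mem_zpowers hyz)
    obtain ⟨r, hr, hrq, hra⟩ : ∃ r : ℕ, r.Prime ∧ q ≠ r ∧ r ∣ (center G).relIndex (cz x) := by
      by_cases hqs : q = s
      · exact ⟨t, ht, by rw [hqs]; exact hst.ne, hta⟩
      · exact ⟨s, hs, hqs, hsa⟩
    rw [← hcard y hyZ] at hra
    obtain ⟨v, hvy, hvZ, -, hvr⟩ := exists_of_dvd_relIndex_center hr hra
    have h2 := (h.good_pair hq hr hrq (mem_top y) (mem_top v) hyq hvr hyZ hvZ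
      (mem_cz.1 hvy).symm).2
    intro u hu
    rw [h1] at hu ⊢
    exact h2 u (mem_top u) hu
  · obtain ⟨x0, hx0⟩ := hex
    obtain ⟨p, x, hp, ⟨k, hk⟩, -, hxZ⟩ := exists_primary _ _ rfl hx0
    refine ⟨p, hp, fun w hw => ?_⟩
    by_contra hwZ
    obtain ⟨q, y, hq, ⟨l, hl⟩, hyw, hyZ⟩ := exists_primary _ _ rfl hwZ
    have hqp : q ≠ p := by
      rintro rfl
      have h1 : orderOf y ∣ orderOf w := orderOf_dvd_of_mem_zpowers hyw
      have hl0 : l ≠ 0 := by
        rintro rfl
        rw [pow_zero, orderOf_eq_one_iff] at hl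
        exact hyZ (hl ▸ one_mem _)
      rw [hl] at h1
      exact (Nat.Prime.coprime_iff_not_dvd hq).1 hw.symm ((dvd_pow_self q hl0).trans h1)
    have hcard : (center G).relIndex (cz y) = (center G).relIndex (cz x) := by
      have h1 := h.card_eq (mem_top y) hyZ (mem_top x) hxZ
      have e1 := Subgroup.card_mul_index ((center G).subgroupOf (cz y))
      have e2 := Subgroup.card_mul_index ((center G).subgroupOf (cz x))
      have e3 : ∀ z : G, Nat.card ((center G).subgroupOf (cz z)) = Nat.card (center G) :=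
        fun z => Nat.card_congr (Subgroup.subgroupOfEquivOfLe (center_le_cz z)).toEquiv
      rw [e3] at e1 e2
      rw [h1, ← e2] at e1
      exact Nat.eq_of_mul_eq_mul_left Nat.card_pos e1
    have hpa : p ∣ (center G).relIndex (cz y) := by
      rw [hcard]
      exact dvd_relIndex_center hp (self_mem_cz x) hxZ hk
    obtain ⟨v, hvy, hvZ, -, hvp⟩ := exists_of_dvd_relIndex_center hp hpa
    have hc : Commute y v := (mem_cz.1 hvy).symm
    rcases lt_or_gt_of_ne hqp with h1 | h1
    · exact hgood ⟨q, p, y, v, hq, hp, h1, ⟨l, hl⟩, hvp, hyZ, hvZ, hc⟩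
    · exact hgood ⟨p, q, v, y, hp, hq, h1, hvp, ⟨l, hl⟩, hvZ, hyZ, hc.symm⟩

/-- Let G be a finite group whose conjugacy classes have exactly two sizes, 1 and n > 1. Then n is a power of a prime p and G is the direct product of a p-group and an abelian group of order prime to p: its Sylow p-subgroup P is normal with an abelian normal complement centralizing it; moreover P has an abelian normal subgroup A with P/A of exponent dividing p. -/
theorem result {G : Type*} [Group G] [Finite G] (n : ℕ) (hn : 1 < n)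
    (h : ∀ x : G, (Subgroup.centralizer ({x} : Set G)).index = 1 ∨ (Subgroup.centralizer ({x} : Set G)).index = n) (hex : ∃ x : G, (Subgroup.centralizer ({x} : Set G)).index = n) :
    ∃ (p : ℕ) (_ : Fact p.Prime) (a : ℕ), n = p ^ a ∧ ∀ P : Sylow p G, (P : Subgroup G).Normal ∧
      (∃ N : Subgroup G, N.Normal ∧ N.IsComplement' (P : Subgroup G) ∧ IsMulCommutative N ∧
        ∀ x ∈ N, ∀ y ∈ (P : Subgroup G), x * y = y * x) ∧
      ∃ A : Subgroup (P : Subgroup G), A.Normal ∧ IsMulCommutative A ∧ ∀ y : (P : Subgroup G), y ^ p ∈ A := by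
  have h2 : TwoG (⊤ : Subgroup G) n := fun x _ => h x
  obtain ⟨x, hx⟩ := hex
  have hxZ : x ∉ center G := fun h1 => by
    have := cz_index_eq_one.2 h1
    rw [hx] at this
    exact hn.ne' this
  obtain ⟨p, hp, hcen⟩ := exists_prime h2 ⟨x, hxZ⟩
  have hpf : Fact p.Prime := ⟨hp⟩
  have hstr : ∀ P : Sylow p G, (P : Subgroup G).Normal ∧
      (∃ N : Subgroup G, N.Normal ∧ N.IsComplement' (P : Subgroup G) ∧ N ≤ center G) := by
    intro P
    obtain ⟨h3, N, hN1, hN2, hN3⟩ := Cfsg.Agent.H524.ClassSize.normal_and_complement P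
      (Cfsg.Agent.H524.ClassSize.sylow_sup_centralizer (p := p) (fun y hy => by
        have h4 := cz_index_eq_one.2 (hcen y hy)
        rw [h4]
        exact hp.one_lt.ne' ∘ Nat.dvd_one.1) P)
    refine ⟨h3, N, hN1, hN2, fun v hv => hcen v ?_⟩
    have h4 : (P : Subgroup G).index = Nat.card N := hN2.symm.symm.index_eq_card
    have h5 : orderOf v ∣ Nat.card N := by
      rw [← Subgroup.orderOf_mk v hv]
      exact orderOf_dvd_natCard _
    rw [← h4] at h5
    exact Nat.Coprime.coprime_dvd_left h5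
      ((Nat.Prime.coprime_iff_not_dvd hp).2 P.not_dvd_index).symm
  have hpow : ∃ a : ℕ, n = p ^ a := by
    obtain ⟨P⟩ : Nonempty (Sylow p G) := inferInstance
    obtain ⟨-, N, hN1, hN2, hN3⟩ := hstr P
    have h4 : N.index = Nat.card (P : Subgroup G) := hN2.symm.index_eq_card
    have h5 : n ∣ N.index := by
      rw [← hx]
      exact Subgroup.index_dvd_of_le (hN3.trans (center_le_cz x))
    obtain ⟨k, hk⟩ := IsPGroup.iff_card.1 P.isPGroup'
    rw [h4, hk] at h5
    obtain ⟨a, -, ha⟩ := (Nat.dvd_prime_pow hp).1 h5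
    exact ⟨a, ha⟩
  obtain ⟨a, ha⟩ := hpow
  refine ⟨p, hpf, a, ha, fun P => ?_⟩
  obtain ⟨hPn, N, hN1, hN2, hN3⟩ := hstr P
  refine ⟨hPn, ⟨N, hN1, hN2, ⟨⟨fun u v => Subtype.ext ?_⟩⟩, fun u hu v hv => ?_⟩, ?_⟩
  · exact (mem_center_iff.1 (hN3 v.2) u)
  · exact (mem_center_iff.1 (hN3 hu) v).symm
  -- the class sizes in `P`
  have hidx : ∀ y : (P : Subgroup G),
      (Subgroup.centralizer ({y} : Set (P : Subgroup G))).index = (cz (y : G)).index := by
    intro y
    have e1 : Subgroup.centralizer ({y} : Set (P : Subgroup G)) =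
        (cz (y : G)).subgroupOf (P : Subgroup G) := by
      ext u
      rw [mem_centralizer_singleton_iff, mem_subgroupOf, mem_cz]
      exact Subtype.ext_iff
    rw [e1]
    change (cz (y : G)).relIndex (P : Subgroup G) = _
    have e2 : (P : Subgroup G) ⊔ cz (y : G) = ⊤ := by
      rw [eq_top_iff, ← hN2.symm.sup_eq_top]
      exact sup_le_sup_left (hN3.trans (center_le_cz _)) _
    have e3 : ((cz (y : G)) ⊓ (P : Subgroup G)).relIndex (P : Subgroup G) =
        (cz (y : G)).index := by
      have f1 := Subgroup.card_mul_index ((cz (y : G)) ⊓ (P : Subgroup G))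
      have f2 : ((cz (y : G)) ⊓ (P : Subgroup G)).relIndex (P : Subgroup G) *
          (P : Subgroup G).index = ((cz (y : G)) ⊓ (P : Subgroup G)).index :=
        Subgroup.relIndex_mul_index inf_le_right
      have f3 : ((cz (y : G)) ⊓ (P : Subgroup G)).relIndex (cz (y : G)) *
          (cz (y : G)).index = ((cz (y : G)) ⊓ (P : Subgroup G)).index :=
        Subgroup.relIndex_mul_index inf_le_left
      have f4 : ((cz (y : G)) ⊓ (P : Subgroup G)).relIndex (cz (y : G)) =
          (P : Subgroup G).index := by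
        rw [inf_comm, Subgroup.inf_relIndex_right, ← Subgroup.relIndex_sup_right, sup_comm, e2,
          Subgroup.relIndex_top_right]
      rw [f4, ← f2, mul_comm] at f3
      exact (Nat.eq_of_mul_eq_mul_right (Nat.pos_of_ne_zero Subgroup.index_ne_zero_of_finite) f3).symm
    rw [← Subgroup.inf_relIndex_right]
    exact e3
  refine ⟨center (P : Subgroup G), inferInstance, inferInstance, fun y => ?_⟩
  have ha1 : 1 ≤ a := by
    by_contra hcon
    have : a = 0 := by omega
    rw [this, pow_zero] at ha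
    exact hn.ne' ha
  have hexP : ∃ y : (P : Subgroup G), (y : G) ∉ center G := by
    by_contra hcon
    push Not at hcon
    apply hxZ
    have h6 : x ∈ (P : Subgroup G) ⊔ N := by rw [hN2.symm.sup_eq_top]; exact mem_top x
    have h7 : (P : Subgroup G) ⊔ N ≤ center G := sup_le (fun u hu => hcon ⟨u, hu⟩) hN3
    exact h7 h6
  refine Cfsg.Agent.S4365.result p P.isPGroup' a ha1 ?_ y
  ext k
  constructor
  · rintro ⟨u, rfl⟩
    rw [hidx u]
    rcases h u with h8 | h8
    · exact Or.inl h8
    · right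
      rw [Set.mem_singleton_iff, ← ha]
      exact h8
  · rintro (rfl | hk)
    · refine ⟨1, ?_⟩
      rw [hidx, cz_index_eq_one]
      exact one_mem _
    · obtain ⟨y0, hy0⟩ := hexP
      refine ⟨y0, ?_⟩
      rw [Set.mem_singleton_iff] at hk
      rw [hidx, hk, ← ha]
      exact h2.index_eq (mem_top _) hy0

end Cfsg.Agent.S4134
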