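import Cfsg.Statements.S4588
import Cfsg.Agent.H627.PrincipalCount

set_option autoImplicit false
open Cfsg

namespace Cfsg.Agent.S4588

/-- Let G be a finite group, p a prime and M a maximal ideal of the algebraic integers containing p. If some p-element x of G (possibly x = 1) has centralizer whose order has p-part at most p², then the principal p-block of G contains at most p² irreducible characters of degree prime to p. -/
theorem result {G : Type*} [Group G] [Finite G] (p : ℕ) [Fact p.Prime] (M : Ideal Cfsg.AlgInt) (hM : Cfsg.IsPModular p M)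
    (hx : ∃ x : G, (∃ k : ℕ, orderOf x = p ^ k) ∧ (Nat.card (Subgroup.centralizer ({x} : Set G))).factorization p ≤ 2) :
    Nat.card {χ : Cfsg.IrrCharacter G // χ ∈ Cfsg.principalBlock M G ∧ ¬ p ∣ Cfsg.charDegree (χ : G → ℂ)} ≤ p ^ 2 := by
  classical
  have hp : p.Prime := Fact.out
  -- the case of a nontrivial element
  have main : ∀ x : G, (∃ k : ℕ, orderOf x = p ^ k) → x ≠ 1 →
      (Nat.card (Subgroup.centralizer ({x} : Set G))).factorization p ≤ 2 →
      Nat.card {χ : Cfsg.IrrCharacter G // χ ∈ Cfsg.principalBlock M G ∧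
        ¬ p ∣ Cfsg.charDegree (χ : G → ℂ)} ≤ p ^ 2 := by
    intro x hx hx1 hc
    obtain ⟨x', hx', h | ⟨hp2, hxo, K, hK, hreg, hxK, hcard, hfac⟩⟩ :=
      Cfsg.Agent.H627.LocalStructure.exists_local x hx hx1 hc
    · obtain ⟨L, hL, hcard⟩ := h
      exact Cfsg.Agent.H627.PrincipalCount.case_one p M hM x' hx' L hL hcard
    · exact Cfsg.Agent.H627.PrincipalCount.case_two p M hM hp2 x' hxo K hK hreg hxK hcard hfac
  obtain ⟨x, hx, hc⟩ := hx
  by_cases hx1 : x = 1
  · subst hx1
    have htop : Subgroup.centralizer ({(1 : G)} : Set G) = ⊤ := by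
      rw [eq_top_iff]
      intro g _
      rw [Subgroup.mem_centralizer_singleton_iff, one_mul, mul_one]
    have hcard : Nat.card (Subgroup.centralizer ({(1 : G)} : Set G)) = Nat.card G := by
      rw [htop]; exact Subgroup.card_top
    rw [hcard] at hc
    by_cases hpG : p ∣ Nat.card G
    · obtain ⟨y, hy⟩ := exists_prime_orderOf_dvd_card' p hpG
      refine main y ⟨1, by rw [hy, pow_one]⟩ ?_ ?_
      · rintro rfl
        rw [orderOf_one] at hy
        exact hp.one_lt.ne hy
      · have h1 : Nat.card (Subgroup.centralizer ({y} : Set G)) ∣ Nat.card G :=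
          Subgroup.card_subgroup_dvd_card _
        exact ((Nat.factorization_le_iff_dvd Nat.card_pos.ne' Nat.card_pos.ne').2 h1 p).trans hc
    · refine Cfsg.Agent.H627.PrincipalCount.case_one p M hM 1 hx ⊤ ?_ ?_
      · intro y
        rw [htop]
        refine ⟨fun h => ⟨h, fun h1 => hpG (h1.trans (orderOf_dvd_natCard y))⟩, fun h => h.1⟩
      · rw [hcard, Subgroup.card_top]
        exact Nat.le_mul_of_pos_left _ (pow_pos hp.pos 2)
  · exact main x hx hx1 hc

end Cfsg.Agent.S4588
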