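import Cfsg.Statements.S4825
-- import your own Cfsg.Agent.* helpers here
import Cfsg.Agent.S0925
import Cfsg.Agent.CharactersDeep.ModCongr
import Cfsg.Agent.Blocks.CliffordCentral
import Cfsg.Agent.Blocks.PPart
import Cfsg.Agent.Characters.Core

set_option autoImplicit false
open Cfsg

namespace Cfsg.Agent.S4825

open scoped ComplexConjugate

/-- The multiplicities of `θ` in the restrictions of the characters over `θ` are proportional to
the degrees. -/
theorem exists_const {G : Type*} [Group G] [Fintype G] (N : Subgroup G) [hN : N.Normal]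
    [Fintype N] (θ : IrrCharacter N) : ∃ k : ℂ, ∀ χ : IrrCharacter G,
      classInner (fun n : N => (χ : G → ℂ) n) (θ : N → ℂ) ≠ 0 →
      classInner (fun n : N => (χ : G → ℂ) n) (θ : N → ℂ) = (χ : G → ℂ) 1 * k := by
  classical
  let F : N → ℂ := fun n => ∑ g : G, conj ((θ : N → ℂ) ⟨g * n * g⁻¹, hN.conj_mem n n.2 g⟩)
  have hF : ∀ (g : G) (n : N), F ⟨g * n * g⁻¹, hN.conj_mem n n.2 g⟩ = F n := by
    intro g n
    refine Fintype.sum_equiv (Equiv.mulRight g) _ _ fun a => ?_
    congr 3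
    simp [mul_assoc]
  refine ⟨(∑ n : N, F n * (θ : N → ℂ) n) / (θ : N → ℂ) 1 / ((Nat.card G : ℂ) * (Nat.card N : ℂ)),
    fun χ hχ => ?_⟩
  have hG : (Nat.card G : ℂ) ≠ 0 := Characters.Core.card_ne_zero_complex
  have hN0 : (Nat.card N : ℂ) ≠ 0 := Characters.Core.card_ne_zero_complex
  have h1 : (χ : G → ℂ) 1 ≠ 0 := Blocks.Basic.irr_one_ne_zero χ.2
  rw [← Blocks.CliffordCentral.sum_div_eq_of_constituent N χ θ hχ F hF]
  have h2 : ∑ n : N, F n * (χ : G → ℂ) n =
      (Nat.card G : ℂ) * ∑ n : N, conj ((θ : N → ℂ) n) * (χ : G → ℂ) n := by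
    simp only [F, Finset.sum_mul]
    rw [Finset.sum_comm]
    have h3 : ∀ g : G, ∑ n : N, conj ((θ : N → ℂ) ⟨g * n * g⁻¹, hN.conj_mem n n.2 g⟩) *
        (χ : G → ℂ) n = ∑ n : N, conj ((θ : N → ℂ) n) * (χ : G → ℂ) n := by
      intro g
      refine Fintype.sum_equiv (MulAut.conjNormal g : MulAut N).toEquiv _ _ fun n => ?_
      have h4 : (MulAut.conjNormal g : MulAut N).toEquiv n =
          ⟨g * n * g⁻¹, hN.conj_mem n n.2 g⟩ := by
        apply Subtype.ext
        simp
      rw [h4]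
      congr 1
      exact (Blocks.Basic.irr_conj χ.2 _ _).symm
    rw [Finset.sum_congr rfl fun g _ => h3 g, Finset.sum_const, Finset.card_univ,
      nsmul_eq_mul, Nat.card_eq_fintype_card]
  rw [h2, Blocks.Basic.classInner_def]
  have h5 : ∑ n : N, (χ : G → ℂ) n * conj ((θ : N → ℂ) n) =
      ∑ n : N, conj ((θ : N → ℂ) n) * (χ : G → ℂ) n :=
    Finset.sum_congr rfl fun n _ => mul_comm _ _
  rw [h5]
  field_simp

/-- The sum of the squares of the degrees of the characters of `B` over `θ` is divisible by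
`p`. -/
theorem dvd_sum {G : Type*} [Group G] [Fintype G] (p : ℕ) [hp : Fact p.Prime] (P : Sylow p G)
    (M : Ideal Cfsg.AlgInt) (hM : Cfsg.IsPModular p M) (B : Set (Cfsg.IrrCharacter G))
    (hB : Cfsg.IsPBlock M B) (N : Subgroup G) [hN : N.Normal] [Fintype N]
    (hPN : ¬ (P : Subgroup G) ≤ N) (θ : Cfsg.IrrCharacter N) (Y : Finset (IrrCharacter G))
    (hY : ∀ χ : IrrCharacter G, χ ∈ Y ↔ χ ∈ B ∧
      Cfsg.classInner (fun n : N => (χ : G → ℂ) n) (θ : N → ℂ) ≠ 0) :
    p ∣ ∑ χ ∈ Y, charDegree (χ : G → ℂ) ^ 2 := by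
  classical
  have hfin : Finite (IrrCharacter G) := Characters.Core.finite_irr
  have := Fintype.ofFinite (IrrCharacter G)
  have hMp : M.IsPrime := Blocks.Local.isPrime_of_isPModular hM
  obtain ⟨x, hxP, hxN⟩ := SetLike.not_le_iff_exists.1 hPN
  have hxo : ∃ k : ℕ, orderOf x = p ^ k := by
    obtain ⟨k, hk⟩ := (IsPGroup.iff_orderOf.1 P.isPGroup') ⟨x, hxP⟩
    exact ⟨k, by rw [← hk, ← Subgroup.orderOf_coe]⟩
  have hxx : IsPPart p x x := Blocks.PPart.isPPart_of_isPGroup hxo
  have horth : ∀ n : N, ∑ χ : IrrCharacter G with χ ∈ B,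
      (χ : G → ℂ) x * conj ((χ : G → ℂ) (n : G)) = 0 := by
    intro n
    obtain ⟨z, hz⟩ := Blocks.PPart.exists_isPPart p (n : G)
    obtain ⟨m, hm⟩ := Blocks.PPart.exists_pow_eq (G := G) p
    have hzN : z ∈ N := by
      rw [← hm _ _ hz]; exact N.pow_mem n.2 m
    have hxz : ¬ IsConj x z := by
      intro hc
      obtain ⟨c, hc⟩ := isConj_iff.1 hc.symm
      apply hxN
      rw [← hc]
      exact hN.conj_mem z hzN c
    have key := (S0925.result p M hM).2 x n x z hxx hz hxz B hB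
    rw [Blocks.Orthogonality.finsum_mem_eq_sum_filter] at key
    rw [← key]
    refine Finset.sum_congr rfl fun χ _ => ?_
    rw [Blocks.Orthogonality.irr_apply_inv χ.2]
  obtain ⟨k, hk⟩ := exists_const N θ
  -- the sum of `χ x * conj [χ_N, θ]` vanishes
  have hsum : ∑ χ : IrrCharacter G with χ ∈ B,
      (χ : G → ℂ) x * conj (classInner (fun n : N => (χ : G → ℂ) n) (θ : N → ℂ)) = 0 := by
    have h1 : ∀ χ : IrrCharacter G,
        (χ : G → ℂ) x * conj (classInner (fun n : N => (χ : G → ℂ) n) (θ : N → ℂ)) =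
        ∑ n : N, (Nat.card N : ℂ)⁻¹ * (θ : N → ℂ) n *
          ((χ : G → ℂ) x * conj ((χ : G → ℂ) (n : G))) := by
      intro χ
      rw [Blocks.Basic.classInner_def, map_mul, map_sum, map_inv₀, Complex.conj_natCast,
        Finset.mul_sum, Finset.mul_sum]
      refine Finset.sum_congr rfl fun n _ => ?_
      rw [map_mul, Complex.conj_conj]
      ring
    rw [Finset.sum_congr rfl fun χ _ => h1 χ, Finset.sum_comm]
    refine Finset.sum_eq_zero fun n _ => ?_
    rw [← Finset.mul_sum, horth n, mul_zero]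
  have hsumY : ∑ χ ∈ Y, (χ : G → ℂ) x * (χ : G → ℂ) 1 = 0 := by
    rcases Y.eq_empty_or_nonempty with he | ⟨χ₀, hχ₀⟩
    · rw [he, Finset.sum_empty]
    · have h0 := (hY χ₀).1 hχ₀
      have hk0 : k ≠ 0 := by
        rintro rfl
        apply h0.2
        rw [hk χ₀ h0.2, mul_zero]
      have h1 : ∑ χ : IrrCharacter G with χ ∈ B,
          (χ : G → ℂ) x * conj (classInner (fun n : N => (χ : G → ℂ) n) (θ : N → ℂ)) =
          ∑ χ ∈ Y, ((χ : G → ℂ) x * (χ : G → ℂ) 1) * conj k := by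
        symm
        have hYf : Y = (Finset.univ.filter fun χ : IrrCharacter G => χ ∈ B).filter
            fun χ : IrrCharacter G => Cfsg.classInner (fun n : N => (χ : G → ℂ) n) (θ : N → ℂ) ≠ 0 := by
          ext χ
          rw [hY, Finset.mem_filter, Finset.mem_filter]
          simp only [Finset.mem_univ, true_and]
        rw [hYf, Finset.sum_filter]
        refine Finset.sum_congr rfl fun χ _ => ?_
        split_ifs with hc
        · rw [hk χ hc, map_mul, Blocks.Basic.irr_one_eq_charDegree χ.2, Complex.conj_natCast]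
          ring
        · rw [not_not] at hc
          rw [hc, map_zero, mul_zero]
      rw [h1, ← Finset.sum_mul] at hsum
      rcases mul_eq_zero.1 hsum with h | h
      · exact h
      · exact absurd ((map_eq_zero _).1 h) hk0
  have hmem : MemLocalIdeal M (((∑ χ ∈ Y, charDegree (χ : G → ℂ) ^ 2 : ℕ) : ℂ)) := by
    have h2 : ((∑ χ ∈ Y, charDegree (χ : G → ℂ) ^ 2 : ℕ) : ℂ) =
        - ∑ χ ∈ Y, ((χ : G → ℂ) x - (χ : G → ℂ) (x⁻¹ * x)) * (χ : G → ℂ) 1 := by
      rw [← neg_eq_iff_eq_neg, ← sub_eq_zero, sub_eq_add_neg, ← neg_add, neg_eq_zero, ← hsumY]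
      push_cast
      rw [← Finset.sum_add_distrib]
      refine Finset.sum_congr rfl fun χ _ => ?_
      rw [← Blocks.Basic.irr_one_eq_charDegree χ.2, inv_mul_cancel]
      ring
    rw [h2]
    refine Blocks.Local.memLocalIdeal_neg ?_
    refine Blocks.Local.memLocalIdeal_sum fun χ _ => ?_
    refine Blocks.Local.memLocalIdeal_mul_right
      (CharactersDeep.ModCongr.memLocalIdeal_character_sub hM χ.2 x x hxx) ?_
    rw [Blocks.Basic.irr_one_eq_charDegree χ.2]
    exact Blocks.Local.memLocalRing_natCast _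
  exact (Blocks.Local.memLocalIdeal_natCast_iff hM _).1 hmem

/-- Let p be a prime, G a finite group with Sylow p-subgroup P, M a maximal ideal of the algebraic integers containing p, and B a p-block of G with defect group P. Let N be a normal subgroup of G not containing P and θ an irreducible character of N. Then the number of irreducible characters in B of degree prime to p lying over θ (having θ as a constituent on restriction to N) is either 0 or at least 2, and when p ≤ 3 it is divisible by p. -/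
theorem result {G : Type*} [Group G] [Fintype G] (p : ℕ) [Fact p.Prime] (P : Sylow p G) (M : Ideal Cfsg.AlgInt) (hM : Cfsg.IsPModular p M) (B : Set (Cfsg.IrrCharacter G)) (hB : Cfsg.IsPBlock M B) (hBP : Cfsg.IsDefectGroup p M B P) (N : Subgroup G) [N.Normal] [Fintype N] (hPN : ¬ (P : Subgroup G) ≤ N) (θ : Cfsg.IrrCharacter N) :
    (Nat.card {χ : Cfsg.IrrCharacter G // χ ∈ B ∧ ¬ p ∣ Cfsg.charDegree (χ : G → ℂ) ∧ Cfsg.classInner (fun n : N => (χ : G → ℂ) n) (θ : N → ℂ) ≠ 0} = 0 ∨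
      2 ≤ Nat.card {χ : Cfsg.IrrCharacter G // χ ∈ B ∧ ¬ p ∣ Cfsg.charDegree (χ : G → ℂ) ∧ Cfsg.classInner (fun n : N => (χ : G → ℂ) n) (θ : N → ℂ) ≠ 0}) ∧
    (p ≤ 3 → p ∣ Nat.card {χ : Cfsg.IrrCharacter G // χ ∈ B ∧ ¬ p ∣ Cfsg.charDegree (χ : G → ℂ) ∧ Cfsg.classInner (fun n : N => (χ : G → ℂ) n) (θ : N → ℂ) ≠ 0}) := by
  classical
  have hp : p.Prime := Fact.out
  have hfin : Finite (IrrCharacter G) := Characters.Core.finite_irr
  have := Fintype.ofFinite (IrrCharacter G)
  set Y : Finset (IrrCharacter G) := Finset.univ.filter fun χ : IrrCharacter G => χ ∈ B ∧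
      Cfsg.classInner (fun n : N => (χ : G → ℂ) n) (θ : N → ℂ) ≠ 0 with hY
  have hdvd := dvd_sum p P M hM B hB N hPN θ Y
    (fun χ => by rw [hY, Finset.mem_filter]; simp only [Finset.mem_univ, true_and])
  set X : Finset (IrrCharacter G) := Finset.univ.filter fun χ : IrrCharacter G => χ ∈ B ∧
    ¬ p ∣ Cfsg.charDegree (χ : G → ℂ) ∧
      Cfsg.classInner (fun n : N => (χ : G → ℂ) n) (θ : N → ℂ) ≠ 0 with hX
  have hcard : Nat.card {χ : Cfsg.IrrCharacter G // χ ∈ B ∧ ¬ p ∣ Cfsg.charDegree (χ : G → ℂ) ∧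
      Cfsg.classInner (fun n : N => (χ : G → ℂ) n) (θ : N → ℂ) ≠ 0} = X.card := by
    rw [Nat.card_eq_fintype_card, Fintype.card_subtype]
  rw [hcard]
  have hXdvd : p ∣ ∑ χ ∈ X, charDegree (χ : G → ℂ) ^ 2 := by
    have h1 := Finset.sum_filter_add_sum_filter_not Y
      (fun χ : IrrCharacter G => p ∣ charDegree (χ : G → ℂ))
      (fun χ : IrrCharacter G => charDegree (χ : G → ℂ) ^ 2)
    rw [← h1] at hdvd
    have h2 : p ∣ ∑ χ ∈ Y.filter (fun χ : IrrCharacter G => p ∣ charDegree (χ : G → ℂ)),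
        charDegree (χ : G → ℂ) ^ 2 :=
      Finset.dvd_sum fun χ hχ => dvd_pow (Finset.mem_filter.1 hχ).2 two_ne_zero
    have h3 := (Nat.dvd_add_right h2).1 hdvd
    have h4 : Y.filter (fun χ : IrrCharacter G => ¬ p ∣ charDegree (χ : G → ℂ)) = X := by
      ext χ
      simp only [hX, hY, Finset.mem_filter, Finset.mem_univ, true_and]
      tauto
    rwa [h4] at h3
  have hXp : ∀ χ ∈ X, ¬ p ∣ charDegree (χ : G → ℂ) := fun χ hχ => (Finset.mem_filter.1 hχ).2.2.1
  refine ⟨?_, fun hp3 => ?_⟩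
  · by_contra hcon
    rw [not_or, not_le] at hcon
    have h1 : X.card = 1 := by omega
    obtain ⟨χ, hχ⟩ := Finset.card_eq_one.1 h1
    rw [hχ, Finset.sum_singleton] at hXdvd
    exact hXp χ (by rw [hχ]; exact Finset.mem_singleton_self χ) (hp.dvd_of_dvd_pow hXdvd)
  · have h1 : ∀ χ ∈ X, charDegree (χ : G → ℂ) ^ 2 ≡ 1 [MOD p] := by
      intro χ hχ
      have h2 := hXp χ hχ
      have h3 : p = 2 ∨ p = 3 := by
        have := hp.two_le
        omega
      rcases h3 with rfl | rfl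
      · have h4 : charDegree (χ : G → ℂ) % 2 = 1 := by omega
        have h5 : charDegree (χ : G → ℂ) ≡ 1 [MOD 2] := h4
        simpa using h5.pow 2
      · have h4 : charDegree (χ : G → ℂ) % 3 = 1 ∨ charDegree (χ : G → ℂ) % 3 = 2 := by omega
        rcases h4 with h4 | h4
        · have h5 : charDegree (χ : G → ℂ) ≡ 1 [MOD 3] := h4
          simpa using h5.pow 2
        · have h5 : charDegree (χ : G → ℂ) ≡ 2 [MOD 3] := h4
          exact (h5.pow 2).trans (by decide)
    have h2 : ∑ χ ∈ X, charDegree (χ : G → ℂ) ^ 2 ≡ ∑ χ ∈ X, 1 [MOD p] := by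
      exact Nat.ModEq.sum h1
    rw [Finset.sum_const, smul_eq_mul, mul_one] at h2
    exact (Nat.modEq_zero_iff_dvd).1 (h2.symm.trans ((Nat.modEq_zero_iff_dvd).2 hXdvd))

end Cfsg.Agent.S4825
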