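import Cfsg.Statements.S4924
import Cfsg.Agent.H703.Lat.Small
import Cfsg.Agent.H382.TwoChars
import Cfsg.Agent.S0908
import Cfsg.Agent.S0914
import Cfsg.Agent.S0931
import Cfsg.Agent.S0960
import Cfsg.Agent.SmallSimple.SylowPrimeCount

set_option autoImplicit false
open Cfsg

namespace Cfsg.Agent.S4924

open Cfsg.Agent.Characters.Core Cfsg.Agent.Blocks Cfsg.Agent.Blocks.Basic Cfsg.Agent.Blocks.LocalRing
open Cfsg.Agent.H703.Lat

universe u

section

variable {G : Type u} [Group G] [Finite G] {p : ℕ} [hp : Fact p.Prime] {M : Ideal AlgInt}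

theorem card_eq_S : Nat.card {χ : IrrCharacter G // χ ∈ principalBlock M G ∧ ¬ p ∣ charDegree (χ : G → ℂ)} =
    (S p (B0 M G)).card := by
  classical
  have := finite_irr (G := G)
  have := Fintype.ofFinite (IrrCharacter G)
  rw [Nat.card_eq_fintype_card, Fintype.card_subtype]
  congr 1
  ext χ
  rw [mem_S, mem_B0, Finset.mem_filter]
  exact ⟨fun h => h.2, fun h => ⟨Finset.mem_univ _, h⟩⟩

theorem block_of_one {χ : IrrCharacter G} (hM : IsPModular p M) (hχ : χ ∈ principalBlock M G)
    (h : ¬ p ∣ Nat.card G / charDegree (χ : G → ℂ)) : χ = one G := by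
  have := isPrime hM
  have h1 := (Cfsg.Agent.S0914.result p M hM χ).1 h
  have h2 : one G ∈ blockOf M (χ : G → ℂ) := sameBlock_symm hχ
  rw [h1] at h2
  exact (Set.mem_singleton_iff.1 h2).symm

/-- `p ∤ |G|` -/
theorem card_of_not_dvd (hM : IsPModular p M) (h : ¬ p ∣ Nat.card G) : (S p (B0 M G)).card = 1 := by
  rw [Finset.card_eq_one]
  refine ⟨one G, ?_⟩
  ext χ
  rw [mem_S, mem_B0, Finset.mem_singleton]
  constructor
  · rintro ⟨h1, h2⟩
    exact block_of_one hM h1 fun h3 => h (h3.trans (Nat.div_dvd_of_dvd (H382.TwoChars.charDegree_dvd χ)))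
  · rintro rfl
    refine ⟨?_, (mem_S.1 (one_mem_S (p := p) (one_mem_B0 hM))).2⟩
    exact mem_B0.1 (one_mem_B0 hM)

/-- `|G|_p = p` -/
theorem card_of_prime (hM : IsPModular p M) (h2 : ¬ p ^ 2 ∣ Nat.card G) :
    (S p (B0 M G)).card = Nat.card (principalBlock M G) := by
  classical
  have := finite_irr (G := G)
  have := Fintype.ofFinite (IrrCharacter G)
  rw [← card_eq_S]
  refine Nat.card_congr (Equiv.subtypeEquivRight fun χ => ⟨fun h => h.1, fun hχ => ⟨hχ, fun hd => ?_⟩⟩)
  have h3 : ¬ p ∣ Nat.card G / charDegree (χ : G → ℂ) := by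
    intro h4
    apply h2
    have h5 := H382.TwoChars.charDegree_dvd χ
    rw [← Nat.mul_div_cancel' h5, sq]
    exact Nat.mul_dvd_mul hd h4
  have h4 := block_of_one hM hχ h3
  rw [h4, charDegree_one] at hd
  exact hp.1.one_lt.ne' (Nat.dvd_one.1 hd)

theorem card_principal_two {G : Type u} [Group G] [Finite G] (hM : IsPModular 2 M) (P : Sylow 2 G)
    (hP : Nat.card P = 2) : Nat.card (principalBlock M G) = 2 := by
  have : Fact (Nat.Prime 2) := ⟨Nat.prime_two⟩
  obtain ⟨D, hD, -⟩ := Cfsg.Agent.S0931.exists_defectGroup 2 M hM _ (isPBlock_principal (G := G) (M := M))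
  refine H382.TwoChars.card_of_card_defectGroup hM isPBlock_principal hD ?_
  have h1 := S0908.result 2 M hM _ isPBlock_principal D hD
  have h2 : sInf ((fun χ : IrrCharacter G => (charDegree (χ : G → ℂ)).factorization 2) '' principalBlock M G) = 0 := by
    apply Nat.sInf_eq_zero.2
    left
    refine ⟨one G, mem_B0.1 (one_mem_B0 hM), ?_⟩
    show (charDegree (one G : G → ℂ)).factorization 2 = 0
    rw [charDegree_one]
    simp
  unfold blockDefect at h1
  rw [h2, Nat.sub_zero, ← Sylow.card_eq_multiplicity P, hP] at h1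
  exact h1

end

/-- Let G be a finite group, p a prime, M a maximal ideal of the algebraic integers containing p, P a Sylow p-subgroup of G, and k = 2 or k = 3. Then the principal p-block of G contains exactly k irreducible characters of degree not divisible by p (its height-zero characters) if and only if P has order k. -/
theorem result {G : Type*} [Group G] [Finite G] (p : ℕ) [Fact p.Prime] (M : Ideal Cfsg.AlgInt) (hM : Cfsg.IsPModular p M) (P : Sylow p G) (k : ℕ) (hk : k = 2 ∨ k = 3) :
    Nat.card {χ : Cfsg.IrrCharacter G // χ ∈ Cfsg.principalBlock M G ∧ ¬ p ∣ Cfsg.charDegree (χ : G → ℂ)} = k ↔ Nat.card P = k := by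
  have hp : p.Prime := Fact.out
  rw [card_eq_S]
  have hcard := Sylow.card_eq_multiplicity P
  set a := (Nat.card G).factorization p with ha
  have hG0 : Nat.card G ≠ 0 := Nat.card_pos.ne'
  have hdvd : ∀ b, p ^ b ∣ Nat.card G ↔ b ≤ a := fun b => hp.pow_dvd_iff_le_factorization hG0
  by_cases hpG : p ∣ Nat.card G
  swap
  · rw [card_of_not_dvd hM hpG]
    have h1 : a = 0 := Nat.factorization_eq_zero_of_not_dvd hpG
    rw [hcard, h1, pow_zero]
  have ha1 : 1 ≤ a := (hdvd 1).1 (by rwa [pow_one])
  rcases eq_or_ne p 2 with rfl | hp2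
  · have h1 := dvd_card_two hM (good_principal hM) hpG
    constructor
    · intro h
      rw [h] at h1
      have hk2 : k = 2 := by rcases hk with h | h <;> omega
      subst hk2
      have h2 : ¬ 2 ≤ a := by
        intro h2
        have h3 := four_dvd_card hM (good_principal hM) (by simpa using (hdvd 2).2 h2)
        rw [h] at h3
        omega
      have h3 : a = 1 := by omega
      rw [hcard, h3, pow_one]
    · intro h
      rw [hcard] at h
      have hk2 : k = 2 := by
        have : 2 ∣ k := by rw [← h]; exact dvd_pow_self 2 (by omega)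
        rcases hk with h | h <;> omega
      subst hk2
      have h2 : a = 1 := Nat.pow_right_injective le_rfl (h.trans (pow_one 2).symm)
      rw [card_of_prime hM (fun h3 => by have := (hdvd 2).1 h3; omega)]
      exact card_principal_two hM P (by rw [hcard, h])
  · have hone : one G ∈ B0 M G := one_mem_B0 hM
    have h1 := three_le hM (good_principal hM) hpG hone hp2
    constructor
    · intro h
      rw [h] at h1
      have hk2 : k = 3 := by rcases hk with h | h <;> omega
      subst hk2
      have h3 := eq_three hM (good_principal hM) hpG hone hp2 h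
      subst h3
      have h2 : ¬ 2 ≤ a := by
        intro h2
        exact nine hM (good_principal hM) hone (by simpa using (hdvd 2).2 h2) h
      have h3 : a = 1 := by omega
      rw [hcard, h3, pow_one]
    · intro h
      rw [hcard] at h
      have hpk : p ∣ k := by rw [← h]; exact dvd_pow_self p (by omega)
      have hk2 : k = 3 := by
        rcases hk with rfl | h
        · exact absurd ((Nat.prime_dvd_prime_iff_eq hp Nat.prime_two).1 hpk) hp2
        · exact h
      subst hk2
      have h3 : p = 3 := (Nat.prime_dvd_prime_iff_eq hp Nat.prime_three).1 hpk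
      subst h3
      have h2 : a = 1 := Nat.pow_right_injective (by norm_num : 2 ≤ 3) (h.trans (pow_one 3).symm)
      rw [card_of_prime hM (fun h3 => by have := (hdvd 2).1 h3; omega)]
      have hP3 : Nat.card P = 3 := by rw [hcard, h]
      have h4 := (Cfsg.Agent.S0960.result 3 M hM (by norm_num) P hP3 _ rfl).1
      rw [h4]
      -- `e` divides `2`
      have h5 : (Subgroup.centralizer ((P : Subgroup G) : Set G)).relIndex
          (Subgroup.normalizer ((P : Subgroup G) : Set G)) ∣ 3 - 1 :=
        SmallSimple.SylowPrimeCount.relIndex_dvd_pred Nat.prime_three hP3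
      rcases (Nat.dvd_prime Nat.prime_two).1 h5 with h6 | h6 <;> rw [h6]

end Cfsg.Agent.S4924
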