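import Cfsg.Statements.S5752
import Cfsg.Agent.H900.TWCore

set_option autoImplicit false
open Cfsg

namespace Cfsg.Agent.S5752

open Subgroup Cfsg.Agent.H900.TWCore Cfsg.Agent.Lib Cfsg.Agent.Lib.LocalCore

/-- membership in the core, as a subgroup of the big group -/
theorem mem_core {G : Type*} [Group G] (M D : Subgroup G) (x : G) :
    x ∈ (D.subgroupOf M).normalCore.map M.subtype ↔ x ∈ M ∧ ∀ m ∈ M, m * x * m⁻¹ ∈ D := by
  constructor
  · rintro ⟨y, hy, rfl⟩
    refine ⟨y.2, fun m hm => ?_⟩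
    have := hy ⟨m, hm⟩
    exact mem_subgroupOf.mp this
  · rintro ⟨hx, h⟩
    refine ⟨⟨x, hx⟩, ?_, rfl⟩
    intro m
    exact mem_subgroupOf.mpr (h m m.2)

theorem normalizes_core {G : Type*} [Group G] (M D : Subgroup G) :
    M ≤ normalizer (((D.subgroupOf M).normalCore.map M.subtype : Subgroup G) : Set G) :=
  le_normalizer_map_subtype M _ inferInstance

theorem isPGroup_sup {G : Type*} [Group G] {p : ℕ} {M N X Y A B : Subgroup G}
    (h : Pair M N X Y A B) (hA : IsPGroup p A) (hB : IsPGroup p B) : IsPGroup p ↥(A ⊔ B) := by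
  have h1 : A ≤ (pCore p M).map M.subtype := by
    refine h.le_pcore_of_X h.AX ?_ hA
    exact h.XM.trans h.MA
  have h2 : B ≤ (pCore p M).map M.subtype := by
    refine h.le_pcore_of_X h.BX ?_ hB
    exact h.XN.trans h.NB
  exact (isPGroup_map_pCore p M).to_le (sup_le h1 h2)

theorem core_side {G : Type*} [Group G] [Finite G] {p : ℕ} {M N X Y A B : Subgroup G}
    (h : Pair M N X Y A B) (hr : ∀ r : ℕ, r.Prime → r ≠ p → pCore r M = ⊥) (hp : p.Prime) :
    generalizedFittingSubgroup ↥X = pCore p ↥X := by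
  have hlM := h.layer_eq_bot
  -- embed `X` in `M`
  have hXn : (X.subgroupOf M).Normal := normal_subgroupOf_of_le_normalizer h.MX
  have e : (X.subgroupOf M) ≃* X := subgroupOfEquivOfLe h.XM
  have hl : layer X = ⊥ := by
    have h1 := SignalizersComponents.Components.map_subtype_layer_le (G := M) hXn.isSubnormal
    rw [hlM, le_bot_iff, Subgroup.map_eq_bot_iff_of_injective _ (Subgroup.subtype_injective _)] at h1
    have h2 := SignalizersComponents.Components.map_equiv_layer e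
    rw [← h2, h1, Subgroup.map_bot]
  have hc : ∀ r : ℕ, r.Prime → r ≠ p → pCore r X = ⊥ := by
    intro r hr' hrp
    have h1 := Cores.map_subtype_pCore (G := M) r (N := X.subgroupOf M) hXn
    rw [hr r hr' hrp, inf_bot_eq,
      Subgroup.map_eq_bot_iff_of_injective _ (Subgroup.subtype_injective _)] at h1
    have h2 := Cores.map_equiv_pCore e r
    rw [← h2, h1, Subgroup.map_bot]
  rw [generalizedFittingSubgroup, hl, bot_sup_eq, Cores.fittingSubgroup_eq_iSup_pCore]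
  apply le_antisymm
  · refine iSup_le fun r => ?_
    by_cases hrp : (r : ℕ) = p
    · rw [hrp]
    · rw [hc r r.2 hrp]; exact bot_le
  · exact le_iSup (fun r : Nat.Primes => pCore (r : ℕ) X) ⟨p, hp⟩

/-- A form of the Thompson–Wielandt Theorem on primitive permutation groups. Let G be a finite group and M₁, M₂ two distinct conjugate maximal subgroups of G with trivial core in G; define two descending sequences of subgroups by A₀ = M₁, B₀ = M₂ and, for every i, A_{i+1} = the core in M₁ of A_i ∩ B_i and B_{i+1} = the core in M₂ of A_i ∩ B_i (the core in M of a subgroup Y ≤ M is the largest normal subgroup of M contained in Y). If A₂ and B₂ are both non-trivial, then for some prime p the subgroup generated by A₂ and B₂ is a p-group, and for each j the generalized Fitting subgroups of M_j and of its first core (A₁, resp. B₁) are their largest normal p-subgroups. -/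
theorem result {G : Type*} [Group G] [Finite G] (M₁ M₂ : Subgroup G) (hmax : IsCoatom M₁) (g : G)
    (hconj : M₂ = M₁.map (MulAut.conj g).toMonoidHom) (hne : M₁ ≠ M₂) (hcore : M₁.normalCore = ⊥)
    (A B : ℕ → Subgroup G) (hA0 : A 0 = M₁) (hB0 : B 0 = M₂)
    (hA : ∀ i, A (i + 1) = ((A i ⊓ B i).subgroupOf M₁).normalCore.map M₁.subtype)
    (hB : ∀ i, B (i + 1) = ((A i ⊓ B i).subgroupOf M₂).normalCore.map M₂.subtype) (hA2 : A 2 ≠ ⊥) (hB2 : B 2 ≠ ⊥) :
    ∃ p : ℕ, p.Prime ∧ IsPGroup p ↥(A 2 ⊔ B 2) ∧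
      Cfsg.generalizedFittingSubgroup ↥M₁ = Cfsg.pCore p ↥M₁ ∧ Cfsg.generalizedFittingSubgroup ↥(A 1) = Cfsg.pCore p ↥(A 1) ∧
      Cfsg.generalizedFittingSubgroup ↥M₂ = Cfsg.pCore p ↥M₂ ∧ Cfsg.generalizedFittingSubgroup ↥(B 1) = Cfsg.pCore p ↥(B 1) := by
  -- `M₂` is a coatom with trivial core
  have hmax2 : IsCoatom M₂ := by
    rw [hconj]
    exact (OrderIso.isCoatom_iff (MulAut.conj g).mapSubgroup M₁).mpr hmax
  have hcore1 : ∀ K : Subgroup G, K ≤ M₁ → K.Normal → K = ⊥ := by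
    intro K hK hn
    rw [eq_bot_iff, ← hcore]
    exact (normal_le_normalCore).mpr hK
  have hcore2 : ∀ K : Subgroup G, K ≤ M₂ → K.Normal → K = ⊥ := by
    intro K hK hn
    refine hcore1 K ?_ hn
    intro x hx
    have h1 : g * x * g⁻¹ ∈ M₂ := hK (hn.conj_mem x hx g)
    rw [hconj] at h1
    obtain ⟨y, hy, hyx⟩ := h1
    have h2 : g * y * g⁻¹ = g * x * g⁻¹ := hyx
    have h3 : y = x := by
      have := congrArg (fun z => g⁻¹ * z * g) h2
      simpa [mul_assoc] using this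
    rwa [← h3]
  have hsup : M₁ ⊔ M₂ = ⊤ := by
    rcases hmax.le_iff.mp (le_sup_left : M₁ ≤ M₁ ⊔ M₂) with h | h
    · exact h
    · exfalso
      have h1 : M₂ ≤ M₁ := by rw [← h]; exact le_sup_right
      rcases hmax2.le_iff.mp h1 with h2 | h2
      · exact hmax.1 h2
      · exact hne h2
  have nrm : ∀ M : Subgroup G, IsCoatom M → (∀ K : Subgroup G, K ≤ M → K.Normal → K = ⊥) →
      ∀ K : Subgroup G, K ≠ ⊥ → K ≤ M → M ≤ normalizer (K : Set G) →
        normalizer (K : Set G) ≤ M := by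
    intro M hM hc K hK0 hKM hMK
    rcases hM.le_iff.mp hMK with h | h
    · exact absurd (hc K hKM (normalizer_eq_top_iff.mp h)) hK0
    · exact h.le
  have hA1' : ∀ x : G, x ∈ A 1 ↔ x ∈ M₁ ∧ ∀ m ∈ M₁, m * x * m⁻¹ ∈ M₁ ⊓ M₂ := by
    intro x
    rw [hA 0, mem_core, hA0, hB0]
  have hB1' : ∀ x : G, x ∈ B 1 ↔ x ∈ M₂ ∧ ∀ m ∈ M₂, m * x * m⁻¹ ∈ M₁ ⊓ M₂ := by
    intro x
    rw [hB 0, mem_core, hA0, hB0]
  have hA2' : ∀ x : G, x ∈ A 2 ↔ x ∈ M₁ ∧ ∀ m ∈ M₁, m * x * m⁻¹ ∈ A 1 ⊓ B 1 := by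
    intro x
    rw [hA 1, mem_core]
  have hB2' : ∀ x : G, x ∈ B 2 ↔ x ∈ M₂ ∧ ∀ m ∈ M₂, m * x * m⁻¹ ∈ A 1 ⊓ B 1 := by
    intro x
    rw [hB 1, mem_core]
  have hA2le : A 2 ≤ A 1 ⊓ B 1 := by
    intro x hx
    have := ((hA2' x).mp hx).2 1 M₁.one_mem
    simpa using this
  have hB2le : B 2 ≤ A 1 ⊓ B 1 := by
    intro x hx
    have := ((hB2' x).mp hx).2 1 M₂.one_mem
    simpa using this
  have hP : Pair M₁ M₂ (A 1) (B 1) (A 2) (B 2) := by
    refine ⟨nrm M₁ hmax hcore1, nrm M₂ hmax2 hcore2, ?_, hA1', hB1', hA2le.trans inf_le_left,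
      hA2le.trans inf_le_right, ?_, hB2le.trans inf_le_left, hB2le.trans inf_le_right, ?_,
      hA2, hB2, ⟨g, hconj⟩⟩
    · intro K h1 _ h3 h4
      refine hcore1 K h1 ?_
      rw [← normalizer_eq_top_iff, eq_top_iff, ← hsup]
      exact sup_le h3 h4
    · rw [hA 1]; exact normalizes_core _ _
    · rw [hB 1]; exact normalizes_core _ _
  obtain ⟨p, hp, hpA, hpB, hF, hr⟩ := hP.main
  obtain ⟨p', hp', hpB', hpA', hF', hr'⟩ := hP.symm.main
  have hpp : p' = p := by
    by_contra hne'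
    apply hA2
    have : Fact p.Prime := ⟨hp⟩
    have : Fact p'.Prime := ⟨hp'⟩
    obtain ⟨a, ha⟩ := (IsPGroup.iff_card).mp hpA
    obtain ⟨b, hb⟩ := (IsPGroup.iff_card).mp hpA'
    rw [← Subgroup.card_eq_one]
    have h1 : Nat.card (A 2) ∣ Nat.gcd (p ^ a) (p' ^ b) :=
      Nat.dvd_gcd ⟨1, by rw [ha, mul_one]⟩ ⟨1, by rw [hb, mul_one]⟩
    rw [(Nat.Coprime.pow a b ((Nat.coprime_primes hp hp').mpr (Ne.symm hne'))).gcd_eq_one] at h1
    exact Nat.dvd_one.mp h1
  subst hpp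
  exact ⟨p', hp, isPGroup_sup hP hpA hpB, hF, core_side hP hr hp, hF', core_side hP.symm hr' hp⟩

end Cfsg.Agent.S5752
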