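import Cfsg.Statements.S4475
import Cfsg.Agent.S0158
import Mathlib.LinearAlgebra.Matrix.SesquilinearForm
-- import your own Cfsg.Agent.* helpers here

set_option autoImplicit false
open Cfsg

namespace Cfsg.Agent.S4475

open Representation Matrix

variable {G : Type*} [Group G] {n : ℕ} (ρ : Representation ℂ G (Fin n → ℂ))

/-- The intertwining map to the dual attached to an invariant matrix. -/
noncomputable def ofMatrix (M : Matrix (Fin n) (Fin n) ℂ)
    (hM : ∀ g : G, (LinearMap.toMatrix' (ρ g)).transpose * M * LinearMap.toMatrix' (ρ g) = M) :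
    IntertwiningMap ρ ρ.dual :=
  LinearMap.intertwiningMap_of_isIntertwiningMap ρ ρ.dual
    (Matrix.toLinearMap₂' ℂ M) (by
      intro g v
      apply LinearMap.ext
      intro w
      have h := hM g
      have h1 : (Matrix.toLinearMap₂' ℂ M).compl₁₂ (ρ g) (ρ g) = Matrix.toLinearMap₂' ℂ M := by
        apply (LinearMap.toMatrix₂' ℂ).injective
        rw [LinearMap.toMatrix₂'_compl₁₂, LinearMap.toMatrix'_toLinearMap₂', h]
      have h2 := congrArg (fun l : (Fin n → ℂ) →ₗ[ℂ] (Fin n → ℂ) →ₗ[ℂ] ℂ => l v (ρ g⁻¹ w)) h1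
      simp only [LinearMap.compl₁₂_apply] at h2
      rw [← Module.End.mul_apply, ← map_mul, mul_inv_cancel, map_one, Module.End.one_apply] at h2
      simp only [Representation.dual_apply, Module.Dual.transpose_apply, LinearMap.coe_comp,
        Function.comp_apply]
      exact h2)

theorem ofMatrix_apply (M : Matrix (Fin n) (Fin n) ℂ)
    (hM : ∀ g : G, (LinearMap.toMatrix' (ρ g)).transpose * M * LinearMap.toMatrix' (ρ g) = M)
    (v w : Fin n → ℂ) : ofMatrix ρ M hM v w = Matrix.toLinearMap₂' ℂ M v w := rfl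

/-- The invariant matrix of an intertwining map to the dual. -/
theorem toMatrix_invariant (f : IntertwiningMap ρ ρ.dual) (g : G) :
    (LinearMap.toMatrix' (ρ g)).transpose *
      LinearMap.toMatrix₂' ℂ (show (Fin n → ℂ) →ₗ[ℂ] (Fin n → ℂ) →ₗ[ℂ] ℂ from f.toLinearMap) *
      LinearMap.toMatrix' (ρ g) =
      LinearMap.toMatrix₂' ℂ (show (Fin n → ℂ) →ₗ[ℂ] (Fin n → ℂ) →ₗ[ℂ] ℂ from f.toLinearMap) := by
  rw [← LinearMap.toMatrix₂'_compl₁₂]
  congr 1
  apply LinearMap.ext
  intro v
  apply LinearMap.ext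
  intro w
  exact S0158.dual_swap ρ f g v w

variable [Fintype G]

/-- For a real-valued irreducible character, the sign of all invariant forms is the indicator. -/
theorem exists_sign_eq [ρ.IsIrreducible] (hreal : ∀ g : G, (ρ.character g).im = 0) :
    (∃ f : IntertwiningMap ρ ρ.dual, f ≠ 0) ∧
    ∀ (f : IntertwiningMap ρ ρ.dual) (v w : Fin n → ℂ),
      f v w = ((Nat.card G : ℂ)⁻¹ * ∑ s : G, ρ.character (s * s)) * f w v := by
  classical
  have : Invertible (Nat.card G : ℂ) := invertibleOfNonzero (by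
    exact_mod_cast Nat.card_pos.ne')
  obtain ⟨ε, hε, h⟩ := S0158.exists_sign ρ
  have hself : (Nat.card G : ℂ)⁻¹ * ∑ g : G, ρ.character g * ρ.character g = 1 := by
    have h1 : (Nat.card G : ℂ)⁻¹ * ∑ g : G, ρ.character g * ρ.character g⁻¹ = 1 := by
      rw [card_inv_mul_sum_char_mul_char_eq_finrank ρ ρ]
      simp
    rw [← h1]
    congr 1
    refine Finset.sum_congr rfl (fun g _ => ?_)
    rw [S0158.char_inv, Complex.conj_eq_iff_im.2 (hreal g)]
  have hν : (Nat.card G : ℂ)⁻¹ * ∑ s : G, ρ.character (s * s) = ε := by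
    rw [S0158.sum_sq ρ ε h, mul_left_comm, hself, mul_one]
  refine ⟨?_, ?_⟩
  · by_contra hcon
    push Not at hcon
    have hdim : (Nat.card G : ℂ)⁻¹ * ∑ s : G, ρ.character s * ρ.character s
        = (Module.finrank ℂ (IntertwiningMap ρ ρ.dual) : ℂ) := by
      rw [← card_inv_mul_sum_char_mul_char_eq_finrank ρ ρ.dual]
      congr 1
      refine Fintype.sum_equiv (Equiv.inv G) _ _ (fun s => ?_)
      simp only [Equiv.inv_apply, char_dual, inv_inv]
    have : Subsingleton (IntertwiningMap ρ ρ.dual) :=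
      ⟨fun a b => by rw [hcon a, hcon b]⟩
    rw [hself, Module.finrank_zero_of_subsingleton] at hdim
    norm_num at hdim
  · rw [hν]
    exact h

/-- Let ρ be an irreducible representation of the finite group G on the coordinate space Fin n → ℂ whose character χ is real-valued, and let ν be the Frobenius–Schur indicator of χ (the average of χ(s²)). Writing X(g) for the matrix of ρ(g), there is a nonzero matrix M with X(g)ᵀ M X(g) = M for all g ∈ G; and every such M (zero or not) satisfies Mᵀ = ν·M. -/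
theorem result {G : Type*} [Group G] [Fintype G] (n : ℕ) (ρ : Representation ℂ G (Fin n → ℂ)) (hirr : ρ.IsIrreducible) (hreal : ∀ g : G, (ρ.character g).im = 0) : (∃ M : Matrix (Fin n) (Fin n) ℂ, M ≠ 0 ∧ ∀ g : G, (LinearMap.toMatrix' (ρ g)).transpose * M * LinearMap.toMatrix' (ρ g) = M) ∧ ∀ M : Matrix (Fin n) (Fin n) ℂ, (∀ g : G, (LinearMap.toMatrix' (ρ g)).transpose * M * LinearMap.toMatrix' (ρ g) = M) → M.transpose = ((Nat.card G : ℂ)⁻¹ * ∑ s : G, ρ.character (s * s)) • M := by
  have : ρ.IsIrreducible := hirr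
  obtain ⟨⟨f, hf⟩, hsign⟩ := exists_sign_eq ρ hreal
  refine ⟨⟨_, ?_, toMatrix_invariant ρ f⟩, ?_⟩
  · intro h0
    apply hf
    have h1 := (LinearMap.toMatrix₂' ℂ).injective (h0.trans (map_zero _).symm)
    apply IntertwiningMap.ext
    exact h1
  · intro M hM
    ext i j
    have h1 := hsign (ofMatrix ρ M hM) (Pi.single j 1) (Pi.single i 1)
    have e1 : ∀ k l : Fin n, ofMatrix ρ M hM (Pi.single k 1) (Pi.single l 1) = M k l := by
      intro k l
      have h2 := congrFun (congrFun
        ((LinearMap.toMatrix₂' (S₁ := ℂ) (S₂ := ℂ) ℂ).apply_symm_apply M) k) l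
      exact h2
    rw [e1, e1] at h1
    exact h1

end Cfsg.Agent.S4475
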