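import Cfsg.Statements.S4474
import Cfsg.Agent.Characters.Core
import Cfsg.Agent.CharactersDeep.FeitOddAux
import Cfsg.Agent.S4475
import Cfsg.Agent.H600.RealForm
-- import your own Cfsg.Agent.* helpers here

set_option autoImplicit false
open Cfsg

namespace Cfsg.Agent.S4474

open Cfsg.Agent.Characters Cfsg.Agent.Characters.Core Matrix
open scoped ComplexConjugate ComplexOrder

variable {G : Type*} [Group G] [Fintype G]

/-- The averaged Hermitian form of a representation. -/
noncomputable def herm {n : ℕ} (ρ : Representation ℂ G (Fin n → ℂ)) : Matrix (Fin n) (Fin n) ℂ :=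
  ∑ g : G, (LinearMap.toMatrix' (ρ g))ᴴ * LinearMap.toMatrix' (ρ g)

theorem herm_posDef {n : ℕ} (ρ : Representation ℂ G (Fin n → ℂ)) : (herm ρ).PosDef := by
  classical
  rw [herm, ← Finset.add_sum_erase Finset.univ _ (Finset.mem_univ (1 : G))]
  refine Matrix.PosDef.add_posSemidef ?_ ?_
  · rw [map_one]
    have : LinearMap.toMatrix' (1 : Module.End ℂ (Fin n → ℂ)) = 1 := LinearMap.toMatrix'_id
    rw [this]
    simpa using Matrix.PosDef.one
  · exact Matrix.posSemidef_sum _ (fun h _ => Matrix.posSemidef_conjTranspose_mul_self _)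

omit [Fintype G] in
theorem mat_mul {n : ℕ} (ρ : Representation ℂ G (Fin n → ℂ)) (g h : G) :
    LinearMap.toMatrix' (ρ (g * h)) = LinearMap.toMatrix' (ρ g) * LinearMap.toMatrix' (ρ h) := by
  rw [map_mul, Module.End.mul_eq_comp, LinearMap.toMatrix'_comp]

theorem herm_inv {n : ℕ} (ρ : Representation ℂ G (Fin n → ℂ)) (g : G) :
    (LinearMap.toMatrix' (ρ g))ᴴ * herm ρ * LinearMap.toMatrix' (ρ g) = herm ρ := by
  rw [herm, Finset.mul_sum, Finset.sum_mul]
  refine Fintype.sum_equiv (Equiv.mulRight g) _ _ (fun h => ?_)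
  simp only [Equiv.coe_mulRight, mat_mul, Matrix.conjTranspose_mul, Matrix.mul_assoc]

/-- The indicator is one: the representation commutes with a conjugate-linear involution. -/
theorem exists_involution {n : ℕ} (ρ : Representation ℂ G (Fin n → ℂ)) [ρ.IsIrreducible]
    (M : Matrix (Fin n) (Fin n) ℂ) (hM0 : M ≠ 0)
    (hM : ∀ g : G, (LinearMap.toMatrix' (ρ g)).transpose * M * LinearMap.toMatrix' (ρ g) = M)
    (hMt : Mᵀ = M) :
    ∃ K : (Fin n → ℂ) → (Fin n → ℂ), (∀ v w, K (v + w) = K v + K w) ∧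
      (∀ (c : ℂ) v, K (c • v) = conj c • K v) ∧ (∀ v, K (K v) = v) ∧
      (∀ g v, K (ρ g v) = ρ g (K v)) := by
  classical
  have hH := herm_posDef ρ
  have hHdet : IsUnit (herm ρ).det := (Matrix.isUnit_iff_isUnit_det _).1 hH.isUnit
  set H := herm ρ with hHdef
  set J : (Fin n → ℂ) → (Fin n → ℂ) := fun v => H⁻¹ *ᵥ star (M *ᵥ v) with hJ
  have hadd : ∀ v w, J (v + w) = J v + J w := by
    intro v w
    simp only [hJ]
    rw [Matrix.mulVec_add, star_add, Matrix.mulVec_add]
  have hsmul : ∀ (c : ℂ) v, J (c • v) = conj c • J v := by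
    intro c v
    simp only [hJ]
    rw [Matrix.mulVec_smul, star_smul, Matrix.mulVec_smul]
    rfl
  have hρ : ∀ g v, ρ g v = LinearMap.toMatrix' (ρ g) *ᵥ v := by
    intro g v
    rw [← Matrix.toLin'_apply, Matrix.toLin'_toMatrix']
  have hXi : ∀ g, LinearMap.toMatrix' (ρ g) * LinearMap.toMatrix' (ρ g⁻¹) = 1 := by
    intro g
    rw [← mat_mul, mul_inv_cancel, map_one]
    exact LinearMap.toMatrix'_id
  have hXi' : ∀ g, LinearMap.toMatrix' (ρ g⁻¹) * LinearMap.toMatrix' (ρ g) = 1 := by
    intro g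
    rw [← mat_mul, inv_mul_cancel, map_one]
    exact LinearMap.toMatrix'_id
  have hcomm : ∀ g v, J (ρ g v) = ρ g (J v) := by
    intro g v
    rw [hρ, hρ]
    simp only [hJ]
    set X := LinearMap.toMatrix' (ρ g) with hX
    set Y := LinearMap.toMatrix' (ρ g⁻¹) with hY
    have hXY : X * Y = 1 := hXi g
    have hYX : Y * X = 1 := hXi' g
    have h1 : M * X = Yᵀ * M := by
      have := hM g
      calc M * X = (X * Y)ᵀ * (M * X) := by rw [hXY, Matrix.transpose_one, Matrix.one_mul]
        _ = Yᵀ * (Xᵀ * M * X) := by rw [Matrix.transpose_mul]; simp only [Matrix.mul_assoc]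
        _ = Yᵀ * M := by rw [this]
    have h2 : H⁻¹ * Yᴴ = X * H⁻¹ := by
      have h3 := herm_inv ρ g
      rw [← hHdef, ← hX] at h3
      have h4 : H * X = Yᴴ * H := by
        calc H * X = (X * Y)ᴴ * (H * X) := by
              rw [hXY, Matrix.conjTranspose_one, Matrix.one_mul]
          _ = Yᴴ * (Xᴴ * H * X) := by rw [Matrix.conjTranspose_mul]; simp only [Matrix.mul_assoc]
          _ = Yᴴ * H := by rw [h3]
      calc H⁻¹ * Yᴴ = H⁻¹ * (Yᴴ * H) * H⁻¹ := by
            rw [Matrix.mul_assoc, Matrix.mul_assoc, Matrix.mul_nonsing_inv _ hHdet, Matrix.mul_one]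
        _ = H⁻¹ * (H * X) * H⁻¹ := by rw [h4]
        _ = X * H⁻¹ := by rw [← Matrix.mul_assoc H⁻¹, Matrix.nonsing_inv_mul _ hHdet,
              Matrix.one_mul]
    rw [Matrix.mulVec_mulVec, h1, ← Matrix.mulVec_mulVec, Matrix.star_mulVec,
      Matrix.mulVec_mulVec, ← h2, ← Matrix.mulVec_mulVec]
    congr 1
    rw [← Matrix.mulVec_transpose]
    rfl
  -- the square is a scalar
  let L : Representation.IntertwiningMap ρ ρ :=
    LinearMap.intertwiningMap_of_isIntertwiningMap ρ ρ
      { toFun := fun v => J (J v)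
        map_add' := fun v w => by rw [hadd, hadd]
        map_smul' := fun c v => by
          rw [hsmul, hsmul, Complex.conj_conj]
          rfl }
      (by
        intro g v
        show J (J (ρ g v)) = ρ g (J (J v))
        rw [hcomm, hcomm])
  obtain ⟨c, hc⟩ := (Representation.IsIrreducible.algebraMap_intertwiningMap_bijective_of_isAlgClosed
    (ρ := ρ) (k := ℂ)).2 L
  have hc' : ∀ v, J (J v) = c • v := by
    intro v
    have := congrArg (fun k : Representation.IntertwiningMap ρ ρ => k v) hc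
    exact this.symm
  -- positivity of c
  have hpos : ∀ v : Fin n → ℂ, c * (star v ⬝ᵥ (H *ᵥ v)) =
      star (star (star (M *ᵥ v)) ⬝ᵥ (H⁻¹ *ᵥ (star (M *ᵥ v)))) := by
    intro v
    have h1 : H *ᵥ (J (J v)) = star (M *ᵥ (J v)) := by
      show H *ᵥ (H⁻¹ *ᵥ star (M *ᵥ (J v))) = _
      rw [Matrix.mulVec_mulVec, Matrix.mul_nonsing_inv _ hHdet, Matrix.one_mulVec]
    have h2 : c * (star v ⬝ᵥ (H *ᵥ v)) = star v ⬝ᵥ (H *ᵥ (J (J v))) := by
      rw [hc', Matrix.mulVec_smul, dotProduct_smul, smul_eq_mul]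
    have key : (M *ᵥ (J v)) ⬝ᵥ v = (M *ᵥ v) ⬝ᵥ (J v) := by
      rw [dotProduct_comm, Matrix.dotProduct_mulVec, ← Matrix.mulVec_transpose, hMt]
    rw [h2, h1, star_star, Matrix.star_dotProduct_star, key]
  obtain ⟨v, hv⟩ : ∃ v, M *ᵥ v ≠ 0 := by
    by_contra hcon
    push Not at hcon
    apply hM0
    ext i j
    have := congrFun (hcon (Pi.single j 1)) i
    simpa using this
  have hv0 : v ≠ 0 := by
    rintro rfl
    exact hv (Matrix.mulVec_zero M)
  have hA : 0 < star v ⬝ᵥ (H *ᵥ v) := hH.dotProduct_mulVec_pos hv0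
  have hB : 0 < star (star (M *ᵥ v)) ⬝ᵥ (H⁻¹ *ᵥ (star (M *ᵥ v))) :=
    hH.inv.dotProduct_mulVec_pos (fun h => hv (star_eq_zero.1 h))
  have hcpos : 0 < c := by
    have h1 := hpos v
    obtain ⟨hA1, hA2⟩ := Complex.pos_iff.1 hA
    obtain ⟨hB1, hB2⟩ := Complex.pos_iff.1 hB
    set a := star v ⬝ᵥ (H *ᵥ v) with ha
    set b := star (star (M *ᵥ v)) ⬝ᵥ (H⁻¹ *ᵥ (star (M *ᵥ v))) with hb
    have ha' : a = (a.re : ℂ) := Complex.ext rfl (by simpa using hA2.symm)
    have hb' : b = (b.re : ℂ) := Complex.ext rfl (by simpa using hB2.symm)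
    have h2 : c = ((b.re / a.re : ℝ) : ℂ) := by
      rw [ha', hb'] at h1
      have h3 : star ((b.re : ℝ) : ℂ) = ((b.re : ℝ) : ℂ) := Complex.conj_ofReal _
      rw [h3] at h1
      rw [Complex.ofReal_div, ← h1, mul_div_assoc, div_self, mul_one]
      exact_mod_cast hA1.ne'
    rw [h2]
    exact_mod_cast div_pos hB1 hA1
  obtain ⟨hc1, hc2⟩ := Complex.pos_iff.1 hcpos
  have hcr : c = (c.re : ℂ) := Complex.ext rfl (by simpa using hc2.symm)
  set r : ℝ := (Real.sqrt c.re)⁻¹ with hr
  have hrr : (r : ℂ) * (r : ℂ) * c = 1 := by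
    have h1 : r * r * c.re = 1 := by
      rw [hr, ← mul_inv, Real.mul_self_sqrt hc1.le, inv_mul_cancel₀ hc1.ne']
    rw [hcr]
    exact_mod_cast h1
  refine ⟨fun v => (r : ℂ) • J v, ?_, ?_, ?_, ?_⟩
  · intro v w
    show (r : ℂ) • J (v + w) = (r : ℂ) • J v + (r : ℂ) • J w
    rw [hadd, smul_add]
  · intro d v
    show (r : ℂ) • J (d • v) = conj d • ((r : ℂ) • J v)
    rw [hsmul, smul_comm]
  · intro v
    show (r : ℂ) • J ((r : ℂ) • J v) = v
    rw [hsmul, hc', Complex.conj_ofReal, smul_smul, smul_smul, hrr, one_smul]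
  · intro g v
    show (r : ℂ) • J (ρ g v) = ρ g ((r : ℂ) • J v)
    rw [hcomm, map_smul]

/-- The complexification of a real representation. -/
noncomputable def complexify {n : ℕ} (ρ : Representation ℝ G (Fin n → ℝ)) :
    Representation ℂ G (Fin n → ℂ) where
  toFun g := Matrix.toLin' ((LinearMap.toMatrix' (ρ g)).map (Complex.ofRealHom))
  map_one' := by
    have : LinearMap.toMatrix' (ρ 1) = 1 := by
      rw [map_one]
      exact LinearMap.toMatrix'_id
    rw [this, Matrix.map_one _ (map_zero _) (map_one _)]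
    exact Matrix.toLin'_one
  map_mul' g h := by
    rw [map_mul, Module.End.mul_eq_comp, LinearMap.toMatrix'_comp, Matrix.map_mul,
      Matrix.toLin'_mul]
    rfl

omit [Fintype G] in
theorem toMatrix_complexify {n : ℕ} (ρ : Representation ℝ G (Fin n → ℝ)) (g : G) :
    LinearMap.toMatrix' (complexify ρ g) = (LinearMap.toMatrix' (ρ g)).map Complex.ofRealHom :=
  LinearMap.toMatrix'_toLin' _

omit [Fintype G] in
theorem character_complexify {n : ℕ} (ρ : Representation ℝ G (Fin n → ℝ)) (g : G) :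
    (complexify ρ).character g = ((LinearMap.trace ℝ (Fin n → ℝ) (ρ g) : ℝ) : ℂ) := by
  rw [Representation.character, ← Matrix.toLin'_toMatrix' (complexify ρ g),
    Matrix.trace_toLin'_eq, toMatrix_complexify]
  rw [← Matrix.toLin'_toMatrix' (ρ g), Matrix.trace_toLin'_eq, LinearMap.toMatrix'_toLin',
    Matrix.trace, Matrix.trace, Complex.ofReal_sum]
  rfl

/-- Let χ be an irreducible character of the finite group G. Then the Frobenius–Schur indicator of χ (the average over s ∈ G of χ(s²)) equals 1 if and only if χ is afforded by a real representation: there is a representation of G on a real coordinate space whose trace function, viewed in ℂ, is χ. -/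
theorem result {G : Type*} [Group G] [Fintype G] (χ : Cfsg.IrrCharacter G) : ((Nat.card G : ℂ)⁻¹ * ∑ s : G, (χ : G → ℂ) (s * s)) = 1 ↔ ∃ (n : ℕ) (ρ : Representation ℝ G (Fin n → ℝ)), ∀ g : G, ((LinearMap.trace ℝ (Fin n → ℝ) (ρ g) : ℝ) : ℂ) = (χ : G → ℂ) g := by
  classical
  constructor
  · intro h
    obtain ⟨n, ρ, hρ, hχ⟩ := χ.2
    have : ρ.IsIrreducible := hρ
    have hreal : ∀ g : G, (ρ.character g).im = 0 := by
      obtain ⟨k, _, hk, hk0⟩ := CharactersDeep.FeitOddAux.exists_indicator (G := G) χ.2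
      intro g
      by_contra hg
      have : k = 0 := hk0.2 ⟨g, by rw [← hχ]; exact hg⟩
      rw [h, this] at hk
      norm_num at hk
    obtain ⟨⟨M, hM0, hM⟩, hall⟩ := S4475.result n ρ hρ hreal
    have hMt : Mᵀ = M := by
      have := hall M hM
      rw [hχ, h, one_smul] at this
      exact this
    obtain ⟨K, h1, h2, h3, h4⟩ := exists_involution ρ M hM0 hM hMt
    obtain ⟨m, τ, hτ⟩ := H600.RealForm.exists_real_rep ρ K h1 h2 h3 h4
    exact ⟨m, τ, fun g => by rw [hτ, hχ]⟩
  · rintro ⟨n, ρ, hρ⟩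
    have hch : (complexify ρ).character = (χ : G → ℂ) := by
      funext g
      rw [character_complexify, hρ]
    have hirr : (complexify ρ).IsIrreducible :=
      isIrreducible_of_isIrrCharacter _ (by rw [hch]; exact χ.2)
    have hreal : ∀ g : G, ((complexify ρ).character g).im = 0 := by
      intro g
      rw [character_complexify, Complex.ofReal_im]
    obtain ⟨-, hall⟩ := S4475.result n (complexify ρ) hirr hreal
    set S : Matrix (Fin n) (Fin n) ℝ :=
      ∑ g : G, (LinearMap.toMatrix' (ρ g))ᵀ * LinearMap.toMatrix' (ρ g) with hS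
    have hSt : Sᵀ = S := by
      rw [hS, Matrix.transpose_sum]
      refine Finset.sum_congr rfl fun g _ => ?_
      rw [Matrix.transpose_mul, Matrix.transpose_transpose]
    have hSinv : ∀ g : G, (LinearMap.toMatrix' (ρ g))ᵀ * S * LinearMap.toMatrix' (ρ g) = S := by
      intro g
      rw [hS, Finset.mul_sum, Finset.sum_mul]
      refine Fintype.sum_equiv (Equiv.mulRight g) _ _ (fun h => ?_)
      simp only [Equiv.coe_mulRight]
      rw [map_mul, Module.End.mul_eq_comp, LinearMap.toMatrix'_comp, Matrix.transpose_mul]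
      simp only [Matrix.mul_assoc]
    have hM := hall (S.map Complex.ofRealHom) (by
      intro g
      rw [toMatrix_complexify, ← Matrix.transpose_map, ← Matrix.map_mul, ← Matrix.map_mul,
        hSinv])
    rw [← Matrix.transpose_map, hSt, hch] at hM
    -- the matrix is nonzero
    obtain ⟨d, hd, hd1⟩ := isIrr_apply_one χ.2
    have hn : 0 < n := by
      rcases Nat.eq_zero_or_pos n with h0 | h0
      · exfalso
        subst h0
        have h1 := hρ 1
        rw [hd1] at h1
        have h2 : LinearMap.trace ℝ (Fin 0 → ℝ) (ρ 1) = 0 := by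
          rw [← Matrix.toLin'_toMatrix' (ρ 1), Matrix.trace_toLin'_eq]
          simp [Matrix.trace]
        rw [h2] at h1
        have : (d : ℂ) ≠ 0 := by exact_mod_cast hd.ne'
        exact this (by simpa using h1.symm)
      · exact h0
    have hpos : 0 < S ⟨0, hn⟩ ⟨0, hn⟩ := by
      rw [hS, Matrix.sum_apply, ← Finset.add_sum_erase Finset.univ _ (Finset.mem_univ (1 : G))]
      have h1 : LinearMap.toMatrix' (ρ 1) = 1 := by
        rw [map_one]
        exact LinearMap.toMatrix'_id
      rw [h1, Matrix.transpose_one, Matrix.one_mul, Matrix.one_apply_eq]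
      have : 0 ≤ ∑ g ∈ Finset.univ.erase (1 : G),
          ((LinearMap.toMatrix' (ρ g))ᵀ * LinearMap.toMatrix' (ρ g)) ⟨0, hn⟩ ⟨0, hn⟩ := by
        refine Finset.sum_nonneg fun g _ => ?_
        rw [Matrix.mul_apply]
        refine Finset.sum_nonneg fun i _ => ?_
        rw [Matrix.transpose_apply]
        exact mul_self_nonneg _
      linarith
    have h1 := congrFun (congrFun hM ⟨0, hn⟩) ⟨0, hn⟩
    rw [Matrix.smul_apply, Matrix.map_apply, smul_eq_mul] at h1
    have hne : (Complex.ofRealHom (S ⟨0, hn⟩ ⟨0, hn⟩) : ℂ) ≠ 0 := by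
      rw [Complex.ofRealHom_eq_coe]
      exact_mod_cast hpos.ne'
    exact (mul_eq_right₀ hne).1 h1.symm

end Cfsg.Agent.S4474
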