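import Cfsg.Statements.S2345
import Cfsg.Agent.H122.OrthPlus

set_option autoImplicit false
open Cfsg

namespace Cfsg.Agent.S2345

/-- For a finite field F with q > 3 elements and n ≥ 4, every irreducible complex representation of degree at least 2 of Ω⁺_{2n}(F) (the commutator subgroup of the isometry group of the hyperbolic quadratic form x₁y₁ + ⋯ + x_ny_n) has degree at least (q^n − 1)(q^{n−1} + q)/(q² − 1). -/
theorem result {F : Type*} [Field F] [Fintype F] (n : ℕ) (hn : 4 ≤ n) (h3 : 3 < Fintype.card F) :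
    (∀ (k : ℕ) (ρ : Representation ℂ (Cfsg.Omega F (Cfsg.quadFormPlus n F)) (Fin k → ℂ)), ρ.IsIrreducible → 2 ≤ k → (Fintype.card F ^ n - 1) * (Fintype.card F ^ (n - 1) + Fintype.card F) / (Fintype.card F ^ 2 - 1) ≤ k) := by
  classical
  obtain ⟨m, rfl⟩ : ∃ m, n = m + 3 := ⟨n - 3, by omega⟩
  intro k ρ hirr hk
  rw [Cfsg.Agent.H122.OrthPlus.bound_plus (by omega)]
  have hG : Cfsg.Agent.LieClassical.OrthTrans.Good (Cfsg.Agent.LieClassical.OrthForms.plusForm (m + 3) F) :=
    Cfsg.Agent.LieClassical.OrthFinite.good_of_finite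
      (Cfsg.Agent.LieClassical.OrthForms.nondeg_plusForm (m + 3) F) (by
        rw [Module.finrank_fintype_fun_eq_card, Fintype.card_sum, Fintype.card_fin]; omega)
  obtain ⟨e⟩ := Cfsg.Agent.H122.OrthPlus.omega_equiv hG
  rw [Cfsg.Agent.LieClassical.OrthForms.coe_plusForm] at e
  exact ((Cfsg.Agent.H122.OrthPlus.minDeg_plus (by omega) m).congr e).irr k ρ hirr hk

end Cfsg.Agent.S2345
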