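import Cfsg.Statements.S4460
import Cfsg.Agent.H597.ThreeDegD

set_option autoImplicit false
open Cfsg

namespace Cfsg.Agent.S4460

/-- A finite group with exactly three distinct irreducible character degrees is solvable of derived length at most 3: its third derived subgroup is trivial. -/
theorem result {G : Type*} [Group G] [Finite G] (hcd : Nat.card {n : ℕ // ∃ χ : Cfsg.IrrCharacter G, Cfsg.charDegree (χ : G → ℂ) = n} = 3) : derivedSeries G 3 = ⊥ := by
  have h1 : {n : ℕ | ∃ χ : Cfsg.IrrCharacter G, Cfsg.charDegree (χ : G → ℂ) = n}.ncard = 3 := hcd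
  obtain ⟨a, b, c, -, -, -, h2⟩ := Set.ncard_eq_three.1 h1
  have h3 : (1 : ℕ) ∈ ({a, b, c} : Set ℕ) := by
    rw [← h2]
    exact ⟨⟨1, Characters.Core.isIrr_one⟩, Blocks.Basic.charDegree_of_eq (by simp)⟩
  have h4 : ∀ χ : G → ℂ, IsIrrCharacter G χ →
      charDegree χ = a ∨ charDegree χ = b ∨ charDegree χ = c := by
    intro χ hχ
    have : charDegree χ ∈ ({a, b, c} : Set ℕ) := by
      rw [← h2]; exact ⟨⟨χ, hχ⟩, rfl⟩
    simpa using this
  rcases h3 with h | h | h
  · exact H597.ThreeDegD.derived_three (m := b) (n := c) (fun χ hχ => by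
      rcases h4 χ hχ with h5 | h5 | h5
      · exact Or.inl (h5.trans h.symm)
      · exact Or.inr (Or.inl h5)
      · exact Or.inr (Or.inr h5))
  · exact H597.ThreeDegD.derived_three (m := a) (n := c) (fun χ hχ => by
      rcases h4 χ hχ with h5 | h5 | h5
      · exact Or.inr (Or.inl h5)
      · exact Or.inl (h5.trans h.symm)
      · exact Or.inr (Or.inr h5))
  · exact H597.ThreeDegD.derived_three (m := a) (n := b) (fun χ hχ => by
      rcases h4 χ hχ with h5 | h5 | h5
      · exact Or.inr (Or.inl h5)
      · exact Or.inr (Or.inr h5)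
      · exact Or.inl (h5.trans (Set.mem_singleton_iff.1 h).symm))

end Cfsg.Agent.S4460
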