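import Cfsg.Statements.S5096
import Cfsg.Agent.H802.FusBasic

set_option autoImplicit false
open Cfsg

namespace Cfsg.Agent.S5096

open Cfsg.FusionSystem Cfsg.Agent.H802

variable {Ω : Type*} [Group Ω] {S : Subgroup Ω}

/-- In pointwise form: the image of `Q` under an extension `ψ` is `Q`. -/
theorem map_eq_iff {R Q : Subgroup Ω} (hQR : Q ≤ R) (ψ : R →* Ω) :
    (Q.subgroupOf R).map ψ = Q ↔ (∀ (x : Ω) (hx : x ∈ Q), ψ ⟨x, hQR hx⟩ ∈ Q) ∧
      ∀ y ∈ Q, ∃ (x : Ω) (hx : x ∈ Q), ψ ⟨x, hQR hx⟩ = y := by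
  constructor
  · intro h
    constructor
    · intro x hx
      rw [← h]
      exact ⟨⟨x, hQR hx⟩, hx, rfl⟩
    · intro y hy
      rw [← h] at hy
      obtain ⟨x, hx, rfl⟩ := hy
      exact ⟨x, hx, rfl⟩
  · rintro ⟨h1, h2⟩
    ext y
    constructor
    · rintro ⟨x, hx, rfl⟩
      exact h1 x hx
    · intro hy
      obtain ⟨x, hx, rfl⟩ := h2 y hy
      exact ⟨⟨x, hQR hx⟩, hx, rfl⟩

/-- Pointwise form of membership in the maps of the normalizer system. -/
theorem mem_normalizerHom_iff (F : FusionSystem S) (Q P : Subgroup Ω) (φ : P →* Ω) :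
    φ ∈ F.normalizerHom Q P ↔ φ ∈ F.Hom P ∧ P ≤ normalizerIn S Q ∧
      (∀ x : P, φ x ∈ normalizerIn S Q) ∧
      ∃ ψ ∈ F.Hom (P ⊔ Q), (∀ x : P, ψ (Subgroup.inclusion le_sup_left x) = φ x) ∧
        (∀ (x : Ω) (hx : x ∈ Q), ψ ⟨x, (le_sup_right : Q ≤ P ⊔ Q) hx⟩ ∈ Q) ∧
        ∀ y ∈ Q, ∃ (x : Ω) (hx : x ∈ Q), ψ ⟨x, (le_sup_right : Q ≤ P ⊔ Q) hx⟩ = y := by
  unfold FusionSystem.normalizerHom
  simp only [Set.mem_ofPred_eq, map_eq_iff (le_sup_right : Q ≤ P ⊔ Q)]

/-- For any fusion system over a subgroup S and any Q ≤ S, the maps of the normalizer system N_F(Q) — those maps between subgroups of N_S(Q) that extend to the subgroup generated with Q carrying Q onto Q — form a fusion system over N_S(Q). -/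
theorem result {Ω : Type*} [Group Ω] {S : Subgroup Ω} (F : Cfsg.FusionSystem S) (Q : Subgroup Ω) (hQ : Q ≤ S) : ∃ E : Cfsg.FusionSystem (Cfsg.FusionSystem.normalizerIn S Q), F.IsNormalizerSystem Q E := by
  refine ⟨{ Hom := F.normalizerHom Q
            le_of_mem := fun h => ⟨h.2.1, h.2.2.1⟩
            injective_of_mem := fun h => F.injective_of_mem h.1
            conj_mem := ?_
            comp_mem := ?_
            inv_mem := ?_ }, fun P => rfl⟩
  · intro P g hP hg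
    have hPS : P ≤ S := hP.trans inf_le_left
    rw [mem_normalizerHom_iff]
    refine ⟨F.conj_mem hPS hg.1, hP, fun x => ?_, conjHom (P ⊔ Q) g, F.conj_mem (sup_le hPS hQ) hg.1,
      fun x => rfl, fun x hx => ?_, fun y hy => ?_⟩
    · exact (normalizerIn S Q).mul_mem ((normalizerIn S Q).mul_mem hg (hP x.2))
        ((normalizerIn S Q).inv_mem hg)
    · exact (Subgroup.mem_normalizer_iff.1 hg.2 x).1 hx
    · refine ⟨g⁻¹ * y * g, ?_, ?_⟩
      · have := (Subgroup.mem_normalizer_iff.1 ((Subgroup.normalizer (Q : Set Ω)).inv_mem hg.2) y).1 hy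
        simpa using this
      · show g * (g⁻¹ * y * g) * g⁻¹ = y
        group
  · intro P P' φ ψ hφ hψ h
    rw [mem_normalizerHom_iff] at hφ hψ ⊢
    obtain ⟨hφ1, hP, hφv, φ', hφ', hφe, hφQ, hφQ'⟩ := hφ
    obtain ⟨hψ1, hP', hψv, ψ', hψ', hψe, hψQ, hψQ'⟩ := hψ
    have hval : ∀ x : ↥(P ⊔ Q), φ' x ∈ P' ⊔ Q := by
      have hle : P ⊔ Q ≤ ((P' ⊔ Q).comap φ').map (P ⊔ Q).subtype := by
        refine sup_le ?_ ?_
        · intro x hx
          refine ⟨Subgroup.inclusion le_sup_left ⟨x, hx⟩, ?_, rfl⟩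
          show φ' (Subgroup.inclusion le_sup_left ⟨x, hx⟩) ∈ P' ⊔ Q
          rw [hφe]
          exact le_sup_left (a := P') (b := Q) (h ⟨x, hx⟩)
        · intro x hx
          refine ⟨⟨x, le_sup_right (a := P) hx⟩, ?_, rfl⟩
          exact le_sup_right (a := P') (b := Q) (hφQ x hx)
      intro x
      obtain ⟨y, hy, hyx⟩ := hle x.2
      have : y = x := Subtype.ext hyx
      rw [← this]
      exact hy
    refine ⟨F.comp_mem hφ1 hψ1 h, hP, fun x => hψv _, _, F.comp_mem hφ' hψ' hval, fun x => ?_,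
      fun x hx => ?_, fun y hy => ?_⟩
    · have e : φ'.codRestrict (P' ⊔ Q) hval (Subgroup.inclusion le_sup_left x) =
          Subgroup.inclusion le_sup_left (φ.codRestrict P' h x) := Subtype.ext (hφe x)
      show ψ' (φ'.codRestrict (P' ⊔ Q) hval (Subgroup.inclusion le_sup_left x)) =
        ψ (φ.codRestrict P' h x)
      rw [e, hψe]
    · exact hψQ _ (hφQ x hx)
    · obtain ⟨z, hz, rfl⟩ := hψQ' y hy
      obtain ⟨x, hx, rfl⟩ := hφQ' z hz
      exact ⟨x, hx, rfl⟩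
  · intro P φ hφ
    rw [mem_normalizerHom_iff] at hφ
    obtain ⟨hφ1, hP, hφv, φ', hφ', hφe, hφQ, hφQ'⟩ := hφ
    -- the image of the extension
    have hr : φ'.range = φ.range ⊔ Q := by
      apply le_antisymm
      · have hle : P ⊔ Q ≤ ((φ.range ⊔ Q).comap φ').map (P ⊔ Q).subtype := by
          refine sup_le ?_ ?_
          · intro x hx
            refine ⟨Subgroup.inclusion le_sup_left ⟨x, hx⟩, ?_, rfl⟩
            show φ' (Subgroup.inclusion le_sup_left ⟨x, hx⟩) ∈ φ.range ⊔ Q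
            rw [hφe]
            exact le_sup_left (a := φ.range) (b := Q) ⟨_, rfl⟩
          · intro x hx
            refine ⟨⟨x, le_sup_right (a := P) hx⟩, ?_, rfl⟩
            exact le_sup_right (a := φ.range) (b := Q) (hφQ x hx)
        rintro _ ⟨x, rfl⟩
        obtain ⟨y, hy, hyx⟩ := hle x.2
        have : y = x := Subtype.ext hyx
        rw [← this]
        exact hy
      · refine sup_le ?_ ?_
        · rintro _ ⟨x, rfl⟩
          exact ⟨_, hφe x⟩
        · intro y hy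
          obtain ⟨x, hx, rfl⟩ := hφQ' y hy
          exact ⟨_, rfl⟩
    obtain ⟨χ', hχ', hχr, hχe, hχe'⟩ := exists_inv hφ' hr
    obtain ⟨χ, hχ, hχe1⟩ := F.inv_mem hφ1
    refine ⟨χ, ?_, hχe1⟩
    rw [mem_normalizerHom_iff]
    refine ⟨hχ, ?_, ?_, χ', hχ', ?_, ?_, ?_⟩
    · rintro _ ⟨x, rfl⟩
      exact hφv x
    · rintro ⟨_, x, rfl⟩
      have := hχe1 x
      rw [this]
      exact hP x.2
    · rintro ⟨_, x, rfl⟩
      rw [hχe1 x]
      have h1 := hχe (Subgroup.inclusion le_sup_left x)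
        (by rw [hφe]; exact le_sup_left (a := φ.range) (b := Q) ⟨_, rfl⟩)
      have h2 : (Subgroup.inclusion le_sup_left ⟨φ x, x, rfl⟩ : ↥(φ.range ⊔ Q)) =
          ⟨φ' (Subgroup.inclusion le_sup_left x),
            (by rw [hφe]; exact le_sup_left (a := φ.range) (b := Q) ⟨_, rfl⟩)⟩ :=
        Subtype.ext (hφe x).symm
      rw [h2, h1]
      rfl
    · intro y hy
      obtain ⟨x, hx, rfl⟩ := hφQ' y hy
      rw [hχe]
      exact hx
    · intro y hy
      refine ⟨_, hφQ y hy, ?_⟩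
      rw [hχe]

end Cfsg.Agent.S5096
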