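import Cfsg.Statements.S5179
import Cfsg.Agent.H765.Ess
import Cfsg.Agent.Transfer.Extraspecial

set_option autoImplicit false
universe u
open Cfsg

namespace Cfsg.Agent.S5179

open Cfsg.FusionSystem Cfsg.Agent.H802 Cfsg.Agent.EvenType.StrongP
open scoped commutatorElement

/-- `M`, `Mᵍ` share a nontrivial `p`-element only for `g ∈ M`. -/
theorem mem_of_inter {X : Type*} [Group X] [Finite X] {p : ℕ} [Fact p.Prime] {M : Subgroup X}
    (hM : IsStronglyPEmbedded p M) {u g : X} (hu : u ∈ M) (hug : g⁻¹ * u * g ∈ M)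
    (hup : orderOf u = p) : g ∈ M := by
  by_contra hg
  apply inter hM hg
  have h1 : u ∈ M ⊓ M.map (MulAut.conj g).toMonoidHom := ⟨hu, mem_map_conj.2 hug⟩
  have h2 : orderOf (⟨u, h1⟩ : ↥(M ⊓ M.map (MulAut.conj g).toMonoidHom)) ∣ _ := orderOf_dvd_natCard _
  rwa [Subgroup.orderOf_mk, hup] at h2

theorem centralizer_mem {X : Type*} [Group X] [Finite X] {p : ℕ} [Fact p.Prime] {M : Subgroup X}
    (hM : IsStronglyPEmbedded p M) {u g : X} (hu : u ∈ M) (hug : g * u = u * g)
    (hup : orderOf u = p) : g ∈ M := by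
  refine mem_of_inter hM hu ?_ hup
  rw [mul_assoc, ← hug, inv_mul_cancel_left]
  exact hu

/-- A `p`-subgroup lies in a strongly `p`-embedded subgroup. -/
theorem exists_strong_le {X : Type*} [Group X] [Finite X] {p : ℕ} [Fact p.Prime] {M : Subgroup X}
    (hM : IsStronglyPEmbedded p M) {T : Subgroup X} (hT : IsPGroup p T) :
    ∃ M' : Subgroup X, IsStronglyPEmbedded p M' ∧ T ≤ M' := by
  obtain ⟨h1, h2, P, hP⟩ := hM
  have hPM := sylow_le h1 hP
  obtain ⟨Q, hQ⟩ := hT.exists_le_sylow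
  obtain ⟨g, hg⟩ := MulAction.exists_smul_eq X P Q
  have hPQ : (Q : Subgroup X) = (P : Subgroup X).map (MulAut.conj g).toMonoidHom := by
    rw [← hg]; rfl
  refine ⟨M.map (MulAut.conj g).toMonoidHom, ?_, ?_⟩
  · have hN := (normIn ⟨h1, h2, P, hP⟩).conj g
    refine of_normIn ?_ ?_ hN
    · have h3 := dvd_card (p := p) (Y := M) ⟨h1, h2, P, hP⟩
      have e : Nat.card (M.map (MulAut.conj g).toMonoidHom) = Nat.card M :=
        (Nat.card_congr (M.equivMapOfInjective _ (MulAut.conj g).injective).toEquiv).symm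
      rwa [e]
    · intro h
      apply h2
      rw [eq_top_iff]
      intro x _
      have : g * x * g⁻¹ ∈ M.map (MulAut.conj g).toMonoidHom := by rw [h]; trivial
      rw [mem_map_conj] at this
      have e : g⁻¹ * (g * x * g⁻¹) * g = x := by group
      rwa [e] at this
  · refine hQ.trans ?_
    rw [hPQ]
    exact Subgroup.map_mono hPM

/-- Let p be an odd prime, S a finite p-group of order at least p⁶ containing an extraspecial subgroup Q of index p, and F a saturated fusion system over S whose largest subgroup normal in F is trivial. Then no proper subgroup of Q is essential in F: an essential subgroup of F contained in Q equals Q. -/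
theorem result {Ω : Type u} [Group Ω] {S : Subgroup Ω} [Finite S] (p : ℕ) [Fact p.Prime] (hp : Odd p) (hS : IsPGroup p S)
    (Q : Subgroup Ω) (hQS : Q ≤ S) (hQ : Cfsg.IsExtraspecial p ↥Q) (hQi : (Q.subgroupOf S).index = p)
    (h6 : p ^ 6 ≤ Nat.card S)
    (F : Cfsg.FusionSystem S) (hF : F.IsSaturated p) (hO : F.core = ⊥)
    (E : Subgroup Ω) (hEQ : E ≤ Q) (hE : F.IsEssential p E) : E = Q := by
  classical
  have hpp : p.Prime := Fact.out
  have hES : E ≤ S := hEQ.trans hQS
  have hfinQ : Finite Q := finite_of_le hQS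
  have hfinE : Finite E := finite_of_le hES
  have hC : centralizerIn S E ≤ E := hE.1.2 E (isConj_refl F hES)
  obtain ⟨⟨hQp, hfr, hcomm⟩, hcard⟩ := hQ
  have hQex : Cfsg.IsExtraspecial p ↥Q := ⟨⟨hQp, hfr, hcomm⟩, hcard⟩
  -- the centre `Z` of `Q` as a subgroup of the ambient group
  set Z : Subgroup Ω := (Subgroup.center Q).map Q.subtype with hZdef
  have hfinZ : Finite Z := by
    have hle : Z ≤ Q := by rw [hZdef]; exact Subgroup.map_subtype_le _
    exact finite_of_le (hle.trans hQS)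
  have hZcard : Nat.card Z = p := by
    rw [← hcard]
    exact (Nat.card_congr ((Subgroup.center Q).equivMapOfInjective _ Q.subtype_injective).toEquiv).symm
  have hZmem : ∀ x : Ω, x ∈ Z ↔ ∃ h : x ∈ Q, (⟨x, h⟩ : Q) ∈ Subgroup.center Q := by
    intro x
    constructor
    · rintro ⟨y, hy, rfl⟩
      exact ⟨y.2, hy⟩
    · rintro ⟨h, h'⟩
      exact ⟨_, h', rfl⟩
  have hZcent : ∀ z ∈ Z, ∀ q ∈ Q, q * z = z * q := by
    intro z hz q hq
    obtain ⟨h, h'⟩ := (hZmem z).1 hz
    have := Subgroup.mem_center_iff.1 h' ⟨q, hq⟩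
    exact congrArg Subtype.val this
  have hZQ : Z ≤ Q := fun z hz => ((hZmem z).1 hz).1
  have hZE : Z ≤ E := by
    intro z hz
    apply hC
    refine ⟨hQS (hZQ hz), Subgroup.mem_centralizer_iff.2 fun e he => hZcent z hz e (hEQ he)⟩
  -- commutators of elements of `Q` lie in `Z`
  have hcommZ : ∀ a ∈ Q, ∀ b ∈ Q, a * b * a⁻¹ * b⁻¹ ∈ Z := by
    intro a ha b hb
    rw [hZmem]
    refine ⟨Q.mul_mem (Q.mul_mem (Q.mul_mem ha hb) (Q.inv_mem ha)) (Q.inv_mem hb), ?_⟩
    have h1 : ⁅(⟨a, ha⟩ : Q), (⟨b, hb⟩ : Q)⁆ ∈ commutator Q :=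
      Subgroup.commutator_mem_commutator (Subgroup.mem_top _) (Subgroup.mem_top _)
    rw [hcomm] at h1
    exact h1
  have hZp : ∀ z ∈ Z, z ^ p = 1 := by
    intro z hz
    have h1 := pow_card_eq_one' (G := Z) (x := ⟨z, hz⟩)
    rw [hZcard] at h1
    exact congrArg Subtype.val h1
  -- elements of `Z` different from `1` generate `Z`
  have hgen : ∀ z ∈ Z, z ≠ 1 → ∀ w ∈ Z, ∃ k : ℤ, w = z ^ k := by
    intro z hz hz1 w hw
    have h1 : (⟨z, hz⟩ : Z) ≠ 1 := fun h => hz1 (congrArg Subtype.val h)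
    have h2 := mem_zpowers_of_prime_card (g := (⟨z, hz⟩ : Z)) (g' := ⟨w, hw⟩) hZcard h1
    obtain ⟨k, hk⟩ := h2
    exact ⟨k, (congrArg Subtype.val hk).symm⟩
  obtain ⟨z₀, hz₀⟩ : ∃ z : Z, z ≠ 1 := by
    have : Nontrivial Z := by
      rw [← Finite.one_lt_card_iff_nontrivial, hZcard]
      exact hpp.one_lt
    exact exists_ne 1
  -- conjugation by elements of `Q` on `E`
  have hQN : ∀ q ∈ Q, q ∈ Subgroup.normalizer (E : Set Ω) := by
    have h1 : ∀ q ∈ Q, ∀ e ∈ E, q * e * q⁻¹ ∈ E := by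
      intro q hq e he
      have : q * e * q⁻¹ = (q * e * q⁻¹ * e⁻¹) * e := by group
      rw [this]
      exact E.mul_mem (hZE (hcommZ q hq e (hEQ he))) he
    intro q hq
    rw [Subgroup.mem_normalizer_iff]
    intro e
    refine ⟨h1 q hq e, fun h => ?_⟩
    have := h1 q⁻¹ (Q.inv_mem hq) _ h
    have e' : q⁻¹ * (q * e * q⁻¹) * q⁻¹⁻¹ = e := by group
    rwa [e'] at this
  by_contra hne
  -- `Z` is not invariant under `Aut_F(E)`
  have hnotinv : ∃ α ∈ F.autGroup E, ∃ x : E, (x : Ω) ∈ Z ∧ ((α x : E) : Ω) ∉ Z := by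
    by_contra hno
    push Not at hno
    apply hne
    refine le_antisymm hEQ fun q hq => ?_
    obtain ⟨τ, hτ⟩ := exists_conjAut (hQN q hq)
    let c : ℕ → Subgroup E := fun i => if i = 0 then ⊤ else if i = 1 then Z.subgroupOf E else ⊥
    refine Cfsg.Agent.H765.Ess.mem_of_chain hS hE 2 c (by simp [c]) (by simp [c]) ?_ (hQS hq) hτ ?_
    · intro i hi α hα x hx
      interval_cases i
      · simp [c]
      · simp only [c, one_ne_zero, if_false, if_true, Subgroup.mem_subgroupOf] at hx ⊢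
        exact hno α hα x hx
      · simp only [c, OfNat.ofNat_ne_zero, OfNat.ofNat_ne_one, if_false, Subgroup.mem_bot] at hx ⊢
        rw [hx, map_one]
    · intro i hi x hx
      interval_cases i
      · simp only [c, zero_add, one_ne_zero, if_false, if_true, Subgroup.mem_subgroupOf]
        show (x : Ω)⁻¹ * ((τ x : E) : Ω) ∈ Z
        rw [hτ]
        have h1 := hcommZ (x : Ω)⁻¹ (Q.inv_mem (hEQ x.2)) q hq
        have e' : (x : Ω)⁻¹ * (q * (x : Ω) * q⁻¹) = (x : Ω)⁻¹ * q * (x : Ω)⁻¹⁻¹ * q⁻¹ := by group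
        rwa [e']
      · simp only [c, one_ne_zero, if_false, if_true, Subgroup.mem_subgroupOf] at hx
        simp only [c, Nat.reduceAdd, OfNat.ofNat_ne_zero, OfNat.ofNat_ne_one, if_false,
          Subgroup.mem_bot]
        apply Subtype.ext
        show (x : Ω)⁻¹ * ((τ x : E) : Ω) = 1
        rw [hτ, hZcent _ hx q hq]
        group
  -- `E` is abelian
  have hEab : ∀ a ∈ E, ∀ b ∈ E, a * b = b * a := by
    by_contra hno
    push Not at hno
    obtain ⟨a, ha, b, hb, hab⟩ := hno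
    obtain ⟨α, hα, x, hx, hαx⟩ := hnotinv
    apply hαx
    have h1 := hcommZ a (hEQ ha) b (hEQ hb)
    have h2 : a * b * a⁻¹ * b⁻¹ ≠ 1 := by
      intro h
      apply hab
      have := mul_inv_eq_one.1 h
      rw [mul_inv_eq_iff_eq_mul] at this
      exact this
    obtain ⟨k, hk⟩ := hgen _ h1 h2 x hx
    have h3 : x = (⟨a, ha⟩ * ⟨b, hb⟩ * (⟨a, ha⟩ : E)⁻¹ * (⟨b, hb⟩ : E)⁻¹) ^ k := Subtype.ext hk
    rw [h3, map_zpow, map_mul, map_mul, map_mul, map_inv, map_inv]
    show ((α ⟨a, ha⟩ : E) * (α ⟨b, hb⟩ : E) * ((α ⟨a, ha⟩ : E) : Ω)⁻¹ * ((α ⟨b, hb⟩ : E) : Ω)⁻¹ : Ω) ^ k ∈ Z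
    exact Z.zpow_mem (hcommZ _ (hEQ (α _).2) _ (hEQ (α _).2)) k
  -- `E` has exponent `p`
  have hpow : ∀ a ∈ Q, a ^ p ∈ Z := by
    intro a ha
    rw [hZmem]
    exact ⟨Q.pow_mem ha p, Cfsg.Agent.Transfer.Extraspecial.pow_mem_center hQex ⟨a, ha⟩⟩
  have hEexp : ∀ a ∈ E, a ^ p = 1 := by
    by_contra hno
    push Not at hno
    obtain ⟨a, ha, hap⟩ := hno
    obtain ⟨α, hα, x, hx, hαx⟩ := hnotinv
    apply hαx
    obtain ⟨k, hk⟩ := hgen _ (hpow a (hEQ ha)) hap x hx
    have h3 : x = ((⟨a, ha⟩ : E) ^ p) ^ k := Subtype.ext hk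
    rw [h3, map_zpow, map_pow]
    show ((((α ⟨a, ha⟩ : E) : Ω)) ^ p) ^ k ∈ Z
    exact Z.zpow_mem (hpow _ (hEQ (α _).2)) k
  -- centralizers in `Q` of elements of `E`
  have hcQ : Nat.card Q * p = Nat.card S := by
    have h1 := Subgroup.card_mul_index (Q.subgroupOf S)
    rw [hQi] at h1
    rw [← h1]
    congr 1
    exact (Nat.card_congr (Subgroup.subgroupOfEquivOfLe hQS).toEquiv).symm
  have h5 : p ^ 5 ≤ Nat.card Q := by
    have : p ^ 5 * p ≤ Nat.card Q * p := by rw [hcQ, ← pow_succ]; exact h6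
    exact Nat.le_of_mul_le_mul_right this hpp.pos
  -- the map `q ↦ [q, v]` and its kernel
  have hcent : ∀ v ∈ E, ∃ q ∈ Q, q ∉ E ∧ q * v = v * q := by
    intro v hv
    by_contra hno
    push Not at hno
    -- `C_Q(v) = E`
    have hCv : ∀ q ∈ Q, q * v = v * q → q ∈ E := fun q hq h => by
      by_contra hqE
      exact hno q hq hqE h
    -- two commutators with `v`
    let f : Q →* Z :=
      { toFun := fun q => ⟨(q : Ω) * v * (q : Ω)⁻¹ * v⁻¹, hcommZ q q.2 v (hEQ hv)⟩
        map_one' := Subtype.ext (by simp)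
        map_mul' := fun a b => by
          apply Subtype.ext
          show (a : Ω) * b * v * ((a : Ω) * b)⁻¹ * v⁻¹ =
            (a : Ω) * v * (a : Ω)⁻¹ * v⁻¹ * ((b : Ω) * v * (b : Ω)⁻¹ * v⁻¹)
          have hz := hZcent _ (hcommZ b b.2 v (hEQ hv)) a a.2
          calc (a : Ω) * b * v * ((a : Ω) * b)⁻¹ * v⁻¹
              = ((a : Ω) * ((b : Ω) * v * (b : Ω)⁻¹ * v⁻¹)) * v * (a : Ω)⁻¹ * v⁻¹ := by group
            _ = (((b : Ω) * v * (b : Ω)⁻¹ * v⁻¹) * (a : Ω)) * v * (a : Ω)⁻¹ * v⁻¹ := by rw [hz]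
            _ = ((b : Ω) * v * (b : Ω)⁻¹ * v⁻¹) * ((a : Ω) * v * (a : Ω)⁻¹ * v⁻¹) := by group
            _ = ((a : Ω) * v * (a : Ω)⁻¹ * v⁻¹) * ((b : Ω) * v * (b : Ω)⁻¹ * v⁻¹) := by
              rw [hZcent _ (hcommZ b b.2 v (hEQ hv)) _ (hZQ (hcommZ a a.2 v (hEQ hv)))] }
    have hker : ∀ q : Q, q ∈ f.ker → (q : Ω) ∈ E := by
      intro q hq
      apply hCv q q.2
      have h1 : (q : Ω) * v * (q : Ω)⁻¹ * v⁻¹ = 1 := congrArg Subtype.val (MonoidHom.mem_ker.1 hq)
      have := mul_inv_eq_one.1 h1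
      rw [mul_inv_eq_iff_eq_mul] at this
      exact this
    -- `|Q : E| ≤ p`, then pick `q` outside `E`
    obtain ⟨q, hqQ, hqE⟩ : ∃ q ∈ Q, q ∉ E := by
      by_contra h
      push Not at h
      exact hne (le_antisymm hEQ h)
    let g : E →* Z :=
      { toFun := fun e => ⟨q * (e : Ω) * q⁻¹ * (e : Ω)⁻¹, hcommZ q hqQ e (hEQ e.2)⟩
        map_one' := Subtype.ext (by simp)
        map_mul' := fun a b => by
          apply Subtype.ext
          show q * ((a : Ω) * b) * q⁻¹ * ((a : Ω) * b)⁻¹ =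
            q * (a : Ω) * q⁻¹ * (a : Ω)⁻¹ * (q * (b : Ω) * q⁻¹ * (b : Ω)⁻¹)
          have hz := hZcent _ (hcommZ q hqQ b (hEQ b.2)) a (hEQ a.2)
          calc q * ((a : Ω) * b) * q⁻¹ * ((a : Ω) * b)⁻¹
              = q * (a : Ω) * q⁻¹ * (q * (b : Ω) * q⁻¹ * (b : Ω)⁻¹) * (a : Ω)⁻¹ := by group
            _ = q * (a : Ω) * q⁻¹ * ((q * (b : Ω) * q⁻¹ * (b : Ω)⁻¹) * (a : Ω)⁻¹) := by group
            _ = q * (a : Ω) * q⁻¹ * ((a : Ω)⁻¹ * (q * (b : Ω) * q⁻¹ * (b : Ω)⁻¹)) := by
              rw [hZcent _ (hcommZ q hqQ b (hEQ b.2)) _ (Q.inv_mem (hEQ a.2))]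
            _ = _ := by group }
    have hcardf : Nat.card Q ≤ Nat.card E * p := by
      have h1 : Nat.card Q = Nat.card f.ker * f.ker.index := (Subgroup.card_mul_index _).symm
      have h2 : f.ker.index ≤ p := by
        rw [Subgroup.index_ker, ← hZcard]
        exact Subgroup.card_le_card_group _
      have h3 : Nat.card f.ker ≤ Nat.card E := by
        refine Nat.card_le_card_of_injective (fun x : f.ker => (⟨(x : Q), hker x x.2⟩ : E)) ?_
        intro a b hab
        have := congrArg Subtype.val hab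
        exact Subtype.ext (Subtype.ext this)
      rw [h1]
      exact Nat.mul_le_mul h3 h2
    -- index of `E` in `Q` is at most `p`, hence exactly `p`, and `Q = E ⟨q⟩`
    have hEi : (E.subgroupOf Q).index ≤ p := by
      have h1 := Subgroup.card_mul_index (E.subgroupOf Q)
      have h2 : Nat.card (E.subgroupOf Q) = Nat.card E :=
        Nat.card_congr (Subgroup.subgroupOfEquivOfLe hEQ).toEquiv
      rw [h2] at h1
      rw [← h1] at hcardf
      exact Nat.le_of_mul_le_mul_left hcardf Nat.card_pos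
    have hmax : ∀ R : Subgroup Q, E.subgroupOf Q < R → R = ⊤ := by
      intro R hR
      have h1 := Subgroup.relIndex_mul_index hR.le
      have h2 : (E.subgroupOf Q).relIndex R ≠ 1 := by
        rw [Ne, Subgroup.relIndex_eq_one]
        exact not_le_of_gt hR
      have h3 : R.index ∣ Nat.card Q := Subgroup.index_dvd_card R
      obtain ⟨m, hm⟩ := IsPGroup.iff_card.1 hQp
      have h4 : (E.subgroupOf Q).relIndex R ∣ Nat.card Q := by
        refine dvd_trans (Dvd.intro _ h1) (Subgroup.index_dvd_card _)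
      rw [hm] at h3 h4
      obtain ⟨a, ha, ha'⟩ := (Nat.dvd_prime_pow hpp).1 h3
      obtain ⟨b, hb, hb'⟩ := (Nat.dvd_prime_pow hpp).1 h4
      have hb0 : b ≠ 0 := by
        rintro rfl
        exact h2 (by rw [hb', pow_zero])
      have ha0 : a = 0 := by
        by_contra ha0
        rw [← h1, ha', hb', ← pow_add] at hEi
        have : p ^ 2 ≤ p ^ (b + a) := Nat.pow_le_pow_right hpp.pos (by omega)
        have h7 := this.trans hEi
        nlinarith [hpp.two_le]
      rw [ha0, pow_zero] at ha'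
      exact Subgroup.index_eq_one.1 ha'
    have hgker : ∀ e : E, e ∈ g.ker → (e : Ω) ∈ Z := by
      intro e he
      have h1 : q * (e : Ω) = (e : Ω) * q := by
        have h1 : q * (e : Ω) * q⁻¹ * (e : Ω)⁻¹ = 1 := congrArg Subtype.val (MonoidHom.mem_ker.1 he)
        have := mul_inv_eq_one.1 h1
        rw [mul_inv_eq_iff_eq_mul] at this
        exact this
      rw [hZmem]
      refine ⟨hEQ e.2, Subgroup.mem_center_iff.2 ?_⟩
      have htop : Subgroup.centralizer ({(⟨e, hEQ e.2⟩ : Q)} : Set Q) = ⊤ := by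
        apply hmax
        refine lt_of_le_of_ne ?_ ?_
        · intro x hx
          rw [Subgroup.mem_centralizer_singleton_iff]
          exact Subtype.ext (hEab x (Subgroup.mem_subgroupOf.1 hx) e e.2)
        · intro h
          have : (⟨q, hqQ⟩ : Q) ∈ Subgroup.centralizer ({(⟨e, hEQ e.2⟩ : Q)} : Set Q) := by
            rw [Subgroup.mem_centralizer_singleton_iff]
            exact Subtype.ext h1
          rw [← h] at this
          exact hqE (Subgroup.mem_subgroupOf.1 this)
      intro y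
      have : y ∈ Subgroup.centralizer ({(⟨e, hEQ e.2⟩ : Q)} : Set Q) := by rw [htop]; trivial
      rw [Subgroup.mem_centralizer_singleton_iff] at this
      exact this
    have hEcard : Nat.card E ≤ p * p := by
      have h1 : Nat.card E = Nat.card g.ker * g.ker.index := (Subgroup.card_mul_index _).symm
      have h2 : g.ker.index ≤ p := by
        rw [Subgroup.index_ker, ← hZcard]
        exact Subgroup.card_le_card_group _
      have h3 : Nat.card g.ker ≤ p := by
        rw [← hZcard]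
        refine Nat.card_le_card_of_injective (fun x : g.ker => (⟨(x : E), hgker x x.2⟩ : Z)) ?_
        intro a b hab
        have := congrArg Subtype.val hab
        exact Subtype.ext (Subtype.ext this)
      rw [h1]
      exact Nat.mul_le_mul h3 h2
    have h9 : p ^ 5 ≤ p ^ 3 := by
      calc p ^ 5 ≤ Nat.card Q := h5
        _ ≤ Nat.card E * p := hcardf
        _ ≤ (p * p) * p := Nat.mul_le_mul_right _ hEcard
        _ = p ^ 3 := by ring
    exact absurd h9 (not_le.2 (Nat.pow_lt_pow_right hpp.one_lt (by norm_num)))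
  -- the strongly embedded subgroup of `Aut_F(E)`
  have hInn : (Inn E).subgroupOf (F.autGroup E) = ⊥ := by
    rw [eq_bot_iff]
    rintro ⟨α, hα⟩ ⟨u, hu⟩
    rw [Subgroup.mem_bot]
    apply Subtype.ext
    show α = 1
    rw [← show MulAut.conj u = α from hu]
    apply MulEquiv.ext
    intro x
    apply Subtype.ext
    show (u : Ω) * x * (u : Ω)⁻¹ = x
    rw [hEab u u.2 x x.2]
    group
  obtain ⟨_, M₀, hM₀⟩ := hE.2.2
  have hM₁ : ∃ M₁ : Subgroup (F.autGroup E), IsStronglyPEmbedded p M₁ := by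
    let π := QuotientGroup.mk' ((Inn E).subgroupOf (F.autGroup E))
    have hπi : Function.Injective π := by
      rw [← MonoidHom.ker_eq_bot_iff, QuotientGroup.ker_mk', hInn]
    have hπ : Function.Bijective π := ⟨hπi, QuotientGroup.mk'_surjective _⟩
    refine ⟨M₀.comap π, of_normIn ?_ ?_ ?_⟩
    · have h1 := dvd_card hM₀
      have h2 : Nat.card (M₀.comap π) = Nat.card M₀ := by
        have h3 : (M₀.comap π).map π = M₀ := Subgroup.map_comap_eq_self_of_surjective hπ.2 _
        conv_rhs => rw [← h3]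
        exact Nat.card_congr ((M₀.comap π).equivMapOfInjective π hπ.1).toEquiv
      rwa [h2]
    · intro h
      apply hM₀.2.1
      rw [← Subgroup.map_comap_eq_self_of_surjective hπ.2 M₀, h]
      exact Subgroup.map_top_of_surjective _ hπ.2
    · intro R hR hRM hR1 x hx
      have h1 := normIn hM₀ (R.map π) (hR.map π) (Subgroup.map_le_iff_le_comap.2 hRM)
        (fun h => hR1 ((Subgroup.map_eq_bot_iff_of_injective _ hπ.1).1 h))
      refine h1 ?_
      exact Subgroup.le_normalizer_map π ⟨x, hx, rfl⟩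
  obtain ⟨M₁, hM₁⟩ := hM₁
  -- `T = Aut_Q(E)`
  have hTA : autInducedBy Q E ≤ F.autGroup E := by
    intro α hα
    obtain ⟨g, hg, h⟩ := (mem_autInducedBy_iff Q E α).1 hα
    exact autInducedBy_le_autGroup F hES (conj_mem_autInducedBy (hQS hg) h)
  have hTp : IsPGroup p ((autInducedBy Q E).subgroupOf (F.autGroup E)) :=
    (isPGroup_autInducedBy hQp E).comap_of_injective _ (Subgroup.subtype_injective _)
  obtain ⟨M, hM, hTM⟩ := exists_strong_le hM₁ hTp
  -- every `α` moving `Z` lies in `M`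
  have key : ∀ α : F.autGroup E, ∀ x : E, (x : Ω) ∈ Z → (((α : MulAut E) x : E) : Ω) ∉ Z → α ∈ M := by
    rintro ⟨α, hα⟩ x hx hαx
    have hx1 : (x : Ω) ≠ 1 := by
      intro h
      apply hαx
      have : x = 1 := Subtype.ext h
      rw [this, map_one]
      exact Z.one_mem
    -- `x` generates `Z`
    have hxgen : ∀ w ∈ Z, ∃ k : ℤ, w = (x : Ω) ^ k := hgen x hx hx1
    obtain ⟨q, hqQ, hqE, hqc⟩ := hcent ((α x : E) : Ω) (α x).2
    have hyE : ((α⁻¹ x : E) : Ω) ∈ E := (α⁻¹ x).2
    obtain ⟨r, hrQ, hrE, hrc⟩ := hcent ((α⁻¹ x : E) : Ω) hyE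
    obtain ⟨τ, hτ⟩ := exists_conjAut (hQN q hqQ)
    obtain ⟨σ, hσ⟩ := exists_conjAut (hQN r hrQ)
    have hτT : τ ∈ autInducedBy Q E := (mem_autInducedBy_iff Q E τ).2 ⟨q, hqQ, hτ⟩
    have hσT : σ ∈ autInducedBy Q E := (mem_autInducedBy_iff Q E σ).2 ⟨r, hrQ, hσ⟩
    -- `τ` fixes `Z` and `α Z`; commutators of `τ` lie in `Z`
    have hτZ : ∀ w : E, (w : Ω) ∈ Z → τ w = w := by
      intro w hw
      apply Subtype.ext
      rw [hτ, hZcent _ hw q hqQ]
      group
    have hτc : ∀ w : E, ∃ k : ℤ, τ w = w * x ^ k := by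
      intro w
      have h1 := hcommZ (w : Ω)⁻¹ (Q.inv_mem (hEQ w.2)) q hqQ
      obtain ⟨k, hk⟩ := hxgen _ h1
      refine ⟨k, Subtype.ext ?_⟩
      rw [hτ]
      show q * (w : Ω) * q⁻¹ = (w : Ω) * (x : Ω) ^ k
      rw [← hk]
      group
    have hσc : ∀ w : E, ∃ k : ℤ, σ w = w * x ^ k := by
      intro w
      have h1 := hcommZ (w : Ω)⁻¹ (Q.inv_mem (hEQ w.2)) r hrQ
      obtain ⟨k, hk⟩ := hxgen _ h1
      refine ⟨k, Subtype.ext ?_⟩
      rw [hσ]
      show r * (w : Ω) * r⁻¹ = (w : Ω) * (x : Ω) ^ k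
      rw [← hk]
      group
    have hταx : τ (α x) = α x := by
      apply Subtype.ext
      rw [hτ, hqc]
      group
    have hσαx : σ (α⁻¹ x) = α⁻¹ x := by
      apply Subtype.ext
      rw [hσ, hrc]
      group
    set σ' : MulAut E := α * σ * α⁻¹ with hσ'
    have hσ'c : ∀ w : E, ∃ k : ℤ, σ' w = w * (α x) ^ k := by
      intro w
      obtain ⟨k, hk⟩ := hσc (α⁻¹ w)
      refine ⟨k, ?_⟩
      show α (σ (α⁻¹ w)) = _
      rw [hk, map_mul, map_zpow]
      have : α (α⁻¹ w) = w := α.apply_symm_apply w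
      rw [this]
    have hσ'x : σ' x = x := by
      show α (σ (α⁻¹ x)) = _
      rw [hσαx]
      exact α.apply_symm_apply x
    have hcomm : σ' * τ = τ * σ' := by
      apply MulEquiv.ext
      intro w
      show σ' (τ w) = τ (σ' w)
      obtain ⟨k, hk⟩ := hτc w
      obtain ⟨l, hl⟩ := hσ'c w
      have e1 : σ' (τ w) = w * (α x) ^ l * x ^ k := by
        rw [hk, map_mul, map_zpow, hσ'x, hl]
      have e2 : τ (σ' w) = w * x ^ k * (α x) ^ l := by
        rw [hl, map_mul, map_zpow, hταx, hk]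
      rw [e1, e2, mul_assoc, mul_assoc]
      congr 1
      exact Subtype.ext (hEab _ ((α x) ^ l).2 _ (x ^ k).2)
    -- orders
    have hordτ : orderOf τ = p := by
      apply orderOf_eq_prime
      · obtain ⟨k, hk⟩ : ∃ k : ℕ, τ ^ p ^ k = 1 := by
          obtain ⟨k, hk⟩ := isPGroup_autInducedBy hQp E ⟨τ, hτT⟩
          exact ⟨k, congrArg Subtype.val hk⟩
        -- direct computation
        apply MulEquiv.ext
        intro w
        obtain ⟨k, hk⟩ := hτc w
        have hτx : τ x = x := hτZ x hx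
        have hj : ∀ j : ℕ, (τ ^ j) w = w * (x ^ k) ^ j := by
          intro j
          induction j with
          | zero => simp
          | succ j ih =>
            rw [pow_succ', MulAut.mul_apply, ih, map_mul, map_pow, map_zpow, hτx, hk, pow_succ]
            rw [mul_assoc]
            congr 1
            rw [← pow_succ', pow_succ]
        rw [hj p]
        have : (x ^ k) ^ p = 1 := by
          apply Subtype.ext
          show ((x : Ω) ^ k) ^ p = 1
          exact hZp _ (Z.zpow_mem hx k)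
        rw [this, mul_one]
        rfl
      · intro h
        apply hqE
        refine mem_of_conj_mem_inn hES hC (hQS hqQ) hτ ?_
        rw [h]
        exact one_mem _
    have hordσ : orderOf σ = p := by
      apply orderOf_eq_prime
      · apply MulEquiv.ext
        intro w
        obtain ⟨k, hk⟩ := hσc w
        have hσx : σ x = x := by
          apply Subtype.ext
          rw [hσ, hZcent _ hx r hrQ]
          group
        have hj : ∀ j : ℕ, (σ ^ j) w = w * (x ^ k) ^ j := by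
          intro j
          induction j with
          | zero => simp
          | succ j ih =>
            rw [pow_succ', MulAut.mul_apply, ih, map_mul, map_pow, map_zpow, hσx, hk, pow_succ]
            rw [mul_assoc]
            congr 1
            rw [← pow_succ', pow_succ]
        rw [hj p]
        have : (x ^ k) ^ p = 1 := by
          apply Subtype.ext
          show ((x : Ω) ^ k) ^ p = 1
          exact hZp _ (Z.zpow_mem hx k)
        rw [this, mul_one]
        rfl
      · intro h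
        apply hrE
        refine mem_of_conj_mem_inn hES hC (hQS hrQ) hσ ?_
        rw [h]
        exact one_mem _
    -- conclusion
    have hτM : (⟨τ, hTA hτT⟩ : F.autGroup E) ∈ M := hTM (Subgroup.mem_subgroupOf.2 hτT)
    have hσM : (⟨σ, hTA hσT⟩ : F.autGroup E) ∈ M := hTM (Subgroup.mem_subgroupOf.2 hσT)
    have hσ'M : (⟨α, hα⟩ : F.autGroup E) * ⟨σ, hTA hσT⟩ * (⟨α, hα⟩ : F.autGroup E)⁻¹ ∈ M := by
      refine centralizer_mem hM hτM ?_ ?_
      · exact Subtype.ext hcomm
      · rw [Subgroup.orderOf_mk, hordτ]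
    refine mem_of_inter hM hσ'M ?_ ?_
    · have e' : (⟨α, hα⟩ : F.autGroup E)⁻¹ * (⟨α, hα⟩ * ⟨σ, hTA hσT⟩ * (⟨α, hα⟩ : F.autGroup E)⁻¹) *
          ⟨α, hα⟩ = ⟨σ, hTA hσT⟩ := by group
      rw [e']
      exact hσM
    · have h1 : orderOf ((⟨α, hα⟩ : F.autGroup E) * ⟨σ, hTA hσT⟩ * (⟨α, hα⟩ : F.autGroup E)⁻¹) =
          orderOf (⟨σ, hTA hσT⟩ : F.autGroup E) :=
        orderOf_injective (MulAut.conj (⟨α, hα⟩ : F.autGroup E)).toMonoidHom
          (MulAut.conj (⟨α, hα⟩ : F.autGroup E)).injective _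
      rw [h1, Subgroup.orderOf_mk, hordσ]
  -- hence `M` is everything
  apply hM.2.1
  rw [eq_top_iff]
  rintro α -
  obtain ⟨β, hβ, x, hx, hβx⟩ := hnotinv
  have hβM : (⟨β, hβ⟩ : F.autGroup E) ∈ M := key ⟨β, hβ⟩ x hx hβx
  by_cases h : (((α : MulAut E) x : E) : Ω) ∈ Z
  · -- `α` maps `Z` to `Z`; use `β α`
    have hαx1 : (((α : MulAut E) x : E) : Ω) ≠ 1 := by
      intro h1
      apply hβx
      have h2 : (α : MulAut E) x = 1 := Subtype.ext h1
      have h3 : x = 1 := by
        have := congrArg (α : MulAut E).symm h2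
        rw [MulEquiv.symm_apply_apply, map_one] at this
        exact this
      rw [h3, map_one]
      exact Z.one_mem
    have h4 : (⟨β, hβ⟩ : F.autGroup E) * α ∈ M := by
      refine key _ x hx ?_
      intro h5
      apply hβx
      obtain ⟨k, hk⟩ := hgen _ h hαx1 x hx
      have h6 : x = ((α : MulAut E) x) ^ k := Subtype.ext hk
      have h7 : β x = (β ((α : MulAut E) x)) ^ k := by rw [← map_zpow, ← h6]
      rw [h7]
      exact Z.zpow_mem h5 k
    have := M.mul_mem (M.inv_mem hβM) h4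
    rwa [inv_mul_cancel_left] at this
  · exact key α x hx h

end Cfsg.Agent.S5179
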