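import Cfsg.Statements.S3806
-- import your own Cfsg.Agent.* helpers here
import Cfsg.Agent.H454.MaxClassExp
import Cfsg.Agent.H583.SecRank

set_option autoImplicit false
open Cfsg

namespace Cfsg.Agent.S3806

/-- Let p be a prime and S a finite p-group of order pⁿ (n ≥ 2) of maximal nilpotency class n − 1 whose sectional p-rank is exactly k (every section has p-rank at most k, and some section has p-rank k). If p ≥ k + 2 then the order of S is at most p^(2k). -/
theorem result {S : Type*} [Group S] [Finite S] (p : ℕ) [Fact p.Prime] (hS : IsPGroup p S) [Group.IsNilpotent S]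
    (n : ℕ) (hn : 2 ≤ n) (hcard : Nat.card S = p ^ n) (hmax : Group.nilpotencyClass S = n - 1)
    (k : ℕ) (hk : 1 ≤ k) (hsr : Cfsg.SectionalPRankLE p k S ∧ ¬ Cfsg.SectionalPRankLE p (k - 1) S)
    (hpk : k + 2 ≤ p) : Nat.card S ≤ p ^ (2 * k) := by
  have hpp : p.Prime := Fact.out
  have hp2 := hpp.two_le
  by_contra hlt
  rw [not_le, hcard] at hlt
  have hnk : 2 * k < n := (Nat.pow_lt_pow_iff_right hpp.one_lt).mp hlt
  have hn3 : 3 ≤ n := by omega
  by_cases hk1 : k = 1
  · subst hk1
    have hN : (H454.MaxClass.L S 1).Normal := inferInstance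
    have h1 := H583.SecRank.index_le hsr.1 (H454.MaxClass.L S 1) (fun a b => by
      have h0 := H454.MaxClass.comm_mem (i := 0) (Subgroup.mem_top a) b
      rwa [commutatorElement_def] at h0) (fun a => H454.MaxClass.pow_mem_L_one hcard hmax hn3 a)
    rw [H454.MaxClass.index_L hcard hmax hn3 le_rfl (by omega)] at h1
    have := (Nat.pow_le_pow_iff_right hpp.one_lt).mp h1
    omega
  · have hk2 : 2 ≤ k := by omega
    have hN : (H454.MaxClass.L S (2 * k)).Normal := inferInstance
    have hcQ : Nat.card (S ⧸ H454.MaxClass.L S (2 * k)) = p ^ (2 * k + 1) :=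
      H454.MaxClass.index_L hcard hmax hn3 (by omega) (by omega)
    have hQ : IsPGroup p (S ⧸ H454.MaxClass.L S (2 * k)) := IsPGroup.of_card hcQ
    have hnilQ : Group.IsNilpotent (S ⧸ H454.MaxClass.L S (2 * k)) := hQ.isNilpotent
    have hmap : ∀ i, H454.MaxClass.L (S ⧸ H454.MaxClass.L S (2 * k)) i =
        (H454.MaxClass.L S i).map (QuotientGroup.mk' (H454.MaxClass.L S (2 * k))) := by
      intro i
      rw [Subgroup.map_lowerCentralSeries, Subgroup.map_top_of_surjective _
        (QuotientGroup.mk'_surjective _)]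
    have hbot : ∀ i, H454.MaxClass.L (S ⧸ H454.MaxClass.L S (2 * k)) i = ⊥ ↔
        H454.MaxClass.L S i ≤ H454.MaxClass.L S (2 * k) := by
      intro i
      rw [hmap, Subgroup.map_eq_bot_iff, QuotientGroup.ker_mk']
    have hclQ : Group.nilpotencyClass (S ⧸ H454.MaxClass.L S (2 * k)) = (2 * k + 1) - 1 := by
      apply le_antisymm
      · rw [← Subgroup.lowerCentralSeries_eq_bot_iff_nilpotencyClass_le]
        exact (hbot _).mpr le_rfl
      · by_contra h
        rw [not_le] at h
        have h1 : Group.nilpotencyClass (S ⧸ H454.MaxClass.L S (2 * k)) ≤ 2 * k - 1 := by omega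
        rw [← Subgroup.lowerCentralSeries_eq_bot_iff_nilpotencyClass_le] at h1
        have h2 := (hbot _).mp h1
        have h3 := H454.MaxClass.L_lt hcard hmax (show 2 * k - 1 < n - 1 by omega)
        rw [show 2 * k - 1 + 1 = 2 * k by omega] at h3
        exact absurd h2 (not_le_of_gt h3)
    have hsQ := H583.SecRank.pRankLE (H583.SecRank.sectional_quotient hsr.1
      (H454.MaxClass.L S (2 * k)))
    have hcomm : IsMulCommutative
        ↥(H454.MaxClass.L (S ⧸ H454.MaxClass.L S (2 * k)) (k - 1)) := by
      refine ⟨⟨fun a b => ?_⟩⟩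
      have h1 := H454.MaxClass.comm_mem_self hcQ hclQ (by omega) (show 1 ≤ k - 1 by omega)
        a.2 b.2
      rw [show 2 * (k - 1) + 2 = 2 * k by omega,
        H454.MaxClass.L_eq_bot hcQ hclQ (by omega), Subgroup.mem_bot,
        commutatorElement_eq_one_iff_mul_comm] at h1
      exact Subtype.ext h1
    have h1 := hsQ _ hcomm (H454.MaxClass.exp_L (2 * k + 1) _ hcQ hclQ (by omega) (by omega)
      (k - 1) (by omega) (by omega))
    rw [H454.MaxClass.card_L hcQ hclQ (by omega) (by omega) (by omega)] at h1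
    have := (Nat.pow_le_pow_iff_right hpp.one_lt).mp h1
    omega

end Cfsg.Agent.S3806
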