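import Cfsg.Statements.S4076
import Cfsg.Agent.H988.AlmostSimpleSyl

set_option autoImplicit false
open Cfsg

namespace Cfsg.Agent.S4076

/-- Let S be a finite non-abelian simple group whose order is divisible by the prime p, and let X be a group of automorphisms of S containing all inner automorphisms, with p dividing the index of the inner automorphism group in X. Then the Sylow p-subgroups of X are non-abelian. -/
theorem result {S : Type*} [Group S] [Finite S] [IsSimpleGroup S]
    (hna : ¬ IsMulCommutative S) {p : ℕ} [Fact p.Prime] (hp : p ∣ Nat.card S)
    (X : Subgroup (MulAut S)) (hX : (MulAut.conj : S →* MulAut S).range ≤ X)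
    (hidx : p ∣ ((MulAut.conj : S →* MulAut S).range).relIndex X) (P : Sylow p ↥X) : ¬ IsMulCommutative P :=
  Cfsg.Agent.H988.AlmostSimpleSyl.main hna hp X hX hidx P

end Cfsg.Agent.S4076
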