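import Cfsg.Statements.S2791
import Cfsg.Agent.Lib.GoldControl

set_option autoImplicit false
open Cfsg

namespace Cfsg.Agent.S2791

/-- Let S be a Sylow p-subgroup of the finite group G and A an abelian subgroup of S that is strongly closed in S with respect to G. Then A controls strong fusion in G: for some Sylow p-subgroup T containing A, whenever a subset of T is conjugated into T by an element of G, the same elementwise conjugation is induced by an element of N_G(A). -/
theorem result {G : Type*} [Group G] [Finite G] {p : ℕ} [Fact p.Prime] (S : Sylow p G) (A : Subgroup G) (hA : IsMulCommutative ↥A) (hsc : Cfsg.IsStronglyClosed A (S : Subgroup G)) : Cfsg.ControlsStrongFusion p A := by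
  refine ⟨S, hsc.1, fun B hB => ⟨hB, fun g hg => ?_⟩⟩
  have hcomm : ∀ a ∈ A, ∀ b ∈ A, a * b = b * a := by
    intro a ha b hb
    have := hA.is_comm.comm (⟨a, ha⟩ : ↥A) ⟨b, hb⟩
    exact congrArg Subtype.val this
  have h1 : Subgroup.closure B ≤ (S : Subgroup G) := by
    rw [Subgroup.closure_le]; exact hB
  have h2 : (Subgroup.closure B).map (MulAut.conj g).toMonoidHom ≤ (S : Subgroup G) := by
    rw [MonoidHom.map_closure, Subgroup.closure_le]
    rintro _ ⟨b, hb, rfl⟩
    exact hg ⟨b, hb, rfl⟩
  obtain ⟨n, hn, c, hc, rfl⟩ := Cfsg.Agent.Lib.GoldControl.control S hsc.1 hcomm hsc.2 h1 h2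
  refine ⟨n, hn, fun a ha => ?_⟩
  have hca : c * a * c⁻¹ = a := by
    have := (Subgroup.mem_centralizer_iff.1 hc) a (Subgroup.subset_closure ha)
    rw [← this, mul_inv_cancel_right]
  calc n * c * a * (n * c)⁻¹ = n * (c * a * c⁻¹) * n⁻¹ := by group
    _ = n * a * n⁻¹ := by rw [hca]

end Cfsg.Agent.S2791
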