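import Cfsg.Statements.S5860
import Cfsg.Agent.H882.O11.Final
import Cfsg.Agent.S0000

set_option autoImplicit false
open Cfsg

namespace Cfsg.Agent.S5860

/-- The maximal subgroups of Ω_11(q), q odd, in the residual class. Let F be a finite field of odd order q and characteristic p, Q the standard quadratic form x₀² + Σ x_i y_i on F^11, Ω the commutator subgroup of its isometry group, and H a maximal subgroup of Ω lying in the residual class of the orthogonal case. Then the perfect socle preimage P of H satisfies one of: P modulo scalars is isomorphic to PSL_3(3) and q = 13; or to A_12, with q = p prime, p ≥ 5 and p ≠ 13; or to A_13, with q = 13; or to PSL_2(F) itself, with p ≥ 11 and q ≠ 11. -/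
theorem result {F : Type*} [Field F] [Fintype F] (hodd : Odd (Fintype.card F)) (H : Subgroup (Matrix.GeneralLinearGroup (Unit ⊕ (Fin 5 ⊕ Fin 5)) F)) (hH : Cfsg.Geo.IsMaximalIn (Cfsg.Geo.omegaGL (Cfsg.quadFormOdd 5 F)) H) (hS : Cfsg.Geo.InOrthogonalResidualClass H) :
    ∃ (P : Subgroup (Matrix.GeneralLinearGroup (Unit ⊕ (Fin 5 ⊕ Fin 5)) F)) (p : ℕ), Cfsg.Geo.IsResidualCore H P ∧ p.Prime ∧ CharP F p ∧
    ((Nonempty ((P ⧸ (Cfsg.Geo.scalars (Unit ⊕ (Fin 5 ⊕ Fin 5)) F).subgroupOf P) ≃* Matrix.ProjectiveSpecialLinearGroup (Fin 3) (ZMod 3)) ∧ Fintype.card F = 13) ∨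
     (Nonempty ((P ⧸ (Cfsg.Geo.scalars (Unit ⊕ (Fin 5 ⊕ Fin 5)) F).subgroupOf P) ≃* alternatingGroup (Fin 12)) ∧ Fintype.card F = p ∧ 5 ≤ p ∧ p ≠ 13) ∨
     (Nonempty ((P ⧸ (Cfsg.Geo.scalars (Unit ⊕ (Fin 5 ⊕ Fin 5)) F).subgroupOf P) ≃* alternatingGroup (Fin 13)) ∧ Fintype.card F = 13) ∨
     (Nonempty ((P ⧸ (Cfsg.Geo.scalars (Unit ⊕ (Fin 5 ⊕ Fin 5)) F).subgroupOf P) ≃* Matrix.ProjectiveSpecialLinearGroup (Fin 2) F) ∧ 11 ≤ p ∧ Fintype.card F ≠ 11)) := by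
  obtain ⟨P, p, hP, hp, hch, hc⟩ := Cfsg.Agent.H882.O11.final (fun T _ _ _ => Cfsg.Agent.S0000.result) hodd H hH hS
  exact ⟨P, p, hP, hp, hch, hc⟩

end Cfsg.Agent.S5860
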