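import Cfsg.Statements.S5939
import Cfsg.Agent.S0810

set_option autoImplicit false
open Cfsg

namespace Cfsg.Agent.S5939

open Cfsg.Agent.ClassicalGeometry.PSL2Basic Cfsg.Agent.ClassicalGeometry.PSL2Solvable

theorem card_alt_five : Nat.card (alternatingGroup (Fin 5)) = 60 := by
  rw [Nat.card_eq_fintype_card]
  decide +kernel

/-- Let p be a prime and F a finite field of characteristic p such that either F has p elements and p ≡ ±1 (mod 10), or F has p² elements and p ≡ ±3 (mod 10). Then PSL_2(F) has a maximal subgroup isomorphic to the alternating group A_5. -/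
theorem result {F : Type*} [Field F] [Fintype F] (p : ℕ) [Fact p.Prime] [CharP F p] (h : (Fintype.card F = p ∧ (p % 10 = 1 ∨ p % 10 = 9)) ∨ (Fintype.card F = p ^ 2 ∧ (p % 10 = 3 ∨ p % 10 = 7))) : ∃ H : Subgroup (Matrix.ProjectiveSpecialLinearGroup (Fin 2) F), IsCoatom H ∧ Nonempty (H ≃* alternatingGroup (Fin 5)) := by
  classical
  have hp : p.Prime := Fact.out
  have hp1 := hp.one_lt
  have hodd : Odd (Fintype.card F) := by
    rcases h with ⟨h1, h2⟩ | ⟨h1, h2⟩
    · rw [h1, Nat.odd_iff]
      omega
    · rw [h1]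
      have : Odd p := by
        rw [Nat.odd_iff]
        omega
      exact this.pow
  have hcard := card_PSL2_odd F hodd
  have h7 : 7 ≤ Fintype.card F := by
    rcases h with ⟨h1, h2⟩ | ⟨h1, h2⟩
    · rw [h1]
      have h9 : p ≠ 9 := by
        rintro rfl
        exact absurd hp (by norm_num)
      omega
    · rw [h1]
      have : 3 ≤ p := by omega
      nlinarith
  have hbig : 100 ≤ Nat.card (Matrix.ProjectiveSpecialLinearGroup (Fin 2) F) := by
    have h1 : 7 * (7 ^ 2 - 1) ≤ Fintype.card F * (Fintype.card F ^ 2 - 1) :=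
      Nat.mul_le_mul h7 (Nat.sub_le_sub_right (Nat.pow_le_pow_left h7 2) 1)
    omega
  -- the arithmetic of `5`
  have h5 : 5 ∣ Fintype.card F * (Fintype.card F ^ 2 - 1) := by
    apply Dvd.dvd.mul_left
    have key : Fintype.card F ^ 2 ≡ 1 [MOD 5] := by
      rcases h with ⟨h1, h2⟩ | ⟨h1, h2⟩
      · rw [h1]
        have h3 : p % 5 = 1 ∨ p % 5 = 4 := by omega
        rcases h3 with h3 | h3
        · have : p ≡ 1 [MOD 5] := h3
          exact this.pow 2
        · have : p ≡ 4 [MOD 5] := h3
          exact (this.pow 2).trans (by decide)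
      · rw [h1]
        have h3 : p % 5 = 3 ∨ p % 5 = 2 := by omega
        rcases h3 with h3 | h3
        · have : p ≡ 3 [MOD 5] := h3
          exact ((this.pow 2).pow 2).trans (by decide)
        · have : p ≡ 2 [MOD 5] := h3
          exact ((this.pow 2).pow 2).trans (by decide)
    exact (Nat.modEq_iff_dvd' (Nat.one_le_pow _ _ (by omega))).mp key.symm
  obtain ⟨H, ⟨e⟩⟩ := (Cfsg.Agent.S0804.result (F := F) rfl).mpr h5
  have hH60 : Nat.card H = 60 := by
    rw [Nat.card_congr e.toEquiv, card_alt_five]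
  have hHtop : H ≠ ⊤ := by
    rintro rfl
    rw [Subgroup.card_top] at hH60
    omega
  obtain ⟨M, hM, hHM⟩ := (eq_top_or_exists_le_coatom H).resolve_left hHtop
  -- `M` is not solvable
  have hMsol : ¬ Group.IsSolvable M := by
    intro hs
    apply not_isSolvable_alternating_five
    have h1 : Group.IsSolvable H :=
      Group.isSolvable_of_isSolvable_injective (f := Subgroup.inclusion hHM) (Subgroup.inclusion_injective hHM)
    exact Group.isSolvable_of_surjective (f := e.toMonoidHom) e.surjective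
  have hdvd : 60 ∣ Nat.card M := by
    rw [← hH60]
    exact Subgroup.card_dvd_of_le hHM
  have hMtop : Nat.card M ≠ Nat.card (Matrix.ProjectiveSpecialLinearGroup (Fin 2) F) := by
    intro hc
    exact hM.1 (Subgroup.eq_top_of_card_eq M hc)
  have hMle : Nat.card M ≤ Nat.card (Matrix.ProjectiveSpecialLinearGroup (Fin 2) F) :=
    Subgroup.card_le_card_group M
  -- proper subfields
  have hsub : ∀ k m : ℕ, 1 < k → k ^ m = Fintype.card F →
      k = Fintype.card F ∨ (k % 5 = 2 ∨ k % 5 = 3) := by
    intro k m hk hkm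
    rcases h with ⟨h1, h2⟩ | ⟨h1, h2⟩
    · left
      rw [h1] at hkm ⊢
      exact Cfsg.Agent.S0810.sub_of_prime hp hk hkm
    · rw [h1] at hkm ⊢
      rcases Cfsg.Agent.S0810.sub_of_prime_pow hp Nat.prime_two hk hkm with h3 | h3
      · exact Or.inl h3
      · right
        rw [h3]
        omega
  rcases Cfsg.Agent.S0799.result (F := F) rfl p M with
    ⟨k, -, ⟨hcyc, -⟩ | ⟨⟨f⟩⟩⟩ | ⟨P, K, hK, ⟨f⟩⟩ | ⟨⟨f⟩⟩ | ⟨⟨f⟩⟩ | ⟨⟨f⟩⟩ |
      ⟨K, hfield, hfin, m, hKm, ⟨⟨f⟩⟩ | ⟨⟨f⟩⟩⟩
  · exfalso
    apply hMsol
    have hc := hcyc.isMulCommutative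
    exact Group.isSolvable_of_comm fun a b => hc.is_comm.comm a b
  · exfalso
    apply hMsol
    have := isSolvable_dihedral k
    exact Group.isSolvable_of_isSolvable_injective (f := f.toMonoidHom) f.injective
  · exfalso
    apply hMsol
    have := isSolvable_of_le_normalizer p P K hK
    exact Group.isSolvable_of_isSolvable_injective (f := f.toMonoidHom) f.injective
  · exfalso
    rw [Nat.card_congr f.toEquiv] at hdvd
    have : Nat.card (alternatingGroup (Fin 4)) = 12 := by
      rw [Nat.card_eq_fintype_card]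
      decide +kernel
    rw [this] at hdvd
    exact absurd hdvd (by norm_num)
  · exfalso
    rw [Nat.card_congr f.toEquiv, Nat.card_eq_fintype_card, Fintype.card_perm, Fintype.card_fin] at hdvd
    exact absurd hdvd (by decide)
  · exact ⟨M, hM, ⟨f⟩⟩
  · exfalso
    rcases hsub _ m Fintype.one_lt_card hKm with h2 | h2
    · apply hMtop
      rw [Nat.card_congr f.toEquiv, card_PSL2_div, card_PSL2_div, h2]
    · apply Cfsg.Agent.S0810.not_five_dvd h2
      have h3 : 5 ∣ Nat.card (Matrix.ProjectiveSpecialLinearGroup (Fin 2) K) := by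
        rw [← Nat.card_congr f.toEquiv]
        exact dvd_trans (by norm_num) hdvd
      rcases Nat.even_or_odd (Fintype.card K) with he | ho
      · rwa [card_PSL2_even K he] at h3
      · rw [← card_PSL2_odd K ho]
        exact Dvd.dvd.mul_right h3 _
  · exfalso
    rcases hsub _ m Fintype.one_lt_card hKm with h2 | h2
    · rw [Nat.card_congr f.toEquiv, card_PGL2, h2] at hMle
      omega
    · apply Cfsg.Agent.S0810.not_five_dvd h2
      rw [← card_PGL2, ← Nat.card_congr f.toEquiv]
      exact dvd_trans (by norm_num) hdvd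

end Cfsg.Agent.S5939
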