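import Cfsg.Statements.S5551
import Cfsg.Agent.Leech.Basic

set_option autoImplicit false
open Cfsg

namespace Cfsg.Agent.S5551

/-- In the Leech lattice of the definitions (integer coordinates, minimal squared length 32), let v and w be non-zero lattice vectors of squared length at most 64 that are congruent modulo twice the lattice. Then they have the same squared length, and if that length is less than 64 then w = v or w = −v. (So a class that contains a non-zero vector of squared length at most 64 has a well-defined type 2, 3 or 4, and a class of type 2 or 3 contains no such vector other than v and −v.) -/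
theorem result (v w : Cfsg.GolayPt → ℤ) (hv : v ∈ Cfsg.leechLattice) (hw : w ∈ Cfsg.leechLattice) (hv0 : v ≠ 0) (hw0 : w ≠ 0) (hvn : Cfsg.sqNorm v ≤ 64) (hwn : Cfsg.sqNorm w ≤ 64) (hc : ∃ z ∈ Cfsg.leechLattice, v - w = 2 • z) : Cfsg.sqNorm v = Cfsg.sqNorm w ∧ (Cfsg.sqNorm v < 64 → w = v ∨ w = -v) := by
  obtain ⟨z, hz, hzc⟩ := hc
  have hvz : v - w = z + z := by rw [hzc, two_smul]
  have hvw : v + w = (z + w) + (z + w) := by
    have : v = z + z + w := by rw [← hvz, sub_add_cancel]
    rw [this]; abel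
  have hzw : z + w ∈ Cfsg.leechLattice := Cfsg.leechLattice.add_mem hz hw
  have h4 : ∀ x : Cfsg.GolayPt → ℤ, Cfsg.sqNorm (x + x) = 4 * Cfsg.sqNorm x := by
    intro x
    rw [Cfsg.Agent.Leech.Basic.sqNorm_add, Cfsg.Agent.Leech.Basic.dotInt_self]
    ring
  by_cases h1 : z = 0
  · have hvw' : v = w := by
      rw [h1, add_zero, sub_eq_zero] at hvz
      exact hvz
    subst hvw'
    exact ⟨rfl, fun _ => Or.inl rfl⟩
  by_cases h2 : z + w = 0
  · have hvw' : w = -v := by
      rw [h2, add_zero] at hvw
      exact (neg_eq_of_add_eq_zero_right hvw).symm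
    subst hvw'
    exact ⟨(Cfsg.Agent.Leech.Basic.sqNorm_neg v).symm, fun _ => Or.inr rfl⟩
  have n1 : 128 ≤ Cfsg.sqNorm (v - w) := by
    rw [hvz, h4]
    linarith [Cfsg.Agent.Leech.Basic.le_sqNorm hz h1]
  have n2 : 128 ≤ Cfsg.sqNorm (v + w) := by
    rw [hvw, h4]
    linarith [Cfsg.Agent.Leech.Basic.le_sqNorm hzw h2]
  rw [Cfsg.Agent.Leech.Basic.sqNorm_sub] at n1
  rw [Cfsg.Agent.Leech.Basic.sqNorm_add] at n2
  have e1 : Cfsg.sqNorm v = 64 := by linarith
  have e2 : Cfsg.sqNorm w = 64 := by linarith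
  exact ⟨e1.trans e2.symm, fun h => absurd h (by rw [e1]; exact lt_irrefl _)⟩

end Cfsg.Agent.S5551
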