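import Cfsg.Statements.S3035
import Mathlib
import Cfsg.Agent.S0848
import Cfsg.Agent.S0495
import Cfsg.Agent.S0497
import Cfsg.Agent.S1012
import Cfsg.Agent.S0107
import Cfsg.Agent.S0202
import Cfsg.Agent.S0203
import Cfsg.Agent.J2Type.FourSelfCent
import Cfsg.Agent.LieClassical.PSLTwoSeven
import Cfsg.Agent.Transfer.NormalPComplement
import Cfsg.Agent.Lib.Cores
import Cfsg.Agent.SignalizersComponents.CompBasic
import Cfsg.Agent.H270.D8Cent

set_option autoImplicit false
set_option linter.unusedSectionVars false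
set_option linter.style.haveILetI false
open Cfsg

namespace Cfsg.Agent.S3035

open Subgroup Cfsg.Agent.H270

section sl

theorem zmod_two : ∀ y : ZMod 2, y ≠ 0 → y = 1 := by decide

theorem card_sl : Nat.card (Matrix.SpecialLinearGroup (Fin 3) (ZMod 2)) = 168 := by
  haveI : Fact (Nat.Prime 2) := ⟨Nat.prime_two⟩
  have h1 : Nat.card (Matrix.GeneralLinearGroup (Fin 3) (ZMod 2)) = 168 := by
    rw [Matrix.card_GL_field]
    simp [Fin.prod_univ_three, ZMod.card]
  rw [← h1]
  apply Nat.card_congr
  refine Equiv.ofBijective (Matrix.SpecialLinearGroup.toGL) ⟨?_, ?_⟩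
  · intro A B hAB
    apply Subtype.ext
    exact congrArg Units.val hAB
  · intro A
    have hdet : (A : Matrix (Fin 3) (Fin 3) (ZMod 2)).det = 1 := by
      have h2 : IsUnit (A : Matrix (Fin 3) (Fin 3) (ZMod 2)).det :=
        (Matrix.isUnit_iff_isUnit_det _).1 A.isUnit
      have h3 : ∀ x : ZMod 2, IsUnit x → x = 1 := by
        intro x hx
        have h4 := hx.ne_zero
        exact zmod_two x h4
      exact h3 _ h2
    refine ⟨⟨A, hdet⟩, ?_⟩
    apply Units.ext
    rfl

/-- A simple group of order 168 is `SL(3,2)`. -/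
theorem equiv_sl {G : Type*} [Group G] [Finite G] [IsSimpleGroup G] (h : Nat.card G = 168) :
    Nonempty (G ≃* Matrix.SpecialLinearGroup (Fin 3) (ZMod 2)) := by
  haveI : Fact (Nat.Prime 7) := ⟨by norm_num⟩
  haveI : Fact (Nat.Prime 2) := ⟨Nat.prime_two⟩
  obtain ⟨e⟩ := Cfsg.Agent.S0495.result h (F := ZMod 7) (ZMod.card 7)
  obtain ⟨f, hf⟩ := Cfsg.Agent.LieClassical.PSLTwoSeven.exists_injective (F := ZMod 7)
    (K := ZMod 2) (ZMod.card 7) (ZMod.card 2)
  let π : Matrix.SpecialLinearGroup (Fin 3) (ZMod 2) →*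
    Matrix.ProjectiveSpecialLinearGroup (Fin 3) (ZMod 2) := QuotientGroup.mk' _
  have hπ : Function.Surjective π := QuotientGroup.mk'_surjective _
  haveI : Finite (Matrix.ProjectiveSpecialLinearGroup (Fin 3) (ZMod 2)) := Finite.of_surjective π hπ
  have h1 : Nat.card (Matrix.ProjectiveSpecialLinearGroup (Fin 3) (ZMod 2)) ≤ 168 := by
    rw [← card_sl]; exact Nat.card_le_card_of_surjective π hπ
  have h2 : 168 ≤ Nat.card (Matrix.ProjectiveSpecialLinearGroup (Fin 3) (ZMod 2)) := by
    rw [← h]
    exact Nat.card_le_card_of_injective (f.comp e.toMonoidHom) (hf.comp e.injective)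
  have h3 : Nat.card (Matrix.ProjectiveSpecialLinearGroup (Fin 3) (ZMod 2)) = 168 :=
    le_antisymm h1 h2
  have hb1 : Function.Bijective (f.comp e.toMonoidHom) :=
    (Nat.bijective_iff_injective_and_card _).2 ⟨hf.comp e.injective, by rw [h, h3]⟩
  have hb2 : Function.Bijective π :=
    (Nat.bijective_iff_surjective_and_card _).2 ⟨hπ, by rw [card_sl, h3]⟩
  exact ⟨(MulEquiv.ofBijective _ hb1).trans (MulEquiv.ofBijective _ hb2).symm⟩

end sl

variable {G : Type*} [Group G] [Finite G] {z : G}

/-- **The perfect case.** -/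
theorem perfect_case (h : D8Cent.Hyp z) (hO : Cfsg.oddCore G = ⊥) (hp : commutator G = ⊤) :
    Nonempty (G ≃* Matrix.SpecialLinearGroup (Fin 3) (ZMod 2)) ∨
      Nonempty (G ≃* ↥(alternatingGroup (Fin 6))) := by
  haveI : Fact (Nat.Prime 2) := ⟨Nat.prime_two⟩
  obtain ⟨e⟩ := h.iso
  obtain ⟨P, hP⟩ := h.exists_sylow
  have hres : Cfsg.pResidual 2 G = ⊤ := by
    haveI hn := Cfsg.Agent.Transfer.NormalPComplement.pResidual_normal 2 G
    have h1 : IsPGroup 2 (G ⧸ Cfsg.pResidual 2 G) :=
      Cfsg.Agent.Transfer.NormalPComplement.isPGroup_quotient_pResidual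
    haveI : Group.IsNilpotent (G ⧸ Cfsg.pResidual 2 G) := h1.isNilpotent
    haveI : Group.IsSolvable (G ⧸ Cfsg.pResidual 2 G) := inferInstance
    have h2 : commutator (G ⧸ Cfsg.pResidual 2 G) = ⊤ := by
      have := map_commutator ⊤ ⊤ (QuotientGroup.mk' (Cfsg.pResidual 2 G))
      rw [← MonoidHom.range_eq_map, MonoidHom.range_eq_top.2 (QuotientGroup.mk'_surjective _)] at this
      rw [commutator_def, ← this, ← commutator_def, hp, ← MonoidHom.range_eq_map,
        MonoidHom.range_eq_top.2 (QuotientGroup.mk'_surjective _)]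
    by_contra hne
    haveI : Nontrivial (G ⧸ Cfsg.pResidual 2 G) := QuotientGroup.nontrivial_iff.2 hne
    have h3 := Group.IsSolvable.commutator_lt_top_of_nontrivial (G ⧸ Cfsg.pResidual 2 G)
    rw [h2] at h3
    exact lt_irrefl _ h3
  have hconj := Cfsg.Agent.S0107.result P 2 le_rfl
    ⟨(MulEquiv.subgroupCongr hP).trans e⟩ hres
  haveI : Nontrivial G := ⟨z, 1, h.ne⟩
  haveI hs : IsSimpleGroup G := by
    refine ⟨fun N hN => ?_⟩
    by_cases hev : 2 ∣ Nat.card N
    · right
      have hz := h.mem_of_even hN hev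
      apply h.eq_top_of_le hN
      have hinv : ∀ b : G, b * b = 1 → b ∈ N := by
        intro b hb
        by_cases hb1 : b = 1
        · rw [hb1]; exact N.one_mem
        · have hb2 : orderOf b = 2 := orderOf_eq_prime (by rw [pow_two]; exact hb) hb1
          obtain ⟨g, hg⟩ := hconj z b h.ord hb2
          rw [← hg]; exact hN.conj_mem _ hz _
      intro x hx
      obtain ⟨b, c, hb, hc, rfl⟩ := h.exists_gen hx
      exact N.mul_mem (hinv b hb) (hinv c hc)
    · left
      rw [eq_bot_iff, ← hO]
      apply Cfsg.Agent.Lib.Cores.le_pPrimeCore hN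
      rw [Nat.coprime_comm, Nat.Prime.coprime_iff_not_dvd Nat.prime_two]
      exact hev
  rcases Cfsg.Agent.S0848.result hp z h.ord e with h1 | h1
  · exact Or.inl (equiv_sl h1)
  · exact Or.inr (Cfsg.Agent.S0497.result h1)

/-- The order 24 case. -/
theorem case_24 (h : D8Cent.Hyp z) {L : Subgroup G} (hL : L.Normal) (hidx : L.index = 2)
    (hU : Cfsg.Agent.J2Type.FourSelfCent.Hyp ((centralizer ({z} : Set G)).subgroupOf L))
    (h12 : Nat.card L = 12) : Nonempty (G ≃* Equiv.Perm (Fin 4)) := by
  haveI : Fact (Nat.Prime 2) := ⟨Nat.prime_two⟩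
  have hG : Nat.card G = 24 := by rw [← L.card_mul_index, h12, hidx]
  apply Cfsg.Agent.S1012.result hG
  intro g hg
  have hnorm : normalizer (((centralizer ({z} : Set G)).subgroupOf L : Subgroup L) : Set L) = ⊤ := by
    rcases hU.card_normalizer with h1 | h1
    · have := hU.card_eq_four h1
      omega
    · exact eq_top_of_card_eq _ (by rw [h1, h12])
  set T : Subgroup G := centralizer ({z} : Set G) ⊓ L with hT
  have hTmem : ∀ x : G, x ∈ T ↔ x ∈ L ∧ x * x = 1 := by
    intro x
    constructor
    · rintro ⟨hx1, hx2⟩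
      refine ⟨hx2, ?_⟩
      have := hU.sq ⟨x, hx2⟩ (mem_subgroupOf.2 hx1)
      exact congrArg Subtype.val this
    · rintro ⟨hx1, hx2⟩
      have := hU.mem_of_sq_of_mem_normalizer (s := ⟨x, hx1⟩) (Subtype.ext hx2)
        (by rw [hnorm]; exact mem_top _)
      exact ⟨mem_subgroupOf.1 this, hx1⟩
  have hTn : T.Normal := by
    constructor
    intro x hx y
    rw [hTmem] at hx ⊢
    refine ⟨hL.conj_mem _ hx.1 _, ?_⟩
    calc y * x * y⁻¹ * (y * x * y⁻¹) = y * (x * x) * y⁻¹ := by group
      _ = 1 := by rw [hx.2]; group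
  have hTc : Nat.card T = 4 := by
    rw [← hU.card4, hT, ← inf_subgroupOf_right]
    exact Nat.card_congr (subgroupOfEquivOfLe inf_le_right).symm.toEquiv
  have hyL : g ^ 2 ∈ L := L.sq_mem_of_index_two hidx g
  by_cases ht : g ^ 3 ∈ L
  · have h1 : g ^ 3 ∈ T := by
      rw [hTmem]
      refine ⟨ht, ?_⟩
      rw [← pow_add, show 3 + 3 = orderOf g by rw [hg]]
      exact pow_orderOf_eq_one g
    have h2 : (⟨g ^ 2, hyL⟩ : L) ∈ (centralizer ({z} : Set G)).subgroupOf L := by
      apply hU.cent ⟨g ^ 3, ht⟩ (mem_subgroupOf.2 h1.1)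
      · intro h3
        have h4 : g ^ 3 = 1 := congrArg Subtype.val h3
        have := orderOf_dvd_of_pow_eq_one h4
        rw [hg] at this
        omega
      · apply Subtype.ext
        show g ^ 2 * g ^ 3 = g ^ 3 * g ^ 2
        rw [← pow_add, ← pow_add]
    have h3 := hU.sq _ h2
    have h4 : g ^ 2 * g ^ 2 = 1 := congrArg Subtype.val h3
    rw [← pow_add] at h4
    have := orderOf_dvd_of_pow_eq_one h4
    rw [hg] at this
    omega
  · set Q : Subgroup G := T ⊔ zpowers (g ^ 3) with hQ
    have hTp : IsPGroup 2 T := IsPGroup.of_card (n := 2) (by rw [hTc]; norm_num)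
    have ht2 : orderOf (g ^ 3) = 2 := by
      rw [orderOf_pow' g (by norm_num), hg]; norm_num
    have htp : IsPGroup 2 (zpowers (g ^ 3)) := by
      apply IsPGroup.of_card (n := 1)
      rw [Nat.card_zpowers, ht2, pow_one]
    have hQp : IsPGroup 2 Q := hTp.to_sup_of_normal_left htp
    obtain ⟨P', hP'⟩ := hQp.exists_le_sylow
    obtain ⟨P, hP⟩ := h.exists_sylow
    have hP'c : Nat.card (P' : Subgroup G) = 8 := by
      rw [← h.card, ← hP]
      exact Nat.card_congr (Sylow.equiv P' P).toEquiv
    have hQc : Nat.card Q = 8 := by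
      have h1 : Nat.card Q ∣ 8 := hP'c ▸ card_dvd_of_le hP'
      have h2 : 4 ∣ Nat.card Q := hTc ▸ card_dvd_of_le (le_sup_left : T ≤ Q)
      have h3 : Nat.card Q ≠ 4 := by
        intro h4
        have h5 : T = Q := eq_of_le_of_card_ge le_sup_left (by rw [hTc, h4])
        apply ht
        have : g ^ 3 ∈ T := h5 ▸ (le_sup_right : zpowers (g ^ 3) ≤ Q) (mem_zpowers _)
        exact this.2
      have h6 : Nat.card Q ≤ 8 := Nat.le_of_dvd (by norm_num) h1
      obtain ⟨c, hc⟩ := h2
      have hc2 : c ≤ 2 := by omega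
      interval_cases c
      · have : 0 < Nat.card Q := Nat.card_pos
        omega
      · omega
      · omega
    have hQP : Q = P' := eq_of_le_of_card_ge hP' (by rw [hP'c, hQc])
    have hyQ : g ^ 2 ∈ normalizer ((P' : Subgroup G) : Set G) := by
      rw [← hQP]
      have h1 : ∀ n : ℤ, ∀ x ∈ Q, (g ^ 2) ^ n * x * ((g ^ 2) ^ n)⁻¹ ∈ Q := by
        intro n
        have h2 : Q ≤ Q.comap (MulAut.conj ((g ^ 2) ^ n)).toMonoidHom := by
          rw [hQ]
          refine sup_le ?_ ?_
          · intro x hx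
            exact mem_sup_left (hTn.conj_mem _ hx _)
          · rw [zpowers_le]
            have h3 : (g ^ 2) ^ n * g ^ 3 * ((g ^ 2) ^ n)⁻¹ = g ^ 3 := by
              have hc : Commute ((g ^ 2) ^ n) (g ^ 3) :=
                (((Commute.refl g).pow_left 2).pow_right 3).zpow_left n
              rw [hc.eq, mul_inv_cancel_right]
            show (g ^ 2) ^ n * g ^ 3 * ((g ^ 2) ^ n)⁻¹ ∈ T ⊔ zpowers (g ^ 3)
            rw [h3]
            exact mem_sup_right (mem_zpowers _)
        exact fun x hx => h2 hx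
      rw [mem_normalizer_iff]
      intro x
      constructor
      · intro hx
        simpa using h1 1 x hx
      · intro hx
        have := h1 (-1) _ hx
        simpa [mul_assoc] using this
    obtain ⟨g₀, hg₀⟩ := MulAction.exists_smul_eq G P' P
    have hy2 : g₀ * g ^ 2 * g₀⁻¹ ∈ centralizer ({z} : Set G) := by
      rw [← h.normalizer_eq, ← hP, ← hg₀]
      rw [mem_normalizer_iff]
      have hmem : ∀ x : G, x ∈ ((g₀ • P' : Sylow 2 G) : Subgroup G) ↔ g₀⁻¹ * x * g₀ ∈ (P' : Subgroup G) := by
        intro x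
        rw [Sylow.coe_subgroup_smul, mem_pointwise_smul_iff_inv_smul_mem]
        simp [← map_inv, MulAut.conj_apply, mul_assoc]
      intro x
      rw [hmem, hmem, mem_normalizer_iff.1 hyQ]
      have : g ^ 2 * (g₀⁻¹ * x * g₀) * (g ^ 2)⁻¹ =
          g₀⁻¹ * (g₀ * g ^ 2 * g₀⁻¹ * x * (g₀ * g ^ 2 * g₀⁻¹)⁻¹) * g₀ := by group
      rw [this]
    have h1 : orderOf (g₀ * g ^ 2 * g₀⁻¹) ∣ 8 := by
      have := orderOf_dvd_natCard (⟨_, hy2⟩ : centralizer ({z} : Set G))
      rwa [← orderOf_coe, h.card] at this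
    have h2 : orderOf (g₀ * g ^ 2 * g₀⁻¹) = orderOf (g ^ 2) := by
      have : g₀ * g ^ 2 * g₀⁻¹ = MulAut.conj g₀ (g ^ 2) := by simp
      rw [this]
      exact MulEquiv.orderOf_eq (MulAut.conj g₀) (g ^ 2)
    have h3 : orderOf (g ^ 2) = 3 := by
      rw [orderOf_pow' g (by norm_num), hg]; norm_num
    rw [h2, h3] at h1
    omega

/-- The order 120 case. -/
theorem case_120 (h : D8Cent.Hyp z) (hO : Cfsg.oddCore G = ⊥) {L : Subgroup G} (hL : L.Normal)
    (hzL : z ∈ L) (hidx : L.index = 2) (T' : Sylow 2 L)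
    (hT' : (T' : Subgroup L) = (centralizer ({z} : Set G)).subgroupOf L)
    (hU : Cfsg.Agent.J2Type.FourSelfCent.Hyp ((centralizer ({z} : Set G)).subgroupOf L))
    (h60 : Nat.card L = 60) : Nonempty (G ≃* Equiv.Perm (Fin 5)) := by
  haveI : Fact (Nat.Prime 2) := ⟨Nat.prime_two⟩
  have hG : Nat.card G = 120 := by rw [← L.card_mul_index, h60, hidx]
  set T : Subgroup G := centralizer ({z} : Set G) ⊓ L with hT
  have hTmap : (T' : Subgroup L).map L.subtype = T := by
    rw [hT', subgroupOf_map_subtype]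
  set N : Subgroup G := normalizer (T : Set G) with hN
  have hNL : N ⊔ L = ⊤ := by
    have := Sylow.normalizer_sup_eq_top T'
    rw [hTmap] at this
    exact this
  have hmemT : ∀ x : L, (x : G) ∈ T ↔ x ∈ (centralizer ({z} : Set G)).subgroupOf L := by
    intro x
    rw [mem_subgroupOf, hT, mem_inf]
    exact ⟨fun h => h.1, fun h => ⟨h, x.2⟩⟩
  have hNm : ∀ x : L, (x : G) ∈ N ↔
      x ∈ normalizer (((centralizer ({z} : Set G)).subgroupOf L : Subgroup L) : Set L) := by
    intro x
    rw [hN, mem_normalizer_iff, mem_normalizer_iff]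
    constructor
    · intro h1 y
      rw [← hmemT, ← hmemT]
      exact h1 y
    · intro h1 y
      constructor
      · intro hy
        have hyL : y ∈ L := hy.2
        have := (h1 ⟨y, hyL⟩).1 ((hmemT _).1 hy)
        exact (hmemT _).2 this
      · intro hy
        have hyL : y ∈ L := by
          have h2 := hL.conj_mem _ hy.2 (x : G)⁻¹
          have h3 : (x : G)⁻¹ * ((x : G) * y * (x : G)⁻¹) * ((x : G)⁻¹)⁻¹ = y := by group
          rw [h3] at h2
          exact h2
        exact (hmemT ⟨y, hyL⟩).2 ((h1 ⟨y, hyL⟩).2 ((hmemT _).1 hy))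
  have hNLc : Nat.card ↥(N ⊓ L) = 12 := by
    rw [← hU.card_normalizer_of_sixty h60]
    have h1 : N.subgroupOf L =
        normalizer (((centralizer ({z} : Set G)).subgroupOf L : Subgroup L) : Set L) := by
      ext x
      rw [mem_subgroupOf]
      exact hNm x
    rw [← h1, ← inf_subgroupOf_right]
    exact Nat.card_congr (subgroupOfEquivOfLe inf_le_right).symm.toEquiv
  have hNc : Nat.card N = 24 := by
    have h1 : L.relIndex N = 2 := by
      rw [← relIndex_sup_right, hNL, relIndex_top_right, hidx]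
    have h2 := relIndex_mul_relIndex (⊥ : Subgroup G) (N ⊓ L) N bot_le inf_le_left
    rw [relIndex_bot_left, relIndex_bot_left, inf_comm, inf_relIndex_right, h1, inf_comm, hNLc] at h2
    omega
  have hNi : N.index = 5 := by
    have := N.card_mul_index
    rw [hNc, hG] at this
    omega
  have hker : (MulAction.toPermHom G (G ⧸ N)).ker = ⊥ := by
    by_contra hne
    have hev : 2 ∣ Nat.card (MulAction.toPermHom G (G ⧸ N)).ker := by
      by_contra hodd
      apply hne
      rw [eq_bot_iff, ← hO]
      apply Cfsg.Agent.Lib.Cores.le_pPrimeCore (MonoidHom.normal_ker _)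
      rw [Nat.coprime_comm, Nat.Prime.coprime_iff_not_dvd Nat.prime_two]
      exact hodd
    have hz := h.mem_of_even (MonoidHom.normal_ker _) hev
    have h1 : (⟨z, hzL⟩ : L) = 1 := by
      apply hU.eq_one_of_forall_smul h60
      intro c
      refine Quotient.inductionOn' c ?_
      intro l
      show (⟨z, hzL⟩ : L) • (QuotientGroup.mk l : L ⧸ normalizer
        (((centralizer ({z} : Set G)).subgroupOf L : Subgroup L) : Set L)) = QuotientGroup.mk l
      rw [MulAction.Quotient.smul_mk, QuotientGroup.eq]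
      rw [MonoidHom.mem_ker] at hz
      have h2 : z • ((l : G) : G ⧸ N) = ((l : G) : G ⧸ N) := by
        have := congrArg (fun f => f ((l : G) : G ⧸ N)) hz
        simpa using this
      rw [MulAction.Quotient.smul_coe, QuotientGroup.eq] at h2
      rw [← hNm]
      exact h2
    exact h.ne (congrArg Subtype.val h1)
  have hinj : Function.Injective (MulAction.toPermHom G (G ⧸ N)) := (MonoidHom.ker_eq_bot_iff _).1 hker
  have hq : Nat.card (G ⧸ N) = 5 := hNi
  obtain ⟨e⟩ : Nonempty (G ⧸ N ≃ Fin 5) := by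
    haveI : Finite (G ⧸ N) := inferInstance
    exact ⟨Finite.equivFinOfCardEq hq⟩
  let f : G →* Equiv.Perm (Fin 5) := (e.permCongrHom).toMonoidHom.comp (MulAction.toPermHom G (G ⧸ N))
  have hf : Function.Injective f := e.permCongrHom.injective.comp hinj
  have hb : Function.Bijective f := by
    apply (Nat.bijective_iff_injective_and_card _).2 ⟨hf, ?_⟩
    rw [hG, Nat.card_perm, Nat.card_fin]
    rfl
  exact ⟨MulEquiv.ofBijective f hb⟩

/-- **The case `G ≠ G'`.** -/
theorem nonperfect_case (h : D8Cent.Hyp z) (hO : Cfsg.oddCore G = ⊥) (hp : commutator G ≠ ⊤) :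
    centralizer ({z} : Set G) = ⊤ ∨ Nonempty (G ≃* Equiv.Perm (Fin 4)) ∨
      Nonempty (G ≃* Equiv.Perm (Fin 5)) := by
  haveI : Fact (Nat.Prime 2) := ⟨Nat.prime_two⟩
  set D := centralizer ({z} : Set G) with hD
  set L : Subgroup G := commutator G with hLdef
  have hL : L.Normal := inferInstance
  have hLD : D ⊔ L = ⊤ := by
    apply h.eq_top_of_le _ le_sup_left
    apply Normal.of_commutator_le
    exact le_sup_right
  have hDL : ¬ D ≤ L := fun h1 => hp (h.eq_top_of_le hL h1)
  have hzL : z ∈ L := by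
    obtain ⟨x, -, y, -, hxy⟩ := h.exists_comm
    rw [← hxy]
    exact commutator_mem_commutator (mem_top x) (mem_top y)
  obtain ⟨P, hP⟩ := h.exists_sylow
  have hidx1 : Nat.card ↥(D ⊓ L) * L.index = 8 := by
    have h1 : L.relIndex D = L.index := by
      rw [← relIndex_sup_right, hLD, relIndex_top_right]
    have h2 := relIndex_mul_relIndex (⊥ : Subgroup G) (D ⊓ L) D bot_le inf_le_left
    rw [relIndex_bot_left, relIndex_bot_left, inf_comm, inf_relIndex_right, h1, inf_comm, h.card] at h2
    exact h2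
  have hcT : Nat.card ↥(D.subgroupOf L) = Nat.card ↥(D ⊓ L) := by
    rw [← inf_subgroupOf_right]
    exact Nat.card_congr (subgroupOfEquivOfLe inf_le_right).toEquiv
  have hrel : D.relIndex L = D.index := by
    have h1 : Nat.card ↥(D ⊓ L) * D.relIndex L = Nat.card L := by
      have h2 := relIndex_mul_relIndex (⊥ : Subgroup G) (D ⊓ L) L bot_le inf_le_right
      rw [relIndex_bot_left, relIndex_bot_left, inf_relIndex_right] at h2
      exact h2
    have h3 := D.card_mul_index
    have h4 := L.card_mul_index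
    rw [← h1] at h4
    rw [← h4, h.card] at h3
    have h5 : 8 * D.index = 8 * D.relIndex L := by
      rw [h3]
      calc Nat.card ↥(D ⊓ L) * D.relIndex L * L.index
          = (Nat.card ↥(D ⊓ L) * L.index) * D.relIndex L := by ring
        _ = 8 * D.relIndex L := by rw [hidx1]
    omega
  have hoddi : ¬ 2 ∣ D.index := by
    rw [hD, ← hP]; exact P.not_dvd_index
  have hTp : IsPGroup 2 ↥(D.subgroupOf L) := by
    apply IsPGroup.comap_of_injective h.isPGroup L.subtype L.subtype_injective
  have hTi : ¬ 2 ∣ (D.subgroupOf L).index := by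
    show ¬ 2 ∣ D.relIndex L
    rw [hrel]; exact hoddi
  let T' : Sylow 2 L := hTp.toSylow hTi
  have hT' : (T' : Subgroup L) = D.subgroupOf L := rfl
  have hfin : L ≤ D → D = ⊤ := by
    intro h1
    rw [sup_eq_left.2 h1] at hLD
    exact hLD
  have hcompl : ∀ N : Subgroup L, N.Normal → IsComplement' N (T' : Subgroup L) → D = ⊤ := by
    intro N hN hNT
    apply hfin
    have h1 : (Nat.card N).Coprime 2 := by
      have h2 : Nat.card N = (T' : Subgroup L).index := by
        rw [hNT.index_eq_card]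
      rw [h2, Nat.coprime_comm, Nat.Prime.coprime_iff_not_dvd Nat.prime_two]
      exact hTi
    have h3 : N ≤ pPrimeCore 2 L := Cfsg.Agent.Lib.Cores.le_pPrimeCore hN h1
    have h4 := Cfsg.Agent.Lib.Cores.map_subtype_pPrimeCore 2 hL
    have h5 : pPrimeCore 2 G = ⊥ := hO
    rw [h5, inf_bot_eq, map_eq_bot_iff_of_injective _ L.subtype_injective] at h4
    have h6 : N = ⊥ := by rw [eq_bot_iff, ← h4]; exact h3
    rw [h6, isComplement'_bot_left, hT'] at hNT
    intro x hx
    have : (⟨x, hx⟩ : L) ∈ D.subgroupOf L := by rw [hNT]; exact mem_top _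
    exact mem_subgroupOf.1 this
  have h2L : 2 ∣ Nat.card L := by
    have := orderOf_dvd_natCard (⟨z, hzL⟩ : L)
    rwa [← orderOf_coe, h.ord] at this
  by_cases hcyc : IsCyclic ↥(D.subgroupOf L)
  · left
    have h1 : (Nat.card L).minFac = 2 := (Nat.minFac_eq_two_iff _).2 h2L
    exact hcompl _ (MonoidHom.normal_ker _) (IsCyclic.isComplement' h1 (P := T') hcyc)
  · have hc4 : Nat.card ↥(D.subgroupOf L) = 4 := by
      have h1 : Nat.card ↥(D.subgroupOf L) ∣ 2 ^ 3 := by
        rw [hcT]
        exact ⟨L.index, hidx1.symm⟩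
      obtain ⟨k, hk, hk2⟩ := (Nat.dvd_prime_pow Nat.prime_two).1 h1
      interval_cases k
      · exfalso; apply hcyc
        have : Subsingleton ↥(D.subgroupOf L) := (Nat.card_eq_one_iff_unique.1 (by simpa using hk2)).1
        infer_instance
      · exfalso; apply hcyc
        exact isCyclic_of_prime_card (p := 2) (by simpa using hk2)
      · rw [hk2]; norm_num
      · exfalso
        apply hDL
        rw [hcT] at hk2
        have h3 : D ⊓ L = D := eq_of_le_of_card_ge inf_le_left (by rw [hk2, h.card]; norm_num)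
        rw [← h3]; exact inf_le_right
    have hK4 : IsKleinFour ↥(D.subgroupOf L) := by
      refine ⟨hc4, ?_⟩
      have := (not_isCyclic_iff_exponent_eq_prime Nat.prime_two (α := ↥(D.subgroupOf L)) (by rw [hc4]; norm_num)).1 hcyc
      exact this
    have hLi : L.index = 2 := by
      rw [← hcT, hc4] at hidx1
      omega
    rcases Cfsg.Agent.S0202.result T' hK4 with h1 | h1
    · -- one class of involutions
      have hconj : ∀ a b : L, orderOf a = 2 → orderOf b = 2 → IsConj a b := by
        intro a b ha hb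
        have h2 := (Nat.card_eq_one_iff_unique.1 h1).1
        have h3 := h2.elim ⟨ConjClasses.mk a, a, ha, rfl⟩ ⟨ConjClasses.mk b, b, hb, rfl⟩
        exact ConjClasses.mk_eq_mk_iff_isConj.1 (congrArg Subtype.val h3)
      have hzL2 : orderOf (⟨z, hzL⟩ : L) = 2 := by rw [← orderOf_coe]; exact h.ord
      have hsq : ∀ u ∈ D.subgroupOf L, u * u = 1 := by
        intro u hu
        have := IsKleinFour.mul_self (⟨u, hu⟩ : ↥(D.subgroupOf L))
        exact congrArg Subtype.val this
      have hcm : ∀ u ∈ D.subgroupOf L, ∀ v ∈ D.subgroupOf L, u * v = v * u := by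
        intro u hu v hv
        have h2 := hsq _ (mul_mem hu hv)
        have h3 := hsq _ hu
        have h4 := hsq _ hv
        calc u * v = u * (u * v * (u * v)) * v := by rw [h2]; simp
          _ = (u * u) * (v * u) * (v * v) := by group
          _ = v * u := by rw [h3, h4]; simp
      have hzc : ∀ x : L, x * ⟨z, hzL⟩ = ⟨z, hzL⟩ * x → x ∈ D.subgroupOf L := by
        intro x hx
        rw [mem_subgroupOf, hD, mem_centralizer_singleton_iff]
        exact congrArg Subtype.val hx
      have hzc' : ∀ x ∈ D.subgroupOf L, x * ⟨z, hzL⟩ = ⟨z, hzL⟩ * x := by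
        intro x hx
        rw [mem_subgroupOf, hD, mem_centralizer_singleton_iff] at hx
        exact Subtype.ext hx
      have hU : Cfsg.Agent.J2Type.FourSelfCent.Hyp (D.subgroupOf L) := by
        refine ⟨hc4, hsq, ?_⟩
        intro u hu hu1 x hx
        have hu2 : orderOf u = 2 := orderOf_eq_prime (by rw [pow_two]; exact hsq u hu) hu1
        obtain ⟨g, hg⟩ := isConj_iff.1 (hconj _ _ hzL2 hu2)
        have key : ∀ y : L, y * u = u * y → g⁻¹ * y * g ∈ D.subgroupOf L := by
          intro y hy
          apply hzc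
          rw [← hg] at hy
          calc g⁻¹ * y * g * ⟨z, hzL⟩ = g⁻¹ * (y * (g * ⟨z, hzL⟩ * g⁻¹)) * g := by group
            _ = g⁻¹ * (g * ⟨z, hzL⟩ * g⁻¹ * y) * g := by rw [hy]
            _ = ⟨z, hzL⟩ * (g⁻¹ * y * g) := by group
        let f : ↥(D.subgroupOf L) → ↥(D.subgroupOf L) := fun t =>
          ⟨g⁻¹ * t * g, key t (hcm _ t.2 _ hu)⟩
        have hf : Function.Injective f := by
          intro a b hab
          have h2 : g⁻¹ * (a : L) * g = g⁻¹ * (b : L) * g := congrArg Subtype.val hab
          apply Subtype.ext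
          calc (a : L) = g * (g⁻¹ * (a : L) * g) * g⁻¹ := by group
            _ = g * (g⁻¹ * (b : L) * g) * g⁻¹ := by rw [h2]
            _ = b := by group
        have hfs : Function.Surjective f := Finite.surjective_of_injective hf
        obtain ⟨t, ht⟩ := hfs ⟨g⁻¹ * x * g, key x hx⟩
        have h2 : g⁻¹ * (t : L) * g = g⁻¹ * x * g := congrArg Subtype.val ht
        have h3 : (t : L) = x := by
          calc (t : L) = g * (g⁻¹ * (t : L) * g) * g⁻¹ := by group
            _ = g * (g⁻¹ * x * g) * g⁻¹ := by rw [h2]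
            _ = x := by group
        rw [← h3]; exact t.2
      rcases hU.card_cases with h2 | h2 | h2
      · left
        apply hfin
        have h3 : D.subgroupOf L = ⊤ := eq_top_of_card_eq _ (by rw [hc4, h2])
        exact subgroupOf_eq_top.1 h3
      · right; left
        exact case_24 h hL hLi hU h2
      · right; right
        exact case_120 h hO hL hzL hLi T' hT' hU h2
    · left
      obtain ⟨N, hN, hNT⟩ := (Cfsg.Agent.S0203.result T' hK4).1 h1
      exact hcompl N hN hNT

/-- Let G be a finite group with an involution z whose centralizer is dihedral of order 8. Then G = C_G(z) O(G) with O(G) the largest normal subgroup of odd order, or G is isomorphic to the symmetric group of degree 4, the symmetric group of degree 5, the group SL₃(2), or the alternating group of degree 6. -/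
theorem result {G : Type*} [Group G] [Finite G] (z : G) (hz : orderOf z = 2)
    (hC : Nonempty (↥(Subgroup.centralizer ({z} : Set G)) ≃* DihedralGroup 4)) :
    Subgroup.centralizer ({z} : Set G) ⊔ Cfsg.oddCore G = ⊤ ∨ Nonempty (G ≃* Equiv.Perm (Fin 4)) ∨ Nonempty (G ≃* Equiv.Perm (Fin 5)) ∨
      Nonempty (G ≃* Matrix.SpecialLinearGroup (Fin 3) (ZMod 2)) ∨ Nonempty (G ≃* ↥(alternatingGroup (Fin 6))) := by
  have h : D8Cent.Hyp z := ⟨hz, hC⟩
  by_cases hO : Cfsg.oddCore G = ⊥
  · by_cases hp : commutator G = ⊤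
    · rcases perfect_case h hO hp with h1 | h1
      · exact Or.inr (Or.inr (Or.inr (Or.inl h1)))
      · exact Or.inr (Or.inr (Or.inr (Or.inr h1)))
    · rcases nonperfect_case h hO hp with h1 | h1 | h1
      · left; rw [h1]; exact top_sup_eq _
      · exact Or.inr (Or.inl h1)
      · exact Or.inr (Or.inr (Or.inl h1))
  · exact Or.inl (h.sup_oddCore hO)

end Cfsg.Agent.S3035
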