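import Cfsg.Statements.S2552
import Mathlib

set_option autoImplicit false
open Cfsg

namespace Cfsg.Agent.S2552

theorem exists_det_eq {F V : Type*} [Field F] [AddCommGroup V] [Module F V]
    [FiniteDimensional F V] [Nontrivial V] (c : F) (hc : c ≠ 0) :
    ∃ h : V ≃ₗ[F] V, LinearMap.det (h : V →ₗ[F] V) = c := by
  classical
  let b := Module.finBasis F V
  have hn : 0 < Module.finrank F V := Module.finrank_pos
  let M : Matrix (Fin (Module.finrank F V)) (Fin (Module.finrank F V)) F :=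
    Matrix.diagonal (Function.update 1 ⟨0, hn⟩ c)
  have hM : M.det = c := by
    simp only [M, Matrix.det_diagonal]
    rw [Finset.prod_update_of_mem (Finset.mem_univ _)]
    simp
  have hdet : LinearMap.det (Matrix.toLin b b M) = c := by
    rw [LinearMap.det_toLin, hM]
  have hne : LinearMap.det (Matrix.toLin b b M) ≠ 0 := by rw [hdet]; exact hc
  refine ⟨LinearMap.equivOfDetNeZero _ hne, ?_⟩
  rw [← hdet]
  congr 1

theorem exists_stab {F V : Type*} [Field F] [AddCommGroup V] [Module F V]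
    [FiniteDimensional F V] [Nontrivial V] (U : Submodule F V) (c : F) (hc : c ≠ 0) :
    ∃ h : V ≃ₗ[F] V, LinearMap.det (h : V →ₗ[F] V) = c ∧ U.map (h : V →ₗ[F] V) = U := by
  classical
  obtain ⟨W, hW⟩ := Submodule.exists_isCompl U
  obtain ⟨h₁, h₂, hh⟩ : ∃ (h₁ : U ≃ₗ[F] U) (h₂ : W ≃ₗ[F] W),
      LinearMap.det (h₁ : U →ₗ[F] U) * LinearMap.det (h₂ : W →ₗ[F] W) = c := by
    rcases subsingleton_or_nontrivial U with hU | hU
    · have hWn : Nontrivial W := by
        by_contra hn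
        rw [not_nontrivial_iff_subsingleton] at hn
        have h1 : U = ⊥ := Submodule.subsingleton_iff_eq_bot.mp hU
        have h2 : W = ⊥ := Submodule.subsingleton_iff_eq_bot.mp hn
        have h3 := hW.sup_eq_top
        rw [h1, h2, bot_sup_eq] at h3
        exact bot_ne_top h3
      obtain ⟨h₂, hh₂⟩ := exists_det_eq (F := F) (V := W) c hc
      exact ⟨LinearEquiv.refl F U, h₂, by
        rw [hh₂, LinearEquiv.refl_toLinearMap, LinearMap.det_id, one_mul]⟩
    · obtain ⟨h₁, hh₁⟩ := exists_det_eq (F := F) (V := U) c hc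
      exact ⟨h₁, LinearEquiv.refl F W, by
        rw [hh₁, LinearEquiv.refl_toLinearMap, LinearMap.det_id, mul_one]⟩
  let E := Submodule.prodEquivOfIsCompl U W hW
  refine ⟨E.symm ≪≫ₗ (h₁.prodCongr h₂) ≪≫ₗ E, ?_, ?_⟩
  · rw [← hh, ← LinearMap.det_prodMap]
    rw [← LinearMap.det_conj ((h₁ : U →ₗ[F] U).prodMap (h₂ : W →ₗ[F] W)) E]
    congr 1
  · ext x
    constructor
    · rintro ⟨y, hy, rfl⟩
      have : E.symm y = (⟨y, hy⟩, 0) := by
        apply E.injective
        rw [E.apply_symm_apply]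
        simp [E]
      change E ((h₁.prodCongr h₂) (E.symm y)) ∈ U
      rw [this]
      simp [E]
    · intro hx
      refine ⟨(h₁.symm ⟨x, hx⟩ : U), Subtype.mem _, ?_⟩
      have : E.symm ((h₁.symm ⟨x, hx⟩ : U) : V) = (h₁.symm ⟨x, hx⟩, 0) := by
        apply E.injective
        rw [E.apply_symm_apply]
        simp [E]
      change E ((h₁.prodCongr h₂) (E.symm ((h₁.symm ⟨x, hx⟩ : U) : V))) = x
      rw [this]
      simp [E]

theorem exists_gl {F V : Type*} [Field F] [AddCommGroup V] [Module F V]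
    [FiniteDimensional F V] (U₁ U₂ : Submodule F V)
    (h : Module.finrank F U₁ = Module.finrank F U₂) :
    ∃ g : V ≃ₗ[F] V, U₁.map (g : V →ₗ[F] V) = U₂ := by
  classical
  obtain ⟨W₁, hW₁⟩ := Submodule.exists_isCompl U₁
  obtain ⟨W₂, hW₂⟩ := Submodule.exists_isCompl U₂
  have hW : Module.finrank F W₁ = Module.finrank F W₂ := by
    have h1 := Submodule.finrank_add_eq_of_isCompl hW₁
    have h2 := Submodule.finrank_add_eq_of_isCompl hW₂
    omega
  let e := LinearEquiv.ofFinrankEq U₁ U₂ h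
  let e' := LinearEquiv.ofFinrankEq W₁ W₂ hW
  let E₁ := Submodule.prodEquivOfIsCompl U₁ W₁ hW₁
  let E₂ := Submodule.prodEquivOfIsCompl U₂ W₂ hW₂
  refine ⟨E₁.symm ≪≫ₗ (e.prodCongr e') ≪≫ₗ E₂, ?_⟩
  ext x
  constructor
  · rintro ⟨y, hy, rfl⟩
    have : E₁.symm y = (⟨y, hy⟩, 0) := by
      apply E₁.injective
      rw [E₁.apply_symm_apply]
      simp [E₁]
    change E₂ ((e.prodCongr e') (E₁.symm y)) ∈ U₂
    rw [this]
    simp [E₂]
  · intro hx
    refine ⟨(e.symm ⟨x, hx⟩ : U₁), Subtype.mem _, ?_⟩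
    have : E₁.symm ((e.symm ⟨x, hx⟩ : U₁) : V) = (e.symm ⟨x, hx⟩, 0) := by
      apply E₁.injective
      rw [E₁.apply_symm_apply]
      simp [E₁]
    change E₂ ((e.prodCongr e') (E₁.symm ((e.symm ⟨x, hx⟩ : U₁) : V))) = x
    rw [this]
    simp [E₂]

/-- Let F be a finite field and n ≥ 1. For every k, the special linear group SL_n(F) acts transitively on the set of k-dimensional subspaces of F^n: any two subspaces of the same dimension are carried onto each other by some matrix of determinant 1. -/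
theorem result {F : Type*} [Field F] [Fintype F] (n : ℕ) (hn : 1 ≤ n) (U₁ U₂ : Submodule F (Fin n → F)) (h : Module.finrank F U₁ = Module.finrank F U₂) : ∃ g : Matrix.SpecialLinearGroup (Fin n) F, U₁.map ((Matrix.SpecialLinearGroup.toLin' g : (Fin n → F) ≃ₗ[F] (Fin n → F)) : (Fin n → F) →ₗ[F] (Fin n → F)) = U₂ := by
  classical
  have : NeZero n := ⟨by omega⟩
  obtain ⟨g, hg⟩ := exists_gl U₁ U₂ h
  have hd : LinearMap.det (g : (Fin n → F) →ₗ[F] (Fin n → F)) ≠ 0 :=
    (LinearEquiv.isUnit_det' g).ne_zero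
  obtain ⟨k, hk, hkU⟩ := exists_stab U₂ (LinearMap.det (g : (Fin n → F) →ₗ[F] (Fin n → F)))⁻¹
    (inv_ne_zero hd)
  let f : (Fin n → F) →ₗ[F] (Fin n → F) :=
    (k : (Fin n → F) →ₗ[F] (Fin n → F)) ∘ₗ (g : (Fin n → F) →ₗ[F] (Fin n → F))
  have hf : LinearMap.det f = 1 := by
    simp only [f, LinearMap.det_comp, hk]
    exact inv_mul_cancel₀ hd
  refine ⟨⟨LinearMap.toMatrix' f, by rw [LinearMap.det_toMatrix', hf]⟩, ?_⟩
  have h2 : ((Matrix.SpecialLinearGroup.toLin' (⟨LinearMap.toMatrix' f, by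
      rw [LinearMap.det_toMatrix', hf]⟩ : Matrix.SpecialLinearGroup (Fin n) F) :
      (Fin n → F) ≃ₗ[F] (Fin n → F)) : (Fin n → F) →ₗ[F] (Fin n → F)) = f := by
    have h3 : ((Matrix.SpecialLinearGroup.toLin' (⟨LinearMap.toMatrix' f, by
      rw [LinearMap.det_toMatrix', hf]⟩ : Matrix.SpecialLinearGroup (Fin n) F) :
      (Fin n → F) ≃ₗ[F] (Fin n → F)) : (Fin n → F) →ₗ[F] (Fin n → F)) =
      Matrix.toLin' (LinearMap.toMatrix' f) := rfl
    rw [h3, Matrix.toLin'_toMatrix']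
  rw [h2]
  simp only [f, Submodule.map_comp, hg, hkU]

end Cfsg.Agent.S2552
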