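import Cfsg.Statements.S3354
import Cfsg.Agent.S0000
import Cfsg.Agent.Schreier.Assembly
import Cfsg.Agent.H347.Aff.Asm
import Cfsg.Agent.H384.TwoTransMain

set_option autoImplicit false
open Cfsg

namespace Cfsg.Agent.S3354

/-- In a finite doubly transitive permutation group of degree at least 3, a one-point stabilizer is either a local subgroup (the normalizer of a non-trivial subgroup of prime-power order) or almost simple: it has a non-abelian simple normal subgroup with trivial centralizer (so that it embeds between that simple group and its automorphism group). -/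
theorem result {G Ω : Type*} [Group G] [Finite G]
    [MulAction G Ω] [FaithfulSMul G Ω] [Finite Ω] (hΩ : 3 ≤ Nat.card Ω)
    (h2 : MulAction.IsMultiplyPretransitive G Ω 2) (a : Ω) :
    Cfsg.IsLocalSubgroup (MulAction.stabilizer G a) ∨
    ∃ N : Subgroup (MulAction.stabilizer G a), N.Normal ∧ IsSimpleGroup N ∧ ¬ IsMulCommutative N ∧
      Subgroup.centralizer (N : Set (MulAction.stabilizer G a)) = ⊥ := by
  refine Cfsg.Agent.H347.Aff.of_AS hΩ h2 a fun T A => ?_
  have := A.finT
  have := A.simple
  have hK : Cfsg.IsKnownSimple' T := Cfsg.Agent.S0000.result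
  exact Cfsg.Agent.H347.Aff.Asm.concl A (Cfsg.Agent.Schreier.Assembly.known T A.nonab hK) a
    (Cfsg.Agent.H384.TwoTransMain.main (fun X _ _ _ => Cfsg.Agent.S0000.result) A)

end Cfsg.Agent.S3354
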