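import Cfsg.Statements.S3549
import Cfsg.Agent.H393.DerangeIdx

set_option autoImplicit false
open Cfsg

namespace Cfsg.Agent.S3549

open MulAction Pointwise
open Cfsg.Agent.H393

/-- Derangements on a block system are derangements on the set. -/
theorem derSub_block_le {G Ω : Type*} [Group G] [MulAction G Ω] [hG : IsPretransitive G Ω]
    {B : Set Ω} (hB : IsBlock G B) (hne : B.Nonempty) :
    derSub G (orbit G B) ≤ derSub G Ω := by
  apply Subgroup.closure_mono
  intro g hg ω hω
  obtain ⟨b, hb⟩ := hne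
  obtain ⟨h, hh⟩ := exists_smul_eq G b ω
  refine hg ⟨h • B, mem_orbit _ _⟩ ?_
  apply Subtype.ext
  change g • (h • B) = h • B
  have hB' : IsBlock G (h • B) := hB.translate h
  have h1 : ω ∈ h • B := by rw [← hh]; exact Set.smul_mem_smul_set hb
  have h2 : ω ∈ g • (h • B) := by
    rw [← hω]; exact Set.smul_mem_smul_set h1
  have h3 := isBlock_iff_smul_eq_of_nonempty.1 hB' (g := g) ⟨ω, h2, h1⟩
  exact h3

theorem index_add_one_le_orbit {G Ω : Type*} [Group G] [Finite G] [MulAction G Ω] [Finite Ω]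
    [hG : IsPretransitive G Ω] {B : Set Ω} (hB : IsBlock G B) (hne : B.Nonempty)
    (hBu : 2 ≤ (orbit G B).ncard) :
    (derSub G Ω).index + 1 ≤ (orbit G B).ncard := by
  have h1 : (derSub G Ω).index ∣ (derSub G (orbit G B)).index :=
    Subgroup.index_dvd_of_le (derSub_block_le hB hne)
  have : Nonempty (orbit G B) := ⟨⟨B, mem_orbit_self B⟩⟩
  have h2 : (derSub G (orbit G B)).index ∣ Nat.card (orbit G B) - 1 :=
    derSub_index_dvd (inferInstance : IsPretransitive G (orbit G B))
  have h3 : Nat.card (orbit G B) = (orbit G B).ncard := rfl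
  have h4 := Nat.le_of_dvd (by omega) (h1.trans h2)
  omega

theorem index_add_one_le_block {G Ω : Type*} [Group G] [Finite G] [MulAction G Ω] [Finite Ω]
    [hG : IsPretransitive G Ω] {B : Set Ω} (hB : IsBlock G B) {a b : Ω} (ha : a ∈ B) (hb : b ∈ B)
    (hab : b ≠ a) :
    (derSub G Ω).index + 1 ≤ B.ncard := by
  have hbX : b ∈ SubMulAction.ofStabilizer G a := (SubMulAction.mem_ofStabilizer_iff G a).2 hab
  have h1 := stab_le_subgroupOf hG a ⟨b, hbX⟩
  have h2 : (derSub G Ω).index ∣ (stabilizer (stabilizer G a)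
      (⟨b, hbX⟩ : SubMulAction.ofStabilizer G a)).index := by
    rw [derSub_index_eq hG a]
    exact Subgroup.index_dvd_of_le h1
  rw [index_stabilizer] at h2
  have h3 : (orbit (stabilizer G a) (⟨b, hbX⟩ : SubMulAction.ofStabilizer G a)).ncard ≤
      (B \ {a}).ncard := by
    refine Set.ncard_le_ncard_of_injOn (fun x => (x : Ω)) ?_ ?_ (Set.toFinite _)
    · rintro _ ⟨h, rfl⟩
      refine ⟨?_, (SubMulAction.mem_ofStabilizer_iff G a).1 (h • (⟨b, hbX⟩ : SubMulAction.ofStabilizer G a)).2⟩
      have hh : (h : G) • a = a := h.2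
      have ha' : a ∈ (h : G) • B := by
        have h7 : (h : G) • a ∈ (h : G) • B := Set.smul_mem_smul_set ha
        exact (congrArg (fun z => z ∈ (h : G) • B) hh).mp h7
      have h4 : (h : G) • B = B :=
        isBlock_iff_smul_eq_of_nonempty.1 hB (g := (h : G)) ⟨a, ha', ha⟩
      have h5 : (h : G) • b ∈ B := by
        rw [← h4]; exact Set.smul_mem_smul_set hb
      exact h5
    · intro x _ y _ hxy
      exact Subtype.ext hxy
  have h4 : 0 < (orbit (stabilizer G a) (⟨b, hbX⟩ : SubMulAction.ofStabilizer G a)).ncard :=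
    (Set.ncard_pos (Set.toFinite _)).2 ⟨_, mem_orbit_self _⟩
  have h5 := Nat.le_of_dvd h4 h2
  have h6 : (B \ {a}).ncard + 1 = B.ncard := Set.ncard_sdiff_singleton_add_one ha
  omega

/-- Let G act faithfully, transitively but imprimitively on a finite set with n points, and let D be the subgroup generated by the derangements. Then the index of D in G is at most √n − 1. -/
theorem result {G Ω : Type*} [Group G] [Finite G] [MulAction G Ω] [FaithfulSMul G Ω] [Finite Ω]
    (htrans : MulAction.IsPretransitive G Ω) (himp : ¬ MulAction.IsPreprimitive G Ω) :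
    ((Subgroup.closure {g : G | ∀ ω : Ω, g • ω ≠ ω}).index : ℝ) ≤ Real.sqrt (Nat.card Ω) - 1 := by
  have hB : ∃ B : Set Ω, IsBlock G B ∧ ¬ B.Subsingleton ∧ B ≠ Set.univ := by
    by_contra hcon
    apply himp
    refine { toIsPretransitive := htrans, isTrivialBlock_of_isBlock := ?_ }
    intro B hB
    by_cases hs : B.Subsingleton
    · exact Or.inl hs
    · refine Or.inr ?_
      by_contra hBu
      exact hcon ⟨B, hB, hs, hBu⟩
  obtain ⟨B, hB, hs, hu⟩ := hB
  rw [Set.not_subsingleton_iff] at hs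
  obtain ⟨a, ha, b, hb, hab⟩ := hs
  have hcard := hB.ncard_block_mul_ncard_orbit_eq ⟨a, ha⟩
  have h2 : 2 ≤ (orbit G B).ncard := by
    by_contra hlt
    have hpos : 0 < (orbit G B).ncard := (Set.ncard_pos (Set.toFinite _)).2 ⟨_, mem_orbit_self B⟩
    have h1 : (orbit G B).ncard = 1 := by omega
    rw [h1, mul_one, ← Set.ncard_univ] at hcard
    exact hu (Set.eq_of_subset_of_ncard_le (Set.subset_univ B) hcard.ge)
  have i1 := index_add_one_le_orbit hB ⟨a, ha⟩ h2
  have i2 := index_add_one_le_block hB ha hb hab.symm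
  have i3 : ((derSub G Ω).index + 1) * ((derSub G Ω).index + 1) ≤ Nat.card Ω := by
    rw [← hcard]; exact Nat.mul_le_mul i2 i1
  have i4 : (((derSub G Ω).index : ℝ) + 1) ^ 2 ≤ (Nat.card Ω : ℝ) := by
    rw [sq]; exact_mod_cast i3
  have i5 := Real.le_sqrt_of_sq_le i4
  change ((derSub G Ω).index : ℝ) ≤ _
  linarith

end Cfsg.Agent.S3549
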