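import Cfsg.Statements.S2554
import Cfsg.Agent.Walter.Main
import Cfsg.Agent.Walter.Final
import Cfsg.Agent.Walter.StepAll
import Cfsg.Agent.H168.ReeSylow

set_option autoImplicit false
open Cfsg

namespace Cfsg.Agent.S2554

/-- A non-abelian finite simple group all of whose Sylow subgroups are abelian is isomorphic to the Janko group J₁ or to PSL₂(q) for some prime power q > 3 with q ≡ 0, 3 or 5 (mod 8). -/
theorem result {G : Type*} [Group G] [Finite G]
    [IsSimpleGroup G] (hna : ¬ IsMulCommutative G)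
    (hA : ∀ (p : ℕ), p.Prime → ∀ (P : Sylow p G), IsMulCommutative ↥P) :
    Cfsg.Spor.IsoJ1 G ∨
      ∃ (F : Type) (_ : Field F) (_ : Fintype F), 3 < Fintype.card F ∧
        (Fintype.card F % 8 = 0 ∨ Fintype.card F % 8 = 3 ∨ Fintype.card F % 8 = 5) ∧
        Nonempty (G ≃* Matrix.ProjectiveSpecialLinearGroup (Fin 2) F) := by
  obtain ⟨S⟩ : Nonempty (Sylow 2 G) := inferInstance
  have hW := Cfsg.Agent.Walter.Main.wType_of_step Cfsg.Agent.Walter.StepAll.step G inferInstance hna
    S (Cfsg.Agent.Walter.Main.comm_of_isMulCommutative (hA 2 Nat.prime_two S))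
  exact Cfsg.Agent.H168.ReeSylow.of_wType Cfsg.Agent.Walter.Final.centThm hna hW
    (fun P => hA 3 Nat.prime_three P)

end Cfsg.Agent.S2554
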