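import Cfsg.Statements.S3974
import Cfsg.Agent.H491.CoverUnique

set_option autoImplicit false
universe u v
open Cfsg

namespace Cfsg.Agent.S3974

/-- A finite abelian group of order divisible by `p` maps onto `ℤ/n` with `p ∣ n`, with a lift of
`1` of order dividing `n`. -/
theorem exists_char {L : Type*} [CommGroup L] [Finite L] {p : ℕ} (hp : p.Prime)
    (hpL : p ∣ Nat.card L) : ∃ (n : ℕ) (χ : L →* Multiplicative (ZMod n)) (l : L),
      n ≠ 0 ∧ p ∣ n ∧ χ l = Multiplicative.ofAdd 1 ∧ l ^ n = 1 := by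
  classical
  obtain ⟨ι, _, n, hn, ⟨e⟩⟩ := CommGroup.equiv_prod_multiplicative_zmod_of_finite L
  have h1 : Nat.card L = ∏ i, n i := by
    rw [Nat.card_congr e.toEquiv, Nat.card_pi]
    exact Finset.prod_congr rfl fun i _ => Nat.card_zmod (n i)
  rw [h1, hp.prime.dvd_finsetProd_iff] at hpL
  obtain ⟨i, -, hi⟩ := hpL
  refine ⟨n i, (Pi.evalMonoidHom (fun i => Multiplicative (ZMod (n i))) i).comp e.toMonoidHom,
    e.symm (Pi.mulSingle i (Multiplicative.ofAdd 1)), by have := hn i; omega, hi, ?_, ?_⟩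
  · show (e (e.symm (Pi.mulSingle i (Multiplicative.ofAdd 1)))) i = _
    rw [MulEquiv.apply_symm_apply, Pi.mulSingle_eq_same]
  · rw [← map_pow, ← Pi.mulSingle_pow, ← ofAdd_nsmul, nsmul_eq_mul, mul_one, ZMod.natCast_self,
      ofAdd_zero, Pi.mulSingle_one, map_one]

/-- In a finite group of order divisible by `p`, some element is not an `n`-th power if
`p ∣ n`. -/
theorem exists_not_pow {K : Type*} [Group K] [Finite K] {p n : ℕ}
    (hp : p.Prime) (hpK : p ∣ Nat.card K) (hpn : p ∣ n) : ∃ k₀ : K, ∀ k : K, k ^ n ≠ k₀ := by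
  by_contra hcon
  push Not at hcon
  have : Fact p.Prime := ⟨hp⟩
  have hs : Function.Surjective (fun k : K => k ^ n) := fun k₀ => hcon k₀
  have hi : Function.Injective (fun k : K => k ^ n) := Finite.injective_iff_surjective.2 hs
  obtain ⟨x, hx⟩ := exists_prime_orderOf_dvd_card' p hpK
  have h1 : x ^ n = 1 := by
    obtain ⟨m, rfl⟩ := hpn
    rw [pow_mul, ← hx, pow_orderOf_eq_one, one_pow]
  have h2 : x = 1 := hi (by show x ^ n = 1 ^ n; rw [h1, one_pow])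
  rw [h2, orderOf_one] at hx
  exact hp.one_lt.ne hx

theorem coprime_of_unique {Q : Type u} [Group Q] [Finite Q] {A : Type v} [CommGroup A]
    (hA : Cfsg.HasSchurMultiplier Q A)
    (huniq : ∀ (Γ₁ Γ₂ : Type u) [Group Γ₁] [Finite Γ₁] [Group Γ₂] [Finite Γ₂] (σ₁ : Γ₁ →* Q)
      (σ₂ : Γ₂ →* Q), Cfsg.IsStemExtension σ₁ → Cfsg.IsStemExtension σ₂ →
      Nonempty (σ₁.ker ≃* A) → Nonempty (σ₂.ker ≃* A) →
      ∃ e : Γ₁ ≃* Γ₂, σ₂.comp e.toMonoidHom = σ₁) :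
    Nat.Coprime (Nat.card (Abelianization Q)) (Nat.card A) := by
  by_contra hcop
  obtain ⟨p, hp, hpL, hpA⟩ := Nat.Prime.not_coprime_iff_dvd.1 hcop
  obtain ⟨Γ, _, _, σ, hσ, ⟨e₁⟩⟩ := hA.1
  obtain ⟨n, χ, l, hn, hpn, hχ, hl⟩ := exists_char hp hpL
  obtain ⟨q₀, rfl⟩ := QuotientGroup.mk_surjective l
  obtain ⟨k₀, hk₀⟩ := exists_not_pow (K := σ.ker) hp
    (by rw [Nat.card_congr e₁.toEquiv]; exact hpA) hpn
  obtain ⟨Γ', _, _, σ', hσ', ⟨e₂⟩, he⟩ := Cfsg.Agent.H491.CoverUnique.exists_twist σ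
    (χ.comp Abelianization.of) (k₀ : Γ) hσ hn k₀.2 q₀ hχ
    (by
      rw [← Abelianization.ker_of, MonoidHom.mem_ker, map_pow]
      exact hl)
  obtain ⟨e, he'⟩ := huniq Γ Γ' σ σ' hσ hσ' ⟨e₁⟩ ⟨e₂.symm.trans e₁⟩
  obtain ⟨k, hk, hkn⟩ := he e he'
  exact hk₀ ⟨k, hk⟩ (Subtype.ext hkn)


/-- Let `Q` be a finite group with Schur multiplier `A`. Any two Schur covering groups of `Q` (finite stem extensions `σ₁ : Γ₁ →* Q`, `σ₂ : Γ₂ →* Q` with kernels isomorphic to `A`, `Γ₁, Γ₂` in the universe of `Q`) are isomorphic over `Q` — there is a group isomorphism `e : Γ₁ ≃* Γ₂` with `σ₂ ∘ e = σ₁` — if and only if the order of the commutator quotient of `Q` is coprime to the order of `A`. In particular a finite perfect group has a unique Schur covering group up to isomorphism over it. -/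
theorem result {Q : Type u} [Group Q] [Finite Q] {A : Type v} [CommGroup A] (hA : Cfsg.HasSchurMultiplier Q A) : (∀ (Γ₁ Γ₂ : Type u) [Group Γ₁] [Finite Γ₁] [Group Γ₂] [Finite Γ₂] (σ₁ : Γ₁ →* Q) (σ₂ : Γ₂ →* Q), Cfsg.IsStemExtension σ₁ → Cfsg.IsStemExtension σ₂ → Nonempty (σ₁.ker ≃* A) → Nonempty (σ₂.ker ≃* A) → ∃ e : Γ₁ ≃* Γ₂, σ₂.comp e.toMonoidHom = σ₁) ↔ Nat.Coprime (Nat.card (Abelianization Q)) (Nat.card A) := by
  constructor
  · intro huniq
    exact coprime_of_unique hA huniq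
  · intro hcop Γ₁ Γ₂ _ _ _ _ σ₁ σ₂ h₁ h₂ e₁ e₂
    exact Cfsg.Agent.H491.CoverUnique.exists_equiv_of_coprime hA hcop Γ₁ Γ₂ σ₁ σ₂ h₁ h₂
      e₁.some e₂.some

end Cfsg.Agent.S3974
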