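import Cfsg.Statements.S2563
import Cfsg.Agent.H171.SymF2

set_option autoImplicit false
open Cfsg

namespace Cfsg.Agent.S2563

open Module Matrix Cfsg.Agent.H171.SymF2 Cfsg.Agent.ClassicalGeometry.IsoTransfer

/-- the homomorphism attached to a model -/
theorem exists_hom {k : ℕ} (hk : 1 ≤ k) {ι : Type} [Fintype ι] [DecidableEq ι]
    (V : Submodule (ZMod 2) (E (4 * k + 4))) (p : E (4 * k + 4) →ₗ[ZMod 2] V)
    (hp1 : ∀ v : V, p v = v) (hp2 : ∀ w, w - (p w : E (4 * k + 4)) ∈ L k) (hp3 : ∀ w, w ∈ L k → p w = 0)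
    (Q : (ι → ZMod 2) → ZMod 2) (g : V ≃ₗ[ZMod 2] (ι → ZMod 2))
    (hg : ∀ v : V, QE (4 * k + 4) v = Q (g v)) :
    ∃ φ : Equiv.Perm (Fin (4 * k + 4)) →* ↥(Cfsg.isometryGroup (ZMod 2) Q), Function.Injective φ := by
  have hPp : ∀ (σ : Equiv.Perm (Fin (4 * k + 4))) (w : E (4 * k + 4)), p (P σ (p w : E (4 * k + 4))) = p (P σ w) := by
    intro σ w
    have h1 : P σ w = P σ (p w : E (4 * k + 4)) + (w - (p w : E (4 * k + 4))) := by
      rw [← P_L σ _ (hp2 w), ← map_add]
      congr 1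
      abel
    rw [h1, map_add, hp3 _ (hp2 w), add_zero]
  have hQp : ∀ w, QE (4 * k + 4) (p w : E (4 * k + 4)) = QE (4 * k + 4) w := by
    intro w
    have := QE_add_L (p w : E (4 * k + 4)) (w - (p w : E (4 * k + 4))) (hp2 w)
    rw [add_sub_cancel] at this
    exact this.symm
  let ρ : Equiv.Perm (Fin (4 * k + 4)) →* Module.End (ZMod 2) V :=
    { toFun := fun σ => p ∘ₗ P σ ∘ₗ V.subtype
      map_one' := by
        ext1 v
        exact hp1 v
      map_mul' := fun σ τ => by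
        ext1 v
        show p (P (σ * τ) v) = p (P σ (p (P τ v) : E (4 * k + 4)))
        rw [P_mul, hPp] }
  have hρ : ∀ σ (v : V), ρ σ v = p (P σ v) := fun σ v => rfl
  let M : Equiv.Perm (Fin (4 * k + 4)) →* Matrix ι ι (ZMod 2) :=
    ((LinearMap.toMatrixAlgEquiv' (R := ZMod 2) (n := ι)).toMonoidHom.comp
      (g.conjRingEquiv : Module.End (ZMod 2) V →* Module.End (ZMod 2) (ι → ZMod 2))).comp ρ
  have hM : ∀ σ (x : ι → ZMod 2), M σ *ᵥ x = g (ρ σ (g.symm x)) := by
    intro σ x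
    have : M σ = LinearMap.toMatrixAlgEquiv' (R := ZMod 2) (n := ι) (g.conjRingEquiv (ρ σ)) := rfl
    rw [this, ← Matrix.toLin'_apply]
    have h2 : Matrix.toLin' (LinearMap.toMatrixAlgEquiv' (R := ZMod 2) (n := ι) (g.conjRingEquiv (ρ σ))) =
      g.conjRingEquiv (ρ σ) := Matrix.toLin'_toMatrix' _
    rw [h2]
    rfl
  refine ⟨(M.toHomUnits).codRestrict (isometryGroup (ZMod 2) Q)
    (fun σ => mem_isometryGroup_iff.2 (fun u => ?_)), ?_⟩
  · show Q (M σ *ᵥ u) = Q u
    rw [hM, ← hg, hρ, hQp, QE_P, hg, LinearEquiv.apply_symm_apply]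
  · rw [injective_iff_map_eq_one]
    intro σ hσ
    have h1 : M σ = 1 := congrArg (fun t : ↥(isometryGroup (ZMod 2) Q) =>
      ((t : Matrix.GeneralLinearGroup ι (ZMod 2)) : Matrix ι ι (ZMod 2))) hσ
    have h2 : ∀ v : V, ρ σ v = v := by
      intro v
      have := hM σ (g v)
      rw [h1, one_mulVec, LinearEquiv.symm_apply_apply] at this
      exact (g.injective this).symm
    have h3 : ∀ w : E (4 * k + 4), P σ w - w ∈ L k := by
      intro w
      have h4 := h2 (p w)
      rw [hρ, hPp] at h4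
      have h5 := hp2 (P σ w)
      rw [h4] at h5
      have h6 := Submodule.sub_mem _ h5 (hp2 w)
      have h7 : P σ w - w = P σ w - (p w : E (4 * k + 4)) - (w - (p w : E (4 * k + 4))) := by abel
      rw [h7]
      exact h6
    -- two letters
    have h4 : ∀ i j : Fin (4 * k + 4), i ≠ j → (σ i = i ∨ σ i = j) := by
      intro i j hij
      by_contra hcon
      push Not at hcon
      have h5 := h3 (pair i j)
      rw [P_pair, mem_L] at h5
      -- find a letter outside `i, j, σ i, σ j`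
      have hcard : ∃ l : Fin (4 * k + 4), l ∉ ({i, j, σ i, σ j} : Finset (Fin (4 * k + 4))) := by
        by_contra hall
        push Not at hall
        have h6 : (Finset.univ : Finset (Fin (4 * k + 4))) ⊆ {i, j, σ i, σ j} := fun l _ => hall l
        have h7 := Finset.card_le_card h6
        have h8 : ({i, j, σ i, σ j} : Finset (Fin (4 * k + 4))).card ≤ 4 := Finset.card_le_four
        rw [Finset.card_univ, Fintype.card_fin] at h7
        omega
      obtain ⟨l, hl⟩ := hcard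
      simp only [Finset.mem_insert, Finset.mem_singleton, not_or] at hl
      have hval : ∀ a b c : Fin (4 * k + 4), (pair a b : E (4 * k + 4)).1 c =
          (if c = a then 1 else 0) + (if c = b then 1 else 0) := by
        intro a b c
        show (Pi.single a 1 + Pi.single b 1 : Fin (4 * k + 4) → ZMod 2) c = _
        simp only [Pi.add_apply, Pi.single_apply]
      rcases h5 with h5 | h5
      · -- equality
        have h6 := congrFun (congrArg Subtype.val (sub_eq_zero.1 h5)) (σ i)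
        rw [hval, hval, if_pos rfl, if_neg (fun h => hij (σ.injective h)), if_neg hcon.1, if_neg hcon.2] at h6
        exact absurd h6 (by decide)
      · have h6 := congrFun (congrArg Subtype.val h5) l
        have h7 : ((pair (σ i) (σ j) : E (4 * k + 4)) - (pair i j : E (4 * k + 4))).1 l =
          (pair (σ i) (σ j) : E (4 * k + 4)).1 l - (pair i j : E (4 * k + 4)).1 l := rfl
        rw [h7, hval, hval, if_neg hl.2.2.1, if_neg hl.2.2.2, if_neg hl.1, if_neg hl.2.1] at h6
        exact absurd h6 (by show (0 + 0 - (0 + 0) : ZMod 2) ≠ 1; decide)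
    ext1 i
    rw [Equiv.Perm.one_apply]
    have hcard : ∃ j l : Fin (4 * k + 4), i ≠ j ∧ i ≠ l ∧ j ≠ l := by
      have h5 : 2 < (Finset.univ : Finset (Fin (4 * k + 4))).card := by
        rw [Finset.card_univ, Fintype.card_fin]; omega
      have h6 : 1 < (Finset.univ.erase i : Finset (Fin (4 * k + 4))).card := by
        rw [Finset.card_erase_of_mem (Finset.mem_univ i), Finset.card_univ, Fintype.card_fin]; omega
      obtain ⟨j, hj, l, hl, hjl⟩ := Finset.one_lt_card.1 h6
      exact ⟨j, l, (Finset.ne_of_mem_erase hj).symm, (Finset.ne_of_mem_erase hl).symm, hjl⟩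
    obtain ⟨j, l, hij, hil, hjl⟩ := hcard
    rcases h4 i j hij with h5 | h5
    · exact h5
    · rcases h4 i l hil with h6 | h6
      · exact h6
      · exact absurd (h5.symm.trans h6) hjl

/-- For k ≥ 1 the symmetric group of degree 4k + 4 embeds in a full orthogonal group in dimension 4k + 2 over the field of two elements: in the isometry group of the plus-type form Σ xᵢyᵢ when k is odd, and in that of the minus-type form Σ xᵢyᵢ + (z₁² + z₁z₂ + z₂²) when k is even (through its action on even partitions of a (4k+4)-set, with the form 'half the size of a part, modulo 2'). -/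
theorem result (k : ℕ) (hk : 1 ≤ k) :
    (Odd k → ∃ φ : Equiv.Perm (Fin (4 * k + 4)) →* ↥(Cfsg.isometryGroup (ZMod 2) (Cfsg.quadFormPlus (2 * k + 1) (ZMod 2))), Function.Injective φ) ∧
    (Even k → ∃ φ : Equiv.Perm (Fin (4 * k + 4)) →* ↥(Cfsg.isometryGroup (ZMod 2) (Cfsg.quadFormMinus (2 * k) (ZMod 2) 1 1)), Function.Injective φ) := by
  classical
  obtain ⟨V, p, hp1, hp2, hp3, hdim, hnd, hsum⟩ := exists_model k
  rw [sum_chi, sum_chi_card, card_V V hdim] at hsum
  have hcard : ∀ {ι : Type} [Fintype ι] [DecidableEq ι] (Q : (ι → ZMod 2) → ZMod 2)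
      (g : V ≃ₗ[ZMod 2] (ι → ZMod 2)), (∀ v : V, QE (4 * k + 4) v = Q (g v)) →
      Nat.card {v : V // QE (4 * k + 4) v = 0} = Nat.card {v : ι → ZMod 2 // Q v = 0} := by
    intro ι _ _ Q g hg
    exact Nat.card_congr (g.toEquiv.subtypeEquiv fun v => by rw [hg]; rfl)
  have hpow : ((2 ^ (2 * (2 * k + 1)) : ℕ) : ℤ) = 4 * (2 ^ (2 * k)) ^ 2 := by
    push_cast
    rw [← pow_mul, show 2 * (2 * k + 1) = 2 + 2 * k * 2 by ring, pow_add]; norm_num
  have hpow2 : (2 : ℤ) ^ (2 * k) = 4 ^ k := by rw [pow_mul]; norm_num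
  have hpos : (0 : ℤ) < 2 ^ (2 * k) := by positivity
  rcases H174.exists_std (by omega) hdim ((QE (4 * k + 4)).comp V.subtype) hnd with ⟨g, hg⟩ | ⟨ζ, g, hζ, hg⟩
  · have hc := hcard _ g hg
    have hz := Cfsg.Agent.S0289.result (F := ZMod 2) (q := 2) (ZMod.card 2) (2 * k + 1) (by omega)
    rw [← hc] at hz
    refine ⟨fun _ => exists_hom hk V p hp1 hp2 hp3 _ g hg, fun hev => ?_⟩
    exfalso
    have h1 : ((2 ^ (2 * (2 * k + 1) - 1) + 2 ^ (2 * k + 1) - 2 ^ (2 * k + 1 - 1) : ℕ) : ℤ) =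
        2 * (2 ^ (2 * k)) ^ 2 + 2 ^ (2 * k) := by
      rw [show 2 * (2 * k + 1) - 1 = 1 + 2 * k * 2 by omega, show 2 * k + 1 - 1 = 2 * k by omega, pow_add, pow_mul,
        pow_succ 2 (2 * k)]
      rw [Nat.cast_sub (by nlinarith [Nat.pow_pos (n := 2 * k) (show 0 < 2 by norm_num)])]
      push_cast
      ring
    rw [hz, h1, hpow, neg_pow, pow_succ, hev.neg_one_pow, pow_succ, ← hpow2] at hsum
    nlinarith
  · have hζ1 : ζ = 1 := by
      have : ∀ z : ZMod 2, (∀ t : ZMod 2, t ^ 2 + t + z ≠ 0) → z = 1 := by decide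
      exact this ζ hζ
    subst hζ1
    let g' : V ≃ₗ[ZMod 2] ((Fin (2 * k) ⊕ Fin (2 * k)) ⊕ Fin 2 → ZMod 2) := g
    have hg' : ∀ v : V, QE (4 * k + 4) v = Cfsg.quadFormMinus (2 * k) (ZMod 2) 1 1 (g' v) := hg
    have hc := hcard _ g' hg'
    have hz : Nat.card {v : (Fin (2 * k) ⊕ Fin (2 * k)) ⊕ Fin 2 → ZMod 2 //
        Cfsg.quadFormMinus (2 * k) (ZMod 2) 1 1 v = 0} = 2 ^ (2 * (2 * k + 1) - 1) + 2 ^ (2 * k + 1 - 1) - 2 ^ (2 * k + 1) :=
      Cfsg.Agent.S0290.result (F := ZMod 2) (q := 2) (ZMod.card 2) (2 * k + 1) (by omega) 1 1 (by decide)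
    rw [← hc] at hz
    refine ⟨fun hodd => ?_, fun _ => exists_hom hk V p hp1 hp2 hp3 _ g' hg'⟩
    exfalso
    have h1 : ((2 ^ (2 * (2 * k + 1) - 1) + 2 ^ (2 * k + 1 - 1) - 2 ^ (2 * k + 1) : ℕ) : ℤ) =
        2 * (2 ^ (2 * k)) ^ 2 - 2 ^ (2 * k) := by
      rw [show 2 * (2 * k + 1) - 1 = 1 + 2 * k * 2 by omega, show 2 * k + 1 - 1 = 2 * k by omega, pow_add, pow_mul,
        pow_succ 2 (2 * k)]
      rw [Nat.cast_sub (by nlinarith [Nat.pow_pos (n := 2 * k) (show 0 < 2 by norm_num)])]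
      push_cast
      ring
    rw [hz, h1, hpow, neg_pow, pow_succ, hodd.neg_one_pow, pow_succ, ← hpow2] at hsum
    nlinarith

end Cfsg.Agent.S2563
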