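import Cfsg.Statements.S2657
import Cfsg.Agent.H190.Start
import Cfsg.Agent.H190.WeylF4
import Cfsg.Agent.S1062
import Cfsg.Agent.S1035

set_option autoImplicit false
open scoped MatrixGroups
open Cfsg

namespace Cfsg.Agent.S2657

open Cfsg.Lie Cfsg.Agent.H190 Cfsg.Agent.H190.PC Cfsg.Agent.ChevalleyStructure.Elts

universe u

theorem inF4 : InList chevF4 := by simp [InList]

theorem gens_ok : ∀ i < chevF4.rank, ∃ c ∈ WF4.gensF4, ∀ x < chevF4.nroots, get c x = chevF4.reflectRoot i x := by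
  decide +kernel

/-- the index of the torus of `F₄` -/
theorem index_ok {K : Type u} [Field K] [Fintype K] {ℓ : ℕ} (hl : ℓ.Prime) (hq : ℓ ∣ Fintype.card K - 1)
    (hds : ∀ k ∈ [2, 6, 8, 12], ¬ ℓ ∣ k) : ¬ ℓ ∣ (TG chevF4 K).index := by
  refine not_dvd_index inF4 [2, 6, 8, 12] (d := 1) (N := 24) one_ne_zero ?_ ?_ hl hq hds
  · rw [one_mul, Cfsg.Agent.S1062.result rfl]
    simp only [List.map_cons, List.map_nil, List.prod_cons, List.prod_nil]
    ring
  · exact Cfsg.Agent.S1035.result (F := K) rfl (chevF4, 1) (by simp)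

theorem weyl {K : Type u} [Field K] {n : ↥(chevF4.group K)} (hn : n ∈ NG chevF4 K) :
    (∀ t ∈ TG chevF4 K, n ^ 6 * t * (n ^ 6)⁻¹ = t) ∨ (∀ t ∈ TG chevF4 K, n ^ 8 * t * (n ^ 8)⁻¹ = t) ∨
      (∀ t ∈ TG chevF4 K, n ^ 6 * t * (n ^ 6)⁻¹ = t⁻¹) := by
  rcases WF4.order _ (pw_mem inF4 hn WF4.gensF4 gens_ok) with h | h | h
  · exact Or.inl (conj_pow_eq inF4 hn h)
  · exact Or.inr (Or.inl (conj_pow_eq inF4 hn h))
  · exact Or.inr (Or.inr (conj_pow_neg inF4 hn h))

/-- no section `A₁₁` if `p ≠ 11` -/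
theorem no_eleven {F : Type u} [Field F] [Fintype F] (p : ℕ) [hp : Fact p.Prime] [CharP F p] (h11 : p ≠ 11)
    (r : ℕ) (hr : 11 ≤ r) (H : Subgroup ↥(chevF4.group F)) (K : Subgroup ↥H) [K.Normal]
    (h : Nonempty (↥H ⧸ K ≃* ↥(alternatingGroup (Fin r)))) : False := by
  haveI : Fact (Nat.Prime 11) := ⟨by norm_num⟩
  have hm : ¬ p ∣ 11 := fun hd => h11 ((Nat.prime_dvd_prime_iff_eq hp.out (by norm_num)).1 hd)
  obtain ⟨K', _, _, f, hK'⟩ := field_ext' F p hm
  obtain ⟨H', ι, φ, hι, hφ⟩ := start chevF4 f hr H K h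
  have hidx := index_ok (K := K') (ℓ := 11) (by norm_num) hK' (by decide)
  obtain ⟨n, hn, hA⟩ := one_prime (torusData inF4 K') hidx ι hι φ hφ
    (x := ⟨x11, x11_mem⟩) (y := ⟨y11, y11_mem⟩) (k := 3) (by rw [Subgroup.orderOf_mk]; exact x11_order)
    (Subtype.ext rel11)
  rcases weyl hn with h6 | h8 | h6
  · exact absurd (hA.pow_eq_one h6) (by decide)
  · exact absurd (hA.pow_eq_one h8) (by decide)
  · exact absurd (hA.pow_eq_neg_one h6) (by decide)

/-- no section `A₁₂` if `p = 11` -/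
theorem no_twelve {F : Type u} [Field F] [Fintype F] (p : ℕ) [hp : Fact p.Prime] [CharP F p] (h11 : p = 11)
    (r : ℕ) (hr : 12 ≤ r) (H : Subgroup ↥(chevF4.group F)) (K : Subgroup ↥H) [K.Normal]
    (h : Nonempty (↥H ⧸ K ≃* ↥(alternatingGroup (Fin r)))) : False := by
  haveI : Fact (Nat.Prime 5) := ⟨by norm_num⟩
  haveI : Fact (Nat.Prime 7) := ⟨by norm_num⟩
  have hm : ¬ p ∣ 35 := by rw [h11]; decide
  obtain ⟨K', _, _, f, hK'⟩ := field_ext' F p hm
  obtain ⟨H', ι, φ, hι, hφ⟩ := start chevF4 f hr H K h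
  have hidx5 := index_ok (K := K') (ℓ := 5) (by norm_num) ((by norm_num : 5 ∣ 35).trans hK') (by decide)
  have hidx7 := index_ok (K := K') (ℓ := 7) (by norm_num) ((by norm_num : 7 ∣ 35).trans hK') (by decide)
  obtain ⟨n, hn, hA, hB⟩ := two_primes (torusData inF4 K') hidx5 hidx7 ι hι φ hφ
    (x₁ := ⟨x12, x12_mem⟩) (x₂ := ⟨z12, z12_mem⟩) (y := ⟨y12, y12_mem⟩) (k₁ := 2) (k₂ := 3)
    (by rw [Subgroup.orderOf_mk]; exact x12_order) (by rw [Subgroup.orderOf_mk]; exact z12_order)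
    (Subtype.ext comm12) (Subtype.ext rel12x) (Subtype.ext rel12z)
  rcases weyl hn with h6 | h8 | h6
  · exact absurd (hA.pow_eq_one h6) (by decide)
  · exact absurd (hB.pow_eq_one h8) (by decide)
  · exact absurd (hB.pow_eq_neg_one h6) (by decide)

/-- Alternating sections of the groups of type F₄. Let `F` be a finite field of characteristic `p` and let `G` be the Chevalley group of type F₄ over `F`. If some subgroup of `G` has a quotient isomorphic to the alternating group of degree `r`, then `r` is at most 10, or 11 in characteristic 11. (Only an upper bound is asserted.) -/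
theorem result {F : Type*} [Field F] [Fintype F] (p : ℕ) [Fact p.Prime] [CharP F p]
    (r : ℕ) (H : Subgroup ↥(Cfsg.Lie.chevF4.group F)) (K : Subgroup ↥H) [K.Normal]
    (h : Nonempty (↥H ⧸ K ≃* ↥(alternatingGroup (Fin r)))) :
    r ≤ 10 + (if p = 11 then 1 else 0) := by
  by_contra hlt
  split_ifs at hlt with hp
  · exact no_twelve p hp r (by omega) H K h
  · exact no_eleven p hp r (by omega) H K h

end Cfsg.Agent.S2657
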