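import Cfsg.Statements.S2351
import Cfsg.Agent.H121.Cyc.Main
import Cfsg.Agent.S0000

set_option autoImplicit false
open Cfsg

namespace Cfsg.Agent.S2351

/-- Let G be a finite non-abelian simple group with a cyclic Sylow p-subgroup P, and let χ be a non-principal irreducible complex character of G. Then either G is isomorphic to PSL_2 over the field with p elements, or χ(1) ≥ #P − 2. -/
theorem result {G : Type*} [Group G] [Finite G] [IsSimpleGroup G]
    (hG : ¬ IsMulCommutative G) {p : ℕ} [Fact p.Prime] (P : Sylow p G) (hP : IsCyclic P)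
    (χ : G → ℂ) (hχ : Cfsg.IsIrrCharacter G χ) (h1 : χ ≠ fun _ => 1) :
    (∃ (F : Type) (_ : Field F) (_ : Fintype F), Fintype.card F = p ∧
        Nonempty (G ≃* Matrix.ProjectiveSpecialLinearGroup (Fin 2) F)) ∨
      ∃ d : ℕ, χ 1 = d ∧ Nat.card P ≤ d + 2 :=
  Cfsg.Agent.H121.Cyc.main (fun X _ _ _ => Cfsg.Agent.S0000.result (G := X)) hG P hP χ hχ h1

end Cfsg.Agent.S2351
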