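import Cfsg.Statements.S5629
import Cfsg.Agent.H863.J4Rank7Of
import Cfsg.Agent.H856.Bridge
import Cfsg.Agent.H856.TwoEleven
import Cfsg.Agent.J4Type.Top

set_option autoImplicit false
open Cfsg

namespace Cfsg.Agent.S5629

open scoped Pointwise in
theorem conj_all {G : Type*} [Group G] [Finite G] (H : Cfsg.Agent.J4Type.Hex G) (V V' : Subgroup G)
    (hV : IsElementaryAbelian 2 V) (hc : Nat.card V = 2 ^ 11) (hV' : IsElementaryAbelian 2 V')
    (hc' : Nat.card V' = 2 ^ 11) : ∃ g : G, V.map (MulAut.conj g).toMonoidHom = V' := by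
  have key : ∀ W : Subgroup G, IsElementaryAbelian 2 W → Nat.card W = 2 ^ 11 →
      ∃ g : G, MulAut.conj g • W = H.E Cfsg.Agent.J4Type.hex0 := by
    intro W hW hcW
    refine Cfsg.Agent.H856.TwoEleven.exists_conj_E H ⟨fun a ha => ?_, fun a ha b hb => ?_⟩ hcW.ge
    · rw [← pow_two]; exact hW.2 a ha
    · exact congrArg Subtype.val (hW.1.1.1 ⟨a, ha⟩ ⟨b, hb⟩)
  obtain ⟨g, hg⟩ := key V hV hc
  obtain ⟨g', hg'⟩ := key V' hV' hc'
  refine ⟨g'⁻¹ * g, ?_⟩
  have h1 : (MulAut.conj (g'⁻¹ * g)) • V = V' := by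
    rw [map_mul, mul_smul, hg, ← hg', map_inv, inv_smul_smul]
  exact h1

/-- Let G be a finite non-abelian simple group of Janko-four type (an involution z whose centralizer H has an extraspecial largest normal 2-subgroup E of order 2^13 containing its centralizer in H, a normal subgroup N ≥ E of H with N/E of order 3 and H/N the automorphism group of M₂₂, and a subgroup P ≤ N of order 3 with C_E(P) = ⟨z⟩, N_H(P) ≠ C_H(P) and P ≤ C_H(P)′), and let V be an elementary abelian subgroup of G of order 2^11. Then the normalizer of V has index 173067389 in G, and in the action of G on the cosets of this normalizer the normalizer itself has exactly seven orbits, of sizes 1, 15180, 28336, 3400320, 32643072, 54405120 and 82575360 (a rank-7 permutation representation). -/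
theorem result {G : Type*} [Group G] [Finite G] [IsSimpleGroup G] (hG : ¬ IsMulCommutative G) (z : G) (hJ : Cfsg.IsOfJankoFourTypeAt z) (V : Subgroup G) (hV : Cfsg.IsElementaryAbelian 2 V) (hcard : Nat.card ↥V = 2 ^ 11) : (Subgroup.normalizer (V : Set G)).index = 173067389 ∧ ∃ c : Fin 7 → G ⧸ Subgroup.normalizer (V : Set G), (∀ i j : Fin 7, i ≠ j → MulAction.orbit ↥(Subgroup.normalizer (V : Set G)) (c i) ≠ MulAction.orbit ↥(Subgroup.normalizer (V : Set G)) (c j)) ∧ (∀ q : G ⧸ Subgroup.normalizer (V : Set G), ∃ i : Fin 7, q ∈ MulAction.orbit ↥(Subgroup.normalizer (V : Set G)) (c i)) ∧ (List.ofFn fun i => (MulAction.orbit ↥(Subgroup.normalizer (V : Set G)) (c i)).ncard) = [1, 15180, 28336, 3400320, 32643072, 54405120, 82575360] := by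
  obtain ⟨P, hP⟩ := hJ
  obtain ⟨Q, N, M, H, -, -⟩ := Cfsg.Agent.H856.ToHyp.exists_hyp hP
  obtain ⟨C, -, -, -⟩ := Cfsg.Agent.H856.Bridge.exists_compl_of_hyp H
  obtain ⟨f, hf⟩ := Cfsg.Agent.J4Type.Top.main H
  exact Cfsg.Agent.H863.J4Rank7Of.suborbits_of_conj (MulEquiv.ofBijective f hf)
    (fun V V' h1 h2 h3 h4 => conj_all C.toHex V V' h1 h2 h3 h4) V hV hcard

end Cfsg.Agent.S5629
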