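import Cfsg.Statements.S3041
import Cfsg.Agent.H271.ShultImg

set_option autoImplicit false
open Cfsg

namespace Cfsg.Agent.S3041

open Cfsg.Agent.H271.ShultTwo Cfsg.Agent.H271.ShultGen Cfsg.Agent.H271.ShultRep Cfsg.Agent.H271.ShultMain Cfsg.Agent.H271.ShultImg
open Cfsg.Agent.OddOrderLocal.Thm34 (inv_conj_mem mem_normalizer_of_conj)
open Cfsg.Agent.Lib.CoprimeCommutator (commutator_commutator_eq)
open Subgroup Module
open scoped commutatorElement

universe u v

section

variable {k : Type*} [Field k] {X : Type u} [Group X] [Finite X] {V : Type v} [AddCommGroup V] [Module k V]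
  [FiniteDimensional k V] {p r : ℕ} [hpp : Fact p.Prime] [CharP k p] {ρ : Representation k X V} {K : Subgroup X}
  [hKn : K.Normal] {x : X}

/-- `K` is a `2`-group -/
theorem isPGroup_two (h : Sh p r ρ K x) : IsPGroup 2 K := by
  have h2f : Fact (Nat.Prime 2) := ⟨Nat.prime_two⟩
  have h1 : ∀ g : K, (MulAut.conjNormal (H := K) x) g * g⁻¹ ∈ pCore 2 K := by
    apply Cfsg.Agent.H272.ShultComp.mod_two_core (MulAut.conjNormal (H := K) x) h.hr h.hr2 (conj_pow_eq h) h.hrK
    intro s hs hs2 S hS hxS g hg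
    have hfix : x * (g : X) = g * x := by
      by_cases hsp : s = p
      · subst hsp
        exact fix_p h hs2 (S.map K.subtype) (hS.map _) (Subgroup.map_subtype_le _) (map_subgroup_inv hxS) g ⟨g, hg, rfl⟩
      · exact h.fix_odd hs hs2 hsp (S.map K.subtype) (hS.map _) (Subgroup.map_subtype_le _) (map_subgroup_inv hxS) g ⟨g, hg, rfl⟩
    apply Subtype.ext
    show x * (g : X) * x⁻¹ = g
    rw [hfix, mul_inv_cancel_right]
  set T : Subgroup X := (pCore 2 K).map K.subtype with hT
  have hTn : T.Normal := pcore_normal 2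
  have hT2 : IsPGroup 2 T := (Lib.Cores.pCore_isPGroup (G := K) 2).map _
  have h2 : K ≤ T := by
    have hker : ∀ g, QuotientGroup.mk' T g = 1 ↔ g ∈ T := fun g => QuotientGroup.eq_one_iff g
    have h3 : ⁅K.map (QuotientGroup.mk' T), (zpowers x).map (QuotientGroup.mk' T)⁆ = ⊥ := by
      rw [Subgroup.commutator_comm, Subgroup.commutator_eq_bot_iff_le_centralizer, MonoidHom.map_zpowers, zpowers_le,
        Subgroup.mem_centralizer_iff]
      rintro _ ⟨g, hg, rfl⟩
      have h4 : x * g * x⁻¹ * g⁻¹ ∈ T := ⟨_, h1 ⟨g, hg⟩, rfl⟩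
      have h5 := (hker _).mpr h4
      rw [map_mul, map_mul, map_mul, map_inv, map_inv, mul_inv_eq_one, mul_inv_eq_iff_eq_mul] at h5
      exact h5.symm
    rw [← Subgroup.map_commutator, h.hKx, Subgroup.map_eq_bot_iff, QuotientGroup.ker_mk'] at h3
    exact h3
  exact hT2.to_le h2

end

/-- A fixed-point result of Shult type. Let X be a finite group with a normal subgroup G and a subgroup R of prime order r not dividing |G| such that X = GR, and let ρ be a faithful irreducible representation of X on a nonzero finite-dimensional vector space V over a field of prime characteristic in which R has no nonzero fixed vector. Then either [G, R] = 1, or r has the form 2^m + 1 and [G, R] is a non-abelian special 2-group. -/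
theorem result {X : Type*} [Group X] [Finite X] (G R : Subgroup X) [G.Normal] (hX : G ⊔ R = ⊤) (r : ℕ) (hr : r.Prime)
    (hR : Nat.card R = r) (hcop : ¬ r ∣ Nat.card G)
    {k : Type*} [Field k] {p : ℕ} [Fact p.Prime] [CharP k p] {V : Type*} [AddCommGroup V] [Module k V] [FiniteDimensional k V] [Nontrivial V]
    (ρ : Representation k X V) (hfaith : Function.Injective ρ)
    (hirr : ∀ W : Submodule k V, (∀ x : X, W.map (ρ x) ≤ W) → W = ⊥ ∨ W = ⊤)
    (hfix : ∀ v : V, (∀ x ∈ R, ρ x v = v) → v = 0) :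
    ⁅G, R⁆ = ⊥ ∨ ((∃ m : ℕ, r = 2 ^ m + 1) ∧ ¬ IsMulCommutative ↥⁅G, R⁆ ∧ Cfsg.IsSpecial 2 ↥⁅G, R⁆) := by
  classical
  have hrf : Fact r.Prime := ⟨hr⟩
  -- a generator of `R`
  obtain ⟨x, hxR⟩ : ∃ x : X, zpowers x = R := by
    have hcyc : IsCyclic R := isCyclic_of_prime_card hR
    obtain ⟨y, hy⟩ := hcyc.exists_generator
    refine ⟨y, ?_⟩
    apply le_antisymm
    · rw [zpowers_le]; exact y.2
    · intro z hz
      obtain ⟨n, hn⟩ := hy ⟨z, hz⟩
      exact ⟨n, congrArg Subtype.val hn⟩
  subst hxR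
  rw [Nat.card_zpowers] at hR
  have hxr : x ^ r = 1 := by rw [← hR]; exact pow_orderOf_eq_one x
  have hfix' : ∀ v, ρ x v = v → v = 0 := by
    intro v hv
    apply hfix
    rintro _ ⟨n, rfl⟩
    have hnat : ∀ j : ℕ, ρ (x ^ j) v = v := by
      intro j
      induction j with
      | zero => simp
      | succ j ih => rw [pow_succ, map_mul, End.mul_apply, hv, ih]
    obtain ⟨j, hj⟩ := (mem_powers_iff_mem_zpowers.2 ⟨n, rfl⟩ : x ^ n ∈ Submonoid.powers x)
    have hj' : x ^ j = x ^ n := hj
    show ρ (x ^ n) v = v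
    rw [← hj']; exact hnat j
  have hirr' : ∀ W : Submodule k V, (∀ g, ∀ w ∈ W, ρ g w ∈ W) → W = ⊥ ∨ W = ⊤ := by
    intro W hW
    apply hirr
    rintro g _ ⟨w, hw, rfl⟩
    exact hW g w hw
  have hpp : p.Prime := Fact.out
  -- `p ≠ r`
  have hpr : p ≠ r := by
    intro e
    subst e
    have hP : IsPGroup p (zpowers x) := by
      apply IsPGroup.of_card (n := 1)
      rw [Nat.card_zpowers, hR, pow_one]
    obtain ⟨v, hv0, hv⟩ := Lib.PGroupFixedVector.exists_ne_zero_fixed_rep hP (ρ.comp (zpowers x).subtype)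
    exact hv0 (hfix v (fun y hy => hv ⟨y, hy⟩))
  by_cases hr2 : r = 2
  · -- `x` acts as `-1`
    left
    subst hr2
    have hx2 : x * x = 1 := by rw [← pow_two]; exact hxr
    have hneg : ρ x = -1 := by
      ext v
      have h1 : ρ x (v + ρ x v) = v + ρ x v := by
        rw [map_add, ← End.mul_apply, ← map_mul, hx2, map_one, End.one_apply, add_comm]
      have h2 := hfix' _ h1
      rw [LinearMap.neg_apply, End.one_apply]
      exact eq_neg_of_add_eq_zero_right h2
    rw [Subgroup.commutator_comm, Subgroup.commutator_eq_bot_iff_le_centralizer, zpowers_le, Subgroup.mem_centralizer_iff]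
    intro g _
    apply hfaith
    rw [map_mul, map_mul, hneg, mul_neg, neg_mul, mul_one, one_mul]
  -- the situation
  set K : Subgroup X := ⁅G, zpowers x⁆ with hK
  have hKn : K.Normal := by
    rw [← Subgroup.normalizer_eq_top_iff, eq_top_iff, ← hX]
    exact sup_le (Subgroup.normalizer_commutator_ge_left G (zpowers x))
      (Subgroup.normalizer_commutator_ge_right G (zpowers x))
  have hxG : zpowers x ≤ normalizer (G : Set X) := by
    rw [Subgroup.normalizer_eq_top]; exact le_top
  have hKG : K ≤ G := Lib.CoprimeCommutator.commutator_le_left hxG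
  have hcopG : (Nat.card (zpowers x)).Coprime (Nat.card G) := by
    rw [Nat.card_zpowers, hR]
    exact (Nat.Prime.coprime_iff_not_dvd hr).2 hcop
  have hKx : ⁅K, zpowers x⁆ = K := commutator_commutator_eq (zpowers x) G hxG hcopG
  have hSh : Sh p r ρ K x :=
    { hr := hr
      hr2 := hr2
      hpr := hpr
      hxr := hxr
      hKx := hKx
      hrK := fun hd => hcop (hd.trans (Subgroup.card_dvd_of_le hKG))
      hfaith := fun g _ h => hfaith (by rw [h, map_one])
      hfix := hfix'
      hOp := by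
        intro A _ hAn hA
        rw [eq_bot_iff]
        intro a ha
        rw [Subgroup.mem_bot]
        exact hfaith (by rw [op_of_irr ρ hirr' A hAn hA a ha, map_one]) }
  by_cases hKb : K = ⊥
  · left; exact hKb
  right
  have hK2 : IsPGroup 2 K := isPGroup_two hSh
  have hp2 : p ≠ 2 := by
    intro e
    subst e
    exact hKb (hSh.hOp K le_rfl hKn hK2)
  have h2f : Fact (Nat.Prime 2) := ⟨Nat.prime_two⟩
  have card2 : ∀ S : Subgroup X, S ≤ K → ¬ p ∣ Nat.card S := by
    intro S hS hd
    obtain ⟨n, hn⟩ := IsPGroup.iff_card.1 (hK2.to_le hS)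
    rw [hn] at hd
    exact hp2 ((Nat.prime_dvd_prime_iff_eq hpp Nat.prime_two).mp (hpp.dvd_of_dvd_pow hd))
  have hsolv : ∀ S : Subgroup X, S ≤ K → Group.IsSolvable S := by
    intro S hS
    have := (hK2.to_le hS).isNilpotent
    infer_instance
  have hfixA : ∀ A : Subgroup X, A ≤ K → A.Normal → (∀ a ∈ A, ∀ b ∈ A, a * b = b * a) → ∀ a ∈ A, x * a = a * x := by
    intro A hAT hAn hab
    exact hSh.fix A hAT (fun a ha => hAn.conj_mem a ha x) (hsolv A hAT) (Or.inl hab) (card2 A hAT)
  have hKnot : ¬ ∀ g ∈ K, x * g = g * x := by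
    intro hc
    apply hKb
    rw [← hKx, Subgroup.commutator_comm, Subgroup.commutator_eq_bot_iff_le_centralizer, zpowers_le,
      Subgroup.mem_centralizer_iff]
    intro g hg
    exact (hc g hg).symm
  refine ⟨?_, ?_, ?_⟩
  · by_contra hnf
    apply hKnot
    apply hSh.fix K le_rfl (fun t ht => hKn.conj_mem t ht x) (hsolv K le_rfl) (Or.inr _) (card2 K le_rfl)
    intro hd
    obtain ⟨n, hn⟩ := IsPGroup.iff_card.1 hK2
    rw [hn] at hd
    obtain ⟨j, _, hj⟩ := (Nat.dvd_prime_pow Nat.prime_two).mp ((Dvd.intro_left _ (by ring : (r - 1) * (r - 1) = (r - 1) ^ 2)).trans hd)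
    apply hnf
    exact ⟨j, by have := hr.one_le; omega⟩
  · intro hcomm
    apply hKnot
    apply hfixA K le_rfl hKn
    intro a ha b hb
    exact congrArg Subtype.val (hcomm.is_comm.comm ⟨a, ha⟩ ⟨b, hb⟩)
  · apply special K hK2 x hKx _ hfixA
    exact (Nat.Coprime.coprime_dvd_right (Subgroup.card_dvd_of_le hKG) hcopG).symm

end Cfsg.Agent.S3041
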