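import Cfsg.Statements.S1909
import Cfsg.Agent.H20.FrobReduce
import Cfsg.Agent.H20.PSLTwoFrob
import Cfsg.Agent.H20.FrobASeven
import Cfsg.Agent.H20.FrobMEleven
import Cfsg.Agent.H20.FrobThree
import Cfsg.Agent.H20.FrobSz
import Cfsg.Agent.H20.FrobTitsInst
import Cfsg.Agent.H20.NGroupIso

set_option autoImplicit false
open Cfsg

namespace Cfsg.Agent.S1909

open Cfsg.Agent.H20 Cfsg.Agent.H20.FrobReduce Cfsg.Agent.H20.FrobTools

universe u

/-- the simple N-groups -/
theorem tr_simple {S : Type u} [Group S] [Finite S] [IsSimpleGroup S] (hN : Cfsg.IsNGroup S) : Tr S := by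
  by_cases hG : IsMulCommutative S
  · apply Tr.of_prime
    by_contra hp
    exact not_comm hp fun a b => hG.is_comm.comm a b
  · rcases NGroupIso.main hG hN with ⟨F, _, _, h4, ⟨e⟩⟩ | h | ⟨F, _, _, hF, ⟨e⟩⟩ | ⟨F, _, _, hF, ⟨e⟩⟩ | ⟨⟨e⟩⟩ | h | ⟨h, hV⟩
    · exact Tr.congr e fun n hn hc => PSLTwoFrob.frob F h4 n hn hc
    · exact FrobSz.tr h
    · exact FrobThree.trL hF e
    · exact FrobThree.trU hF e
    · exact FrobASeven.tr (fun h => hG ⟨⟨h⟩⟩) e
    · exact FrobMEleven.tr h
    · exact FrobTitsInst.tr h hV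

/-- Let G be a finite group all of whose composition factors are N-groups (every local subgroup solvable), and n a divisor of the order of G such that exactly n elements x of G satisfy x^n = 1. Then these elements form a subgroup. -/
theorem result {G : Type*} [Group G] [Finite G]
    (hN : ∀ H : Subgroup G, H.IsSubnormal → ∀ (N : Subgroup H) [N.Normal], IsSimpleGroup (H ⧸ N) → Cfsg.IsNGroup (H ⧸ N))
    (n : ℕ) (hn : n ∣ Nat.card G) (hcount : Nat.card {x : G // x ^ n = 1} = n) :
    ∃ H : Subgroup G, (H : Set G) = {x : G | x ^ n = 1} := by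
  refine FrobReduce.main (Nat.card G) G le_rfl (fun S _ hS hfac => ?_) n hn hcount
  obtain ⟨H, hH, f, hf⟩ := hfac
  have hfin : Finite S := Finite.of_surjective f hf
  let e : H ⧸ f.ker ≃* S := QuotientGroup.quotientKerEquivOfSurjective f hf
  have hS' : IsSimpleGroup (H ⧸ f.ker) := by
    have : Nontrivial (H ⧸ f.ker) := e.toEquiv.nontrivial
    exact IsSimpleGroup.isSimpleGroup_of_surjective e.symm.toMonoidHom e.symm.surjective
  have h1 := Classification.NGroupExclude.isNGroup_congr e (hN H hH f.ker hS')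
  exact (tr_simple h1).frobP

end Cfsg.Agent.S1909
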