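import Cfsg.Statements.S1910
import Cfsg.Agent.H23.TightSyl

set_option autoImplicit false
open Cfsg

namespace Cfsg.Agent.S1910

open Cfsg.Agent.H23.TightSyl in
open Subgroup in
/-- the main comparison -/
theorem card_le_card {G : Type*} [Group G] [Finite G] {Q R T S : Subgroup G}
    (h : Pair Q R T S) (hcard : Nat.card Q = Nat.card R) :
    Nat.card T ≤ Nat.card ↥(S ⊓ normalizer (T : Set G) ⊓ Q) := by
  rcases h.dichotomy with ⟨f, hf⟩ | hs
  · exact Nat.card_le_card_of_injective f hf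
  · obtain ⟨P, hTP, hPR, hP2, hPs⟩ := exists_syl h.pT h.TR
    have h1 : Nat.card T ≤ Nat.card P := Nat.le_of_dvd Nat.card_pos (Subgroup.card_dvd_of_le hTP)
    have hX : IsPGroup 2 ↥(S ⊓ normalizer (T : Set G) ⊓ Q) :=
      h.pS.to_le (inf_le_left.trans inf_le_left)
    have : Fact (Nat.Prime 2) := ⟨Nat.prime_two⟩
    obtain ⟨m, hm⟩ := IsPGroup.iff_card.1 hX
    obtain ⟨n, hn⟩ := IsPGroup.iff_card.1 hP2
    have h3 := card_mul_relIndex hPR
    have h4 := card_mul_relIndex (T := S ⊓ normalizer (T : Set G) ⊓ Q) (B := Q) inf_le_right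
    rw [← hcard] at h3
    have h5 : Nat.card P ∣ Nat.card ↥(S ⊓ normalizer (T : Set G) ⊓ Q) := by
      have h6 : Nat.card P ∣ Nat.card Q := ⟨_, h3.symm⟩
      rw [← h4, hn] at h6
      rw [hn]
      refine Nat.Coprime.dvd_of_dvd_mul_right ?_ h6
      exact Nat.Coprime.pow_left _ ((Nat.Prime.coprime_iff_not_dvd Nat.prime_two).2 hs)
    exact h1.trans (Nat.le_of_dvd Nat.card_pos h5)

/-- Let Q be a tightly embedded subgroup of a finite group G, g an element outside N_G(Q), T a nontrivial Sylow 2-subgroup of Q^g ∩ N_G(Q), and S a Sylow 2-subgroup of QT containing T. Then T ∩ Q = 1, and N_S(T) is the direct product of T and N_S(T) ∩ Q, with N_S(T) ∩ Q isomorphic to T. -/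
theorem result {G : Type*} [Group G] [Finite G] (Q : Subgroup G) (hQ : Cfsg.IsTightlyEmbedded Q)
    (g : G) (hg : g ∉ Subgroup.normalizer (Q : Set G))
    (T : Subgroup G) (hT1 : T ≠ ⊥) (hT : T ≤ Q.map (MulAut.conj g).toMonoidHom ⊓ Subgroup.normalizer (Q : Set G))
    (hTsyl : IsPGroup 2 T ∧ ¬ 2 ∣ T.relIndex (Q.map (MulAut.conj g).toMonoidHom ⊓ Subgroup.normalizer (Q : Set G)))
    (S : Subgroup G) (hTS : T ≤ S) (hS : S ≤ Q ⊔ T) (hSsyl : IsPGroup 2 S ∧ ¬ 2 ∣ S.relIndex (Q ⊔ T)) :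
    T ⊓ Q = ⊥ ∧
      T ⊓ (S ⊓ Subgroup.normalizer (T : Set G) ⊓ Q) = ⊥ ∧
      ⁅T, S ⊓ Subgroup.normalizer (T : Set G) ⊓ Q⁆ = ⊥ ∧
      T ⊔ (S ⊓ Subgroup.normalizer (T : Set G) ⊓ Q) = S ⊓ Subgroup.normalizer (T : Set G) ∧
      Nonempty (↥(S ⊓ Subgroup.normalizer (T : Set G) ⊓ Q) ≃* T) := by
  classical
  have h2f : Fact (Nat.Prime 2) := ⟨Nat.prime_two⟩
  set R : Subgroup G := Q.map (MulAut.conj g).toMonoidHom with hR
  have hmemR : ∀ x : G, x ∈ R ↔ g⁻¹ * x * g ∈ Q := by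
    intro x
    constructor
    · rintro ⟨q, hq, rfl⟩
      have : g⁻¹ * (g * q * g⁻¹) * g = q := by group
      simpa [this] using hq
    · intro hx
      exact ⟨_, hx, by simp [mul_assoc]⟩
  have hcard : Nat.card Q = Nat.card R :=
    Nat.card_congr (Q.equivMapOfInjective _ (MulAut.conj g).injective).toEquiv
  have hodd := hQ.2 g hg
  have tightR : ∀ y : G, y ∉ Subgroup.normalizer (R : Set G) →
      Odd (Nat.card ↥(R ⊓ R.map (MulAut.conj y).toMonoidHom)) := by
    intro y hy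
    have h1 : g⁻¹ * y * g ∉ Subgroup.normalizer (Q : Set G) := by
      intro hc
      apply hy
      rw [Subgroup.mem_normalizer_iff] at hc ⊢
      intro x
      rw [hmemR, hmemR, hc]
      have : g⁻¹ * y * g * (g⁻¹ * x * g) * (g⁻¹ * y * g)⁻¹ = g⁻¹ * (y * x * y⁻¹) * g := by group
      rw [this]
    have h2 := hQ.2 _ h1
    have h3 : R ⊓ R.map (MulAut.conj y).toMonoidHom =
        (Q ⊓ Q.map (MulAut.conj (g⁻¹ * y * g)).toMonoidHom).map (MulAut.conj g).toMonoidHom := by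
      ext x
      constructor
      · rintro ⟨hx1, ⟨z, hz, rfl⟩⟩
        refine ⟨g⁻¹ * (y * z * y⁻¹) * g, ⟨(hmemR _).1 hx1, ⟨g⁻¹ * z * g, (hmemR z).1 hz, ?_⟩⟩, ?_⟩
        · simp [mul_assoc]
        · simp [mul_assoc]
      · rintro ⟨_, ⟨hx1, ⟨q, hq, rfl⟩⟩, rfl⟩
        refine ⟨⟨_, hx1, rfl⟩, ⟨g * q * g⁻¹, ⟨q, hq, rfl⟩, ?_⟩⟩
        simp [mul_assoc]
    rw [h3]
    rw [Nat.card_congr (Subgroup.equivMapOfInjective _ _ (MulAut.conj g).injective).toEquiv.symm]
    exact h2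
  have h : Cfsg.Agent.H23.TightSyl.Pair Q R T S :=
    { odd := hodd, tight := tightR, pT := hTsyl.1, pS := hSsyl.1, TR := hT.trans inf_le_left,
      TN := hT.trans inf_le_right, T1 := hT1, TS := hTS, SQ := hS, Ss := hSsyl.2 }
  refine ⟨h.inf_bot, ?_, h.commutator_bot, h.sup_eq, ?_⟩
  · rw [eq_bot_iff]
    exact (inf_le_inf_left T inf_le_right).trans h.inf_bot.le
  -- the symmetric pair
  have hc1 := card_le_card h hcard
  set X := S ⊓ Subgroup.normalizer (T : Set G) ⊓ Q with hX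
  have hX2 : IsPGroup 2 X := h.pS.to_le (inf_le_left.trans inf_le_left)
  have hXle : X ≤ Q ⊓ Subgroup.normalizer (R : Set G) := le_inf inf_le_right h.le_normalizer
  obtain ⟨T', hXT', hT'le, hT'2, hT's⟩ := Cfsg.Agent.H23.TightSyl.exists_syl hX2 hXle
  obtain ⟨S', hTS', hS'le, hS'2, hS's⟩ :=
    Cfsg.Agent.H23.TightSyl.exists_syl (B := R ⊔ T') hT'2 le_sup_right
  have hcT : 1 < Nat.card T := by
    rw [← not_le]
    intro hc
    exact hT1 (Subgroup.eq_bot_of_card_le T hc)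
  have hXT : Nat.card X ≤ Nat.card T' := Nat.le_of_dvd Nat.card_pos (Subgroup.card_dvd_of_le hXT')
  have h' : Cfsg.Agent.H23.TightSyl.Pair R Q T' S' :=
    { odd := by rw [inf_comm]; exact hodd
      tight := hQ.2, pT := hT'2, pS := hS'2, TR := hT'le.trans inf_le_left,
      TN := hT'le.trans inf_le_right
      T1 := by
        intro hc
        rw [hc, Subgroup.card_bot] at hXT
        omega
      TS := hTS', SQ := hS'le, Ss := hS's }
  have hc2 := card_le_card h' hcard.symm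
  set X' := S' ⊓ Subgroup.normalizer (T' : Set G) ⊓ R with hX'
  have hX'2 : IsPGroup 2 X' := h'.pS.to_le (inf_le_left.trans inf_le_left)
  have hX'le : X' ≤ R ⊓ Subgroup.normalizer (Q : Set G) := le_inf inf_le_right h'.le_normalizer
  have hc3 : Nat.card X' ≤ Nat.card T :=
    Nat.le_of_dvd Nat.card_pos (Cfsg.Agent.H23.TightSyl.card_dvd hT hTsyl.2 hX'2 hX'le)
  have hcX : Nat.card X = Nat.card T := by omega
  rcases h.dichotomy with ⟨f, hf⟩ | hs
  · have hb : Function.Bijective f :=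
      (Nat.bijective_iff_injective_and_card f).2 ⟨hf, hcX.symm⟩
    exact ⟨(MulEquiv.ofBijective f hb).symm⟩
  · -- `X` is a Sylow 2-subgroup of `Q`; conjugate it into `R`
    set Y := X.map (MulAut.conj g).toMonoidHom with hY
    have e1 : X ≃* Y := X.equivMapOfInjective _ (MulAut.conj g).injective
    have hYR : Y ≤ R := Subgroup.map_mono inf_le_right
    have hYs : ¬ 2 ∣ Y.relIndex R := by
      rw [hY, hR, Subgroup.relIndex_map_map_of_injective _ _ (MulAut.conj g).injective]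
      exact hs
    have hcY : Nat.card Y = Nat.card X := (Nat.card_congr e1.toEquiv).symm
    obtain ⟨e2⟩ := Cfsg.Agent.H23.TightSyl.equiv_of_card (hX2.map _) hYs h.pT h.TR
      (by rw [hcY, hcX])
    exact ⟨e1.trans e2.symm⟩

end Cfsg.Agent.S1910
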