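import Cfsg.Statements.S1918
import Cfsg.Agent.S0000
import Cfsg.Agent.H336.LinFour.All
import Cfsg.Agent.H336.LinFour.RowE6
import Cfsg.Agent.H512.LinFour.RowF4
import Cfsg.Agent.H512.LinFour.FrameE8
import Cfsg.Agent.H318.Four.RowE7

set_option autoImplicit false
open Cfsg

namespace Cfsg.Agent.S1918

open Cfsg.Agent.H336.LinFour

universe u

/-- The exceptional rows. -/
theorem exc : All.Exc.{u} where
  f4 := by
    intro K _ _ _ F _ _ h2 e th O K0 h
    exact Cfsg.Agent.H512.LinFour.RowF4.row_F4 h (Cfsg.Agent.H785.SpE7.odd_of_two_ne h2) e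
  e6 := by
    intro K _ _ _ F _ _ h2 e th O K0 h
    exact RowE6.row_E6 h h2 e
  e7 := by
    intro K _ _ _ F _ _ h2 e th O K0 h
    exact Cfsg.Agent.H318.Four.RowE7.row_E7 h2 e h
  e8 := by
    intro K _ _ _ F _ _ h2 e th O K0 h
    exact Cfsg.Agent.H512.LinFour.FrameE8.row_E8 h (Cfsg.Agent.H785.SpE7.odd_of_two_ne h2) e
  te6 := by
    intro K _ _ _ F _ _ h2 q hq hF e th O K0 h
    exact RowE6.row_twE6 h h2 q e

/-- Let G be a finite group with an elementary abelian subgroup A of order 16 that is a Sylow 2-subgroup of its own centralizer, put N = N_G(A), and write O(X) for the largest normal subgroup of odd order of a group X. Suppose N/O(N) is a split extension E₁₆·GL₄(2): it has a self-centralizing normal elementary abelian subgroup of order 16 complemented by a copy of GL₄(2). Then G/O(G) is isomorphic to such a split extension E₁₆·GL₄(2) itself, to GL₅(2), to the automorphism group of GL₅(2), to the Mathieu group M₂₄,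 to an alternating group of degree 16, 17, 18 or 19, or to a symmetric group of degree 16 or 17. -/
theorem result {G : Type*} [Group G] [Finite G] (A : Subgroup G) (hA : Cfsg.IsElementaryAbelian 2 A) (hA16 : Nat.card A = 16)
    (hSyl : ¬ 2 ∣ A.relIndex (Subgroup.centralizer (A : Set G)))
    (hN : ∃ (E K : Subgroup (↥(Subgroup.normalizer (A : Set G)) ⧸ Cfsg.oddCore ↥(Subgroup.normalizer (A : Set G)))),
      E.Normal ∧ Cfsg.IsElementaryAbelian 2 E ∧ Nat.card E = 16 ∧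
      Subgroup.centralizer (E : Set (↥(Subgroup.normalizer (A : Set G)) ⧸ Cfsg.oddCore ↥(Subgroup.normalizer (A : Set G)))) = E ∧
      E ⊓ K = ⊥ ∧ E ⊔ K = ⊤ ∧ Nonempty (K ≃* GL (Fin 4) (ZMod 2))) :
    (∃ (E' K' : Subgroup (G ⧸ Cfsg.oddCore G)), E'.Normal ∧ Cfsg.IsElementaryAbelian 2 E' ∧ Nat.card E' = 16 ∧
        Subgroup.centralizer (E' : Set (G ⧸ Cfsg.oddCore G)) = E' ∧ E' ⊓ K' = ⊥ ∧ E' ⊔ K' = ⊤ ∧
        Nonempty (K' ≃* GL (Fin 4) (ZMod 2))) ∨
      Nonempty (G ⧸ Cfsg.oddCore G ≃* GL (Fin 5) (ZMod 2)) ∨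
      Nonempty (G ⧸ Cfsg.oddCore G ≃* MulAut (GL (Fin 5) (ZMod 2))) ∨
      Cfsg.Spor.IsoM24 (G ⧸ Cfsg.oddCore G) ∨
      (∃ n : ℕ, 16 ≤ n ∧ n ≤ 19 ∧ Nonempty (G ⧸ Cfsg.oddCore G ≃* alternatingGroup (Fin n))) ∨
      (∃ n : ℕ, (n = 16 ∨ n = 17) ∧ Nonempty (G ⧸ Cfsg.oddCore G ≃* Equiv.Perm (Fin n))) :=
  Frame.final (All.rows exc) (fun K _ _ _ => Cfsg.Agent.S0000.result (G := K)) A hA hA16 hN

end Cfsg.Agent.S1918
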