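import Cfsg.Statements.S1930
import Cfsg.Agent.H25.S30Top
import Cfsg.Agent.H25.S30Known
import Cfsg.Agent.H21.QDLie
import Cfsg.Agent.H26.UFRows
import Cfsg.Agent.Lib.GenFitting

set_option autoImplicit false
open Cfsg

namespace Cfsg.Agent.S1930

theorem no_pack {p r : ℕ} [Fact p.Prime] [Fact r.Prime] (hp3 : 3 < p) : ¬ H25.S30.Pack p r := by
  refine H25.S30.no_pack_of ?_
  intro M iM iM2 L iL K iK ρ' π l hM hL hK hs hna hqd hrK B hB hBQ ℓ hℓ hlt
  have hℓf : Fact ℓ.Prime := ⟨hℓ⟩
  have hna' : ¬ IsMulCommutative K := by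
    intro h
    obtain ⟨a, b, hab⟩ := hna
    exact hab (h.is_comm.comm a b)
  exact H21.QDLie.qd_lie hp3 hna hqd hlt
    (fun h2 hree => H26.UFRows.uf hℓ h2 hna' (H388.EvenFixAll.even_card hna').two_dvd hlt hree) hrK B hB hBQ

/-- Inside a finite group let G be a nontrivial subgroup and R an r-subgroup (r a prime) normalizing G, with the order of G prime to r. Let p > 3 be a prime with F*(G) = O_p(G), and let P be the intersection of all R-invariant Sylow p-subgroups of G. Then P has a nontrivial characteristic subgroup that is normalized by G. -/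
theorem result {X : Type*} [Group X] [Finite X] (G R : Subgroup X) (r : ℕ) [Fact r.Prime] (hR : IsPGroup r ↥R) (hcop : (Nat.card ↥G).Coprime r) (hnorm : R ≤ Subgroup.normalizer (G : Set X)) (hG : G ≠ ⊥) (p : ℕ) [Fact p.Prime] (hp : 3 < p) (hF : Cfsg.generalizedFittingSubgroup ↥G = Cfsg.pCore p ↥G) (P : Subgroup X) (hP : P = ⨅ S : {S : Sylow p ↥G // ∀ a ∈ R, ((S : Subgroup ↥G).map G.subtype).map (MulAut.conj a).toMonoidHom = (S : Subgroup ↥G).map G.subtype}, ((S : Sylow p ↥G) : Subgroup ↥G).map G.subtype) : ∃ C : Subgroup ↥P, C.Characteristic ∧ C ≠ ⊥ ∧ G ≤ Subgroup.normalizer ((C.map P.subtype : Subgroup X) : Set X) := by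
  refine H25.S30.top G R r hR hcop hnorm hG p hp ?_ (no_pack hp) P hP
  rw [← hF]
  exact Lib.GenFitting.centralizer_genFitting_le

end Cfsg.Agent.S1930
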