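import Cfsg.Statements.S1931
import Cfsg.Agent.S0000
import Cfsg.Agent.H25.LayRes
import Cfsg.Agent.H254.CopAll

set_option autoImplicit false
open Cfsg

namespace Cfsg.Agent.S1931

/-- Inside a finite group let G be a subgroup and R a noncyclic abelian r-subgroup (r a prime) normalizing G, with the order of G prime to r, and let p > 3 be a prime. Suppose that for every nonidentity a ∈ R, R centralizes the subgroup O^p(F*(C_G(a))) generated by the p'-elements of the generalized Fitting subgroup of C_G(a). Then R centralizes O^p(F*(G)). -/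
theorem result {X : Type*} [Group X] [Finite X] (G R : Subgroup X) (r : ℕ) [Fact r.Prime] (hR : IsPGroup r ↥R) (hcop : (Nat.card ↥G).Coprime r) (hnorm : R ≤ Subgroup.normalizer (G : Set X)) (hab : IsMulCommutative ↥R) (hnc : ¬ IsCyclic ↥R) (p : ℕ) [Fact p.Prime] (hp : 3 < p) (hloc : ∀ a ∈ R, a ≠ 1 → R ≤ Subgroup.centralizer ((((Cfsg.pResidual p ↥(Cfsg.generalizedFittingSubgroup ↥(G ⊓ Subgroup.centralizer ({a} : Set X)))).map (Cfsg.generalizedFittingSubgroup ↥(G ⊓ Subgroup.centralizer ({a} : Set X))).subtype).map (G ⊓ Subgroup.centralizer ({a} : Set X)).subtype : Subgroup X) : Set X)) : R ≤ Subgroup.centralizer ((((Cfsg.pResidual p ↥(Cfsg.generalizedFittingSubgroup ↥G)).map (Cfsg.generalizedFittingSubgroup ↥G).subtype).map G.subtype : Subgroup X) : Set X) := by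
  refine H25.LayRes.main G R r hR hcop hnorm hab hnc p (fun L hL => ?_) hloc
  have hs : IsSimpleGroup (L ⧸ Subgroup.center L) := hL.2.2
  refine H254.CopAll.known _ ?_ S0000.result
  intro hc
  have hperf : Group.IsPerfect L := hL.2.1
  have hq : Group.IsPerfect (L ⧸ Subgroup.center L) :=
    Group.IsPerfect.ofSurjective (QuotientGroup.mk'_surjective _)
  have hsol : Group.IsSolvable (L ⧸ Subgroup.center L) := by
    let _ : CommGroup (L ⧸ Subgroup.center L) :=
      { (inferInstance : Group (L ⧸ Subgroup.center L)) with mul_comm := fun a b => hc.is_comm.comm a b }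
    infer_instance
  exact Group.IsPerfect.not_isSolvable (L ⧸ Subgroup.center L) hsol

end Cfsg.Agent.S1931
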