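import Cfsg.Statements.S1937
import Cfsg.Agent.S1938
import Cfsg.Agent.H28.FromZStar

set_option autoImplicit false
open Cfsg

namespace Cfsg.Agent.S1937

/-- Let p be an odd prime and G a finite group with no nontrivial normal subgroup of order prime to p. Every automorphism of G of p-power order that fixes a Sylow p-subgroup of G elementwise is inner. -/
theorem result {G : Type*} [Group G] [Finite G] {p : ℕ} [Fact p.Prime] (hp : p ≠ 2)
    (hcore : Cfsg.pPrimeCore p G = ⊥) (P : Sylow p G) (α : MulAut G) (hα : ∃ j : ℕ, orderOf α = p ^ j)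
    (hfix : ∀ x ∈ (P : Subgroup G), α x = x) : ∃ g : G, ∀ x : G, α x = g * x * g⁻¹ := by
  exact H28.FromZStar.inner P α (fun S x h1 h2 => S1938.result S x h1 h2) hp hcore hα hfix

end Cfsg.Agent.S1937
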