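import Cfsg.Statements.S1941
import Mathlib
import Cfsg.Agent.H27.InnerCocycle
import Cfsg.Agent.S1313
import Cfsg.Agent.SignalizersComponents.PConstrained

set_option autoImplicit false
open Cfsg

namespace Cfsg.Agent.S1941

open Subgroup

/-- If an automorphism `α` fixes the generalized Fitting subgroup pointwise and `O_{p'}(G) = 1`, then `α` is
trivial modulo an abelian normal `p`-subgroup. -/
theorem exists_normal {G : Type*} [Group G] [Finite G] {p : ℕ} [Fact p.Prime] (hcore : Cfsg.pPrimeCore p G = ⊥)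
    (α : MulAut G) (hF : ∀ x ∈ Cfsg.generalizedFittingSubgroup G, α x = x) :
    ∃ Z : Subgroup G, Z.Normal ∧ (∀ a ∈ Z, ∀ b ∈ Z, a * b = b * a) ∧ IsPGroup p Z ∧
      ∀ g : G, α g * g⁻¹ ∈ Z := by
  have hFn : (fittingSubgroup G).Normal :=
    SignalizersComponents.ComponentExists.fittingSubgroup_normal G
  have hLn : (layer G).Normal := SignalizersComponents.Components.layer_normal G
  have hn : (generalizedFittingSubgroup G).Normal := by
    show (layer G ⊔ fittingSubgroup G).Normal
    infer_instance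
  set Z : Subgroup G := Subgroup.centralizer (generalizedFittingSubgroup G : Set G) with hZ
  have hZn : Z.Normal := inferInstance
  have hZle : Z ≤ generalizedFittingSubgroup G := S1313.centralizer_le G
  have hab : ∀ a ∈ Z, ∀ b ∈ Z, a * b = b * a := by
    intro a ha b hb
    exact (Subgroup.mem_centralizer_iff.mp ha b (hZle hb)).symm
  have hcomm : IsMulCommutative Z := ⟨⟨fun a b => Subtype.ext (hab a a.2 b b.2)⟩⟩
  have hnil : Group.IsNilpotent Z := by
    let _ : CommGroup Z := { (inferInstance : Group Z) with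
      mul_comm := fun a b => Subtype.ext (hab a a.2 b b.2) }
    infer_instance
  have hZF : Z ≤ fittingSubgroup G := le_sSup ⟨hZn, hnil⟩
  have hFp : fittingSubgroup G = pCore p G :=
    SignalizersComponents.PConstrained.fittingSubgroup_eq_pCore_of_pPrimeCore_eq_bot p hcore
  have hpc : IsPGroup p (pCore p G) := Lib.Cores.pCore_isPGroup p
  refine ⟨Z, hZn, hab, hpc.to_le (hZF.trans hFp.le), ?_⟩
  intro g
  rw [hZ, Subgroup.mem_centralizer_iff]
  intro f hf
  have h1 : g⁻¹ * f * g ∈ generalizedFittingSubgroup G := by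
    simpa using hn.conj_mem f hf g⁻¹
  have h2 := hF _ h1
  rw [map_mul, map_mul, map_inv, hF f hf] at h2
  -- (α g)⁻¹ * f * α g = g⁻¹ * f * g
  calc f * (α g * g⁻¹) = α g * ((α g)⁻¹ * f * α g) * g⁻¹ := by group
    _ = α g * (g⁻¹ * f * g) * g⁻¹ := by rw [h2]
    _ = α g * g⁻¹ * f := by group

/-- `O_{p'}(G) = 1`: an automorphism fixing a Sylow `p`-subgroup and the layer pointwise is inner. -/
theorem result {G : Type*} [Group G] [Finite G] {p : ℕ} [Fact p.Prime] (hcore : Cfsg.pPrimeCore p G = ⊥)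
    (T : Sylow p G) (α : MulAut G) (hα : ∃ j : ℕ, orderOf α = p ^ j) (hfixT : ∀ x ∈ (T : Subgroup G), α x = x)
    (hfixE : ∀ x ∈ Cfsg.layer G, α x = x) : ∃ g : G, ∀ x : G, α x = g * x * g⁻¹ := by
  have hFp : fittingSubgroup G = pCore p G :=
    SignalizersComponents.PConstrained.fittingSubgroup_eq_pCore_of_pPrimeCore_eq_bot p hcore
  have hFT : fittingSubgroup G ≤ T := by
    rw [hFp]
    exact Lib.Cores.pCore_le_sylow T
  have hF : ∀ x ∈ Cfsg.generalizedFittingSubgroup G, α x = x := by
    intro x hx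
    have hle : Cfsg.generalizedFittingSubgroup G ≤ (α.toMonoidHom).eqLocus (MonoidHom.id G) := by
      show layer G ⊔ fittingSubgroup G ≤ _
      exact sup_le (fun y hy => hfixE y hy) (fun y hy => hfixT y (hFT hy))
    exact hle hx
  obtain ⟨Z, hZn, hab, hZp, hZ⟩ := exists_normal hcore α hF
  obtain ⟨z, _, hz⟩ := H27.InnerCocycle.exists_inner T Z hZn hab hZp α hfixT hZ
  exact ⟨z, hz⟩

end Cfsg.Agent.S1941
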