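import Cfsg.Statements.S1943
import Cfsg.Agent.S1938
import Cfsg.Agent.H28.FromZStar

set_option autoImplicit false
open Cfsg

namespace Cfsg.Agent.S1943

/-- Let p be an odd prime, Q a finite quasisimple group with centre Z, P a Sylow p-subgroup of Q and x an element of the centre of P. Then the coset xZ contains an element y of p-power order that is fixed by every automorphism σ of Q with σ(x)x⁻¹ ∈ Z. -/
theorem result {Q : Type*} [Group Q] [Finite Q] (hQ : Cfsg.IsQuasisimple Q) {p : ℕ} [Fact p.Prime] (hp : p ≠ 2)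
    (P : Sylow p Q) (x : Q) (hxP : x ∈ (P : Subgroup Q)) (hxZ : ∀ y ∈ (P : Subgroup Q), x * y = y * x) :
    ∃ y : Q, y * x⁻¹ ∈ Subgroup.center Q ∧ (∃ k : ℕ, orderOf y = p ^ k) ∧
      ∀ σ : MulAut Q, σ x * x⁻¹ ∈ Subgroup.center Q → σ y = y := by
  exact H28.FromZStar.quasi (fun S x h1 h2 => S1938.result S x h1 h2) hp hQ P x hxP hxZ

end Cfsg.Agent.S1943
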