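import Cfsg.Statements.S1955
-- import your own Cfsg.Agent.* helpers here
import Cfsg.Agent.H30.ZStarPerm
import Cfsg.Agent.S1938

set_option autoImplicit false
open Cfsg

namespace Cfsg.Agent.S1955

/-- Permutation form of the Z*-statement for a prime p: let the finite group G act faithfully and transitively on a finite set, and let g be an element of G of p-power order with exactly one fixed point w, such that g is central in the stabilizer of w. Then the largest normal subgroup N of G of order prime to p is transitive, the stabilizer of w is the centralizer of g, and G = N·C_G(g). -/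
theorem result {G : Type*} [Group G] [Finite G] {α : Type*} [Finite α] [MulAction G α] [FaithfulSMul G α]
    [MulAction.IsPretransitive G α] {p : ℕ} [Fact p.Prime] (g : G) (hg : ∃ k : ℕ, orderOf g = p ^ k) (w : α)
    (hw : g • w = w) (huniq : ∀ a : α, g • a = a → a = w) (hcen : ∀ h : G, h • w = w → h * g = g * h) :
    (∀ a b : α, ∃ n ∈ Cfsg.pPrimeCore p G, n • a = b) ∧
      MulAction.stabilizer G w = Subgroup.centralizer ({g} : Set G) ∧
      Cfsg.pPrimeCore p G ⊔ Subgroup.centralizer ({g} : Set G) = ⊤ := by
  have hiso := Cfsg.Agent.H30.ZStarPerm.isolated huniq hcen hw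
  obtain ⟨k, hk⟩ := hg
  have h1 : IsPGroup p (Subgroup.zpowers g) := by
    refine IsPGroup.of_card (n := k) ?_
    rw [Nat.card_zpowers, hk]
  obtain ⟨S, hS⟩ := h1.exists_le_sylow
  have hgS : g ∈ (S : Subgroup G) := hS (Subgroup.mem_zpowers g)
  refine Cfsg.Agent.H30.ZStarPerm.concl ⟨k, hk⟩ huniq hcen hw (Cfsg.Agent.S1938.result S g hgS ?_)
  intro h hh
  exact Cfsg.Agent.H256.ZBasic.eq_of_mem hiso S.isPGroup' hgS hh

end Cfsg.Agent.S1955
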