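import Cfsg.Statements.S2029
import Cfsg.Agent.H810.KMFinal

set_option autoImplicit false
open Cfsg

namespace Cfsg.Agent.S2029

/-- Let p be an odd prime and G a finite group that is both of local characteristic p (p divides its order and every p-local subgroup N satisfies C_N(O_p(N)) ≤ O_p(N)) and of characteristic 2 type (even order and every 2-local subgroup M satisfies C_M(O_2(M)) ≤ O_2(M)). Then every 2-local subgroup of G has p-rank at most 2. -/
theorem result {G : Type*} [Group G] [Finite G] (p : ℕ) [Fact p.Prime] (hp : p ≠ 2) (hGp : Cfsg.IsOfLocalCharacteristic p G) (hG2 : Cfsg.IsCharacteristicTwoType G) : Cfsg.TwoLocalPRankLE p 2 G := by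
  classical
  by_contra hcon
  rw [Cfsg.TwoLocalPRankLE] at hcon
  push Not at hcon
  obtain ⟨H, ⟨T, hT, hT1, rfl⟩, hr⟩ := hcon
  rw [Cfsg.PRankLE] at hr
  push Not at hr
  obtain ⟨A, hAc, hAp, hA3⟩ := hr
  have hel : Cfsg.IsElementaryAbelian p (A.map (Subgroup.normalizer (T : Set G)).subtype) := by
    refine H810.KM.elab_of ?_ ?_
    · rintro _ ⟨a, ha, rfl⟩ _ ⟨b, hb, rfl⟩
      have : (⟨a, ha⟩ : A) * ⟨b, hb⟩ = ⟨b, hb⟩ * ⟨a, ha⟩ := hAc.is_comm.comm _ _
      exact congrArg (fun t : A => ((t : ↥(Subgroup.normalizer (T : Set G))) : G)) this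
    · rintro _ ⟨a, ha, rfl⟩
      exact congrArg (fun t : ↥(Subgroup.normalizer (T : Set G)) => (t : G)) (hAp a ha)
  have hc : Nat.card (A.map (Subgroup.normalizer (T : Set G)).subtype) = Nat.card A :=
    (Nat.card_congr (A.equivMapOfInjective _
      (Subgroup.normalizer (T : Set G)).subtype_injective).toEquiv).symm
  have hpos : 1 < p := (Fact.out : p.Prime).one_lt
  obtain ⟨k, hk⟩ := IsPGroup.iff_card.1 (H810.KM.elab_pgroup hel)
  have hk3 : 3 ≤ k := by
    by_contra hlt
    have h1 : p ^ k ≤ p ^ 2 := Nat.pow_le_pow_right (by omega) (by omega)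
    rw [← hk, hc] at h1
    omega
  have hbd : ∀ k, H810.KM.Pk p k G → k ≤ Nat.card G := by
    rintro k ⟨A, -, -, hA, -, -, -⟩
    have h1 : Nat.card A ≤ Nat.card G := Subgroup.card_le_card_group A
    rw [hA] at h1
    exact (Nat.lt_pow_self hpos).le.trans h1
  have hPk : H810.KM.Pk p k G := ⟨_, T, hel, hk, hT, hT1, Subgroup.map_subtype_le A⟩
  have hm := Nat.findGreatest_spec (P := fun k => H810.KM.Pk p k G) (hbd k hPk) hPk
  have hle := Nat.le_findGreatest (P := fun k => H810.KM.Pk p k G) (hbd k hPk) hPk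
  exact H810.KM.Hyp.false (p := p)
    (m := Nat.findGreatest (fun k => H810.KM.Pk p k G) (Nat.card G))
    ⟨hp, hGp.2, hG2.2, fun k' hk' => Nat.le_findGreatest (hbd k' hk') hk', hk3.trans hle⟩ hm

end Cfsg.Agent.S2029
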