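import Cfsg.Statements.S2030
import Cfsg.Agent.S0000
import Cfsg.Agent.H46.MSMain

set_option autoImplicit false
open Cfsg

namespace Cfsg.Agent.S2030

/-- Every finite nonabelian simple group has a subgroup that is a minimal simple group (a nonabelian simple group all of whose proper subgroups are solvable). -/
theorem result {G : Type*} [Group G] [Finite G] [IsSimpleGroup G] (hna : ¬ IsMulCommutative G) : ∃ H : Subgroup G, Cfsg.IsMinimalSimple ↥H := by
  exact Cfsg.Agent.H46.MS.hasMS_of_known hna Cfsg.Agent.S0000.result

end Cfsg.Agent.S2030
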