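import Cfsg.Statements.S2154
import Cfsg.Agent.KFacts.RgdFiltChev
import Cfsg.Agent.S1048

set_option autoImplicit false
open Cfsg

namespace Cfsg.Agent.S2154

open CoxeterSystem Cfsg.Agent.ChevalleyStructure.CoxeterGeom Cfsg.Agent.Tits.Roots Cfsg.Agent.Tits.Core
  Cfsg.Agent.Tits.RootComb Cfsg.Agent.Nodes.Comb Cfsg.Agent.Nodes.Reps Cfsg.Agent.Nodes.BNOf
  Cfsg.Agent.Nodes.StabComb Cfsg.Agent.Nodes.Bruhat Cfsg.Agent.Nodes.LeviDec
open Cfsg.Lie Cfsg.Agent.ChevalleyStructure Cfsg.Agent.ChevalleyStructure.Elts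
  Cfsg.Agent.ChevalleyStructure.RootVec Cfsg.Agent.ChevalleyStructure.RootVecTab
  Cfsg.Agent.ChevalleyStructure.NPerm Cfsg.Agent.ChevalleyStructure.CoxeterGeomTypes
open Cfsg.Agent.Nodes Cfsg.Agent.Nodes.RGDChev Cfsg.Agent.KFacts.RgdBorelTits Cfsg.Agent.KFacts.RgdFilt

universe u

/-- the set of natural numbers of a set of indices -/
def natSet {l : ℕ} (J : Set (Fin l)) : Set ℕ := {j | ∃ h : j < l, (⟨j, h⟩ : Fin l) ∈ J}

section Main

variable {D : ChevalleyDatum} {l : ℕ} {M : CoxeterMatrix (Fin l)} (hp : IsType D l M) {K : Type u} [Field K]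
  {W : Type*} [Group W] (cs : CoxeterSystem M W)

include hp in
theorem mem_natSet {J : Set (Fin l)} {i : Fin l} : (i : ℕ) ∈ natSet J ↔ i ∈ J :=
  ⟨fun ⟨_, h⟩ => h, fun h => ⟨i.2, h⟩⟩

theorem VJ_le (J : Set (Fin l)) :
    (VJ cs hp.isCartan (fun x => (XV D l K x).subgroupOf (D.group K)) J).map (D.group K).subtype ≤
      D.unipotentRadical K (natSet J) := by
  rw [Subgroup.map_le_iff_le_comap]
  refine RGD.Sup_le fun x hx => ?_
  obtain ⟨hx1, hx0, k, hk, hk0⟩ := hx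
  obtain ⟨r, hr, rfl⟩ := (isRoot_iff hp cs x).1 hx1
  intro g hg
  rw [Subgroup.mem_subgroupOf, XV_vec hp K hr, mem_rootSubgroup_iff hp.inList] at hg
  obtain ⟨t, ht⟩ := hg
  rw [Subgroup.mem_comap]
  refine Subgroup.subset_closure ⟨r, t, ?_, ?_, ?_⟩
  · rw [isPosRoot_iff hp.checked]
    refine ⟨hr, fun i hi => ?_⟩
    rw [hp.rank_eq] at hi
    exact hx0 ⟨i, hi⟩
  · rw [inRootSub_iff hp.checked]
    rintro ⟨-, h1⟩
    have h2 := h1 k (lt_rank hp k) (fun h => hk ((mem_natSet hp).1 h))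
    rw [vec_apply] at hk0
    omega
  · rw [Subgroup.coe_subtype, ht, coe_xG]

theorem PJ_le (J : Set (Fin l)) :
    (PJ cs hp.isCartan ((D.diagonalSubgroup K).subgroupOf (D.group K))
      (fun x => (XV D l K x).subgroupOf (D.group K)) J).map (D.group K).subtype ≤
      D.parabolicSubgroup K (natSet J) := by
  have hL := (Cfsg.Agent.S1048.result (F := K) D hp.inList (natSet J)).2.1
  rw [← hL]
  unfold PJ
  rw [Subgroup.map_sup]
  refine sup_le (le_trans ?_ le_sup_right) (le_trans (VJ_le hp cs J) le_sup_left)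
  unfold LJ
  rw [Subgroup.map_sup]
  refine sup_le ?_ ?_
  · rintro _ ⟨g, hg, rfl⟩
    exact (le_sup_left : D.diagonalSubgroup K ≤ D.leviSubgroup K (natSet J)) hg
  · rw [Subgroup.map_le_iff_le_comap]
    refine RGD.Sup_le fun x hx => ?_
    obtain ⟨hx1, hx0⟩ := hx
    obtain ⟨r, hr, rfl⟩ := (isRoot_iff hp cs x).1 hx1
    intro g hg
    rw [Subgroup.mem_subgroupOf, XV_vec hp K hr, mem_rootSubgroup_iff hp.inList] at hg
    obtain ⟨t, ht⟩ := hg
    rw [Subgroup.mem_comap]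
    refine (le_sup_right : _ ≤ D.leviSubgroup K (natSet J)) (Subgroup.subset_closure ⟨r, t, ?_, ?_⟩)
    · rw [inRootSub_iff hp.checked]
      refine ⟨hr, fun i hi hiJ => ?_⟩
      rw [hp.rank_eq] at hi
      exact hx0 ⟨i, hi⟩ (fun h => hiJ ⟨hi, h⟩)
    · rw [Subgroup.coe_subtype, ht, coe_xG]

include hp in
theorem main [Finite K] (p : ℕ) [Fact p.Prime] [CharP K p] (U : Subgroup (GL D.Idx K))
    (hUG : U ≤ D.group K) (hU : IsPGroup p ↥U) (hne : U ≠ ⊥) :
    ∃ g ∈ D.group K, ∃ J : Set ℕ, (∃ i, i < D.rank ∧ i ∉ J) ∧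
      Subgroup.normalizer (U : Set (GL D.Idx K)) ⊓ D.group K ≤
        (D.parabolicSubgroup K J).map (MulAut.conj g).toMonoidHom ∧
      U ≤ (D.unipotentRadical K J).map (MulAut.conj g).toMonoidHom := by
  have : Finite (GL D.Idx K) := inferInstance
  have : Finite ↥(D.group K) := inferInstance
  have : Finite M.Group := finite_W hp M.toCoxeterSystem
  have hK : IsPGroup p ↥(U.subgroupOf (D.group K)) :=
    hU.comap_of_injective (D.group K).subtype Subtype.val_injective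
  have hK1 : U.subgroupOf (D.group K) ≠ ⊥ := by
    rw [Ne, Subgroup.subgroupOf_eq_bot]
    intro h
    apply hne
    rw [eq_bot_iff]
    intro u hu
    exact (Subgroup.disjoint_def.1 h hu (hUG hu)) ▸ Subgroup.one_mem _
  obtain ⟨g, J, hJ, h1, h2⟩ := borel_tits (KFacts.RgdFiltChev.filt (K := K) hp M.toCoxeterSystem p)
    (GG_eq_top (G1_eq_top hp M.toCoxeterSystem)) hK hK1
  refine ⟨g, g.2, natSet J, ?_, ?_, ?_⟩
  · obtain ⟨i, hi⟩ := (Set.ne_univ_iff_exists_notMem J).1 hJ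
    exact ⟨i, lt_rank hp i, fun h => hi ((mem_natSet hp).1 h)⟩
  · rintro x ⟨hx, hxG⟩
    have hx' : (⟨x, hxG⟩ : ↥(D.group K)) ∈ Subgroup.normalizer ((U.subgroupOf (D.group K) : Subgroup ↥(D.group K)) : Set ↥(D.group K)) := by
      rw [Subgroup.mem_normalizer_iff]
      intro y
      rw [Subgroup.mem_subgroupOf, Subgroup.mem_subgroupOf]
      exact (Subgroup.mem_normalizer_iff.1 hx) (y : GL D.Idx K)
    have h3 := mem_cj.1 (h2 hx')
    refine ⟨(g : GL D.Idx K)⁻¹ * x * g, PJ_le hp M.toCoxeterSystem J ⟨_, h3, rfl⟩, ?_⟩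
    show (g : GL D.Idx K) * ((g : GL D.Idx K)⁻¹ * x * g) * (g : GL D.Idx K)⁻¹ = x
    group
  · intro x hx
    have hx' : (⟨x, hUG hx⟩ : ↥(D.group K)) ∈ U.subgroupOf (D.group K) := hx
    have h3 := mem_cj.1 (h1 hx')
    refine ⟨(g : GL D.Idx K)⁻¹ * x * g, VJ_le hp M.toCoxeterSystem J ⟨_, h3, rfl⟩, ?_⟩
    show (g : GL D.Idx K) * ((g : GL D.Idx K)⁻¹ * x * g) * (g : GL D.Idx K)⁻¹ = x
    group

end Main

/-- The Borel–Tits property of the finite Chevalley groups of types G₂, B₂, D₄, F₄, E₆, E₇, E₈ over a finite field of characteristic p: for every non-trivial p-subgroup U of the group G there are an element g of G and a proper set J of fundamental roots such that the normaliser of U in G lies in the conjugate by g of the standard parabolic subgroup P_J and U lies in the conjugate by g of its unipotent radical U_J. -/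
theorem result {F : Type*} [Field F] [Fintype F] (p : ℕ) [Fact p.Prime] [CharP F p] (D : Cfsg.Lie.ChevalleyDatum) (hD : D ∈ [Cfsg.Lie.chevG2, Cfsg.Lie.chevB2, Cfsg.Lie.chevD4, Cfsg.Lie.chevF4, Cfsg.Lie.chevE6, Cfsg.Lie.chevE7, Cfsg.Lie.chevE8]) (U : Subgroup (GL D.Idx F)) (hUG : U ≤ D.group F) (hU : IsPGroup p ↥U) (hne : U ≠ ⊥) : ∃ g ∈ D.group F, ∃ J : Set ℕ, (∃ i, i < D.rank ∧ i ∉ J) ∧ Subgroup.normalizer (U : Set (GL D.Idx F)) ⊓ D.group F ≤ (D.parabolicSubgroup F J).map (MulAut.conj g).toMonoidHom ∧ U ≤ (D.unipotentRadical F J).map (MulAut.conj g).toMonoidHom := by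
  have hT : ∃ (l : ℕ) (M : CoxeterMatrix (Fin l)), IsType D l M := by
    simp only [List.mem_cons, List.not_mem_nil, or_false] at hD
    rcases hD with rfl | rfl | rfl | rfl | rfl | rfl | rfl
    · exact ⟨2, CoxeterMatrix.G₂, by simp [IsType, typeList]⟩
    · exact ⟨2, CoxeterMatrix.B 2, by simp [IsType, typeList]⟩
    · exact ⟨4, coxeterD4, by simp [IsType, typeList]⟩
    · exact ⟨4, CoxeterMatrix.F₄, by simp [IsType, typeList]⟩
    · exact ⟨6, CoxeterMatrix.E₆, by simp [IsType, typeList]⟩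
    · exact ⟨7, CoxeterMatrix.E₇, by simp [IsType, typeList]⟩
    · exact ⟨8, CoxeterMatrix.E₈, by simp [IsType, typeList]⟩
  obtain ⟨l, M, hp⟩ := hT
  exact main hp p U hUG hU hne

end Cfsg.Agent.S2154
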