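import Cfsg.Statements.S2176
import Cfsg.Agent.H81.InvGen
import Cfsg.Agent.H81.RkEEight
import Cfsg.Agent.H83.RedEEight
-- import your own Cfsg.Agent.* helpers here

set_option autoImplicit false
open Cfsg

namespace Cfsg.Agent.S2176

open Cfsg.Lie Cfsg.Agent.ChevalleyStructure.Elts Cfsg.Agent.Nodes.RGDChev Cfsg.Agent.H81.RankTwo
  Cfsg.Agent.H81.InvGen Cfsg.Agent.H81.RkEEight Cfsg.Agent.H83.RedEEight Cfsg.Agent.H83.OrthRed

theorem hp : IsType chevE8 8 CoxeterMatrix.E₈ := by simp [IsType, typeList]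

theorem eqv2 {F : Type*} [Field F] [CharP F 2] : Eqv hp.inList F [232, 233] [239, 226] :=
  eqv_of_word (w := [7, 6, 5, 4, 3, 1]) (by decide +kernel) (by decide +kernel) (by decide +kernel)

theorem eqv3 {F : Type*} [Field F] [CharP F 2] : Eqv hp.inList F [228, 222, 218] [239, 226, 159] :=
  eqv_of_word (w := [0, 2, 3, 4, 7, 6, 5, 4, 3, 2, 1, 3, 4, 5]) (by decide +kernel) (by decide +kernel)
    (by decide +kernel)

theorem eqv4 {F : Type*} [Field F] [CharP F 2] : Eqv hp.inList F [226, 220, 213, 216] [239, 226, 159, 152] :=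
  eqv_of_word (w := [5, 4, 0, 2, 3, 4, 5, 6, 7, 6, 5, 4, 3, 2, 1, 3, 4, 5, 6, 7]) (by decide +kernel)
    (by decide +kernel) (by decide +kernel)

theorem rk1 {F : Type*} [Field F] [CharP F 2] : (wmat chevE8 F [239] - 1).rank = 58 := rank_239 F
theorem rk2 {F : Type*} [Field F] [CharP F 2] : (wmat chevE8 F [232, 233] - 1).rank = 92 := by
  rw [← rank_of_eqv eqv2, rank_239_226 F]
theorem rk3 {F : Type*} [Field F] [CharP F 2] : (wmat chevE8 F [228, 222, 218] - 1).rank = 110 := by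
  rw [← rank_of_eqv eqv3, rank_239_226_159 F]
theorem rk4 {F : Type*} [Field F] [CharP F 2] : (wmat chevE8 F [226, 220, 213, 216] - 1).rank = 120 := by
  rw [← rank_of_eqv eqv4, rank_239_226_159_152 F]

/-- the representatives of the statement -/
def Ls : List (List ℕ) := [[239], [232, 233], [228, 222, 218], [226, 220, 213, 216]]

theorem Ls_map {F : Type*} [Field F] : Ls.map (wmat chevE8 F) = [Cfsg.Lie.chevE8.x F 239 1, Cfsg.Lie.chevE8.x F 232 1 * Cfsg.Lie.chevE8.x F 233 1, Cfsg.Lie.chevE8.x F 228 1 * Cfsg.Lie.chevE8.x F 222 1 * Cfsg.Lie.chevE8.x F 218 1, Cfsg.Lie.chevE8.x F 226 1 * Cfsg.Lie.chevE8.x F 220 1 * Cfsg.Lie.chevE8.x F 213 1 * Cfsg.Lie.chevE8.x F 216 1] := by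
  simp only [Ls, wmat, List.map_cons, List.map_nil, List.prod_cons, List.prod_nil, mul_one, mul_assoc]

/-- Conjugacy classes of involutions in the Chevalley group of type E₈ over a finite field F of characteristic two (the matrix group generated by the root elements x_r(t)). In this problem's root numbering for type E₈ (the Chevalley data module; fundamental roots numbered so that p₁–p₃–p₄–p₅–p₆–p₇–p₈ is the long chain of the diagram and p₂ is joined to p₄; roots indexed by their coefficient vectors in increasing order) let r = 239 be the highest root (2,3,4,6,5,4,3,2), α = 232 = (2,2,4,5,4,3,2,1), β = 233 = (2,3,3,5,4,3,2,1), γ = 228 = (2,2,3,4,3,2,2,1), δ = 222 = (1,2,3,4,3,3,2,1), ε = 218 = (1,2,2,4,4,3,2,1), φ = 226 = (2,2,3,4,3,2,1,0), ψ = 220 = (1,2,3,4,3,2,1,1), θ = 213 = (1,2,2,3,3,3,2,1), ω = 216 = (1,2,2,4,3,2,2,1) (the roots within each of {α, β}, {γ, δ, ε}, {φ, ψ, θ, ω} pairwise orthogonal);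 consider x_r(1), x_α(1)x_β(1), x_γ(1)x_δ(1)x_ε(1) and x_φ(1)x_ψ(1)x_θ(1)x_ω(1). Then: each invertible matrix equal to one of these four products lies in the group and has order 2; every element of order 2 of the group is conjugate in the group to one of them; and no two of them are conjugate in the group (so, the four matrices being distinct, the group has exactly four conjugacy classes of involutions). -/
theorem result {F : Type*} [Field F] [Fintype F] [CharP F 2] :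
    (∀ y : GL Cfsg.Lie.chevE8.Idx F, ((y : GL Cfsg.Lie.chevE8.Idx F) : Matrix Cfsg.Lie.chevE8.Idx Cfsg.Lie.chevE8.Idx F) ∈ [Cfsg.Lie.chevE8.x F 239 1, Cfsg.Lie.chevE8.x F 232 1 * Cfsg.Lie.chevE8.x F 233 1, Cfsg.Lie.chevE8.x F 228 1 * Cfsg.Lie.chevE8.x F 222 1 * Cfsg.Lie.chevE8.x F 218 1, Cfsg.Lie.chevE8.x F 226 1 * Cfsg.Lie.chevE8.x F 220 1 * Cfsg.Lie.chevE8.x F 213 1 * Cfsg.Lie.chevE8.x F 216 1] → y ∈ Cfsg.Lie.chevE8.group F ∧ orderOf y = 2) ∧
    (∀ g ∈ Cfsg.Lie.chevE8.group F, orderOf g = 2 → ∃ y ∈ Cfsg.Lie.chevE8.group F, ((y : GL Cfsg.Lie.chevE8.Idx F) : Matrix Cfsg.Lie.chevE8.Idx Cfsg.Lie.chevE8.Idx F) ∈ [Cfsg.Lie.chevE8.x F 239 1, Cfsg.Lie.chevE8.x F 232 1 * Cfsg.Lie.chevE8.x F 233 1, Cfsg.Lie.chevE8.x F 228 1 * Cfsg.Lie.chevE8.x F 222 1 * Cfsg.Lie.chevE8.x F 218 1, Cfsg.Lie.chevE8.x F 226 1 * Cfsg.Lie.chevE8.x F 220 1 * Cfsg.Lie.chevE8.x F 213 1 * Cfsg.Lie.chevE8.x F 216 1] ∧ ∃ h ∈ Cfsg.Lie.chevE8.group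 F, h * g * h⁻¹ = y) ∧
    (∀ y₁ ∈ Cfsg.Lie.chevE8.group F, ∀ y₂ ∈ Cfsg.Lie.chevE8.group F, ((y₁ : GL Cfsg.Lie.chevE8.Idx F) : Matrix Cfsg.Lie.chevE8.Idx Cfsg.Lie.chevE8.Idx F) ∈ [Cfsg.Lie.chevE8.x F 239 1, Cfsg.Lie.chevE8.x F 232 1 * Cfsg.Lie.chevE8.x F 233 1, Cfsg.Lie.chevE8.x F 228 1 * Cfsg.Lie.chevE8.x F 222 1 * Cfsg.Lie.chevE8.x F 218 1, Cfsg.Lie.chevE8.x F 226 1 * Cfsg.Lie.chevE8.x F 220 1 * Cfsg.Lie.chevE8.x F 213 1 * Cfsg.Lie.chevE8.x F 216 1] → ((y₂ : GL Cfsg.Lie.chevE8.Idx F) : Matrix Cfsg.Lie.chevE8.Idx Cfsg.Lie.chevE8.Idx F) ∈ [Cfsg.Lie.chevE8.x F 239 1, Cfsg.Lie.chevE8.x F 232 1 * Cfsg.Lie.chevE8.x F 233 1, Cfsg.Lie.chevE8.x F 228 1 * Cfsg.Lie.chevE8.x F 222 1 * Cfsg.Lie.chevE8.x F 218 1, Cfsg.Lie.chevE8.x F 226 1 * Cfsg.Lie.chevE8.x F 220 1 * Cfsg.Lie.chevE8.x F 213 1 * Cfsg.Lie.chevE8.x F 216 1] →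
      (∃ h ∈ Cfsg.Lie.chevE8.group F, h * y₁ * h⁻¹ = y₂) → ((y₁ : GL Cfsg.Lie.chevE8.Idx F) : Matrix Cfsg.Lie.chevE8.Idx Cfsg.Lie.chevE8.Idx F) = ((y₂ : GL Cfsg.Lie.chevE8.Idx F) : Matrix Cfsg.Lie.chevE8.Idx Cfsg.Lie.chevE8.Idx F)) := by
  rw [← Ls_map]
  refine main hp allchk_eq Ls ?_ ?_ ?_ ?_
  · intro R hR
    simp only [reps, List.mem_cons, List.not_mem_nil, or_false] at hR
    rcases hR with rfl | rfl | rfl | rfl | rfl
    · exact Or.inl rfl
    · exact Or.inr ⟨[239], by simp [Ls], Eqv.refl _⟩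
    · exact Or.inr ⟨[232, 233], by simp [Ls], eqv2.symm⟩
    · exact Or.inr ⟨[228, 222, 218], by simp [Ls], eqv3.symm⟩
    · exact Or.inr ⟨[226, 220, 213, 216], by simp [Ls], eqv4.symm⟩
  · have h : Ls.all (olchk chevE8) = true := by decide +kernel
    rw [List.all_eq_true] at h
    exact fun A hA => ol_of_chk (h A hA)
  · have h1 := rk1 (F := F)
    have h2 := rk2 (F := F)
    have h3 := rk3 (F := F)
    have h4 := rk4 (F := F)
    intro A hA B hB h
    simp only [Ls, List.mem_cons, List.not_mem_nil, or_false] at hA hB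
    rcases hA with rfl | rfl | rfl | rfl <;> rcases hB with rfl | rfl | rfl | rfl <;>
      first | rfl | (exfalso; omega)
  · have h1 := rk1 (F := F)
    have h2 := rk2 (F := F)
    have h3 := rk3 (F := F)
    have h4 := rk4 (F := F)
    intro A hA
    simp only [Ls, List.mem_cons, List.not_mem_nil, or_false] at hA
    rcases hA with rfl | rfl | rfl | rfl <;> omega

end Cfsg.Agent.S2176
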