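import Cfsg.Statements.S2187
import Cfsg.Agent.H818.Gen.Final

set_option autoImplicit false
open Cfsg

namespace Cfsg.Agent.S2187

/-- Generation of a simple group of Lie type by the centralizers of the hyperplanes of an elementary abelian group of automorphisms. Let G be a finite simple group of Lie type in characteristic r (one of the sixteen families over a finite field of characteristic r, with the usual small exclusions), let p be an odd prime different from r, and let E be an elementary abelian p-subgroup of Aut(G) of order at least p². For a subgroup F of E write C_G(F) for the elements of G fixed by every member of F. If p ≥ 7, or if r is odd, then G is generated by the subgroups C_G(F) as F ranges over the subgroups of index p in E. -/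
theorem result {G : Type*} [Group G] [Finite G] (r : ℕ) [Fact r.Prime] (hG : Cfsg.IsLieTypeChar r G) (p : ℕ) [Fact p.Prime] (hp2 : p ≠ 2) (hpr : p ≠ r) (h : 7 ≤ p ∨ r ≠ 2) (E : Subgroup (MulAut G)) (hE : Cfsg.IsElementaryAbelian p E) (hE2 : p ^ 2 ≤ Nat.card E) :
    Subgroup.closure {g : G | ∃ F : Subgroup (MulAut G), F ≤ E ∧ (F.subgroupOf E).index = p ∧ ∀ φ ∈ F, φ g = g} = ⊤ :=
  Cfsg.Agent.H818.Gen.main Cfsg.Agent.H818.Gen.genRows r hG p hp2 hpr h E hE hE2

end Cfsg.Agent.S2187
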