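import Cfsg.Statements.S2201
import Cfsg.Agent.S0000
import Cfsg.Agent.S2060
import Cfsg.Agent.S2061
import Cfsg.Agent.S2062
import Cfsg.Agent.S2063
import Cfsg.Agent.S2064
import Cfsg.Agent.S2071
import Cfsg.Agent.S2072
import Cfsg.Agent.NotCT.Orders
import Cfsg.Agent.BpSpor.CoThreeFive
import Cfsg.Agent.H384.TwoTransMain
import Cfsg.Agent.H88.Main2201

set_option autoImplicit false
open Cfsg

namespace Cfsg.Agent.S2201

/-- the facts about the sporadic groups -/
theorem facts : Cfsg.Agent.H88.Concl.Facts where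
  m11 := Cfsg.Agent.NotCT.Orders.m11 ⟨MulEquiv.refl _⟩
  m12 := Cfsg.Agent.NotCT.Orders.m12 ⟨MulEquiv.refl _⟩
  m22 := Cfsg.Agent.NotCT.Orders.m22 ⟨MulEquiv.refl _⟩
  m23 := Cfsg.Agent.NotCT.Orders.m23 ⟨MulEquiv.refl _⟩
  m24 := Cfsg.Agent.NotCT.Orders.m24 ⟨MulEquiv.refl _⟩
  hs := Cfsg.Agent.NotCT.Orders.hs ⟨MulEquiv.refl _⟩
  co3 := Cfsg.Agent.NotCT.Orders.co3 ⟨MulEquiv.refl _⟩
  out_m11 := Cfsg.Agent.S2060.result
  out_m12 := Cfsg.Agent.S2061.result
  out_m22 := Cfsg.Agent.S2062.result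
  out_m23 := Cfsg.Agent.S2063.result
  out_m24 := Cfsg.Agent.S2064.result
  out_hs := Cfsg.Agent.S2072.result
  out_co3 := Cfsg.Agent.S2071.result
  co3_five := fun _ hx => Cfsg.Agent.BpSpor.CoThreeFive.card_dvd hx

/-- Let a finite group G act faithfully and 2-transitively on a finite set X, and let N be a normal subgroup of the stabilizer of a point x which is a trivial-intersection set in G (N meets each of its conjugates in N or trivially) and which is not semiregular on the remaining points (some non-identity element of N fixes a second point). Then G has a normal subgroup L isomorphic to PSL_n(F) for some n ≥ 3 and finite field F, with trivial centralizer in G (so PSL_n(F) ≤ G ≤ Aut PSL_n(F)), and X has (|F|^n − 1)/(|F| − 1) points. -/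
theorem result {G X : Type*} [Group G] [Finite G] [Fintype X] [MulAction G X] [FaithfulSMul G X] (h2 : MulAction.IsMultiplyPretransitive G X 2) (x : X) (N : Subgroup G) (hNle : N ≤ MulAction.stabilizer G x) (hNnormal : ∀ g ∈ MulAction.stabilizer G x, ∀ n ∈ N, g * n * g⁻¹ ∈ N)
    (hTI : ∀ g : G, N.map (MulAut.conj g).toMonoidHom = N ∨ N.map (MulAut.conj g).toMonoidHom ⊓ N = ⊥)
    (hnsr : ∃ n ∈ N, n ≠ 1 ∧ ∃ y : X, y ≠ x ∧ n • y = y) :
    ∃ (L : Subgroup G) (F : Type) (_ : Field F) (_ : Fintype F) (n : ℕ), 3 ≤ n ∧ L.Normal ∧ Subgroup.centralizer (L : Set G) = ⊥ ∧ Nonempty (↥L ≃* Matrix.ProjectiveSpecialLinearGroup (Fin n) F) ∧ Fintype.card X * (Fintype.card F - 1) = Fintype.card F ^ n - 1 := by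
  have h := Cfsg.Agent.H88.Main2201.main facts
    (fun _ A => Cfsg.Agent.H384.TwoTransMain.main (fun _ => Cfsg.Agent.S0000.result) A) h2 x N hNle hNnormal hTI hnsr
  rw [Nat.card_eq_fintype_card] at h
  exact h

end Cfsg.Agent.S2201
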