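import Cfsg.Statements.S2206
import Cfsg.Agent.H90.TwoConstr
import Cfsg.Agent.S1730

set_option autoImplicit false
open Cfsg

namespace Cfsg.Agent.S2206

/-- A finite non-abelian simple group of 2-rank exactly 3 (it has an elementary abelian subgroup of order 8 and none of order 16) in which every 2-local subgroup (normalizer of a non-trivial 2-subgroup) is 2-constrained is isomorphic to PSL₂(8), PSU₃(8), the Suzuki group Sz(8) or the Chevalley group G₂(3). -/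
theorem result {G : Type*} [Group G] [Finite G] [IsSimpleGroup G] (hG : ¬ IsMulCommutative G)
    (h3 : Cfsg.PRankLE 2 3 G) (h3' : ¬ Cfsg.PRankLE 2 2 G)
    (h2c : ∀ T : Subgroup G, IsPGroup 2 ↥T → T ≠ ⊥ → Cfsg.IsPConstrained 2 ↥(Subgroup.normalizer (T : Set G))) :
    (∃ (F : Type) (_ : Field F) (_ : Fintype F), Fintype.card F = 8 ∧ Nonempty (G ≃* Matrix.ProjectiveSpecialLinearGroup (Fin 2) F)) ∨
    (∃ (F : Type) (_ : Field F) (_ : Fintype F), Fintype.card F = 64 ∧ Nonempty (G ≃* Cfsg.PSU 3 F 8)) ∨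
    (∃ (F : Type) (_ : Field F) (_ : Fintype F), Fintype.card F = 8 ∧ Nonempty (G ≃* ↥(Cfsg.Lie.Sz F 4))) ∨
    (∃ (F : Type) (_ : Field F) (_ : Fintype F), Fintype.card F = 3 ∧ Nonempty (G ≃* ↥(Cfsg.Lie.chevG2.group F))) := by
  have hC : Cfsg.Agent.H90.TwoConstr.AllC G := Cfsg.Agent.H90.TwoConstr.allC_of_local h2c
  -- transport to a model of type `Type`
  have kill : ∀ {P : ∀ (X : Type) [Group X], Prop} (_ : Cfsg.Agent.H90.TwoConstr.NotC P) (X : Type) [Group X],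
      P X → Nonempty (G ≃* X) → False := by
    rintro P hP X _ hX ⟨e⟩
    have : Finite X := Finite.of_equiv G e.toEquiv
    exact hP X hX (hC.congr e)
  rcases Cfsg.Agent.S1730.result hG h3 h3' with h | h | h | h | h | h | h
  · obtain ⟨F, iF, iFt, hodd, he⟩ := h
    by_cases hF : Fintype.card F = 3
    · exact Or.inr (Or.inr (Or.inr ⟨F, iF, iFt, hF, he⟩))
    · have h5 : 3 < Fintype.card F := by
        have h1 := Fintype.one_lt_card (α := F)
        obtain ⟨k, hk⟩ := hodd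
        omega
      exact (kill Cfsg.Agent.H90.TwoConstr.g2 _ ⟨F, iF, iFt, hodd, h5, ⟨MulEquiv.refl _⟩⟩ he).elim
  · obtain ⟨K, iK, iKt, q, hodd, hK, he⟩ := h
    exact (kill Cfsg.Agent.H90.TwoConstr.d4 _ ⟨K, iK, iKt, q, hodd, hK, ⟨MulEquiv.refl _⟩⟩ he).elim
  · obtain ⟨F, iF, iFt, m, hm, hF, he⟩ := h
    exact (kill Cfsg.Agent.H90.TwoConstr.ree _ ⟨F, iF, iFt, m, hm, hF, ⟨MulEquiv.refl _⟩⟩ he).elim
  · obtain ⟨F, iF, iFt, hF, h | h | ⟨E, iE, iEt, hE, h⟩⟩ := h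
    · exact Or.inl ⟨F, iF, iFt, hF, h⟩
    · exact Or.inr (Or.inr (Or.inl ⟨F, iF, iFt, hF, h⟩))
    · exact Or.inr (Or.inl ⟨E, iE, iEt, hE, h⟩)
  · exact (kill (Cfsg.Agent.H90.TwoConstr.j1 Cfsg.Agent.Walter.StepAll.step) Spor.J1 ⟨MulEquiv.refl _⟩ h).elim
  · exact (kill Cfsg.Agent.H90.TwoConstr.m12 Spor.M12 ⟨MulEquiv.refl _⟩ h).elim
  · exact (kill Cfsg.Agent.H90.TwoConstr.on Spor.ON ⟨MulEquiv.refl _⟩ h).elim

end Cfsg.Agent.S2206
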