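import Cfsg.Statements.S2216
import Cfsg.Agent.S0000
import Cfsg.Agent.H93.Final
import Cfsg.Agent.H92.ExcAll
import Cfsg.Agent.H180.KM11
import Cfsg.Agent.H870.KSz

set_option autoImplicit false
open Cfsg

namespace Cfsg.Agent.S2216

/-- A non-abelian finite simple group with exactly nine conjugacy classes is isomorphic to PSL(2, 8), PSL(2, 13) or the alternating group of degree 7. -/
theorem result {G : Type*} [Group G] [Finite G] [IsSimpleGroup G] (hG : ¬ IsMulCommutative G)
    (h : Nat.card (ConjClasses G) = 9) :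
    (∃ (F : Type) (_ : Field F) (_ : Fintype F), Fintype.card F = 8 ∧
        Nonempty (G ≃* Matrix.ProjectiveSpecialLinearGroup (Fin 2) F)) ∨
      Nonempty (G ≃* Matrix.ProjectiveSpecialLinearGroup (Fin 2) (ZMod 13)) ∨
      Nonempty (G ≃* ↥(alternatingGroup (Fin 7))) := by
  exact Cfsg.Agent.H93.Final.nine Cfsg.Agent.S0000.result hG (fun h => Cfsg.Agent.H92.ExcAll.exc h)
    Cfsg.Agent.H180.KM11.m11 (fun F _ _ hF => Cfsg.Agent.H870.KSz.sz_eight hF) h

end Cfsg.Agent.S2216
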