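import Cfsg.Statements.S2217
import Cfsg.Agent.H436.Simple
import Cfsg.Agent.H93.Named

set_option autoImplicit false
open Cfsg

namespace Cfsg.Agent.S2217

/-- A non-abelian finite simple group with exactly ten conjugacy classes is isomorphic to the Mathieu group M₁₁ or to PSL(3, 4). -/
theorem result {G : Type*} [Group G] [Finite G] [IsSimpleGroup G] (hG : ¬ IsMulCommutative G)
    (h : Nat.card (ConjClasses G) = 10) :
    Nonempty (G ≃* ↥Cfsg.Spor.M11) ∨
      ∃ (F : Type) (_ : Field F) (_ : Fintype F), Fintype.card F = 4 ∧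
        Nonempty (G ≃* Matrix.ProjectiveSpecialLinearGroup (Fin 3) F) := by
  obtain ⟨g, hg⟩ := Cfsg.Agent.H436.name hG
  exact Cfsg.Agent.H93.Named.ten (Cfsg.Agent.H93.Named.named hg) h

end Cfsg.Agent.S2217
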