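import Cfsg.Statements.S2218
import Cfsg.Agent.H436.Simple
import Cfsg.Agent.H93.Named

set_option autoImplicit false
open Cfsg

namespace Cfsg.Agent.S2218

/-- A non-abelian finite simple group with exactly eleven conjugacy classes is isomorphic to PSL(2, 17) or to the Suzuki group Sz(8). -/
theorem result {G : Type*} [Group G] [Finite G] [IsSimpleGroup G] (hG : ¬ IsMulCommutative G)
    (h : Nat.card (ConjClasses G) = 11) :
    Nonempty (G ≃* Matrix.ProjectiveSpecialLinearGroup (Fin 2) (ZMod 17)) ∨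
      ∃ (F : Type) (_ : Field F) (_ : Fintype F), Fintype.card F = 8 ∧ Nonempty (G ≃* ↥(Cfsg.Lie.Sz F 4)) := by
  obtain ⟨g, hg⟩ := Cfsg.Agent.H436.name hG
  exact Cfsg.Agent.H93.Named.eleven (Cfsg.Agent.H93.Named.named hg) h

end Cfsg.Agent.S2218
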