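import Cfsg.Statements.S2224
import Cfsg.Agent.H94.ACAll

set_option autoImplicit false
open Cfsg

namespace Cfsg.Agent.S2224

/-- Let G be a finite non-abelian simple group and Δ the connected component, in the prime graph of G (distinct primes p, q dividing the order of G joined when G has commuting elements of orders p and q), of an odd prime r dividing the order of G; suppose 2 ∉ Δ and Δ is not all of π(G). Then G has a nilpotent Hall Δ-subgroup H (the prime divisors of the order of H are exactly the primes in Δ, and the order of H is coprime to its index) which is isolated: H is a nontrivial proper subgroup and C_G(x) ≤ H for every nonidentity x ∈ H. -/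
theorem result {G : Type*} [Group G] [Finite G]
    [IsSimpleGroup G] (hG : ¬ IsMulCommutative G)
    (r : ℕ) (hr : r.Prime) (hrG : r ∣ Nat.card G)
    (h2 : ¬ Relation.ReflTransGen (fun p q : ℕ => p.Prime ∧ q.Prime ∧ p ≠ q ∧ ∃ x y : G, orderOf x = p ∧ orderOf y = q ∧ Commute x y) r 2)
    (hproper : ∃ s : ℕ, s.Prime ∧ s ∣ Nat.card G ∧ ¬ Relation.ReflTransGen (fun p q : ℕ => p.Prime ∧ q.Prime ∧ p ≠ q ∧ ∃ x y : G, orderOf x = p ∧ orderOf y = q ∧ Commute x y) r s) :
    ∃ H : Subgroup G, Group.IsNilpotent ↥H ∧ (Nat.card H).Coprime H.index ∧ H ≠ ⊥ ∧ H ≠ ⊤ ∧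
      (∀ q : ℕ, (q.Prime ∧ q ∣ Nat.card H) ↔ (q ∣ Nat.card G ∧ q.Prime ∧ Relation.ReflTransGen (fun p q : ℕ => p.Prime ∧ q.Prime ∧ p ≠ q ∧ ∃ x y : G, orderOf x = p ∧ orderOf y = q ∧ Commute x y) r q)) ∧
      ∀ x ∈ H, x ≠ 1 → Subgroup.centralizer ({x} : Set G) ≤ H := by
  exact Cfsg.Agent.H94.PG.isoHall_of_good (Cfsg.Agent.H94.ACAll.good_simple G inferInstance) hG r hr hrG h2

end Cfsg.Agent.S2224
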