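import Cfsg.Statements.S2229
import Cfsg.Agent.S0000
import Cfsg.Agent.H181.FFFinal

set_option autoImplicit false
open Cfsg

namespace Cfsg.Agent.S2229

/-- Let p be an odd prime and G a finite simple group whose Sylow p-subgroups are nonabelian. Then Qd(p) (the natural semidirect product of an elementary abelian group of order p² by SL₂(p)) is involved in G, unless one of: G is isomorphic to PSU₃(q) for q a power of p; p = 3 and G is a simple group of Ree type ²G₂(3^(2m+1)) by order; p = 3 and G is isomorphic to G₂(q) (automorphisms of the split octonions over a field with q elements) with q² − 1 ≡ 3 or 6 (mod 9); p = 3 and G is simple of the order of J₂ or J₃; p = 5 and G is simple of the order of HS, McL, Co₂ or Co₃; p = 11 and G is simple of the order of J₄. -/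
theorem result {G : Type*} [Group G] [Finite G] {p : ℕ} [Fact p.Prime] (hp : p ≠ 2) [IsSimpleGroup G] (P : Sylow p G) (hP : ¬ IsMulCommutative ↥(P : Subgroup G)) : Cfsg.Involves ↥(Cfsg.qd p) G ∨ (∃ (K : Type) (_ : Field K) (_ : Fintype K) (n : ℕ), Fintype.card K = (p ^ n) ^ 2 ∧ Nonempty (G ≃* Cfsg.PSU 3 K (p ^ n))) ∨ (p = 3 ∧ Cfsg.IsRee G) ∨ (p = 3 ∧ ∃ (K : Type) (_ : Field K) (_ : Fintype K) (q : ℕ), Fintype.card K = q ∧ ((q ^ 2 - 1) % 9 = 3 ∨ (q ^ 2 - 1) % 9 = 6) ∧ Nonempty (G ≃* ↥(Cfsg.Lie.G2 K))) ∨ (p = 3 ∧ (Cfsg.IsJ2 G ∨ Cfsg.IsJ3 G)) ∨ (p = 5 ∧ (Cfsg.IsHS G ∨ Cfsg.IsMcL G ∨ Cfsg.IsCo2 G ∨ Cfsg.IsCo3 G)) ∨ (p = 11 ∧ Cfsg.IsJ4 G) :=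
  Cfsg.Agent.H181.FFReduce.qd_final hp Cfsg.Agent.S0000.result P hP

end Cfsg.Agent.S2229
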