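import Cfsg.Statements.S2230
import Cfsg.Agent.S0000
import Cfsg.Agent.S1252
import Cfsg.Agent.H181.FFFinal

set_option autoImplicit false
open Cfsg

namespace Cfsg.Agent.S2230

/-- Let p be a prime, n a natural number, and P a nonabelian Sylow p-subgroup of a finite simple group, of nilpotence class at most n(p−1)+1. Then every element of Z(P) has pⁿ-th power 1. -/
theorem result {G : Type*} [Group G] [Finite G] [IsSimpleGroup G] {p : ℕ} [Fact p.Prime] (n : ℕ) (P : Sylow p G) (hna : ¬ IsMulCommutative ↥(P : Subgroup G)) (hcl : Subgroup.lowerCentralSeries (P : Subgroup G) (n * (p - 1) + 1) = ⊥) : ∀ z ∈ (P : Subgroup G) ⊓ Subgroup.centralizer ((P : Subgroup G) : Set G), z ^ (p ^ n) = 1 :=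
  Cfsg.Agent.H181.FFReduce.exp_final Cfsg.Agent.S0000.result
    (fun S A hA hns hO => Cfsg.Agent.S1252.result S A hA hns hO) n P hna hcl

end Cfsg.Agent.S2230
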