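import Cfsg.Statements.S2242
import Cfsg.Agent.S0000
import Cfsg.Agent.H972.Final

set_option autoImplicit false
open Cfsg

namespace Cfsg.Agent.S2242

/-- Nilpotent subgroups of finite simple groups are small: if G is a finite non-abelian simple group and N is a nilpotent subgroup of G, then |N|² < |G|. -/
theorem result {G : Type*} [Group G] [Finite G] (hs : IsSimpleGroup G) (hna : ¬ IsMulCommutative G) (N : Subgroup G) (hN : Group.IsNilpotent ↥N) :
    Nat.card ↥N ^ 2 < Nat.card G := by
  exact H972.Final.small_all (fun G _ _ hs => @Cfsg.Agent.S0000.result G _ _ hs) _ G hs hna le_rfl N hN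

end Cfsg.Agent.S2242
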