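import Cfsg.Statements.S2243
import Cfsg.Agent.S0000
import Cfsg.Agent.H277.EM.Final
import Cfsg.Agent.H243.EMB

set_option autoImplicit false
open Cfsg

namespace Cfsg.Agent.S2243

/-- Every finite quasisimple group G (perfect, with G/Z(G) simple) has an elementary abelian 2-subgroup E such that every involution of G is conjugate to an element of E. -/
theorem result {G : Type*} [Group G] [Finite G] (hq : Cfsg.IsQuasisimple G) :
    ∃ E : Subgroup G, Cfsg.IsElementaryAbelian 2 E ∧ ∀ t : G, orderOf t = 2 → ∃ g : G, g * t * g⁻¹ ∈ E := by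
  have hs : IsSimpleGroup (G ⧸ Subgroup.center G) := hq.2
  exact Cfsg.Agent.H151.EM.em_final (Cfsg.Agent.H277.MI.rows fun h => Cfsg.Agent.H243.EMB.crow_b h) hq
    (Cfsg.Agent.S0000.result (G := G ⧸ Subgroup.center G))

end Cfsg.Agent.S2243
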