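import Cfsg.Statements.S2246
import Cfsg.Agent.H100.AltSyl.Back
import Cfsg.Agent.H100.AltSyl.PrimeExist
import Cfsg.Agent.H100.AltSyl.PrimeFwd
import Cfsg.Agent.H410.PrimeIndex
import Cfsg.Agent.S0000

set_option autoImplicit false
open Cfsg

namespace Cfsg.Agent.S2246

open Cfsg.Agent.H100.AltSyl

/-- Let r be an odd prime and n ≥ 7 with r ≤ n. A Sylow r-subgroup of the alternating group A_n lies in exactly one maximal subgroup of A_n if and only if one of: n = r^k + 1 for some k ≥ 2; n = 2r; n = r²; or n = r with r ∉ {11, 23} and either r = 5 or r is not of the form (q^d − 1)/(q − 1) for a prime power q and d ≥ 2. -/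
theorem result (n r : ℕ) (hn : 7 ≤ n) [Fact r.Prime] (hr2 : r ≠ 2) (hrn : r ≤ n) (R : Sylow r ↥(alternatingGroup (Fin n))) :
    (∃! M : Subgroup ↥(alternatingGroup (Fin n)), IsCoatom M ∧ (R : Subgroup ↥(alternatingGroup (Fin n))) ≤ M) ↔
      ((∃ k : ℕ, 2 ≤ k ∧ n = r ^ k + 1) ∨ n = 2 * r ∨ n = r ^ 2 ∨
        (n = r ∧ r ≠ 11 ∧ r ≠ 23 ∧ (r = 5 ∨ ¬ ∃ q d : ℕ, IsPrimePow q ∧ 2 ≤ d ∧ r * (q - 1) = q ^ d - 1))) := by
  have hα : Fintype.card (Fin n) = n := Fintype.card_fin n
  have hPI : PrimeIdx.{0} := fun T _ _ _ hna H p hp hH =>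
    Cfsg.Agent.H410.PrimeIndex.prime_index (Cfsg.Agent.S0000.result) hna H p hp hH
  constructor
  · intro hu
    rcases eq_or_ne n r with h | hne
    · subst h
      right; right; right
      refine ⟨rfl, ?_, ?_, Or.inr ?_⟩
      · rintro rfl
        obtain ⟨X, h1, h2, h3⟩ := exists_over_eleven hα R
        exact h3 (fwd_prime hPI hα hn R hu h1 h2)
      · rintro rfl
        obtain ⟨X, h1, h2, h3⟩ := exists_over_twentythree hα R
        exact h3 (fwd_prime hPI hα hn R hu h1 h2)
      · rintro ⟨q, d, hq, hd, hqd⟩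
        obtain ⟨X, h1, h2, h3⟩ := exists_over_psl hα hn R hq hd hqd
        exact h3 (fwd_prime hPI hα hn R hu h1 h2)
    · by_cases hdvd : r ∣ n
      · rcases fwd_dvd hr2 hα hdvd hne hn _ R.isPGroup' hu with h | h
        · exact Or.inr (Or.inl h)
        · exact Or.inr (Or.inr (Or.inl h))
      · obtain ⟨k, hk1, hk, x, hx⟩ := fwd_ndvd hr2 hα hdvd hrn hn _ R.isPGroup' hu
        left
        rcases Nat.lt_or_ge k 2 with h | h
        · exfalso
          obtain rfl : k = 1 := by omega
          rw [pow_one] at hk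
          have hr6 : r ≠ 6 := by
            rintro rfl
            exact absurd (Fact.out : (6 : ℕ).Prime) (by norm_num)
          obtain ⟨X, h1, h2, h3⟩ := exists_transitive_succ (p := r) (by omega) (hα.trans hk) _ R.isPGroup'
          exact h3 x (hx X h1 h2)
        · exact ⟨k, h, hk⟩
  · rintro (⟨k, hk, h⟩ | h | h | ⟨h, h11, h23, h5⟩)
    · exact back_succ hr2 hk (hα.trans h) (by rw [hα]; exact hn) R
    · exact back_two_mul hr2 (hα.trans h) (by rw [hα]; exact hn) R
    · exact back_sq hr2 (hα.trans h) (by rw [hα]; exact hn) R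
    · subst h
      refine back_prime hα hn R fun M hRM hM => ?_
      refine pr_solvable hPI hα hn h11 h23 ?_ R hRM hM
      rcases h5 with h5 | h5
      · omega
      · exact h5

end Cfsg.Agent.S2246
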