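import Cfsg.Statements.S2248
import Cfsg.Agent.S0000
import Cfsg.Agent.H101.RealFinal

set_option autoImplicit false
open Cfsg

namespace Cfsg.Agent.S2248

/-- A finite non-abelian simple group S either has an element x ≠ 1 of odd prime power order that is conjugate to its inverse and whose centralizer has odd order, or is a simple group of the same order as the Mathieu group M₁₂ or the Conway group Co₁, or is isomorphic to an alternating group of degree n with n = 24 or n ≥ 42. -/
theorem result {S : Type*} [Group S] [Finite S] (hS : IsSimpleGroup S) (hna : ¬ IsMulCommutative S) :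
    (∃ (x : S) (p k : ℕ), p.Prime ∧ p ≠ 2 ∧ 1 ≤ k ∧ orderOf x = p ^ k ∧ IsConj x x⁻¹ ∧ Odd (Nat.card ↥(Subgroup.centralizer ({x} : Set S)))) ∨
    Cfsg.IsM12 S ∨ Cfsg.IsCo1 S ∨ ∃ n : ℕ, (42 ≤ n ∨ n = 24) ∧ Nonempty (S ≃* ↥(alternatingGroup (Fin n))) := by
  have h := Cfsg.Agent.S0000.result (G := S)
  exact Cfsg.Agent.H101.RO.real_cases hna h

end Cfsg.Agent.S2248
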