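import Cfsg.Statements.S2252
import Cfsg.Agent.S0000
import Cfsg.Agent.H101.NPLie
import Cfsg.Agent.H729.PairSpor

set_option autoImplicit false
open Cfsg

namespace Cfsg.Agent.S2252

/-- `NormPair` for all finite nonabelian simple groups. -/
theorem normPair {S : Type*} [Group S] [Finite S] (hS : IsSimpleGroup S) (hna : ¬ IsMulCommutative S) :
    Cfsg.Agent.H101.RO.NormPair S := by
  have h := Cfsg.Agent.S0000.result (G := S)
  rcases Cfsg.Agent.H101.RO.known_cases hna h with h | h | h | h
  · exact Cfsg.Agent.H101.RO.alt_pair h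
  · exact h.normPair
  · exact Cfsg.Agent.H729.PairSpor.tits h
  · exact Cfsg.Agent.H729.PairSpor.pairN h

/-- Let G be a finite group with a normal non-abelian simple subgroup S whose centralizer in G is trivial (G almost simple with socle S). Then there are an odd prime p, a nontrivial p-element x of S and a nontrivial 2-element y of S such that y normalizes ⟨x⟩ (so ⟨x, y⟩ is solvable) while x commutes with no G-conjugate of y. -/
theorem result {G : Type*} [Group G] [Finite G] (S : Subgroup G) [S.Normal] (hS : IsSimpleGroup S) (hna : ¬ IsMulCommutative S)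
    (hC : Subgroup.centralizer (S : Set G) = ⊥) :
    ∃ (p : ℕ) (x y : G), p.Prime ∧ p ≠ 2 ∧ x ∈ S ∧ y ∈ S ∧ x ≠ 1 ∧ y ≠ 1 ∧ (∃ k : ℕ, orderOf x = p ^ k) ∧ (∃ k : ℕ, orderOf y = 2 ^ k) ∧
      y ∈ Subgroup.normalizer ((Subgroup.zpowers x : Subgroup G) : Set G) ∧ ∀ g : G, ¬ Commute x (g * y * g⁻¹) :=
  Cfsg.Agent.H101.RO.exists_of_normPair S (normPair hS hna)

end Cfsg.Agent.S2252
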