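import Cfsg.Statements.S2273
import Cfsg.Agent.S0000
import Cfsg.Agent.H105.SzAll
import Cfsg.Agent.H105.SzSpor

set_option autoImplicit false
open Cfsg

namespace Cfsg.Agent.S2273

/-- Szep's conjecture (a theorem): a finite non-abelian simple group G is never the product C_G(a)C_G(b) of the centralizers of two non-identity elements a, b; that is, some element of G is not of the form xy with x commuting with a and y commuting with b. -/
theorem result {G : Type*} [Group G] [Finite G] [IsSimpleGroup G] (hG : ¬ IsMulCommutative G)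
    (a b : G) (ha : a ≠ 1) (hb : b ≠ 1) :
    ∃ g : G, ∀ x ∈ Subgroup.centralizer ({a} : Set G), ∀ y ∈ Subgroup.centralizer ({b} : Set G), g ≠ x * y := by
  have key : Cfsg.Agent.H105.Sz.Szep G :=
    Cfsg.Agent.H105.Sz.szep_of_known hG (fun h => Cfsg.Agent.H105.Sz.szep_tits' h)
      (fun h => Cfsg.Agent.H105.Sz.szep_spor (fun _ _ _ _ => Cfsg.Agent.S0000.result) h) Cfsg.Agent.S0000.result
  exact key a b ha hb

end Cfsg.Agent.S2273
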