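import Cfsg.Statements.S2309
import Cfsg.Agent.H114.GLTwo

set_option autoImplicit false
open Cfsg

namespace Cfsg.Agent.S2309

/-- Over a finite field F with q elements: every irreducible complex character of GL₂ of degree q − 1 vanishes at every diagonal matrix with two distinct entries, and every irreducible complex character of degree q + 1 vanishes at every element with no eigenvector in F². -/
theorem result {F : Type*} [Field F] [Fintype F] (χ : Matrix.GeneralLinearGroup (Fin 2) F → ℂ) (hχ : Cfsg.IsIrrCharacter (Matrix.GeneralLinearGroup (Fin 2) F) χ) (g : Matrix.GeneralLinearGroup (Fin 2) F) :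
    (χ 1 = (Fintype.card F : ℂ) - 1 → (g : Matrix (Fin 2) (Fin 2) F) 0 1 = 0 → (g : Matrix (Fin 2) (Fin 2) F) 1 0 = 0 → (g : Matrix (Fin 2) (Fin 2) F) 0 0 ≠ (g : Matrix (Fin 2) (Fin 2) F) 1 1 → χ g = 0) ∧
    (χ 1 = (Fintype.card F : ℂ) + 1 → (∀ (c : F) (v : Fin 2 → F), v ≠ 0 → (g : Matrix (Fin 2) (Fin 2) F).mulVec v ≠ c • v) → χ g = 0) := by
  classical
  obtain ⟨n, ρ, hρ, rfl⟩ := hχ
  have hcl : IsClassFunction (Matrix.GeneralLinearGroup (Fin 2) F) ρ.character :=
    fun g h => Representation.char_conj ρ g h
  obtain ⟨a, m, h1, h2, h3⟩ := H114.GLTwo.exists_nums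
    (Characters.Core.isIrr_isCharacter (Characters.Core.isIrrCharacter_of_rep ρ hρ))
  have hq2 : 2 ≤ Fintype.card F := Fintype.one_lt_card
  have hm0 : m = 0 → ρ.character 1 = 1 := by
    intro hm
    apply H114.GLTwo.degree_one ρ hρ
    rw [h1, h2, hm]
    simp
  refine ⟨fun hd h01 h10 hne => ?_, fun hd hno => ?_⟩
  · have hdet := H114.GLTwo.det_ne g
    rw [h01, zero_mul, sub_zero] at hdet
    have ha0 : (g : Matrix (Fin 2) (Fin 2) F) 0 0 ≠ 0 := left_ne_zero_of_mul hdet
    have hd0 : (g : Matrix (Fin 2) (Fin 2) F) 1 1 ≠ 0 := right_ne_zero_of_mul hdet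
    have hq3 : 3 ≤ Fintype.card F := by
      have hc : ({0, (g : Matrix (Fin 2) (Fin 2) F) 0 0, (g : Matrix (Fin 2) (Fin 2) F) 1 1} : Finset F).card = 3 := by
        rw [Finset.card_insert_of_notMem, Finset.card_pair hne]
        simp only [Finset.mem_insert, Finset.mem_singleton, not_or]
        exact ⟨ha0.symm, hd0.symm⟩
      rw [← hc]
      exact Finset.card_le_univ _
    have hnat : a + m * (Fintype.card F - 1) = Fintype.card F - 1 := by
      rw [hd] at h1
      have : ((a + m * (Fintype.card F - 1) : ℕ) : ℂ) = ((Fintype.card F - 1 : ℕ) : ℂ) := by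
        push_cast [Nat.cast_sub (show 1 ≤ Fintype.card F by omega)]
        exact h1.symm
      exact_mod_cast this
    have hm : m ≠ 0 := by
      intro hm
      have h4 := hm0 hm
      rw [hd] at h4
      have : ((Fintype.card F : ℕ) : ℂ) = ((2 : ℕ) : ℂ) := by
        push_cast
        linear_combination h4
      have := Nat.cast_injective this
      omega
    have ha : a = 0 := by
      have : 1 * (Fintype.card F - 1) ≤ m * (Fintype.card F - 1) :=
        Nat.mul_le_mul_right _ (Nat.pos_of_ne_zero hm)
      omega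
    have hz : ∑ b : F, ρ (H114.GLTwo.up b) = 0 := by
      apply H114.GLTwo.sum_eq_zero
      rw [h3, ha]
      simp
    have h5 : ∑ b : F, ρ.character (g * H114.GLTwo.up b) = 0 := by
      have h6 : LinearMap.trace ℂ (Fin n → ℂ) (ρ g * ∑ b : F, ρ (H114.GLTwo.up b)) = 0 := by
        rw [hz, mul_zero, map_zero]
      rw [Finset.mul_sum, map_sum] at h6
      rw [← h6]
      refine Finset.sum_congr rfl fun b _ => ?_
      rw [← map_mul]
      rfl
    have h7 : ∀ b : F, ρ.character (g * H114.GLTwo.up b) = ρ.character g := by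
      intro b
      set x := (g : Matrix (Fin 2) (Fin 2) F) 0 0 * b /
        ((g : Matrix (Fin 2) (Fin 2) F) 1 1 - (g : Matrix (Fin 2) (Fin 2) F) 0 0) with hx
      have h8 : g * H114.GLTwo.up b = H114.GLTwo.up x * g * (H114.GLTwo.up x)⁻¹ := by
        rw [eq_mul_inv_iff_mul_eq]
        have hne' : (g : Matrix (Fin 2) (Fin 2) F) 1 1 - (g : Matrix (Fin 2) (Fin 2) F) 0 0 ≠ 0 :=
          sub_ne_zero.2 (Ne.symm hne)
        ext i j
        fin_cases i <;> fin_cases j
        · simp [H114.GLTwo.up_val, Matrix.mul_apply, Fin.sum_univ_two, h01, h10]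
        · simp [H114.GLTwo.up_val, Matrix.mul_apply, Fin.sum_univ_two, h01, h10, hx]
          field_simp
          ring
        · simp [H114.GLTwo.up_val, Matrix.mul_apply, Fin.sum_univ_two, h01, h10]
        · simp [H114.GLTwo.up_val, Matrix.mul_apply, Fin.sum_univ_two, h01, h10]
      rw [h8, hcl]
    rw [Finset.sum_congr rfl (fun b _ => h7 b), Finset.sum_const, Finset.card_univ, nsmul_eq_mul] at h5
    exact (mul_eq_zero.1 h5).resolve_left (Nat.cast_ne_zero.2 Fintype.card_ne_zero)
  · have hnat : a + m * (Fintype.card F - 1) = Fintype.card F + 1 := by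
      rw [hd] at h1
      have : ((a + m * (Fintype.card F - 1) : ℕ) : ℂ) = ((Fintype.card F + 1 : ℕ) : ℂ) := by
        push_cast [Nat.cast_sub (show 1 ≤ Fintype.card F by omega)]
        exact h1.symm
      exact_mod_cast this
    have ha : a ≠ 0 := by
      intro ha
      rw [ha] at h1 h2 hnat
      rw [Nat.cast_zero, zero_add] at h1
      rw [Nat.cast_zero, zero_sub] at h2
      have hlt := H114.GLTwo.sq_lt ρ hρ h1 h2
      obtain ⟨k, hk⟩ : ∃ k, Fintype.card F = k + 2 := ⟨Fintype.card F - 2, by omega⟩
      rw [hk] at hnat hlt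
      have hnat' : m * (k + 1) = k + 3 := by
        have : k + 2 - 1 = k + 1 := by omega
        rw [this] at hnat
        omega
      have hm1 : m ≠ 1 := by
        rintro rfl
        omega
      have hm2 : 2 ≤ m := by
        rcases Nat.lt_or_ge m 2 with h | h
        · interval_cases m <;> omega
        · exact h
      have hk1 : k ≤ 1 := by nlinarith
      interval_cases k
      · have : m = 3 := by omega
        rw [this] at hlt
        omega
      · have : m = 2 := by omega
        rw [this] at hlt
        omega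
    have hfix : H114.GLTwo.fix ρ ≠ ⊥ := by
      apply H114.GLTwo.fix_ne_bot
      rw [h3]
      exact mul_ne_zero (Nat.cast_ne_zero.2 Fintype.card_ne_zero) (Nat.cast_ne_zero.2 ha)
    obtain ⟨lam, v, hv0, -, hv⟩ := H114.GLTwo.exists_eigen ρ hfix
    have hfr : Module.finrank ℂ (Fin n → ℂ) = Fintype.card F + 1 := by
      have h4 := Representation.char_one ρ
      rw [hd] at h4
      exact_mod_cast h4.symm
    have hind := Characters.MonomialVec.character_eq_indFun ρ hρ (H114.GLTwo.bor F) lam hv0 hv
      (by rw [hfr]; exact H114.GLTwo.index_bor_le)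
    rw [hind, Characters.Core.indFun_apply]
    have hz : ∀ x : Matrix.GeneralLinearGroup (Fin 2) F, extendByZero (H114.GLTwo.bor F)
        (fun h => ((lam h : ℂˣ) : ℂ)) (x⁻¹ * g * x) = 0 := by
      intro x
      apply Characters.MonomialVec.extendByZero_notMem
      intro hx
      rw [H114.GLTwo.mem_bor] at hx
      set y := x⁻¹ * g * x with hy
      have hgx : g * x = x * y := by rw [hy]; group
      refine hno ((y : Matrix (Fin 2) (Fin 2) F) 0 0) (fun i => (x : Matrix (Fin 2) (Fin 2) F) i 0) ?_ ?_
      · intro h0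
        have hdx := H114.GLTwo.det_ne x
        have e0 := congrFun h0 0
        have e1 := congrFun h0 1
        simp only [Pi.zero_apply] at e0 e1
        rw [e0, e1] at hdx
        simp at hdx
      · ext i
        have h9 := congrArg (fun z : Matrix.GeneralLinearGroup (Fin 2) F => (z : Matrix (Fin 2) (Fin 2) F) i 0) hgx
        simp only [Units.val_mul, Matrix.mul_apply, Fin.sum_univ_two, hx, mul_zero, add_zero] at h9
        simp only [Matrix.mulVec, dotProduct, Fin.sum_univ_two, Pi.smul_apply, smul_eq_mul]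
        rw [h9, mul_comm]
    simp only [hz, Finset.sum_const_zero, mul_zero]

end Cfsg.Agent.S2309
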