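import Cfsg.Statements.S2348
import Cfsg.Agent.S0000
import Cfsg.Agent.H123.Asm

set_option autoImplicit false
open Cfsg

namespace Cfsg.Agent.S2348

/-- In a finite non-abelian simple group, a cyclic Sylow p-subgroup P is a trivial-intersection set: every conjugate of P either equals P or meets P trivially. -/
theorem result {G : Type*} [Group G] [Finite G] [IsSimpleGroup G]
    (hG : ¬ IsMulCommutative G) {p : ℕ} [Fact p.Prime] (P : Sylow p G) (hP : IsCyclic P) (g : G) :
    (P : Subgroup G).map (MulAut.conj g).toMonoidHom = (P : Subgroup G) ∨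
      (P : Subgroup G).map (MulAut.conj g).toMonoidHom ⊓ (P : Subgroup G) = ⊥ := by
  exact (Cfsg.Agent.H123.Asm.main hG Cfsg.Agent.S0000.result).ti P hP g

end Cfsg.Agent.S2348
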