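import Cfsg.Statements.S2349
import Cfsg.Agent.S2348
import Cfsg.Agent.H123.TIRed

set_option autoImplicit false
open Cfsg

namespace Cfsg.Agent.S2349

/-- Let P be a cyclic Sylow p-subgroup of a finite group G, P₁ a subgroup of P of order p, and U the largest normal subgroup of G of order prime to p. Then P is a trivial-intersection set (every conjugate of P equals P or meets it trivially) if and only if the centralizers of P and of P₁ in U coincide. -/
theorem result {G : Type*} [Group G] [Finite G]
    {p : ℕ} [Fact p.Prime] (P : Sylow p G) (hP : IsCyclic P)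
    (P₁ : Subgroup G) (hP₁ : P₁ ≤ P) (hcard : Nat.card P₁ = p) :
    (∀ g : G, (P : Subgroup G).map (MulAut.conj g).toMonoidHom = (P : Subgroup G) ∨
        (P : Subgroup G).map (MulAut.conj g).toMonoidHom ⊓ (P : Subgroup G) = ⊥) ↔
      Subgroup.centralizer (P : Set G) ⊓ Cfsg.pPrimeCore p G =
        Subgroup.centralizer (P₁ : Set G) ⊓ Cfsg.pPrimeCore p G := by
  exact Cfsg.Agent.H123.TIRed.main (fun _ _ _ _ hK Q hQ g => Cfsg.Agent.S2348.result hK Q hQ g) P hP P₁ hP₁ hcard

end Cfsg.Agent.S2349
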