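import Cfsg.Statements.S2350
import Cfsg.Agent.S2348
import Cfsg.Agent.H123.BlockRed

set_option autoImplicit false
open Cfsg

namespace Cfsg.Agent.S2350

/-- Let G be a finite non-abelian simple group with a cyclic Sylow p-subgroup P, and let χ be an irreducible complex character of G. Then the degree χ(1) is either divisible by the order of P or prime to p. -/
theorem result {G : Type*} [Group G] [Finite G] [IsSimpleGroup G]
    (hG : ¬ IsMulCommutative G) {p : ℕ} [Fact p.Prime] (P : Sylow p G) (hP : IsCyclic P)
    (χ : G → ℂ) (hχ : Cfsg.IsIrrCharacter G χ) :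
    ∃ d : ℕ, χ 1 = d ∧ (Nat.card P ∣ d ∨ Nat.Coprime p d) := by
  exact Cfsg.Agent.H123.BlockRed.main P hP (fun g => Cfsg.Agent.S2348.result hG P hP g) hχ

end Cfsg.Agent.S2350
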