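import Cfsg.Statements.S2377
import Cfsg.Agent.H129.IsoAll
import Cfsg.Agent.S0000

set_option autoImplicit false
open Cfsg

namespace Cfsg.Agent.S2377

/-- Let S be a finite non-abelian simple group and Δ a connected component of its prime graph not containing 2 (the prime graph joins distinct primes p, q dividing the order of S when S has an element of order pq; Δ is the component of some odd prime r not joined to 2 by any path). Then: the element orders of S all of whose prime divisors lie in Δ all divide one of them, n say; S has an abelian Hall subgroup T for the set of primes Δ; and T is cyclic of order n, unless S ≅ PSL(3, 4), or S ≅ PSL(2, F) for a field F of odd non-prime order. -/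
theorem result {S : Type*} [Group S] [Finite S] [IsSimpleGroup S] (hS : ¬ IsMulCommutative S)
    (r : ℕ) (hr : r.Prime) (hr2 : r ≠ 2) (hrS : r ∣ Nat.card S)
    (h2 : ¬ Relation.ReflTransGen (fun a b : ℕ => a.Prime ∧ b.Prime ∧ a ≠ b ∧ ∃ g : S, orderOf g = a * b) r 2) :
    ∃ (n : ℕ) (T : Subgroup S), (∃ g : S, orderOf g = n) ∧
      (∀ g : S, g ≠ 1 → (∀ p ∈ (orderOf g).primeFactors, Relation.ReflTransGen (fun a b : ℕ => a.Prime ∧ b.Prime ∧ a ≠ b ∧ ∃ g : S, orderOf g = a * b) r p) → orderOf g ∣ n) ∧
      IsMulCommutative ↥T ∧ (Nat.card ↥T).Coprime T.index ∧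
      (∀ p : ℕ, p.Prime → (p ∣ Nat.card ↥T ↔ (p ∣ Nat.card S ∧ Relation.ReflTransGen (fun a b : ℕ => a.Prime ∧ b.Prime ∧ a ≠ b ∧ ∃ g : S, orderOf g = a * b) r p))) ∧
      ((IsCyclic ↥T ∧ Nat.card ↥T = n) ∨
        (∃ (F : Type) (_ : Field F) (_ : Fintype F), Fintype.card F = 4 ∧ Nonempty (S ≃* Matrix.ProjectiveSpecialLinearGroup (Fin 3) F)) ∨
        (∃ (F : Type) (_ : Field F) (_ : Fintype F), Odd (Fintype.card F) ∧ ¬ (Fintype.card F).Prime ∧
          Nonempty (S ≃* Matrix.ProjectiveSpecialLinearGroup (Fin 2) F))) := by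
  have _ := hr2
  exact Cfsg.Agent.H129.Isolated.main (Cfsg.Agent.H129.IsoAll.row_known hS Cfsg.Agent.S0000.result) r hr hrS h2

end Cfsg.Agent.S2377
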