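import Cfsg.Statements.S2418
import Cfsg.Agent.H138.CoxGen

set_option autoImplicit false
open Cfsg

namespace Cfsg.Agent.S2418

open Cfsg.Agent.H138.CoxGen Cfsg.Agent.ChevalleyStructure.CoxeterFaithful Cfsg.Agent.ChevalleyStructure.CoxeterElement

theorem centerB2 : Nat.card (Subgroup.center (CoxeterMatrix.B 2).Group) = 2 ∧
    Subgroup.center (CoxeterMatrix.B 2).Group ≤ Subgroup.zpowers ((List.finRange 2).map (CoxeterMatrix.B 2).simple).prod :=
  center_two (rows := [[2, -2], [-1, 2]]) (k := 2) (by decide +kernel) (by decide +kernel) (by norm_num)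
    (by decide +kernel) (fun i => ([0, 1] : List ℕ).getD i 0) 0 (by decide +kernel)

theorem centerG2 : Nat.card (Subgroup.center CoxeterMatrix.G₂.Group) = 2 ∧
    Subgroup.center CoxeterMatrix.G₂.Group ≤ Subgroup.zpowers ((List.finRange 2).map CoxeterMatrix.G₂.simple).prod :=
  center_two (rows := [[2, -3], [-1, 2]]) (k := 3) (by decide +kernel) (by decide +kernel) (by norm_num)
    (by decide +kernel) (fun i => ([0, 1] : List ℕ).getD i 0) 0 (by decide +kernel)

theorem centerD4 : Nat.card (Subgroup.center Cfsg.Lie.coxeterD4.Group) = 2 ∧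
    Subgroup.center Cfsg.Lie.coxeterD4.Group ≤ Subgroup.zpowers ((List.finRange 4).map Cfsg.Lie.coxeterD4.simple).prod :=
  center_two (rows := [[2, -1, 0, 0], [-1, 2, -1, -1], [0, -1, 2, 0], [0, -1, 0, 2]]) (k := 3) (by decide +kernel) (by decide +kernel) (by norm_num)
    (by decide +kernel) (fun i => ([1, 0, 1, 1] : List ℕ).getD i 0) 1 (by decide +kernel)

theorem centerF4 : Nat.card (Subgroup.center CoxeterMatrix.F₄.Group) = 2 ∧
    Subgroup.center CoxeterMatrix.F₄.Group ≤ Subgroup.zpowers ((List.finRange 4).map CoxeterMatrix.F₄.simple).prod :=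
  center_two (rows := [[2, -1, 0, 0], [-1, 2, -2, 0], [0, -1, 2, -1], [0, 0, -1, 2]]) (k := 6) (by decide +kernel) (by decide +kernel) (by norm_num)
    (by decide +kernel) (fun i => ([0, 1, 2, 3] : List ℕ).getD i 0) 0 (by decide +kernel)

theorem centerE7 : Nat.card (Subgroup.center CoxeterMatrix.E₇.Group) = 2 ∧
    Subgroup.center CoxeterMatrix.E₇.Group ≤ Subgroup.zpowers ((List.finRange 7).map CoxeterMatrix.E₇.simple).prod :=
  center_two (rows := [[2, 0, -1, 0, 0, 0, 0], [0, 2, 0, -1, 0, 0, 0], [-1, 0, 2, -1, 0, 0, 0], [0, -1, -1, 2, -1, 0, 0], [0, 0, 0, -1, 2, -1, 0], [0, 0, 0, 0, -1, 2, -1], [0, 0, 0, 0, 0, -1, 2]]) (k := 9) (by decide +kernel) (by decide +kernel) (by norm_num)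
    (by decide +kernel) (fun i => ([2, 1, 1, 0, 1, 2, 3] : List ℕ).getD i 0) 3 (by decide +kernel)

theorem centerE8 : Nat.card (Subgroup.center CoxeterMatrix.E₈.Group) = 2 ∧
    Subgroup.center CoxeterMatrix.E₈.Group ≤ Subgroup.zpowers ((List.finRange 8).map CoxeterMatrix.E₈.simple).prod :=
  center_two (rows := [[2, 0, -1, 0, 0, 0, 0, 0], [0, 2, 0, -1, 0, 0, 0, 0], [-1, 0, 2, -1, 0, 0, 0, 0], [0, -1, -1, 2, -1, 0, 0, 0], [0, 0, 0, -1, 2, -1, 0, 0], [0, 0, 0, 0, -1, 2, -1, 0], [0, 0, 0, 0, 0, -1, 2, -1], [0, 0, 0, 0, 0, 0, -1, 2]]) (k := 15) (by decide +kernel) (by decide +kernel) (by norm_num)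
    (by decide +kernel) (fun i => ([2, 1, 1, 0, 1, 2, 3, 4] : List ℕ).getD i 0) 3 (by decide +kernel)

theorem centerE6 : Subgroup.center CoxeterMatrix.E₆.Group = ⊥ :=
  center_one (rows := [[2, 0, -1, 0, 0, 0], [0, 2, 0, -1, 0, 0], [-1, 0, 2, -1, 0, 0], [0, -1, -1, 2, -1, 0], [0, 0, 0, -1, 2, -1], [0, 0, 0, 0, -1, 2]]) (by decide +kernel) 3 ![1, 0, -1, 0, 1, -1]
    (by decide +kernel) 0 (by decide +kernel) (fun i => ([2, 1, 1, 0, 1, 2] : List ℕ).getD i 0) 3 (by decide +kernel)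

/-- For the Coxeter groups of types B₂, G₂, D₄, F₄, E₇, E₈ the centre has order 2 (the element acting as −1 on the root system) and is generated by a power of the Coxeter element `s₁ s₂ ⋯ s_l`; the Coxeter group of type E₆ has trivial centre. -/
theorem result (c : (Σ n : ℕ, CoxeterMatrix (Fin n)) × ℕ)
    (hc : c ∈ [(⟨2, CoxeterMatrix.B 2⟩, 2), (⟨2, CoxeterMatrix.G₂⟩, 2), (⟨4, Cfsg.Lie.coxeterD4⟩, 2), (⟨4, CoxeterMatrix.F₄⟩, 2),
      (⟨6, CoxeterMatrix.E₆⟩, 1), (⟨7, CoxeterMatrix.E₇⟩, 2), (⟨8, CoxeterMatrix.E₈⟩, 2)]) :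
    Nat.card (Subgroup.center c.1.2.Group) = c.2 ∧
      Subgroup.center c.1.2.Group ≤ Subgroup.zpowers ((List.finRange c.1.1).map c.1.2.simple).prod := by
  simp only [List.mem_cons, List.not_mem_nil, or_false] at hc
  rcases hc with rfl | rfl | rfl | rfl | rfl | rfl | rfl
  · exact centerB2
  · exact centerG2
  · exact centerD4
  · exact centerF4
  · have h : Subgroup.center (CoxeterMatrix.E₆).Group = ⊥ := centerE6
    change Nat.card (Subgroup.center (CoxeterMatrix.E₆).Group) = 1 ∧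
      Subgroup.center (CoxeterMatrix.E₆).Group ≤ _
    rw [h]
    exact ⟨Subgroup.card_bot, bot_le⟩
  · exact centerE7
  · exact centerE8

end Cfsg.Agent.S2418
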