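import Cfsg.Statements.S2454
import Cfsg.Agent.H346.DP.AllRows
import Cfsg.Agent.S0000

set_option autoImplicit false
open Cfsg

namespace Cfsg.Agent.S2454

/-- Let S be a finite non-abelian simple group and d a positive integer such that some prime dividing the order of S does not divide d. Then every element of S is a product of at most 70 d-th powers. -/
theorem result {S : Type*} [Group S] [Finite S] [IsSimpleGroup S] (hS : ¬ IsMulCommutative S) (d : ℕ) (hd : 1 ≤ d)
    (hp : ∃ p : ℕ, p.Prime ∧ p ∣ Nat.card S ∧ ¬ p ∣ d) (g : S) :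
    ∃ l : List S, l.length ≤ 70 ∧ (l.map (fun x => x ^ d)).prod = g := by
  obtain ⟨p, hp, hdvd, hpd⟩ := hp
  exact (Cfsg.Agent.H346.DP.AllRows.rows.row S hS (Cfsg.Agent.S0000.result (G := S)) p hp hdvd).dth hp hpd g

end Cfsg.Agent.S2454
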