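import Cfsg.Statements.S2473
-- import your own Cfsg.Agent.* helpers here
import Cfsg.Agent.S0000
import Cfsg.Agent.H150.FarAll

set_option autoImplicit false
open Cfsg

namespace Cfsg.Agent.S2473

/-- Let G be a finite non-abelian simple group in which 2 is adjacent to every other vertex of the prime graph: for every odd prime r dividing the order of G there is an element of order 2r. Then G is isomorphic to an alternating group of some degree n such that no prime lies in the interval [n − 3, n]. -/
theorem result {G : Type*} [Group G] [Finite G] [IsSimpleGroup G] (hG : ¬ IsMulCommutative G)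
    (h : ∀ r : ℕ, r.Prime → r ≠ 2 → r ∣ Nat.card G → 2 * r ∈ Set.range (orderOf : G → ℕ)) :
    ∃ n : ℕ, (∀ s : ℕ, s.Prime → ¬ (n - 3 ≤ s ∧ s ≤ n)) ∧ Nonempty (G ≃* alternatingGroup (Fin n)) := by
  have hc : ¬ IsPrimeCyclic G := fun h1 => by
    haveI : Fact (Nat.card G).Prime := ⟨h1⟩
    haveI : IsCyclic G := isCyclic_of_prime_card rfl
    exact hG IsCyclic.isMulCommutative
  by_cases ha : IsAlternating G
  · obtain ⟨n, hn, ⟨e⟩⟩ := ha
    exact ⟨n, Cfsg.Agent.H150.alt_row h hn e, ⟨e⟩⟩
  · exact absurd (Cfsg.Agent.H150.far_of_known Cfsg.Agent.S0000.result hc ha) (Cfsg.Agent.H150.not_far h)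

end Cfsg.Agent.S2473
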