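import Cfsg.Statements.S2489
import Cfsg.Agent.S0000
import Cfsg.Agent.OrdDiv.Table
import Cfsg.Agent.H154.PGDataA
import Cfsg.Agent.H154.PGDataB
import Cfsg.Agent.H154.PGDataM

set_option autoImplicit false
open Cfsg

namespace Cfsg.Agent.S2489

/-- Let G be a finite group whose order is the order of one of the twenty-six sporadic simple groups and suppose its prime graph (vertices the prime divisors of the order, distinct p, q joined when there is an element of order pq) is disconnected: the prime divisors split into two non-empty parts with no element of order pq for p in one part and q in the other. Then G is simple. -/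
theorem result {G : Type*} [Group G] [Finite G]
    (hord : Nat.card G ∈ ({7920, 95040, 443520, 10200960, 244823040, 175560, 604800, 50232960, 86775571046077562880, 4157776806543360000, 42305421312000, 495766656000, 64561751654400, 4089470473293004800, 1255205709190661721292800, 44352000, 898128000, 4030387200, 145926144000, 448345497600, 460815505920, 273030912000000, 51765179004000000, 90745943887872000, 4154781481226426191177580544000000, 808017424794512875886459904961710757005754368000000000} : Finset ℕ))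
    (hdisc : (∃ A : Set ℕ, (∃ a ∈ A, a.Prime ∧ a ∣ Nat.card G) ∧ (∃ b ∉ A, b.Prime ∧ b ∣ Nat.card G) ∧
      ∀ a ∈ A, ∀ b ∉ A, a.Prime → b.Prime → a ∣ Nat.card G → b ∣ Nat.card G → ¬ ∃ g : G, orderOf g = a * b)) :
    IsSimpleGroup G := by
  have hS : ∀ (S : Type) [Group S] [Finite S], IsSimpleGroup S → Cfsg.IsKnownSimple' S := by
    intro S _ _ _
    exact Cfsg.Agent.S0000.result
  simp only [Finset.mem_insert, Finset.mem_singleton] at hord
  rcases hord with h | h | h | h | h | h | h | h | h | h | h | h | h | h | h | h | h | h | h | h | h | h | h | h | h | h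
  · exact Cfsg.Agent.H154.PG.DataA.all_m11 Cfsg.Agent.OrdDiv.table hS G h hdisc
  · exact Cfsg.Agent.H154.PG.DataA.all_m12 Cfsg.Agent.OrdDiv.table hS G h hdisc
  · exact Cfsg.Agent.H154.PG.DataA.all_m22 Cfsg.Agent.OrdDiv.table hS G h hdisc
  · exact Cfsg.Agent.H154.PG.DataA.all_m23 Cfsg.Agent.OrdDiv.table hS G h hdisc
  · exact Cfsg.Agent.H154.PG.DataA.all_m24 Cfsg.Agent.OrdDiv.table hS G h hdisc
  · exact Cfsg.Agent.H154.PG.DataA.all_j1 Cfsg.Agent.OrdDiv.table hS G h hdisc
  · exact Cfsg.Agent.H154.PG.DataA.all_j2 Cfsg.Agent.OrdDiv.table hS G h hdisc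
  · exact Cfsg.Agent.H154.PG.DataA.all_j3 Cfsg.Agent.OrdDiv.table hS G h hdisc
  · exact Cfsg.Agent.H154.PG.DataA.all_j4 Cfsg.Agent.OrdDiv.table hS G h hdisc
  · exact Cfsg.Agent.H154.PG.DataA.all_co1 Cfsg.Agent.OrdDiv.table hS G h hdisc
  · exact Cfsg.Agent.H154.PG.DataA.all_co2 Cfsg.Agent.OrdDiv.table hS G h hdisc
  · exact Cfsg.Agent.H154.PG.DataA.all_co3 Cfsg.Agent.OrdDiv.table hS G h hdisc
  · exact Cfsg.Agent.H154.PG.DataA.all_fi22 Cfsg.Agent.OrdDiv.table hS G h hdisc
  · exact Cfsg.Agent.H154.PG.DataA.all_fi23 Cfsg.Agent.OrdDiv.table hS G h hdisc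
  · exact Cfsg.Agent.H154.PG.DataA.all_fi24p Cfsg.Agent.OrdDiv.table hS G h hdisc
  · exact Cfsg.Agent.H154.PG.DataA.all_hs Cfsg.Agent.OrdDiv.table hS G h hdisc
  · exact Cfsg.Agent.H154.PG.DataA.all_mcl Cfsg.Agent.OrdDiv.table hS G h hdisc
  · exact Cfsg.Agent.H154.PG.DataA.all_he Cfsg.Agent.OrdDiv.table hS G h hdisc
  · exact Cfsg.Agent.H154.PG.DataA.all_ru Cfsg.Agent.OrdDiv.table hS G h hdisc
  · exact Cfsg.Agent.H154.PG.DataA.all_suz Cfsg.Agent.OrdDiv.table hS G h hdisc
  · exact Cfsg.Agent.H154.PG.DataA.all_opn Cfsg.Agent.OrdDiv.table hS G h hdisc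
  · exact Cfsg.Agent.H154.PG.DataA.all_hn Cfsg.Agent.OrdDiv.table hS G h hdisc
  · exact Cfsg.Agent.H154.PG.DataA.all_ly Cfsg.Agent.OrdDiv.table hS G h hdisc
  · exact Cfsg.Agent.H154.PG.DataA.all_th Cfsg.Agent.OrdDiv.table hS G h hdisc
  · exact Cfsg.Agent.H154.PG.DataB.all_b Cfsg.Agent.OrdDiv.table hS G h hdisc
  · exact Cfsg.Agent.H154.PG.DataM.all_m Cfsg.Agent.OrdDiv.table hS G h hdisc

end Cfsg.Agent.S2489
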