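import Cfsg.Statements.S2494
import Cfsg.Agent.S0000
import Cfsg.Agent.H990.TC.Assemble
import Cfsg.Agent.H253.TwoComm.RowSpor
import Cfsg.Agent.H951.TCRowHN
import Cfsg.Agent.H951.TCRowON
import Cfsg.Agent.H951.TCRowTh

set_option autoImplicit false
open Cfsg

namespace Cfsg.Agent.S2494

/-- Let G be a finite quasisimple group: G is perfect and G/Z(G) is simple. Then every element of G is a product of two commutators. -/
theorem result {G : Type*} [Group G] [Finite G] (hperf : commutator G = ⊤) (hs : IsSimpleGroup (G ⧸ Subgroup.center G)) (g : G) :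
    ∃ a b c d : G, (a * b * a⁻¹ * b⁻¹) * (c * d * c⁻¹ * d⁻¹) = g := by
  have hK : Cfsg.IsKnownSimple' (G ⧸ Subgroup.center G) := Cfsg.Agent.S0000.result
  have key : Cfsg.Agent.H253.TC.Row (G ⧸ Subgroup.center G) →
      ∃ a b c d : G, (a * b * a⁻¹ * b⁻¹) * (c * d * c⁻¹ * d⁻¹) = g := fun h =>
    h.result hperf (MulEquiv.refl _) g
  rcases hK with h | h | h | h | h | h | h | h | h | h
  · exfalso
    haveI : Fact (Nat.card (G ⧸ Subgroup.center G)).Prime := ⟨h⟩
    haveI : IsCyclic (G ⧸ Subgroup.center G) := isCyclic_of_prime_card rfl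
    have hcomm : ∀ a b : G, a * b = b * a := fun a b =>
      commutative_of_cyclic_center_quotient (QuotientGroup.mk' (Subgroup.center G))
        (by rw [QuotientGroup.ker_mk']) a b
    have h1 : Subgroup.center G = ⊤ := by
      rw [eq_top_iff]
      intro a _
      exact Subgroup.mem_center_iff.2 fun b => hcomm b a
    have h2 : Subsingleton (G ⧸ Subgroup.center G) := by
      rw [h1]
      exact QuotientGroup.subsingleton_quotient_top
    exact not_nontrivial _ hs.toNontrivial
  · exact key (Cfsg.Agent.H990.TC.row_classical (Or.inl h))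
  · exact key (Cfsg.Agent.H990.TC.row_classical (Or.inr (Or.inl h)))
  · exact key (Cfsg.Agent.H990.TC.row_classical (Or.inr (Or.inr (Or.inl h))))
  · exact key (Cfsg.Agent.H990.TC.row_classical (Or.inr (Or.inr (Or.inr (Or.inl h)))))
  · exact key (Cfsg.Agent.H990.TC.row_classical (Or.inr (Or.inr (Or.inr (Or.inr (Or.inl h))))))
  · exact key (Cfsg.Agent.H990.TC.row_classical (Or.inr (Or.inr (Or.inr (Or.inr (Or.inr (Or.inl h)))))))
  · exact key (Cfsg.Agent.H990.TC.row_classical (Or.inr (Or.inr (Or.inr (Or.inr (Or.inr (Or.inr h)))))))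
  · exact key (Cfsg.Agent.H990.TC.row_exceptional h)
  · exact key (Cfsg.Agent.H253.TC.row_spor_of Cfsg.Agent.H951.TCRowHN.row Cfsg.Agent.H951.TCRowON.row
      Cfsg.Agent.H951.TCRowTh.row h)

end Cfsg.Agent.S2494
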