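import Cfsg.Statements.S2501
import Cfsg.Agent.H498.Ab.Fin
import Cfsg.Agent.H513.AbHN
import Cfsg.Agent.S0000

set_option autoImplicit false
open Cfsg

namespace Cfsg.Agent.S2501

/-- Let G be a finite non-abelian simple group that is not isomorphic to a projective special linear group PSL(2,F) over any finite field F. Then every abelian subgroup A of G satisfies (#A)^3 < #G. -/
theorem result {G : Type*} [Group G] [Finite G] [IsSimpleGroup G]
    (hG : ¬ IsMulCommutative G)
    (hL2 : ∀ (F : Type) [Field F] [Fintype F], ¬ Nonempty (G ≃* Matrix.ProjectiveSpecialLinearGroup (Fin 2) F))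
    (A : Subgroup G) (hA : IsMulCommutative A) : Nat.card A ^ 3 < Nat.card G := by
  exact Cfsg.Agent.H498.Ab.Asm.main
    (Cfsg.Agent.H498.Ab.Asm.Rows2.of_HN (fun _ _ _ _ h => Cfsg.Agent.H513.AbHN.ab3_HN h)).rows
    hG hL2 Cfsg.Agent.S0000.result A hA

end Cfsg.Agent.S2501
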