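import Cfsg.Statements.S2502
import Cfsg.Agent.H498.Ab.Aba
import Cfsg.Agent.S2501

set_option autoImplicit false
open Cfsg

namespace Cfsg.Agent.S2502

/-- A finite non-abelian simple group G can be written as a product ABA of two abelian subgroups A and B (every element is of the form a·b·a' with a, a' ∈ A and b ∈ B) if and only if G is isomorphic to PSL(2,F) for a finite field F with 2^t elements, t ≥ 2. -/
theorem result {G : Type*} [Group G] [Finite G] [IsSimpleGroup G]
    (hG : ¬ IsMulCommutative G) :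
    (∃ A B : Subgroup G, IsMulCommutative A ∧ IsMulCommutative B ∧
        ∀ g : G, ∃ a ∈ A, ∃ b ∈ B, ∃ c ∈ A, g = a * b * c) ↔
      ∃ t : ℕ, 2 ≤ t ∧ Nonempty (G ≃* Matrix.ProjectiveSpecialLinearGroup (Fin 2) (GaloisField 2 t)) := by
  exact Cfsg.Agent.H498.Ab.Aba.aba_iff hG (fun hL2 => Cfsg.Agent.S2501.result hG hL2)

end Cfsg.Agent.S2502
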