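import Cfsg.Statements.S2517
import Cfsg.Agent.H160.QFinal

set_option autoImplicit false
open Cfsg

namespace Cfsg.Agent.S2517



/-- Let F be a finite field of odd order q, let Ω₉ be the simple orthogonal group PΩ(9, F), and let Ω₈⁻ be the commutator subgroup of the isometry group of a minus-type non-singular quadratic form on V = F⁸ (the simple group PΩ⁻(8, F), acting on its natural module V). Then Ω₉ and the semidirect product V ⋊ Ω₈⁻ have exactly the same set of element orders. -/
theorem result {F : Type*} [Field F] [Fintype F] (hF : Odd (Fintype.card F)) (a b : F)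
    (hab : ∀ z₁ z₂ : F, z₁ ^ 2 + a * z₁ * z₂ + b * z₂ ^ 2 = 0 → z₁ = 0 ∧ z₂ = 0) :
    Set.range (orderOf : Cfsg.POmega F (Cfsg.quadFormOdd 4 F) → ℕ) =
      Set.range (orderOf :
        (Multiplicative (((Fin 3 ⊕ Fin 3) ⊕ Fin 2) → F)) ⋊[
          (MulAutMultiplicative (((Fin 3 ⊕ Fin 3) ⊕ Fin 2) → F)).symm.toMonoidHom.comp
           ((DistribMulAction.toAddAut (LinearMap.GeneralLinearGroup F (((Fin 3 ⊕ Fin 3) ⊕ Fin 2) → F))
              (((Fin 3 ⊕ Fin 3) ⊕ Fin 2) → F)).comp
            (Matrix.GeneralLinearGroup.toLin.toMonoidHom.comp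
              ((Cfsg.isometryGroup F (Cfsg.quadFormMinus 3 F a b)).subtype.comp
                (Cfsg.Omega F (Cfsg.quadFormMinus 3 F a b)).subtype)))]
          ↥(Cfsg.Omega F (Cfsg.quadFormMinus 3 F a b)) → ℕ) := by
  classical
  obtain ⟨p, hchar⟩ := CharP.exists F
  have hp0 : p.Prime := CharP.char_is_prime F p
  have hpf : Fact p.Prime := ⟨hp0⟩
  have h2 : (2 : F) ≠ 0 := by
    intro h
    have h3 : p = 2 := by
      have h4 : ((2 : ℕ) : F) = 0 := by exact_mod_cast h
      exact (Nat.prime_dvd_prime_iff_eq hp0 Nat.prime_two).1 ((CharP.cast_eq_zero_iff F p 2).1 h4)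
    subst h3
    obtain ⟨n, -, hn⟩ := FiniteField.card F 2
    rw [hn] at hF
    exact absurd hF (by simp [Nat.odd_pow_iff n.ne_zero])
  have h9 := Cfsg.Agent.LieClassical.OrthForms.nondeg_oddForm 4 F h2
  have h8 := Cfsg.Agent.LieClassical.OrthForms.nondeg_minusForm 3 F a b hab
  have hdc := Cfsg.Agent.H160.QFinal.dc_minusForm h2 hab
  rw [← Cfsg.Agent.LieClassical.OrthForms.coe_oddForm, ← Cfsg.Agent.LieClassical.OrthForms.coe_minusForm]
  exact Cfsg.Agent.H160.QFinal.main h2 p h9 h8 (by decide) (by decide) hdc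

end Cfsg.Agent.S2517
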