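import Cfsg.Statements.S3238
import Cfsg.Agent.S0000
import Cfsg.Agent.H318.SixMain
import Cfsg.Agent.H153.SixSpor

set_option autoImplicit false
open Cfsg

namespace Cfsg.Agent.S3238

/-- A finite non-abelian simple group containing no element of order 6 is isomorphic to PSL₂(q) with q ≢ 1, 11 (mod 12), to PSL₃(2ⁿ) with n ≥ 2 and n ≢ 0 (mod 6), to PSU₃(2ⁿ) with n ≥ 2 and n ≢ 3 (mod 6), or to a Suzuki group Sz(2^(2n+1)), n ≥ 1. -/
theorem result {G : Type*} [Group G] [Finite G] [IsSimpleGroup G]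
    (hG : ¬ IsMulCommutative G) (h6 : ∀ g : G, orderOf g ≠ 6) :
    (∃ (F : Type) (_ : Field F) (_ : Fintype F), Fintype.card F % 12 ≠ 1 ∧ Fintype.card F % 12 ≠ 11 ∧
        Nonempty (G ≃* Matrix.ProjectiveSpecialLinearGroup (Fin 2) F)) ∨
      (∃ (F : Type) (_ : Field F) (_ : Fintype F) (n : ℕ), 2 ≤ n ∧ n % 6 ≠ 0 ∧ Fintype.card F = 2 ^ n ∧
        Nonempty (G ≃* Matrix.ProjectiveSpecialLinearGroup (Fin 3) F)) ∨
      (∃ (F : Type) (_ : Field F) (_ : Fintype F) (n : ℕ), 2 ≤ n ∧ n % 6 ≠ 3 ∧ Fintype.card F = (2 ^ n) ^ 2 ∧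
        Nonempty (G ≃* Cfsg.PSU 3 F (2 ^ n))) ∨
      Cfsg.Lie.IsoSuzuki G := by
  have hna : ¬ ∀ a b : G, a * b = b * a := fun h => hG ⟨⟨h⟩⟩
  rcases H318.six_or hG S0000.result (H153.six_sporadic hna) with h | h
  · obtain ⟨g, hg⟩ := h.exists_orderOf
    exact absurd hg (h6 g)
  · exact h

end Cfsg.Agent.S3238
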