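import Cfsg.Statements.S2526
import Cfsg.Agent.S3238
import Cfsg.Agent.GH.C2SevenTop
import Cfsg.Agent.H964.PrimeGraph

set_option autoImplicit false
open Cfsg

namespace Cfsg.Agent.S2526

open Cfsg.Agent.H964.PrimeGraph

/-- `PSL(2,2)` and `PSL(2,3)` are solvable. -/
theorem solvable_small {F : Type*} [Field F] [Fintype F] (hF : Fintype.card F = 2 ∨ Fintype.card F = 3) :
    Group.IsSolvable (Matrix.ProjectiveSpecialLinearGroup (Fin 2) F) := by
  classical
  have h1 : Nat.card (Matrix.ProjectiveSpecialLinearGroup (Fin 2) F) ∣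
      Nat.card (Matrix.SpecialLinearGroup (Fin 2) F) :=
    Subgroup.card_quotient_dvd_card _
  have h2 : Nat.card (Matrix.SpecialLinearGroup (Fin 2) F) ∣
      Nat.card (Matrix.GeneralLinearGroup (Fin 2) F) :=
    Subgroup.card_dvd_of_injective (Matrix.SpecialLinearGroup.toGL)
      Matrix.SpecialLinearGroup.toGL_injective
  have h3 := Matrix.card_GL_field (𝔽 := F) 2
  have h5 : Nat.card (Matrix.GeneralLinearGroup (Fin 2) F) ∣ 2 ^ 4 * 3 ^ 1 := by
    rw [h3]
    rcases hF with hF | hF <;> rw [hF] <;> simp [Fin.prod_univ_succ]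
  exact Cfsg.Agent.GH.C2SevenTop.solvable_of_dvd Nat.prime_two Nat.prime_three ((h1.trans h2).trans h5)

theorem not_small {G : Type*} [Group G] [IsSimpleGroup G] (hG : ¬ IsMulCommutative G)
    {F : Type*} [Field F] [Fintype F] (hF : Fintype.card F = 2 ∨ Fintype.card F = 3)
    (e : G ≃* Matrix.ProjectiveSpecialLinearGroup (Fin 2) F) : False := by
  have := solvable_small hF
  have h2 : Group.IsSolvable G := Group.isSolvable_of_isSolvable_injective (f := e.toMonoidHom) e.injective
  exact hG ⟨⟨IsSimpleGroup.comm_iff_isSolvable.mpr h2⟩⟩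

/-- Let G be a finite non-abelian simple group whose order is divisible by 3. In the prime graph of G (primes dividing the order, two distinct primes p and q joined when there is an element of order pq), the prime 3 lies outside the connected component of 2 if and only if G is isomorphic to one of: PSL(2,F) with F of characteristic 2 and at least 4 elements; PSL(2,F) with F of characteristic 3 and at least 9 elements; PSL(2,F) with the number of elements of F congruent to 5 or 7 modulo 12; PSL(3,F) with F of 4 elements. -/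
theorem result {G : Type*} [Group G] [Finite G] [IsSimpleGroup G] (hG : ¬ IsMulCommutative G) (h3 : 3 ∣ Nat.card G) :
    ¬ (SimpleGraph.fromRel (fun p q : ℕ => p.Prime ∧ q.Prime ∧ ∃ g : G, orderOf g = p * q)).Reachable 2 3 ↔
      ∃ (F : Type) (_ : Field F) (_ : Fintype F),
        (((ringChar F = 2 ∧ 4 ≤ Fintype.card F) ∨ (ringChar F = 3 ∧ 9 ≤ Fintype.card F) ∨
            (Fintype.card F % 12 = 5 ∨ Fintype.card F % 12 = 7)) ∧
          Nonempty (G ≃* Matrix.ProjectiveSpecialLinearGroup (Fin 2) F)) ∨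
        (Fintype.card F = 4 ∧ Nonempty (G ≃* Matrix.ProjectiveSpecialLinearGroup (Fin 3) F)) := by
  change ¬ (PG G).Reachable 2 3 ↔ _
  constructor
  · intro hnr
    have h6 : ∀ g : G, orderOf g ≠ 6 := fun g hg => hnr (reachable_of_six ⟨g, hg⟩)
    rcases S3238.result hG h6 with ⟨F, i1, i2, h1, h11, ⟨e⟩⟩ | ⟨F, i1, i2, n, hn, hn6, hF, ⟨e⟩⟩ |
      ⟨F, i1, i2, n, hn, hn6, hF, ⟨e⟩⟩ | hsz
    · refine ⟨F, i1, i2, Or.inl ⟨?_, ⟨e⟩⟩⟩
      exact two_cases h1 h11 (fun h => not_small hG (Or.inl h) e) (fun h => not_small hG (Or.inr h) e)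
    · rcases Nat.lt_or_ge n 3 with h | h
      · have hn2 : n = 2 := by omega
        subst hn2
        exact ⟨F, i1, i2, Or.inr ⟨hF, ⟨e⟩⟩⟩
      · rw [congr e] at hnr
        exact (hnr (three_reachable h hF)).elim
    · rw [congr e] at hnr
      refine (hnr (unitary_reachable hn ?_ hF)).elim
      rintro rfl
      exact hn6 rfl
    · exact (suzuki_not_dvd hsz h3).elim
  · rintro ⟨F, i1, i2, ⟨h, ⟨e⟩⟩ | ⟨h4, ⟨e⟩⟩⟩
    · rw [congr e]
      rcases h with ⟨hc, h4⟩ | ⟨hc, h9⟩ | h57
      · exact two_char_two hc h4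
      · exact two_char_three hc h9
      · exact two_five_seven h57
    · rw [congr e]
      exact three_four h4

end Cfsg.Agent.S2526
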