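import Cfsg.Statements.S2529
import Cfsg.Agent.S0000
import Cfsg.Agent.H163.PG.Final

set_option autoImplicit false
open Cfsg

namespace Cfsg.Agent.S2529

/-- The prime graph of a finite group has the prime divisors of its order as vertices, two distinct primes p, q being joined when the group has an element of order pq; two groups have the same prime graph when they have the same prime divisors and the same joined pairs. Let G be a finite almost simple group (it has a non-abelian simple normal subgroup with trivial centralizer). Then the prime graph of G has no independent set of three vertices (among any three distinct primes dividing the order of G, two are joined) if and only if some finite solvable group has the same prime graph as G. -/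
theorem result {G : Type*} [Group G] [Finite G]
    (S : Subgroup G) [S.Normal] (hS : IsSimpleGroup ↥S) (hS' : ¬ IsMulCommutative ↥S) (hC : Subgroup.centralizer (S : Set G) = ⊥) :
    (¬ ∃ p q r : ℕ, p.Prime ∧ q.Prime ∧ r.Prime ∧ p ≠ q ∧ q ≠ r ∧ p ≠ r ∧ p ∣ Nat.card G ∧ q ∣ Nat.card G ∧ r ∣ Nat.card G ∧
        (¬ ∃ g : G, orderOf g = p * q) ∧ (¬ ∃ g : G, orderOf g = q * r) ∧ (¬ ∃ g : G, orderOf g = p * r)) ↔
      ∃ (H : Type) (_ : Group H) (_ : Finite H), Group.IsSolvable H ∧ ((∀ p : ℕ, p.Prime → (p ∣ Nat.card G ↔ p ∣ Nat.card H)) ∧
      (∀ p q : ℕ, p.Prime → q.Prime → p ≠ q → ((∃ g : G, orderOf g = p * q) ↔ (∃ g : H, orderOf g = p * q)))) := by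
  exact H163.PG.final_of_known S hS hS' hC (have := hS; S0000.result (G := S))

end Cfsg.Agent.S2529
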