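import Cfsg.Statements.S2651
import Cfsg.Agent.H188.ModW
import Cfsg.Agent.H188.Baer

set_option autoImplicit false
open Cfsg

namespace Cfsg.Agent.S2651

/-- A non-split extension has nonzero invariant. -/
theorem be_eq_one {E : Type*} [Group E] [Finite E] (N : Subgroup E) [hN : N.Normal]
    (φ : E ⧸ N ≃* ↥Cfsg.Spor.M23) {c X : ℕ → E} {t : ℕ → ℕ}
    (h : H188.Setup.MExt (H188.ModV.prj N φ) c H188.DataW.cols)
    (H : H188.Setup.Lifts (H188.ModV.prj N φ) c X t)
    (hns : ∀ H : Subgroup E, H ⊓ N = ⊥ → H ⊔ N ≠ ⊤) : H188.Setup.be t H188.DataW.lam = 1 := by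
  have h1 := H188.Setup.be_lt t H188.DataW.lam
  rcases Nat.eq_zero_or_pos (H188.Setup.be t H188.DataW.lam) with h2 | h2
  · exfalso
    obtain ⟨A, hA⟩ := H188.Split.split_of_cert h H188.DataW.cert H h2
    rw [H188.ModV.prj_ker] at hA
    exact hns A (by rw [inf_comm]; exact hA.disjoint.eq_bot) (by rw [sup_comm]; exact hA.sup_eq_top)
  · omega

/-- The non-split extension of the Mathieu group M₂₃ by its cocode module is unique. Suppose E and E' are finite groups, each with a normal subgroup (N, N'), an isomorphism of the quotient onto M₂₃ = `Spor.M23`, and a surjective additive homomorphism from the binary words on the 24 points `GolayPt` onto the normal subgroup with kernel the Golay code `golayCode` together with its translate by the unit vector at the extra point `none`, intertwining the coordinate permutation w ↦ w ∘ σ⁻¹ (σ the image of gN) with conjugation by g; and suppose that in each group the normal subgroup has no complement. Then E and E' are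 isomorphic. (This follows from the second cohomology group of M₂₃ with coefficients in this 11-dimensional module having order 2.) -/
theorem result
    {E : Type*} [Group E] [Finite E] (N : Subgroup E) [hN : N.Normal]
    (φ : E ⧸ N ≃* ↥Cfsg.Spor.M23) (θ : (Cfsg.GolayPt → ZMod 2) →+ Additive ↥N)
    (hsurj : Function.Surjective θ)
    (hker : ∀ w : Cfsg.GolayPt → ZMod 2, θ w = 0 ↔ (w ∈ Cfsg.golayCode ∨ w + Pi.single none 1 ∈ Cfsg.golayCode))
    (hθ : ∀ (g : E) (w : Cfsg.GolayPt → ZMod 2),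
      ((θ (w ∘ ⇑(((φ (QuotientGroup.mk g) : ↥Cfsg.Spor.M23) : Equiv.Perm Cfsg.GolayPt)⁻¹))).toMul : E)
        = g * ((θ w).toMul : E) * g⁻¹)
    (hns : ∀ H : Subgroup E, H ⊓ N = ⊥ → H ⊔ N ≠ ⊤)
    {E' : Type*} [Group E'] [Finite E'] (N' : Subgroup E') [hN' : N'.Normal]
    (φ' : E' ⧸ N' ≃* ↥Cfsg.Spor.M23) (θ' : (Cfsg.GolayPt → ZMod 2) →+ Additive ↥N')
    (hsurj' : Function.Surjective θ')
    (hker' : ∀ w : Cfsg.GolayPt → ZMod 2, θ' w = 0 ↔ (w ∈ Cfsg.golayCode ∨ w + Pi.single none 1 ∈ Cfsg.golayCode))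
    (hθ' : ∀ (g : E') (w : Cfsg.GolayPt → ZMod 2),
      ((θ' (w ∘ ⇑(((φ' (QuotientGroup.mk g) : ↥Cfsg.Spor.M23) : Equiv.Perm Cfsg.GolayPt)⁻¹))).toMul : E')
        = g * ((θ' w).toMul : E') * g⁻¹)
    (hns' : ∀ H : Subgroup E', H ⊓ N' = ⊥ → H ⊔ N' ≠ ⊤) :
    Nonempty (E ≃* E') := by
  have h1 := H188.ModW.mext_cocode N φ θ hsurj hker hθ
  have h2 := H188.ModW.mext_cocode N' φ' θ' hsurj' hker' hθ'
  obtain ⟨X1, t1, L1⟩ := h1.exists_lifts
  obtain ⟨X2, t2, L2⟩ := h2.exists_lifts
  have e1 := be_eq_one N φ h1 L1 hns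
  have e2 := be_eq_one N' φ' h2 L2 hns'
  have P : H188.Baer.Pair (H188.ModV.prj N φ) (H188.ModV.prj N' φ') (H188.ModW.cc N θ)
      (H188.ModW.cc N' θ') H188.DataW.cols H188.ModW.Ag :=
    ⟨h1, h2, H188.ModW.Ag_lt, H188.ModW.cc_conj N φ θ hker hθ, H188.ModW.cc_conj N' φ' θ' hker' hθ'⟩
  have L := H188.Baer.lifts P L1 L2
  have hM := H188.Baer.mext P
  have hlam : H188.Setup.be (fun r => t1 r ^^^ t2 r) H188.DataW.lam = 0 := by
    have h3 : H188.Setup.be (fun r => t1 r ^^^ t2 r) H188.DataW.lam =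
        H188.Setup.be t1 H188.DataW.lam ^^^ H188.Setup.be t2 H188.DataW.lam := by
      refine H188.Lin.beta_add (fun i => ?_) (H188.Setup.bt_lt t1) (H188.Setup.bt_lt t2) _ _ _
      unfold H188.Setup.bt
      rw [Nat.shiftRight_xor_distrib, H188.Lin.xor_mod_two]
    rw [h3, e1, e2, Nat.xor_self]
  have : Finite (H188.Baer.Q P) := by
    unfold H188.Baer.Q
    infer_instance
  obtain ⟨A, hA⟩ := H188.Split.split_of_cert hM H188.DataW.cert L hlam
  exact H188.Baer.equiv_of_complement P hA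

end Cfsg.Agent.S2651
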