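import Cfsg.Statements.S2756
import Cfsg.Agent.H36.RealTwo

set_option autoImplicit false
open Cfsg

namespace Cfsg.Agent.S2756

/-- For a finite group G the following are equivalent: (a) G has a normal Sylow 2-subgroup; (b) for every odd prime q dividing the order of G and every Sylow q-subgroup T, the normalizer of Z(J(T)) has a normal Sylow 2-subgroup; (c) for every odd prime q and every Sylow q-subgroup T, no nonidentity element of T is inverted by an element of the normalizer of Z(J(T)). Here J(T) is the Thompson subgroup generated by the abelian subgroups of T of largest order. Stated as the two equivalences (a) ⇔ (b) and (a) ⇔ (c). -/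
theorem result {G : Type*} [Group G] [Finite G] : ((∀ P : Sylow 2 G, (P : Subgroup G).Normal) ↔ ∀ (q : ℕ) [Fact q.Prime], q ≠ 2 → q ∣ Nat.card G → ∀ T : Sylow q G, ∀ P : Sylow 2 ↥(Subgroup.normalizer (Cfsg.centerThompsonAOf (T : Subgroup G) : Set G)), (P : Subgroup ↥(Subgroup.normalizer (Cfsg.centerThompsonAOf (T : Subgroup G) : Set G))).Normal) ∧ ((∀ P : Sylow 2 G, (P : Subgroup G).Normal) ↔ ∀ (q : ℕ) [Fact q.Prime], q ≠ 2 → ∀ T : Sylow q G, ∀ x ∈ (T : Subgroup G), x ≠ 1 → ∀ g ∈ Subgroup.normalizer (Cfsg.centerThompsonAOf (T : Subgroup G) : Set G), g * x * g⁻¹ ≠ x⁻¹) := by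
  classical
  have key : ∀ (q : ℕ) [Fact q.Prime], q ≠ 2 → ∀ T : Sylow q G,
      (∀ x ∈ (T : Subgroup G), x ≠ 1 →
        ∀ g ∈ Subgroup.normalizer (Cfsg.centerThompsonAOf (T : Subgroup G) : Set G),
          g * x * g⁻¹ ≠ x⁻¹) ↔
        ¬ H36.HasInv.HasInv q
          (Subgroup.normalizer (Cfsg.centerThompsonAOf (T : Subgroup G) : Set G)) := by
    intro q _ hq T
    set N := Subgroup.normalizer (Cfsg.centerThompsonAOf (T : Subgroup G) : Set G) with hN
    have hTN : (T : Subgroup G) ≤ N :=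
      Subgroup.le_normalizer.trans
        (PLocal.ThompsonJA.normalizer_le_normalizer_centerThompsonAOf _)
    constructor
    · rintro h ⟨x, g, hx, ⟨k, hk⟩, hinv⟩
      -- conjugate `x` into `T`
      have hp : IsPGroup q (Subgroup.zpowers x) := by
        rintro ⟨y, hy⟩
        obtain ⟨m, rfl⟩ := Subgroup.mem_zpowers_iff.1 hy
        refine ⟨k, Subtype.ext ?_⟩
        change (x ^ m) ^ q ^ k = 1
        rw [← zpow_natCast, ← zpow_mul, mul_comm, zpow_mul, zpow_natCast, hk, one_zpow]
      obtain ⟨P, hP⟩ := hp.exists_le_sylow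
      obtain ⟨n, hn⟩ := MulAction.exists_smul_eq N (T.subtype hTN) P
      have h1 : n⁻¹ * x * n ∈ ((T.subtype hTN : Sylow q N) : Subgroup N) := by
        have h2 := hP (Subgroup.mem_zpowers x)
        rw [← hn, Sylow.coe_subgroup_smul, Subgroup.mem_pointwise_smul_iff_inv_smul_mem] at h2
        have h5 : (MulAut.conj n)⁻¹ • x = n⁻¹ * x * n := by
          rw [← map_inv, MulAut.smul_def, MulAut.conj_apply, inv_inv]
        rwa [h5] at h2
      have h2 : ((n⁻¹ * x * n : N) : G) ∈ (T : Subgroup G) := h1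
      refine h _ h2 ?_ ((n⁻¹ * g * n : N) : G) (n⁻¹ * g * n : N).2 ?_
      · intro h3
        have h4 : n⁻¹ * x * n = 1 := Subtype.ext h3
        apply hx
        calc x = n * (n⁻¹ * x * n) * n⁻¹ := by group
          _ = 1 := by rw [h4]; group
      · have h3 : (n⁻¹ * g * n) * (n⁻¹ * x * n) * (n⁻¹ * g * n)⁻¹ = (n⁻¹ * x * n)⁻¹ := by
          calc (n⁻¹ * g * n) * (n⁻¹ * x * n) * (n⁻¹ * g * n)⁻¹ = n⁻¹ * (g * x * g⁻¹) * n := by group
            _ = (n⁻¹ * x * n)⁻¹ := by rw [hinv]; group
        exact congrArg Subtype.val h3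
    · intro h x hx hx1 g hg hinv
      apply h
      obtain ⟨k, hk⟩ := T.isPGroup' ⟨x, hx⟩
      exact H36.HasInv.hasInv_subgroup (hTN hx) hg hx1 ⟨k, congrArg Subtype.val hk⟩ hinv
  have hac : (∀ P : Sylow 2 G, (P : Subgroup G).Normal) →
      ∀ (q : ℕ) [Fact q.Prime], q ≠ 2 → ∀ T : Sylow q G,
        ¬ H36.HasInv.HasInv q
          (Subgroup.normalizer (Cfsg.centerThompsonAOf (T : Subgroup G) : Set G)) := by
    intro h q _ hq T hinv
    exact H36.RealTwo.not_hasInv_of_normal h hq hinv.of_subgroup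
  have hca : (∀ (q : ℕ) [Fact q.Prime], q ≠ 2 → ∀ T : Sylow q G,
        ¬ H36.HasInv.HasInv q
          (Subgroup.normalizer (Cfsg.centerThompsonAOf (T : Subgroup G) : Set G))) →
      (∀ P : Sylow 2 G, (P : Subgroup G).Normal) := by
    intro h
    apply H36.RealTwo.normal_of_not_hasInv
    intro q _ hq hinv
    obtain ⟨T⟩ : Nonempty (Sylow q G) := inferInstance
    exact h q hq T (H36.RealLocal.main hq G T hinv)
  refine ⟨⟨?_, ?_⟩, ⟨?_, ?_⟩⟩
  · intro h q _ hq hqd T P
    exact H36.RealTwo.normal_sub h _ P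
  · intro h
    apply hca
    intro q _ hq T hinv
    by_cases hqd : q ∣ Nat.card G
    · exact H36.RealTwo.not_hasInv_of_normal (h q hq hqd T) hq hinv
    · obtain ⟨x, g, hx, ⟨k, hk⟩, -⟩ := hinv
      apply hx
      have h1 : orderOf x ∣ q ^ k := orderOf_dvd_of_pow_eq_one hk
      obtain ⟨j, hj, hj2⟩ := (Nat.dvd_prime_pow Fact.out).1 h1
      rcases Nat.eq_zero_or_pos j with rfl | hj0
      · rwa [pow_zero, orderOf_eq_one_iff] at hj2
      · exfalso
        apply hqd
        have h3 : q ∣ orderOf x := by rw [hj2]; exact dvd_pow_self q hj0.ne'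
        exact h3.trans ((orderOf_dvd_natCard x).trans (Subgroup.card_subgroup_dvd_card _))
  · intro h q _ hq T
    exact (key q hq T).2 (hac h q hq T)
  · intro h
    apply hca
    intro q _ hq T
    exact (key q hq T).1 (h q hq T)

end Cfsg.Agent.S2756
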