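import Cfsg.Statements.S2787
import Cfsg.Agent.H177.NoQuad
import Cfsg.Agent.Walter.QdAbelian
import Cfsg.Agent.S1152
import Cfsg.Agent.S1157

set_option autoImplicit false
open Cfsg

namespace Cfsg.Agent.S2787

open Subgroup Cfsg.Agent.H177.NoSLTwo

/-- Let p be a prime and let H act by conjugation on the elementary abelian p-subgroup V of a finite group, irreducibly (no H-invariant subgroups of V other than 1 and V) and nontrivially, and suppose H/C_H(V) is isomorphic to PSL₂(F) for a field F with p^n elements, p^n odd, or p = 3 and H/C_H(V) is isomorphic to a Ree group ²G₂(3^(2m+1)), m ≥ 1. Then no subgroup A of H acting nontrivially on V acts quadratically: [V, A, A] = 1 forces [V, A] = 1. -/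
theorem result {G : Type*} [Group G] [Finite G] {p : ℕ} [Fact p.Prime] (V H : Subgroup G) (hV : Cfsg.IsElementaryAbelian p V) (hHV : H ≤ Subgroup.normalizer (V : Set G)) (hirr : ∀ U : Subgroup G, U ≤ V → H ≤ Subgroup.normalizer (U : Set G) → U = ⊥ ∨ U = V) (hnt : ¬ H ≤ Subgroup.centralizer (V : Set G)) [hn : ((Subgroup.centralizer (V : Set G)).subgroupOf H).Normal] (hq : (∃ (F : Type) (_ : Field F) (_ : Fintype F) (n : ℕ), Fintype.card F = p ^ n ∧ Odd (Fintype.card F) ∧ Nonempty (↥H ⧸ (Subgroup.centralizer (V : Set G)).subgroupOf H ≃* Matrix.ProjectiveSpecialLinearGroup (Fin 2) F)) ∨ (p = 3 ∧ Cfsg.Lie.IsoRee (↥H ⧸ (Subgroup.centralizer (V : Set G)).subgroupOf H))) (A : Subgroup G) (hA : A ≤ H) (hquad : ⁅⁅V, A⁆, A⁆ = ⊥) : ⁅V, A⁆ = ⊥ := by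
  rcases hq with ⟨F, _, _, n, hF, hodd, ⟨e⟩⟩ | ⟨hp3, K, _, _, m, -, hK, ⟨e⟩⟩
  · have hp : p ≠ 2 := by
      rintro rfl
      rcases Nat.eq_zero_or_pos n with rfl | hn0
      · have h1 : 1 < Fintype.card F := Fintype.one_lt_card
        rw [hF, pow_zero] at h1
        omega
      · rw [hF] at hodd
        exact (Nat.not_even_iff_odd.2 hodd) ((Nat.even_pow.2 ⟨even_two, hn0.ne'⟩))
    have h2 : (2 : F) ≠ 0 := by
      intro h
      have h3 : CharP F 2 := CharTwo.of_one_ne_zero_of_two_eq_zero one_ne_zero h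
      have h4 := (FiniteField.even_card_iff_char_two (F := F)).1 (ringChar.eq F 2)
      rw [Nat.odd_iff] at hodd
      omega
    exact Cfsg.Agent.H177.NoQuad.main hp V H hV hHV hirr hnt ((subAb_psl h2).congr e.symm) A hA hquad
  · have hp : p ≠ 2 := by omega
    obtain ⟨a, haH, ha1, ha2⟩ := Cfsg.Agent.S1157.exists_involution hK
    obtain ⟨-, hS⟩ := Cfsg.Agent.S1152.result hK a haH ha1 ha2
    have hfin : Finite ↥(Cfsg.Lie.twistedG2 K (3 ^ m)) := Finite.of_equiv _ e.toEquiv
    obtain ⟨Q⟩ : Nonempty (Sylow 2 ↥(Cfsg.Lie.twistedG2 K (3 ^ m))) := inferInstance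
    have hab : Cfsg.Agent.Walter.QdAbelian.AbTwo ↥(Cfsg.Lie.twistedG2 K (3 ^ m)) := by
      refine Cfsg.Agent.Walter.QdAbelian.abTwo_of_sylow Q fun x hx y hy => ?_
      have hinv : ∀ z ∈ (Q : Subgroup _), z⁻¹ = z := fun z hz =>
        inv_eq_of_mul_eq_one_right ((hS Q).2 z hz)
      have h1 := hinv _ (mul_mem hx hy)
      rw [mul_inv_rev, hinv x hx, hinv y hy] at h1
      exact h1.symm
    exact Cfsg.Agent.H177.NoQuad.main hp V H hV hHV hirr hnt ((subAb_of_comm hab).congr e.symm) A hA hquad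

end Cfsg.Agent.S2787
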