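import Cfsg.Statements.S2818
import Cfsg.Agent.Lib.FrattiniBasic

set_option autoImplicit false
open Cfsg
open scoped commutatorElement

namespace Cfsg.Agent.S2818

/-- Let P be a finite p-subgroup of a group G and H a subgroup of N_G(P) with [P, H] ≤ Ω₁(Z(P)) (the elements of order dividing p in the centre of P). Then H centralizes the Frattini subgroup of P. -/
theorem result {G : Type*} [Group G] [Finite G] {p : ℕ} [Fact p.Prime] (P : Subgroup G) (hP : IsPGroup p ↥P) (H : Subgroup G) (hH : H ≤ Subgroup.normalizer (P : Set G)) (h : ⁅P, H⁆ ≤ Cfsg.omegaOne p (P ⊓ Subgroup.centralizer (P : Set G))) : ⁅(frattini ↥P).map P.subtype, H⁆ = ⊥ := by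
  -- elements of `Ω₁(Z(P))`
  have hZ : ∀ z ∈ Cfsg.omegaOne p (P ⊓ Subgroup.centralizer (P : Set G)),
      z ∈ P ∧ z ∈ Subgroup.centralizer (P : Set G) ∧ z ^ p = 1 := by
    intro z hz
    unfold Cfsg.omegaOne at hz
    induction hz using Subgroup.closure_induction with
    | mem x hx => exact ⟨hx.1.1, hx.1.2, hx.2⟩
    | one => exact ⟨one_mem _, one_mem _, one_pow _⟩
    | mul x y _ _ hx hy =>
      refine ⟨mul_mem hx.1 hy.1, mul_mem hx.2.1 hy.2.1, ?_⟩
      have hc : Commute x y := ((Subgroup.mem_centralizer_iff.1 hy.2.1) x hx.1)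
      rw [hc.mul_pow, hx.2.2, hy.2.2, one_mul]
    | inv x _ hx => exact ⟨inv_mem hx.1, inv_mem hx.2.1, by rw [inv_pow, hx.2.2, inv_one]⟩
  rw [Subgroup.commutator_eq_bot_iff_le_centralizer]
  -- the centralizer of each `a ∈ H` in `P`
  rintro _ ⟨x, hx, rfl⟩
  rw [Subgroup.mem_centralizer_iff]
  intro a ha
  -- `[x, a] = z`
  have hcom : ∀ y ∈ P, ∃ z, (z ∈ P ∧ z ∈ Subgroup.centralizer (P : Set G) ∧ z ^ p = 1) ∧
      a * y * a⁻¹ = z * y := by
    intro y hy
    have h1 : ⁅y, a⁆ ∈ ⁅P, H⁆ := Subgroup.commutator_mem_commutator hy ha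
    have h2 := hZ _ (h h1)
    refine ⟨⁅y, a⁆⁻¹, ⟨inv_mem h2.1, inv_mem h2.2.1, by rw [inv_pow, h2.2.2, inv_one]⟩, ?_⟩
    rw [commutatorElement_def]; group
  let C : Subgroup P := (Subgroup.centralizer ({a} : Set G)).subgroupOf P
  have hxC : x ∈ C := by
    refine Cfsg.Agent.Lib.FrattiniBasic.frattini_le_of_elementary (p := p) C ?_ ?_ hx
    · rw [commutator_def, Subgroup.commutator_le]
      rintro ⟨u, hu⟩ - ⟨v, hv⟩ -
      rw [Subgroup.mem_subgroupOf, Subgroup.mem_centralizer_singleton_iff]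
      obtain ⟨z, ⟨hz1, hz2, hz3⟩, hz⟩ := hcom u hu
      obtain ⟨w, ⟨hw1, hw2, hw3⟩, hw⟩ := hcom v hv
      have e : a * ⁅u, v⁆ * a⁻¹ = ⁅a * u * a⁻¹, a * v * a⁻¹⁆ := by
        simp only [commutatorElement_def]; group
      have hzu := (Subgroup.mem_centralizer_iff.1 hz2) u hu
      have hzv := (Subgroup.mem_centralizer_iff.1 hz2) v hv
      have hwu := (Subgroup.mem_centralizer_iff.1 hw2) u hu
      have hwv := (Subgroup.mem_centralizer_iff.1 hw2) v hv
      have hzw := (Subgroup.mem_centralizer_iff.1 hz2) w hw1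
      have e2 : ⁅a * u * a⁻¹, a * v * a⁻¹⁆ = ⁅u, v⁆ := by
        rw [hz, hw]
        simp only [commutatorElement_def, mul_inv_rev]
        have c1 : Commute z u := hzu.symm
        have c2 : Commute z v := hzv.symm
        have c3 : Commute w u := hwu.symm
        have c4 : Commute w v := hwv.symm
        have c5 : Commute z w := hzw.symm
        calc z * u * (w * v) * (u⁻¹ * z⁻¹) * (v⁻¹ * w⁻¹)
            = z * (u * w) * v * u⁻¹ * z⁻¹ * v⁻¹ * w⁻¹ := by group
          _ = z * (w * u) * v * u⁻¹ * z⁻¹ * v⁻¹ * w⁻¹ := by rw [c3.symm.eq]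
          _ = (z * w) * (u * v * u⁻¹) * (z⁻¹ * v⁻¹) * w⁻¹ := by group
          _ = (z * w) * (u * v * u⁻¹) * (v⁻¹ * z⁻¹) * w⁻¹ := by rw [c2.inv_inv.eq]
          _ = (z * w) * (u * v * u⁻¹ * v⁻¹) * (z⁻¹ * w⁻¹) := by group
          _ = (z * w) * ((u * v * u⁻¹ * v⁻¹) * (z⁻¹ * w⁻¹)) := by group
          _ = (z * w) * ((z⁻¹ * w⁻¹) * (u * v * u⁻¹ * v⁻¹)) := by
              have hc : Commute (u * v * u⁻¹ * v⁻¹) (z⁻¹ * w⁻¹) := by
                have hcz : Commute (u * v * u⁻¹ * v⁻¹) z :=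
                  (((c1.symm.mul_left c2.symm).mul_left c1.symm.inv_left).mul_left
                    c2.symm.inv_left)
                have hcw : Commute (u * v * u⁻¹ * v⁻¹) w :=
                  (((c3.symm.mul_left c4.symm).mul_left c3.symm.inv_left).mul_left
                    c4.symm.inv_left)
                exact hcz.inv_right.mul_right hcw.inv_right
              rw [hc.eq]
          _ = (w * z) * ((z⁻¹ * w⁻¹) * (u * v * u⁻¹ * v⁻¹)) := by rw [c5.eq]
          _ = u * v * u⁻¹ * v⁻¹ := by group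
      have e3 : a * ⁅u, v⁆ * a⁻¹ = ⁅u, v⁆ := e.trans e2
      have : ((⁅(⟨u, hu⟩ : P), ⟨v, hv⟩⁆ : P) : G) = ⁅u, v⁆ := rfl
      rw [this]
      calc ⁅u, v⁆ * a = (a * ⁅u, v⁆ * a⁻¹) * a := by rw [e3]
        _ = a * ⁅u, v⁆ := by group
    · rintro ⟨u, hu⟩
      rw [Subgroup.mem_subgroupOf, Subgroup.mem_centralizer_singleton_iff]
      obtain ⟨z, ⟨hz1, hz2, hz3⟩, hz⟩ := hcom u hu
      have hzu : Commute z u := ((Subgroup.mem_centralizer_iff.1 hz2) u hu).symm
      have e : a * u ^ p * a⁻¹ = u ^ p := by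
        rw [← conj_pow, hz, hzu.mul_pow, hz3, one_mul]
      show u ^ p * a = a * u ^ p
      calc u ^ p * a = (a * u ^ p * a⁻¹) * a := by rw [e]
        _ = a * u ^ p := by group
  rw [Subgroup.mem_subgroupOf, Subgroup.mem_centralizer_singleton_iff] at hxC
  exact hxC.symm

end Cfsg.Agent.S2818
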