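import Cfsg.Statements.S2819
import Cfsg.Agent.Lib.FrattiniBasic
import Cfsg.Agent.OddOrderLocal.FittingHall

set_option autoImplicit false
open Cfsg
open scoped commutatorElement

namespace Cfsg.Agent.S2819

variable {G : Type*} [Group G]

/-- An element `y` normalizing the finite `p`-group `P` such that all commutators `[y,x]`, `x ∈ P`, have order dividing `p`
centralizes `Φ(P)/P'`. -/
theorem frattini_conj [Finite G] {p : ℕ} [Fact p.Prime] (P : Subgroup G)
    {y : G} (hy : y ∈ Subgroup.normalizer (P : Set G))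
    (h : ∀ x ∈ P, (y * x * y⁻¹ * x⁻¹) ^ p = 1) {x : G} (hx : x ∈ (frattini ↥P).map P.subtype) :
    y * x * y⁻¹ * x⁻¹ ∈ (⁅P, P⁆ : Subgroup G) := by
  obtain ⟨x, hx, rfl⟩ := hx
  set φ : MulAut P := P.normalizerMonoidHom ⟨y, hy⟩ with hφ
  have hφ' : ∀ x : P, ((φ x : P) : G) = y * x * y⁻¹ := fun x => rfl
  let π : P →* Abelianization P := Abelianization.of
  let θ : P →* Abelianization P := (π.comp φ.toMonoidHom) / π
  have hθ : ∀ x : P, θ x = π (φ x * x⁻¹) := by
    intro x
    rw [map_mul, map_inv, ← div_eq_mul_inv]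
    rfl
  have hker : frattini ↥P ≤ θ.ker := by
    refine Cfsg.Agent.Lib.FrattiniBasic.frattini_le_of_elementary (p := p) _ ?_ ?_
    · exact Abelianization.commutator_subset_ker θ
    · intro x
      rw [MonoidHom.mem_ker, map_pow, hθ, ← map_pow]
      have : (φ x * x⁻¹) ^ p = 1 := by
        apply Subtype.ext
        exact h x x.2
      rw [this, map_one]
  have h1 := hker hx
  rw [MonoidHom.mem_ker, hθ] at h1
  have h2 : φ x * x⁻¹ ∈ commutator P := by
    rw [← Abelianization.ker_of]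
    exact h1
  have h3 : (⁅P, P⁆ : Subgroup G) = (commutator ↥P).map P.subtype := by
    rw [Subgroup.map_subtype_commutator]
  rw [h3]
  exact ⟨φ x * x⁻¹, h2, rfl⟩

/-- Let P be a finite p-subgroup of a group G, H a subgroup of N_G(P), and Y a subgroup of H centralizing the derived subgroup P' such that [P, Y] is elementary abelian. Then O^p(⟨Y^H⟩), the subgroup of the normal closure of Y in H generated by its elements of order prime to p, centralizes the Frattini subgroup of P. -/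
theorem result {G : Type*} [Group G] [Finite G] {p : ℕ} [Fact p.Prime] (P : Subgroup G) (hP : IsPGroup p ↥P) (H : Subgroup G) (hH : H ≤ Subgroup.normalizer (P : Set G)) (Y : Subgroup G) (hYH : Y ≤ H) (hYc : Y ≤ Subgroup.centralizer ((⁅P, P⁆ : Subgroup G) : Set G)) (hel : Cfsg.IsElementaryAbelian p ⁅P, Y⁆) (NY : Subgroup G) (hNY : NY = (Subgroup.normalClosure ((Y.subgroupOf H : Subgroup ↥H) : Set ↥H)).map H.subtype) : (Cfsg.pResidual p ↥NY).map NY.subtype ≤ Subgroup.centralizer (((frattini ↥P).map P.subtype : Subgroup G) : Set G) := by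
  set F : Subgroup G := (frattini ↥P).map P.subtype with hF
  set D : Subgroup G := ⁅P, P⁆ with hD
  have hDP : D ≤ P := by
    rw [hD]; exact Subgroup.commutator_le_self P
  have hPD : P ≤ Subgroup.normalizer (D : Set G) := by
    have h3 : D = (commutator ↥P).map P.subtype := by
      rw [hD, Subgroup.map_subtype_commutator]
    rw [h3]
    exact (Subgroup.le_normalizer).trans
      (OddOrderLocal.FittingHall.normalizer_le_normalizer_map P _ inferInstance)
  have hHD : ∀ h ∈ H, ∀ x ∈ D, h * x * h⁻¹ ∈ D := by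
    intro h hh x hx
    have h3 : D = (commutator ↥P).map P.subtype := by
      rw [hD, Subgroup.map_subtype_commutator]
    have h4 : h ∈ Subgroup.normalizer (D : Set G) := by
      rw [h3]
      exact (OddOrderLocal.FittingHall.normalizer_le_normalizer_map P _ inferInstance) (hH hh)
    exact (Subgroup.mem_normalizer_iff.1 h4 x).1 hx
  have hHF : ∀ h ∈ H, ∀ x ∈ F, h * x * h⁻¹ ∈ F := by
    intro h hh x hx
    have h4 : h ∈ Subgroup.normalizer (F : Set G) := by
      exact (OddOrderLocal.FittingHall.normalizer_le_normalizer_map P _ inferInstance) (hH hh)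
    exact (Subgroup.mem_normalizer_iff.1 h4 x).1 hx
  have hFP : F ≤ P := by
    rw [hF]; exact Subgroup.map_subtype_le _
  -- the subgroup of elements of `H` centralizing `D` and `F/D`
  let K : Subgroup H :=
    { carrier := {g | (∀ x ∈ D, (g : G) * x * (g : G)⁻¹ = x) ∧
        ∀ x ∈ F, (g : G) * x * (g : G)⁻¹ * x⁻¹ ∈ D}
      one_mem' := by
        refine ⟨fun x _ => by simp, fun x _ => by simp⟩
      mul_mem' := by
        rintro ⟨a, ha⟩ ⟨b, hb⟩ ⟨ha1, ha2⟩ ⟨hb1, hb2⟩
        refine ⟨fun x hx => ?_, fun x hx => ?_⟩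
        · show a * b * x * (a * b)⁻¹ = x
          calc a * b * x * (a * b)⁻¹ = a * (b * x * b⁻¹) * a⁻¹ := by group
            _ = x := by rw [hb1 x hx, ha1 x hx]
        · show a * b * x * (a * b)⁻¹ * x⁻¹ ∈ D
          have : a * b * x * (a * b)⁻¹ * x⁻¹ = (a * (b * x * b⁻¹ * x⁻¹) * a⁻¹) * (a * x * a⁻¹ * x⁻¹) := by group
          rw [this]
          exact mul_mem (hHD a ha _ (hb2 x hx)) (ha2 x hx)
      inv_mem' := by
        rintro ⟨a, ha⟩ ⟨ha1, ha2⟩
        refine ⟨fun x hx => ?_, fun x hx => ?_⟩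
        · show a⁻¹ * x * a⁻¹⁻¹ = x
          have h1 := ha1 x hx
          calc a⁻¹ * x * a⁻¹⁻¹ = a⁻¹ * (a * x * a⁻¹) * a⁻¹⁻¹ := by rw [h1]
            _ = x := by group
        · show a⁻¹ * x * a⁻¹⁻¹ * x⁻¹ ∈ D
          have h0 : a⁻¹ * x * a ∈ F := by
            have := hHF a⁻¹ (inv_mem ha) x hx
            simpa using this
          have h1 := inv_mem (ha2 _ h0)
          have h2 : (a * (a⁻¹ * x * a) * a⁻¹ * (a⁻¹ * x * a)⁻¹)⁻¹ = a⁻¹ * x * a⁻¹⁻¹ * x⁻¹ := by
            group
          rw [← h2]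
          exact h1 }
  have hKn : K.Normal := by
    constructor
    rintro ⟨k, hk⟩ ⟨hk1, hk2⟩ ⟨g, hg⟩
    refine ⟨fun x hx => ?_, fun x hx => ?_⟩
    · show g * k * g⁻¹ * x * (g * k * g⁻¹)⁻¹ = x
      have h0 : g⁻¹ * x * g ∈ D := by simpa using hHD g⁻¹ (inv_mem hg) x hx
      calc g * k * g⁻¹ * x * (g * k * g⁻¹)⁻¹ = g * (k * (g⁻¹ * x * g) * k⁻¹) * g⁻¹ := by group
        _ = x := by rw [hk1 _ h0]; group
    · show g * k * g⁻¹ * x * (g * k * g⁻¹)⁻¹ * x⁻¹ ∈ D
      have h0 : g⁻¹ * x * g ∈ F := by simpa using hHF g⁻¹ (inv_mem hg) x hx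
      have h1 := hHD g hg _ (hk2 _ h0)
      have h2 : g * (k * (g⁻¹ * x * g) * k⁻¹ * (g⁻¹ * x * g)⁻¹) * g⁻¹
          = g * k * g⁻¹ * x * (g * k * g⁻¹)⁻¹ * x⁻¹ := by group
      rw [← h2]
      exact h1
  have hYK : ((Y.subgroupOf H : Subgroup ↥H) : Set ↥H) ⊆ K := by
    rintro ⟨y, hy⟩ hyY
    have hyY' : y ∈ Y := hyY
    refine ⟨fun x hx => ?_, fun x hx => ?_⟩
    · have := (Subgroup.mem_centralizer_iff.1 (hYc hyY')) x hx
      show y * x * y⁻¹ = x
      rw [← this]; group
    · refine frattini_conj (p := p) P (hH hy) ?_ hx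
      intro u hu
      apply hel.2
      have : y * u * y⁻¹ * u⁻¹ = ⁅u, y⁆⁻¹ := by rw [commutatorElement_def]; group
      rw [this]
      exact inv_mem (Subgroup.commutator_mem_commutator hu hyY')
  have hNK : NY ≤ K.map H.subtype := by
    rw [hNY]
    exact Subgroup.map_mono (Subgroup.normalClosure_le_normal hYK)
  rw [Subgroup.map_le_iff_le_comap]
  unfold Cfsg.pResidual
  rw [Subgroup.closure_le]
  rintro ⟨z, hz⟩ hzc
  have hzo : Nat.Coprime (orderOf z) p := by
    have : orderOf (⟨z, hz⟩ : NY) = orderOf z := (Subgroup.orderOf_mk z hz)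
    rw [← this]; exact hzc
  obtain ⟨⟨k, hk⟩, ⟨hk1, hk2⟩, hkz⟩ := hNK hz
  have hkz' : k = z := hkz
  subst hkz'
  show k ∈ Subgroup.centralizer (F : Set G)
  rw [Subgroup.mem_centralizer_iff]
  intro x hx
  set c := k * x * k⁻¹ * x⁻¹ with hc
  have hcD : c ∈ D := hk2 x hx
  have hkc : k * c * k⁻¹ = c := hk1 c hcD
  have hkc' : Commute k c := by
    show k * c = c * k
    calc k * c = k * c * k⁻¹ * k := by group
      _ = c * k := by rw [hkc]
  have hpow : ∀ n : ℕ, k ^ n * x * (k ^ n)⁻¹ = c ^ n * x := by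
    intro n
    induction n with
    | zero => simp
    | succ n ih =>
      calc k ^ (n + 1) * x * (k ^ (n + 1))⁻¹ = k * (k ^ n * x * (k ^ n)⁻¹) * k⁻¹ := by
            rw [pow_succ']; group
        _ = k * (c ^ n * x) * k⁻¹ := by rw [ih]
        _ = (k * c ^ n * k⁻¹) * (k * x * k⁻¹) := by group
        _ = c ^ n * (k * x * k⁻¹) := by
            rw [(hkc'.pow_right n).eq]; group
        _ = c ^ n * (c * x) := by
            have : k * x * k⁻¹ = c * x := by rw [hc]; group
            rw [this]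
        _ = c ^ (n + 1) * x := by rw [pow_succ]; group
  have h1 := hpow (orderOf k)
  rw [pow_orderOf_eq_one] at h1
  have h2 : c ^ orderOf k = 1 := by
    have : c ^ orderOf k * x = 1 * x := by rw [← h1]; group
    exact mul_right_cancel this
  have h3 : orderOf c ∣ orderOf k := orderOf_dvd_of_pow_eq_one h2
  obtain ⟨m, hm⟩ := (IsPGroup.iff_orderOf.1 hP) ⟨c, hDP hcD⟩
  have hm' : orderOf c = p ^ m := by
    rw [← hm]; exact (Subgroup.orderOf_mk c _).symm
  have h4 : Nat.Coprime (orderOf c) (p ^ m) :=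
    (Nat.Coprime.coprime_dvd_left h3 hzo).pow_right m
  rw [hm'] at h4
  have h5 : p ^ m = 1 := (Nat.coprime_self _).1 h4
  rw [h5, orderOf_eq_one_iff] at hm'
  have : k * x * k⁻¹ = x := by
    have h6 : k * x * k⁻¹ = c * x := by rw [hc]; group
    rw [h6, hm', one_mul]
  calc x * k = k * x * k⁻¹ * k := by rw [this]
    _ = k * x := by group

end Cfsg.Agent.S2819
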