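import Cfsg.Statements.S2823
import Cfsg.Agent.H225.Trace
import Cfsg.Agent.Transfer.Residual

set_option autoImplicit false
open Cfsg

namespace Cfsg.Agent.S2823

open Subgroup Cfsg.Agent.H225.Basic Cfsg.Agent.H225.Trace
open scoped commutatorElement

/-- Let H be a finite group, p a prime, T a Sylow p-subgroup and L a subgroup of characteristic p containing T; let Z_L be the subgroup generated by the Ω₁(Z(S)) over the Sylow p-subgroups S of L and O^p(L) the subgroup generated by the elements of L of order prime to p. Then Z_L = Ω₁(Z(L))·[Z_L, O^p(L)] and [Z_L, L] = [Z_L, O^p(L)]. -/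
theorem result {H : Type*} [Group H] [Finite H] {p : ℕ} [Fact p.Prime] (T : Sylow p H) (L : Subgroup H) (hTL : (T : Subgroup H) ≤ L) (hL : Subgroup.centralizer (Cfsg.pCore p ↥L : Set ↥L) ≤ Cfsg.pCore p ↥L) : Cfsg.sylowCenterClosure p L = (Cfsg.omegaOne p (L ⊓ Subgroup.centralizer ((L : Subgroup H) : Set H))) ⊔ ⁅Cfsg.sylowCenterClosure p L, (Cfsg.pResidual p ↥L).map L.subtype⁆ ∧ ⁅Cfsg.sylowCenterClosure p L, L⁆ = ⁅Cfsg.sylowCenterClosure p L, (Cfsg.pResidual p ↥L).map L.subtype⁆ := by
  set V := Cfsg.sylowCenterClosure p L with hV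
  set O := (Cfsg.pResidual p ↥L).map L.subtype with hO
  set W := ⁅V, O⁆ with hW
  set Z := Cfsg.omegaOne p (L ⊓ Subgroup.centralizer (L : Set H)) with hZ
  have hVY : V ≤ Cfsg.largestPReducedOf p L := H224.YL.sylowCenterClosure_le_largestPReducedOf hL
  have hYe := H224.YL.isElementaryAbelian_largestPReducedOf p L
  have hVc : ∀ x ∈ V, ∀ y ∈ V, x * y = y * x := by
    intro x hx y hy
    exact congrArg Subtype.val (hYe.1.is_comm.comm ⟨x, hVY hx⟩ ⟨y, hVY hy⟩)
  have hVp : ∀ x ∈ V, x ^ p = 1 := fun x hx => hYe.2 x (hVY hx)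
  have hVL : V ≤ L := hVY.trans (H224.YL.largestPReducedOf_le p L)
  have hOL : O ≤ L := Subgroup.map_subtype_le _
  haveI hchar := Transfer.Residual.pResidual_characteristic (G := L) p
  have hLO : L ≤ normalizer (O : Set H) := by
    rw [← Subgroup.normal_subgroupOf_iff_le_normalizer hOL]
    have : O.subgroupOf L = Cfsg.pResidual p L :=
      Subgroup.comap_map_eq_self_of_injective L.subtype_injective _
    rw [this]; infer_instance
  -- generators of `V`
  have hgen : ∀ (S : Sylow p L) (x : H), x ∈ (S : Subgroup L).map L.subtype →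
      x ∈ centralizer ((S : Subgroup L).map L.subtype : Set H) → x ^ p = 1 → x ∈ V := by
    intro S x h1 h2 h3
    exact (le_iSup (fun S : Sylow p L =>
      Cfsg.omegaOne p (((S : Subgroup L).map L.subtype) ⊓
        Subgroup.centralizer (((S : Subgroup L).map L.subtype : Subgroup H) : Set H))) S)
      (Subgroup.subset_closure ⟨mem_inf.2 ⟨h1, h2⟩, h3⟩)
  have hVle : ∀ K : Subgroup H, (∀ (S : Sylow p L) (x : H), x ∈ (S : Subgroup L).map L.subtype →
      x ∈ centralizer ((S : Subgroup L).map L.subtype : Set H) → x ^ p = 1 → x ∈ K) → V ≤ K := by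
    intro K hK
    refine iSup_le fun S => ?_
    unfold Cfsg.omegaOne
    rw [Subgroup.closure_le]
    rintro x ⟨hx, hxp⟩
    exact hK S x (mem_inf.1 hx).1 (mem_inf.1 hx).2 hxp
  -- `V` is normalized by `L`
  have hLV : L ≤ normalizer (V : Set H) := by
    refine mem_normalizer_of_forall fun g hg x hx => ?_
    have h1 : V ≤ V.comap (MulAut.conj g).toMonoidHom := by
      refine hVle _ fun S x h1 h2 h3 => ?_
      rw [mem_comap]
      show g * x * g⁻¹ ∈ V
      refine hgen ((⟨g, hg⟩ : L) • S) _ ?_ ?_ ?_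
      · obtain ⟨s, hs, rfl⟩ := h1
        exact ⟨⟨g, hg⟩ * s * ⟨g, hg⟩⁻¹, ⟨s, hs, by simp⟩, rfl⟩
      · rw [mem_centralizer_iff]
        rintro _ ⟨_, ⟨s, hs, rfl⟩, rfl⟩
        have h4 := (mem_centralizer_iff.1 h2) (s : H) ⟨s, hs, rfl⟩
        show g * (s : H) * g⁻¹ * (g * x * g⁻¹) = g * x * g⁻¹ * (g * (s : H) * g⁻¹)
        calc g * (s : H) * g⁻¹ * (g * x * g⁻¹) = g * (s * x) * g⁻¹ := by group
          _ = g * (x * s) * g⁻¹ := by rw [h4]
          _ = g * x * g⁻¹ * (g * (s : H) * g⁻¹) := by group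
      · rw [conj_pow, h3]; group
    exact h1 hx
  have hWV : W ≤ V := by
    rw [hW, Subgroup.commutator_le]
    intro v hv o ho
    have h1 := (mem_normalizer_iff.1 (hLV (hOL ho)) v⁻¹).1 (inv_mem hv)
    have e : ⁅v, o⁆ = v * (o * v⁻¹ * o⁻¹) := by rw [commutatorElement_def]; group
    rw [e]; exact mul_mem hv h1
  have hLW : L ≤ normalizer (W : Set H) := by
    refine mem_normalizer_of_forall fun g hg x hx => ?_
    have h1 : W ≤ W.comap (MulAut.conj g).toMonoidHom := by
      rw [hW, Subgroup.commutator_le]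
      intro v hv o ho
      rw [mem_comap]
      have h2 : (MulAut.conj g).toMonoidHom ⁅v, o⁆ = ⁅g * v * g⁻¹, g * o * g⁻¹⁆ := by
        show g * ⁅v, o⁆ * g⁻¹ = _
        simp only [commutatorElement_def]; group
      rw [h2]
      exact Subgroup.commutator_mem_commutator ((mem_normalizer_iff.1 (hLV hg) v).1 hv)
        ((mem_normalizer_iff.1 (hLO hg) o).1 ho)
    exact h1 hx
  have hZV : Z ≤ V := by
    rw [hZ]; unfold Cfsg.omegaOne
    rw [Subgroup.closure_le]
    rintro x ⟨hx, hxp⟩
    obtain ⟨hxL, hxC⟩ := mem_inf.1 hx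
    obtain ⟨S⟩ : Nonempty (Sylow p L) := inferInstance
    refine hgen S x ?_ ?_ hxp
    · have hn : (Subgroup.zpowers (⟨x, hxL⟩ : L)).Normal := by
        constructor
        rintro _ ⟨k, rfl⟩ g
        refine ⟨k, ?_⟩
        have h1 : Commute g (⟨x, hxL⟩ : L) :=
          Subtype.ext ((mem_centralizer_iff.1 hxC) g g.2)
        have h2 := (h1.zpow_right k).eq
        exact (mul_inv_eq_iff_eq_mul.2 h2).symm
      have hp : IsPGroup p (Subgroup.zpowers (⟨x, hxL⟩ : L)) := by
        rintro ⟨_, k, rfl⟩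
        refine ⟨1, Subtype.ext (Subtype.ext ?_)⟩
        show (x ^ k) ^ p ^ 1 = 1
        rw [pow_one, ← zpow_natCast, ← zpow_mul, mul_comm, zpow_mul, zpow_natCast, hxp, one_zpow]
      have := Lib.Cores.pCore_le_sylow S (Lib.Cores.le_pCore hn hp (Subgroup.mem_zpowers _))
      exact ⟨_, this, rfl⟩
    · refine Subgroup.centralizer_le ?_ hxC
      exact Subgroup.map_subtype_le _
  have hZC : Z ≤ centralizer (L : Set H) := by
    rw [hZ]; unfold Cfsg.omegaOne
    rw [Subgroup.closure_le]
    rintro x ⟨hx, _⟩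
    exact (mem_inf.1 hx).2
  have h1 : V = Z ⊔ W := by
    apply le_antisymm
    · refine hVle _ fun S z hz hzC hzp => ?_
      have hzV := hgen S z hz hzC hzp
      have hSL : (S : Subgroup L).map L.subtype ≤ L := Subgroup.map_subtype_le _
      have hidx : ¬ p ∣ ((S : Subgroup L).map L.subtype).relIndex L := by
        have e : ((S : Subgroup L).map L.subtype).relIndex L = (S : Subgroup L).index := by
          unfold Subgroup.relIndex
          congr 1
          exact Subgroup.comap_map_eq_self_of_injective L.subtype_injective _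
        rw [e]; exact S.not_dvd_index
      obtain ⟨c, hcV, hcR, w, hw, e⟩ := exists_trace (V := V) (W := W) hSL hidx hVc hLV hWV hzV hzp
        (fun t ht => (mem_centralizer_iff.1 hzC) t ht) (by
          intro g hg
          have h1 : (⟨g, hg⟩ : L) ∈ (S : Subgroup L) ⊔ Cfsg.pResidual p L := by
            rw [sup_comm, Transfer.Residual.pResidual_sup_sylow S]; exact mem_top _
          obtain ⟨t, ht, o, ho, e⟩ := H224.YL.exists_mul_of_mem_sup
            (D := (S : Subgroup L)) (C := Cfsg.pResidual p L)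
            (by rw [normalizer_eq_top_iff.2 inferInstance]; exact le_top) h1
          have e' : g = t * o := congrArg Subtype.val e
          have ho' : t * o * t⁻¹ ∈ Cfsg.pResidual p L :=
            (inferInstance : (Cfsg.pResidual p L).Normal).conj_mem o ho t
          have ho'' : (t : H) * o * (t : H)⁻¹ ∈ O := ⟨_, ho', rfl⟩
          have htz : (t : H) * z * (t : H)⁻¹ = z :=
            mul_inv_eq_iff_eq_mul.2 ((mem_centralizer_iff.1 hzC) t ⟨t, ht, rfl⟩)
          have e3 : g * z * g⁻¹ * z⁻¹ = ((t : H) * o * (t : H)⁻¹) * z * ((t : H) * o * (t : H)⁻¹)⁻¹ * z⁻¹ := by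
            rw [e']
            calc (t : H) * o * z * (t * o : H)⁻¹ * z⁻¹
                = ((t : H) * o * (t : H)⁻¹) * ((t : H) * z * (t : H)⁻¹) * ((t : H) * o * (t : H)⁻¹)⁻¹ * z⁻¹ := by group
              _ = _ := by rw [htz]
          rw [e3, hW, Subgroup.commutator_comm]
          exact Subgroup.commutator_mem_commutator ho'' hzV)
      rw [e]
      refine mul_mem (mem_sup_left (Subgroup.subset_closure ⟨mem_inf.2 ⟨hVL hcV, ?_⟩, hVp c hcV⟩))
        (mem_sup_right hw)
      rw [mem_centralizer_iff]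
      intro g hg
      exact hcR g hg
    · exact sup_le hZV hWV
  refine ⟨h1, le_antisymm ?_ (Subgroup.commutator_mono le_rfl hOL)⟩
  rw [Subgroup.commutator_le]
  intro v hv g hg
  rw [h1] at hv
  obtain ⟨c, hc, w, hw, rfl⟩ := H224.YL.exists_mul_of_mem_sup
    (((hZV.trans hVL).trans hLW)) hv
  have h2 : g * c = c * g := (mem_centralizer_iff.1 (hZC hc)) g hg
  have h3 : g * w⁻¹ * g⁻¹ ∈ W := (mem_normalizer_iff.1 (hLW hg) w⁻¹).1 (inv_mem hw)
  have hcw : c * w = w * c := hVc c (hZV hc) w (hWV hw)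
  have h4 : c * w * g * (c * w)⁻¹ * g⁻¹ = w * (g * w⁻¹ * g⁻¹) := by
    rw [hcw]
    calc w * c * g * (w * c)⁻¹ * g⁻¹ = w * (c * g) * c⁻¹ * w⁻¹ * g⁻¹ := by group
      _ = w * (g * c) * c⁻¹ * w⁻¹ * g⁻¹ := by rw [h2]
      _ = w * (g * w⁻¹ * g⁻¹) := by group
  rw [commutatorElement_def, h4]
  exact mul_mem hw h3

end Cfsg.Agent.S2823
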