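import Cfsg.Statements.S2825
import Cfsg.Agent.H225.Red

set_option autoImplicit false
open Cfsg

namespace Cfsg.Agent.S2825

open Subgroup Cfsg.Agent.H225.Red Cfsg.Agent.H225.Basic

theorem isPReducedNormal_of_red {H : Type*} [Group H] {p : ℕ} {L V : Subgroup H} (h : Red p L V) :
    IsPReducedNormal p (V.subgroupOf L) := by
  have hcen : ∀ x : L, x ∈ centralizer (V.subgroupOf L : Set L) ↔
      (x : H) ∈ centralizer (V : Set H) := by
    intro x
    rw [mem_centralizer_iff, mem_centralizer_iff]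
    constructor
    · intro h' v hv
      exact congrArg Subtype.val (h' ⟨v, h.le hv⟩ hv)
    · intro h v hv
      exact Subtype.ext (h v hv)
  rw [H224.YL.isPReducedNormal_iff]
  refine ⟨?_, ⟨⟨⟨?_⟩⟩, ?_⟩, ?_⟩
  · exact (Subgroup.normal_subgroupOf_iff_le_normalizer h.le).2 h.norm
  · rintro ⟨⟨x, hx1⟩, hx⟩ ⟨⟨y, hy1⟩, hy⟩
    have := h.elem.1.is_comm.comm ⟨x, hx⟩ ⟨y, hy⟩
    have h2 : x * y = y * x := congrArg Subtype.val this
    exact Subtype.ext (Subtype.ext h2)
  · rintro ⟨x, hx1⟩ hx
    exact Subtype.ext (h.elem.2 x hx)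
  · intro D hD _ hk
    have h1 := h.red (D.map L.subtype) (Subgroup.map_subtype_le _) ?_ ?_
    · intro x hx
      rw [hcen]
      exact h1 ⟨x, hx, rfl⟩
    · rw [← Subgroup.normal_subgroupOf_iff_le_normalizer (Subgroup.map_subtype_le _)]
      have : (D.map L.subtype).subgroupOf L = D :=
        Subgroup.comap_map_eq_self_of_injective L.subtype_injective D
      rw [this]; exact hD
    · rintro _ ⟨x, hx, rfl⟩
      obtain ⟨k, hk⟩ := hk x hx
      rw [hcen] at hk
      exact ⟨k, hk⟩

theorem red_top_iff {H : Type*} [Group H] {p : ℕ} {V : Subgroup H} :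
    Red p ⊤ V ↔ IsPReducedNormal p V := by
  rw [H224.YL.isPReducedNormal_iff]
  constructor
  · intro h
    refine ⟨normalizer_eq_top_iff.1 (top_le_iff.1 h.norm), h.elem, ?_⟩
    intro D hD _ hk
    exact h.red D le_top (by rw [normalizer_eq_top_iff.2 hD]) hk
  · rintro ⟨h1, h2, h3⟩
    refine ⟨le_top, by rw [normalizer_eq_top_iff.2 h1], h2, ?_⟩
    intro D _ hD hk
    have hn : (centralizer (V : Set H)).Normal := by
      haveI := h1
      infer_instance
    have hDn : D.Normal := normalizer_eq_top_iff.1 (top_le_iff.1 hD)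
    have := h3 (D ⊔ centralizer (V : Set H)) (Subgroup.sup_normal _ _) le_sup_right ?_
    · exact le_sup_left.trans this
    · refine PMod.sup (C := centralizer (V : Set H)) (by rw [normalizer_eq_top_iff.2 hn]; exact le_top)
        (by rw [normalizer_eq_top_iff.2 hn]; exact le_top) hk ?_
      intro x hx
      exact ⟨0, by simpa using hx⟩

/-- Let L be a subnormal subgroup of the finite group H, p a prime, Y_H and Y_L the largest p-reduced normal subgroups. Then Y_H ∩ L = Y_H ∩ Y_L and this subgroup is a p-reduced normal subgroup of L; C_L(Y_L) = C_L(Y_H) = C_L(Y_H ∩ L); and if O^p(H) ≤ L, then [Y_L, L] = 1 if and only if [Y_H, H] = 1. -/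
theorem result {H : Type*} [Group H] [Finite H] {p : ℕ} [Fact p.Prime] (L : Subgroup H) (hL : L.IsSubnormal) : Cfsg.largestPReduced p H ⊓ L = Cfsg.largestPReduced p H ⊓ (Cfsg.largestPReducedOf p L) ∧ Cfsg.IsPReducedNormal p ((Cfsg.largestPReduced p H ⊓ L).subgroupOf L) ∧ L ⊓ Subgroup.centralizer ((Cfsg.largestPReducedOf p L : Subgroup H) : Set H) = L ⊓ Subgroup.centralizer (Cfsg.largestPReduced p H : Set H) ∧ L ⊓ Subgroup.centralizer (Cfsg.largestPReduced p H : Set H) = L ⊓ Subgroup.centralizer ((Cfsg.largestPReduced p H ⊓ L : Subgroup H) : Set H) ∧ (Cfsg.pResidual p H ≤ L → (⁅(Cfsg.largestPReducedOf p L), L⁆ = ⊥ ↔ ⁅Cfsg.largestPReduced p H, (⊤ : Subgroup H)⁆ = ⊥)) := by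
  set Y := Cfsg.largestPReduced p H with hYdef
  have hY : Red p ⊤ Y := red_top_iff.2 (H224.YL.isPReducedNormal_largestPReduced p)
  have main : Red p L (Y ⊓ L) ∧
      L ⊓ centralizer ((Y ⊓ L : Subgroup H) : Set H) = L ⊓ centralizer (Y : Set H) ∧
      L ⊓ centralizer (largestPReducedOf p L : Set H) = L ⊓ centralizer (Y : Set H) := by
    induction hL with
    | top =>
      have h1 : largestPReducedOf p (⊤ : Subgroup H) = Y := by
        apply le_antisymm
        · exact H224.YL.le_largestPReduced (red_top_iff.1 (red_largest p ⊤))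
        · exact hY.le_largest
      rw [h1, inf_top_eq]
      exact ⟨hY, rfl, rfl⟩
    | step L K hLK _ hN ih =>
      obtain ⟨ih1, ih2, ih3⟩ := ih
      have hKL : K ≤ normalizer (L : Set H) :=
        (Subgroup.normal_subgroupOf_iff_le_normalizer hLK).1 hN
      have e1 : Y ⊓ K ⊓ L = Y ⊓ L := by rw [inf_assoc, inf_eq_right.2 hLK]
      have e2 : ∀ Z : Subgroup H, L ⊓ Z = L ⊓ (K ⊓ Z) := by
        intro Z
        rw [← inf_assoc, inf_eq_left.2 hLK]
      have h1 := ih1.meet hLK hKL
      have h2 := ih1.centralizer_meet hLK hKL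
      rw [e1] at h1 h2
      refine ⟨h1, ?_, ?_⟩
      · rw [h2, e2, ih2, ← e2]
      · rw [centralizer_largest_normal hLK hKL, e2, ih3, ← e2]
  obtain ⟨h1, h2, h3⟩ := main
  refine ⟨?_, isPReducedNormal_of_red h1, h3, h2.symm, ?_⟩
  · apply le_antisymm
    · exact le_inf inf_le_left h1.le_largest
    · exact inf_le_inf_left _ (H224.YL.largestPReducedOf_le p L)
  · intro hres
    rw [commutator_eq_bot_iff_le_centralizer, commutator_eq_bot_iff_le_centralizer,
      Subgroup.le_centralizer_iff, Subgroup.le_centralizer_iff (H := Y)]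
    constructor
    · intro h
      have h4 : L ≤ centralizer (Y : Set H) := by
        have : L ≤ L ⊓ centralizer (Y : Set H) := by
          rw [← h3]; exact le_inf le_rfl h
        exact this.trans inf_le_right
      refine hY.red ⊤ le_rfl Subgroup.le_normalizer ?_
      intro x _
      obtain ⟨k, m, hm, hkm⟩ : ∃ k m : ℕ, Nat.Coprime m p ∧ orderOf x = p ^ k * m := by
        obtain ⟨k, m, hm, h⟩ := Nat.exists_eq_pow_mul_and_not_dvd
          (orderOf_pos x).ne' p (Fact.out : p.Prime).ne_one
        exact ⟨k, m, ((Nat.Prime.coprime_iff_not_dvd Fact.out).2 hm).symm, h⟩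
      have h7 : orderOf (x ^ p ^ k) = m := by
        rw [orderOf_pow, hkm, Nat.gcd_mul_right_left]
        exact Nat.mul_div_cancel_left _ (pow_pos (Fact.out : p.Prime).pos k)
      refine ⟨k, h4 (hres (Subgroup.subset_closure ?_))⟩
      show Nat.Coprime (orderOf (x ^ p ^ k)) p
      rw [h7]; exact hm
    · intro h
      have h5 : L ≤ L ⊓ centralizer (largestPReducedOf p L : Set H) := by
        rw [h3]
        exact le_inf le_rfl (le_top.trans h)
      exact h5.trans inf_le_right

end Cfsg.Agent.S2825
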