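import Cfsg.Statements.S2826
import Cfsg.Agent.H225.Trace
import Cfsg.Agent.Transfer.Residual

set_option autoImplicit false
open Cfsg

namespace Cfsg.Agent.S2826

open Subgroup Cfsg.Agent.H225.Basic Cfsg.Agent.H225.Trace

/-- Let H be a finite group of characteristic p, T a Sylow p-subgroup, and V a normal elementary abelian p-subgroup of H containing Ω₁(Z(T)). Then C_H(Ω₁(Z(T))) = C_H([V, O^p(H)] ∩ Ω₁(Z(T))), O^p(H) being generated by the elements of order prime to p. -/
theorem result {H : Type*} [Group H] [Finite H] {p : ℕ} [Fact p.Prime] (hH : Subgroup.centralizer (Cfsg.pCore p H : Set H) ≤ Cfsg.pCore p H) (T : Sylow p H) (V : Subgroup H) [V.Normal] (hV : Cfsg.IsElementaryAbelian p V) (hZV : (Cfsg.omegaOne p ((T : Subgroup H) ⊓ Subgroup.centralizer (((T : Subgroup H) : Subgroup H) : Set H))) ≤ V) : Subgroup.centralizer ((Cfsg.omegaOne p ((T : Subgroup H) ⊓ Subgroup.centralizer (((T : Subgroup H) : Subgroup H) : Set H))) : Set H) = Subgroup.centralizer (((⁅V, Cfsg.pResidual p H⁆ ⊓ (Cfsg.omegaOne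 p ((T : Subgroup H) ⊓ Subgroup.centralizer (((T : Subgroup H) : Subgroup H) : Set H)))) : Subgroup H) : Set H) := by
  set Z := Cfsg.omegaOne p ((T : Subgroup H) ⊓ Subgroup.centralizer ((T : Subgroup H) : Set H))
    with hZ
  set W := ⁅V, Cfsg.pResidual p H⁆ with hW
  have hVc : ∀ x ∈ V, ∀ y ∈ V, x * y = y * x := by
    intro x hx y hy
    exact congrArg Subtype.val (hV.1.is_comm.comm ⟨x, hx⟩ ⟨y, hy⟩)
  have hVT : V ≤ (T : Subgroup H) :=
    (Lib.Cores.le_pCore inferInstance (H224.YL.isPGroup_of_isElementaryAbelian hV)).trans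
      (Lib.Cores.pCore_le_sylow T)
  have hWV : W ≤ V := Subgroup.commutator_le_left _ _
  have hZT : Z ≤ centralizer ((T : Subgroup H) : Set H) := by
    rw [hZ]; unfold Cfsg.omegaOne
    rw [Subgroup.closure_le]
    rintro x ⟨hx, _⟩
    exact hx.2
  apply le_antisymm
  · exact Subgroup.centralizer_le inf_le_right
  · set R := centralizer ((W ⊓ Z : Subgroup H) : Set H) with hR
    have hTR : (T : Subgroup H) ≤ R := by
      rw [hR, Subgroup.le_centralizer_iff]
      exact inf_le_right.trans hZT
    have hidx : ¬ p ∣ (T : Subgroup H).relIndex R := by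
      intro h
      have h1 := Subgroup.relIndex_mul_index hTR
      exact T.not_dvd_index (h.trans ⟨_, h1.symm⟩)
    rw [Subgroup.le_centralizer_iff]
    rw [hZ]; unfold Cfsg.omegaOne
    rw [Subgroup.closure_le]
    rintro z ⟨hz, hzp⟩
    have hzT := (mem_inf.1 hz).2
    have hzZ : z ∈ Z := Subgroup.subset_closure ⟨hz, hzp⟩
    obtain ⟨c, hcV, hcR, w, hw, e⟩ := exists_trace (V := V) (W := W) hTR hidx hVc
      (by rw [normalizer_eq_top_iff.2 inferInstance]; exact le_top) hWV (hZV hzZ) hzp
      (fun t ht => (mem_centralizer_iff.1 hzT) t ht) (by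
        intro g _
        have h1 : g ∈ (T : Subgroup H) ⊔ Cfsg.pResidual p H := by
          rw [sup_comm, Transfer.Residual.pResidual_sup_sylow T]; exact mem_top g
        haveI := (Transfer.Residual.pResidual_characteristic (G := H) p)
        have h2 : g ∈ (Cfsg.pResidual p H) ⊔ (T : Subgroup H) := by rwa [sup_comm]
        obtain ⟨t, ht, o, ho, e⟩ := H224.YL.exists_mul_of_mem_sup
          (D := (T : Subgroup H)) (C := Cfsg.pResidual p H)
          (by rw [normalizer_eq_top_iff.2 inferInstance]; exact le_top) h1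
        -- write `g = o' t`
        have ho' : t * o * t⁻¹ ∈ Cfsg.pResidual p H :=
          (inferInstance : (Cfsg.pResidual p H).Normal).conj_mem o ho t
        have htz : t * z * t⁻¹ = z := mul_inv_eq_iff_eq_mul.2 ((mem_centralizer_iff.1 hzT) t ht)
        have e3 : g * z * g⁻¹ * z⁻¹ = (t * o * t⁻¹) * z * (t * o * t⁻¹)⁻¹ * z⁻¹ := by
          rw [e]
          calc t * o * z * (t * o)⁻¹ * z⁻¹
              = (t * o * t⁻¹) * (t * z * t⁻¹) * (t * o * t⁻¹)⁻¹ * z⁻¹ := by group
            _ = _ := by rw [htz]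
        rw [e3, hW, Subgroup.commutator_comm]
        exact Subgroup.commutator_mem_commutator ho' (hZV hzZ))
    have hwV := hWV hw
    have hwZ : w ∈ Z := by
      refine Subgroup.subset_closure ⟨mem_inf.2 ⟨hVT hwV, ?_⟩, hV.2 w hwV⟩
      rw [mem_centralizer_iff]
      intro t ht
      have h1 : w = c⁻¹ * z := by rw [e]; group
      have h2 := hcR t (hTR ht)
      have h3 := (mem_centralizer_iff.1 hzT) t ht
      have h4 : Commute t c := h2
      have h5 : Commute t z := h3
      rw [h1]
      exact (h4.inv_right.mul_right h5).eq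
    rw [SetLike.mem_coe, mem_centralizer_iff]
    intro x hx
    have h1 : Commute x c := hcR x hx
    have h2 : Commute x w :=
      ((mem_centralizer_iff.1 hx) w (mem_inf.2 ⟨hw, hwZ⟩)).symm
    rw [e]
    exact (h1.mul_right h2).eq

end Cfsg.Agent.S2826
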