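import Cfsg.Statements.S2827
import Cfsg.Agent.H990.PIrr

set_option autoImplicit false
open Cfsg

namespace Cfsg.Agent.S2827

/-- Let H be a finite p-irreducible group (not p-closed, and O^p(H) lies in every normal subgroup that is not p-closed) and T a Sylow p-subgroup. Then H is generated by the conjugates of T and H = H'·T; O^p(H) ≤ H'; and for every normal subgroup Y of T not contained in O_p(H), O^p(H) = [O^p(H), Y] and O^p(H) is contained in the normal closure of Y in H. -/
theorem result {H : Type*} [Group H] [Finite H] {p : ℕ} [Fact p.Prime] (hH : Cfsg.IsPIrreducible p H) (T : Sylow p H) : Subgroup.normalClosure ((T : Subgroup H) : Set H) = ⊤ ∧ commutator H ⊔ (T : Subgroup H) = ⊤ ∧ Cfsg.pResidual p H ≤ commutator H ∧ ∀ Y : Subgroup H, Y ≤ (T : Subgroup H) → (T : Subgroup H) ≤ Subgroup.normalizer (Y : Set H) → ¬ Y ≤ Cfsg.pCore p H → ⁅Cfsg.pResidual p H, Y⁆ = Cfsg.pResidual p H ∧ Cfsg.pResidual p H ≤ Subgroup.normalClosure (Y : Set H) := by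
  refine ⟨Cfsg.Agent.H990.PIrr.normalClosure_sylow hH T, Cfsg.Agent.H990.PIrr.commutator_sup_sylow hH T,
    Cfsg.Agent.H990.PIrr.pResidual_le_commutator hH, fun Y hYT hTY hY => ⟨?_, ?_⟩⟩
  · exact Cfsg.Agent.H990.PIrr.commutator_pResidual hH T hYT hTY hY
  · exact Cfsg.Agent.H990.PIrr.pResidual_le_normalClosure hH (T.isPGroup'.to_le hYT) hY

end Cfsg.Agent.S2827
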