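import Cfsg.Statements.S2836
import Cfsg.Agent.H227.YMin

set_option autoImplicit false
open Cfsg

namespace Cfsg.Agent.S2836

/-- Let L be a finite group, L₀ a maximal subgroup, T a Sylow p-subgroup of L₀, Y ≤ T, and suppose L is Y-minimal. Let D be the intersection of the conjugates of L₀ (the core of L₀). Then D contains O_p(L) and D/O_p(L) is the Frattini subgroup of L/O_p(L), so D is p-closed; and every normal subgroup N of L contained in L₀ is p-closed with N/O_p(N) a nilpotent group of order prime to p. -/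
theorem result {L : Type*} [Group L] [Finite L] {p : ℕ} [Fact p.Prime] (L₀ : Subgroup L) (hL₀ : IsCoatom L₀) (T : Sylow p ↥L₀) (Y : Subgroup L) (hYT : Y ≤ (T : Subgroup ↥L₀).map L₀.subtype) (hmin : Cfsg.IsMinimalOver Y) : (Cfsg.pCore p L ≤ L₀.normalCore ∧ (L₀.normalCore).map (QuotientGroup.mk' (Cfsg.pCore p L)) = frattini (L ⧸ Cfsg.pCore p L) ∧ Cfsg.IsPClosed p ↥(L₀.normalCore)) ∧ ∀ (N : Subgroup L) [N.Normal], N ≤ L₀ → Cfsg.IsPClosed p ↥N ∧ Group.IsNilpotent (↥N ⧸ Cfsg.pCore p ↥N) ∧ (Nat.card (↥N ⧸ Cfsg.pCore p ↥N)).Coprime p := by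
  have hY : Y ≤ L₀ := hYT.trans (Subgroup.map_subtype_le _)
  have hYp : IsPGroup p Y := (H227.Weak.sylow_map_isPGroup T).to_le hYT
  have hO := H227.YMin.pCore_le hL₀ hmin T hYT
  have hn := Lib.Cores.pCore_normal (G := L) p
  refine ⟨⟨Subgroup.normal_le_normalCore.2 hO,
    H227.YMin.map_normalCore_eq_frattini hL₀ hY hmin hYp hO,
    H227.YMin.isPClosed hL₀ hY hmin hYp (Subgroup.normalCore_normal L₀)
      (Subgroup.normalCore_le L₀)⟩, fun N hN hNL => ?_⟩
  exact ⟨H227.YMin.isPClosed hL₀ hY hmin hYp hN hNL,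
    H227.YMin.isNilpotent_quotient hL₀ hY hmin hYp hN hNL,
    H227.YMin.card_quotient_coprime hL₀ hY hmin hYp hN hNL⟩

end Cfsg.Agent.S2836
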