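import Cfsg.Statements.S2842
import Cfsg.Agent.H227.WeakChar

set_option autoImplicit false
open Cfsg

namespace Cfsg.Agent.S2842

/-- Let Q be a nontrivial p-subgroup of the finite group H that is a weakly closed subgroup with C_H(Q) ≤ Q, and Q ≤ L ≤ H. Suppose H has characteristic p, or more generally that C_H(y) has characteristic p for some nonidentity y ∈ C_{O_p(L)}(Q). Then [Q, C_H(O_p(L))] ≤ Q ∩ O_p(L), C_H(O_p(L)) is a p-group, and L has characteristic p. -/
theorem result {H : Type*} [Group H] [Finite H] {p : ℕ} [Fact p.Prime] (Q : Subgroup H) (hQp : IsPGroup p ↥Q) (hQ1 : Q ≠ ⊥) (hwc : Cfsg.IsWeaklyClosedSubgroup p Q) (hCQ : Subgroup.centralizer ((Q : Subgroup H) : Set H) ≤ Q) (L : Subgroup H) (hQL : Q ≤ L) (hyp : Subgroup.centralizer (Cfsg.pCore p H : Set H) ≤ Cfsg.pCore p H ∨ ∃ y : H, y ≠ 1 ∧ y ∈ (Cfsg.pCoreOf p L) ⊓ Subgroup.centralizer ((Q : Subgroup H) : Set H) ∧ Subgroup.centralizer (Cfsg.pCore p ↥(Subgroup.centralizer ({y} : Set H)) : Set ↥(Subgroup.centralizer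 ({y} : Set H))) ≤ Cfsg.pCore p ↥(Subgroup.centralizer ({y} : Set H))) : ⁅Q, Subgroup.centralizer (((Cfsg.pCoreOf p L) : Subgroup H) : Set H)⁆ ≤ Q ⊓ (Cfsg.pCoreOf p L) ∧ IsPGroup p ↥(Subgroup.centralizer (((Cfsg.pCoreOf p L) : Subgroup H) : Set H)) ∧ Subgroup.centralizer (Cfsg.pCore p ↥L : Set ↥L) ≤ Cfsg.pCore p ↥L := by
  have hPp : IsPGroup p (Cfsg.pCoreOf p L) := H227.Weak.isPGroup_pCoreOf L
  have hC : H227.Weak.Ch p (Subgroup.centralizer ((Cfsg.pCoreOf p L : Subgroup H) : Set H)) := by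
    rcases hyp with h | ⟨y, _, ⟨hyP, _⟩, h⟩
    · have h1 : H227.Weak.Ch p (Subgroup.centralizer ((⊥ : Subgroup H) : Set H)) := by
        refine H227.Weak.ch_of (E := Cfsg.pCore p H) (Lib.Cores.pCore_isPGroup p) ?_ ?_ ?_
        · intro x _
          rw [Subgroup.mem_centralizer_iff]
          intro z hz
          have : z = 1 := hz
          rw [this, one_mul, mul_one]
        · have := Lib.Cores.pCore_normal (G := H) p
          rw [Subgroup.normalizer_eq_top]
          exact le_top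
        · exact (Lib.Cores.pCore_isPGroup (G := H) p).to_le (inf_le_right.trans h)
      exact H227.Weak.ch_centralizer_of_le _ hPp _ ⊥ bot_le le_rfl h1
    · have h1 : H227.Weak.Ch p (Subgroup.centralizer ({y} : Set H)) :=
        (H227.Weak.pCoreOf_centralizer_iff _).1 h
      have h2 : Subgroup.centralizer ({y} : Set H) =
          Subgroup.centralizer ((Subgroup.zpowers y : Subgroup H) : Set H) := by
        rw [Subgroup.zpowers_eq_closure, Subgroup.centralizer_closure]
      rw [h2] at h1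
      refine H227.Weak.ch_centralizer_of_le _ hPp _ (Subgroup.zpowers y) ?_ le_rfl h1
      rw [Subgroup.zpowers_le]
      exact hyP
  have h1 := H227.Weak.commutator_le_inf_of_ch hQp hwc hQL hC
  have h2 := H227.Weak.isPGroup_centralizer_of hQp hCQ h1
  exact ⟨h1, h2, (H227.Weak.pCoreOf_centralizer_iff L).2
    (H227.Weak.ch_of_isPGroup_centralizer h2)⟩

end Cfsg.Agent.S2842
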