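import Cfsg.Statements.S2846
import Cfsg.Agent.H228.LargeStmts
import Cfsg.Agent.H228.FrakMExists

set_option autoImplicit false
open Cfsg

namespace Cfsg.Agent.S2846

/-- Let Q be a nontrivial large p-subgroup of the finite group H, S a Sylow p-subgroup containing Q, and L a subgroup containing S with O_p(L) ≠ 1 and C_H(O_p(L)) ≤ O_p(L). Then there are a subgroup M containing S having the basic property (M ∈ 𝔐_H, writing Y_X for the largest p-reduced normal subgroup of X and 𝓛_H for the set of subgroups X with O_p(X) ≠ 1 and C_H(O_p(X)) ≤ O_p(X): M ∈ 𝓛_H, M·C_H(Y_M) is the only maximal member of 𝓛_H containing M and its largest p-reduced normal subgroup is again Y_M, C_M(Y_M) is p-closed, and the image of C_M(Y_M) in M/O_p(M) lies in the Frattini subgroup of M/O_p(M)) and a subgroup L* with S ≤ L* ≤ M, O_p(L*) ≠ 1, C_H(O_p(L*)) ≤ O_p(L*), such that L·C_H(Y_L) = L*·C_H(Y_L), the weak closures of Q in L and in L* agree and lie in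 that of M, and Y_L = Y_{L*} ≤ Y_M. If moreover Q is not normal in L, then Q is normal in neither L* nor M. -/
theorem result {H : Type*} [Group H] [Finite H] {p : ℕ} [Fact p.Prime] (Q : Subgroup H) (hQp : IsPGroup p ↥Q) (hQ1 : Q ≠ ⊥) (hLg : Cfsg.IsLarge Q) (S : Sylow p H) (hQS : Q ≤ (S : Subgroup H)) (L : Subgroup H) (hSL : (S : Subgroup H) ≤ L) (hL : L ∈ Cfsg.charPSubgroups p H) : ∃ M Ls : Subgroup H, (S : Subgroup H) ≤ M ∧ Cfsg.IsInFrakM p M ∧ (S : Subgroup H) ≤ Ls ∧ Ls ≤ M ∧ Ls ∈ Cfsg.charPSubgroups p H ∧ L ⊔ Subgroup.centralizer (((Cfsg.largestPReducedOf p L) : Subgroup H) : Set H) = Ls ⊔ Subgroup.centralizer (((Cfsg.largestPReducedOf p L) : Subgroup H) : Set H) ∧ Cfsg.weakClosure Q L = Cfsg.weakClosure Q Ls ∧ Cfsg.weakClosure Q Ls ≤ Cfsg.weakClosure Q M ∧ (Cfsg.largestPReducedOf p L) = (Cfsg.largestPReducedOf p Ls) ∧ (Cfsg.largestPReducedOf p Ls) ≤ (Cfsg.largestPReducedOf p M) ∧ (¬ L ≤ Subgroup.normalizer ((Q : Subgroup H)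 : Set H) → ¬ Ls ≤ Subgroup.normalizer ((Q : Subgroup H) : Set H) ∧ ¬ M ≤ Subgroup.normalizer ((Q : Subgroup H) : Set H)) := by
  have h : Cfsg.Agent.H229.LargeP p Q := ⟨hQp, hQ1, hLg⟩
  obtain ⟨M, Ls, hSM, hM, hSLs, hLsM, hLs, hY, hYM, hsup⟩ :=
    Cfsg.Agent.H228.exists_frakM S
      (fun R hR hR1 => h.mem_charPSubgroups S hQS hR hR1) L hSL hL
  have hRL := Cfsg.Agent.H228.red_largest p L
  have hRLs := Cfsg.Agent.H228.red_largest p Ls
  have hY1 := Cfsg.Agent.H228.largest_ne_bot S hSL hL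
  have hw : Cfsg.weakClosure Q L = Cfsg.weakClosure Q Ls := by
    have h1 := (Cfsg.Agent.H228.weak_closure_and_centralizers h (hQS.trans hSL)
      hRL.isPGroup hY1 hRL.normal).1
    have h2 := (Cfsg.Agent.H228.weak_closure_and_centralizers h (hQS.trans hSLs)
      hRLs.isPGroup (by rw [← hY]; exact hY1) hRLs.normal).1
    rw [← hY, ← hsup] at h2
    rw [h1, h2]
  have hLs' : ¬ L ≤ Subgroup.normalizer ((Q : Subgroup H) : Set H) →
      ¬ Ls ≤ Subgroup.normalizer ((Q : Subgroup H) : Set H) := by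
    intro hn hn'
    have h3 := Cfsg.Agent.H228.weakClosure_eq_self h (hQS.trans hSLs) hn'
    have h4 : Cfsg.weakClosure Q L = Q := hw.trans h3
    apply hn
    have hwc := Cfsg.Agent.H228.largeP_wc h
    rw [Cfsg.Agent.H227.Weak.weakClosure_eq h.pgroup hwc (hQS.trans hSL)] at h4
    intro l hl
    rw [Cfsg.Agent.H229.mem_norm]
    have h5 : Cfsg.Agent.H229.cj l Q ≤ Q := by
      have h6 := le_iSup (fun k : L => Cfsg.Agent.H227.Weak.cj (k : H) Q) ⟨l, hl⟩
      rw [h4] at h6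
      exact h6
    exact h.weaklyClosed h.pgroup le_rfl h5
  refine ⟨M, Ls, hSM, hM, hSLs, hLsM, hLs, hsup, hw,
    Cfsg.Agent.H228.weakClosure_mono hLsM, hY, ?_, fun hn => ⟨hLs' hn, fun hn' => ?_⟩⟩
  · rw [← hY]; exact hYM
  · exact hLs' hn (hLsM.trans hn')

end Cfsg.Agent.S2846
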