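import Cfsg.Statements.S2855
import Cfsg.Agent.H230.IrrFamily

set_option autoImplicit false
open Cfsg

namespace Cfsg.Agent.S2855

open Cfsg.Agent.H230 Cfsg.Agent.Lib.Cores Cfsg.Agent.Transfer.Residual

section Quot

variable {H : Type*} [Group H] {p : ℕ}

/-- The family of images in `H / O_p(H)`. -/
theorem quot_inv {𝒦 : Set (Subgroup H)} {L : Type*} [Group L] {π : H →* L} (hπ : Function.Surjective π)
    (hinv : ∀ h : H, ∀ E ∈ 𝒦, E.map (MulAut.conj h).toMonoidHom ∈ 𝒦) :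
    ∀ h : L, ∀ E ∈ (fun E : Subgroup H => E.map π) '' 𝒦,
      E.map (MulAut.conj h).toMonoidHom ∈ (fun E : Subgroup H => E.map π) '' 𝒦 := by
  rintro h _ ⟨E, hE, rfl⟩
  obtain ⟨g, rfl⟩ := hπ h
  refine ⟨_, hinv g E hE, ?_⟩
  show (E.map (MulAut.conj g).toMonoidHom).map π = (E.map π).map (MulAut.conj (π g)).toMonoidHom
  rw [Subgroup.map_map, Subgroup.map_map]
  congr 1
  ext x
  simp

theorem quot_tr {𝒦 : Set (Subgroup H)} {L : Type*} [Group L] {π : H →* L}
    (htr : ∀ E ∈ 𝒦, ∀ K ∈ 𝒦, ∃ h : H, K = E.map (MulAut.conj h).toMonoidHom) :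
    ∀ E ∈ (fun E : Subgroup H => E.map π) '' 𝒦, ∀ K ∈ (fun E : Subgroup H => E.map π) '' 𝒦,
      ∃ h : L, K = E.map (MulAut.conj h).toMonoidHom := by
  rintro _ ⟨E, hE, rfl⟩ _ ⟨K, hK, rfl⟩
  obtain ⟨h, rfl⟩ := htr E hE K hK
  refine ⟨π h, ?_⟩
  show (E.map (MulAut.conj h).toMonoidHom).map π = (E.map π).map (MulAut.conj (π h)).toMonoidHom
  rw [Subgroup.map_map, Subgroup.map_map]
  congr 1
  ext x
  simp

theorem quot_sSup {𝒦 : Set (Subgroup H)} {L : Type*} [Group L] {π : H →* L} :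
    sSup ((fun E : Subgroup H => E.map π) '' 𝒦) = (sSup 𝒦).map π := by
  apply le_antisymm
  · apply sSup_le
    rintro _ ⟨E, hE, rfl⟩
    exact Subgroup.map_mono (le_sSup hE)
  · rw [Subgroup.map_le_iff_le_comap]
    apply sSup_le
    intro E hE
    rw [← Subgroup.map_le_iff_le_comap]
    exact le_sSup ⟨E, hE, rfl⟩

end Quot

/-- Let H be a finite group, p a prime, and 𝒦 a nonempty set of subgroups of H permuted transitively by conjugation, with R the subgroup generated by the members of 𝒦. Suppose O^p(H) ≤ R, each E ∈ 𝒦 has E·O_p(H) normal in R·O_p(H), and each E ∈ 𝒦 is p-minimal (generated by the conjugates of a Sylow p-subgroup T_E of E, with T_E in exactly one maximal subgroup of E). Then H is p-minimal in the same sense. If instead each E ∈ 𝒦 is strongly p-irreducible, then H is p-irreducible and, for E, K ∈ 𝒦, either O^p(E·O_p(H)) = O^p(K·O_p(H)) or [E, K] ≤ O_p(H). -/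
theorem result {H : Type*} [Group H] [Finite H] {p : ℕ} [Fact p.Prime] (𝒦 : Set (Subgroup H)) (hne : 𝒦.Nonempty) (hinv : ∀ h : H, ∀ E ∈ 𝒦, E.map (MulAut.conj h).toMonoidHom ∈ 𝒦) (htr : ∀ E ∈ 𝒦, ∀ K ∈ 𝒦, ∃ h : H, K = E.map (MulAut.conj h).toMonoidHom) (hres : Cfsg.pResidual p H ≤ sSup 𝒦) (hnorm : ∀ E ∈ 𝒦, sSup 𝒦 ⊔ Cfsg.pCore p H ≤ Subgroup.normalizer ((E ⊔ Cfsg.pCore p H : Subgroup H) : Set H)) : ((∀ E ∈ 𝒦, ∀ T : Sylow p ↥E, Cfsg.IsMinimalOver (T : Subgroup ↥E)) → ∀ T : Sylow p H, Cfsg.IsMinimalOver (T : Subgroup H)) ∧ ((∀ E ∈ 𝒦, Cfsg.IsStronglyPIrreducible p ↥E) → Cfsg.IsPIrreducible p H ∧ ∀ E ∈ 𝒦, ∀ K ∈ 𝒦, (Cfsg.pResidual p ↥(E ⊔ Cfsg.pCore p H)).map (E ⊔ Cfsg.pCore p H).subtype = (Cfsg.pResidual p ↥(K ⊔ Cfsg.pCore p H)).map (K ⊔ Cfsg.pCore p H).subtype ∨ ⁅E, K⁆ ≤ Cfsg.pCore p H) := by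
  have hQn : (pCore p H).Normal := pCore_normal p H
  let π : H →* H ⧸ pCore p H := QuotientGroup.mk' (pCore p H)
  have hπ : Function.Surjective π := QuotientGroup.mk'_surjective _
  have hker : π.ker = pCore p H := QuotientGroup.ker_mk' _
  have hkp : IsPGroup p π.ker := by rw [hker]; exact pCore_isPGroup p
  let 𝒦' : Set (Subgroup (H ⧸ pCore p H)) := (fun E : Subgroup H => E.map π) '' 𝒦
  have hne' : 𝒦'.Nonempty := hne.image _
  have hinv' := quot_inv hπ hinv
  have htr' := quot_tr (π := π) htr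
  have hsup : sSup 𝒦' = (sSup 𝒦).map π := quot_sSup
  have hres' : pResidual p (H ⧸ pCore p H) ≤ sSup 𝒦' := by
    rw [hsup, ← map_pResidual_of_surjective π hπ]
    exact Subgroup.map_mono hres
  have hEQ : ∀ E : Subgroup H, (E ⊔ pCore p H).map π = E.map π := by
    intro E
    rw [Subgroup.map_sup]
    have : (pCore p H).map π = ⊥ := by rw [Subgroup.map_eq_bot_iff, hker]
    rw [this, sup_bot_eq]
  have hnorm' : ∀ E ∈ 𝒦', sSup 𝒦' ≤ Subgroup.normalizer (E : Set (H ⧸ pCore p H)) := by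
    rintro _ ⟨E, hE, rfl⟩
    show sSup 𝒦' ≤ Subgroup.normalizer ((E.map π : Subgroup (H ⧸ pCore p H)) : Set (H ⧸ pCore p H))
    rw [hsup, ← hEQ E]
    refine le_trans (Subgroup.map_mono (le_sup_left.trans (hnorm E hE))) ?_
    exact Subgroup.le_normalizer_map _
  constructor
  · intro hmin
    rw [← pminimal_iff_of_surjective hπ hkp]
    apply minimal_of_family hne' hinv' htr' hres' hnorm'
    rintro _ ⟨E, hE, rfl⟩
    exact (pminimal_iff_of_surjective (π.subgroupMap_surjective E) (isPGroup_ker_subgroupMap hkp E)).2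
      (hmin E hE)
  · intro hirr
    have hcore' : pCore p (H ⧸ pCore p H) = ⊥ := pCore_quotient_pCore p
    have hirr' : ∀ E ∈ 𝒦', IsStronglyPIrreducible p ↥E := by
      rintro _ ⟨E, hE, rfl⟩
      exact isStronglyPIrreducible_map (π.subgroupMap_surjective E) (isPGroup_ker_subgroupMap hkp E) (hirr E hE)
    refine ⟨isPIrreducible_of_surjective hπ hkp
      (family_irreducible hne' hinv' htr' hres' hnorm' hcore' hirr'), ?_⟩
    intro E hE K hK
    have key : ∀ E K : Subgroup H, resOf p (E.map π) ≤ K.map π →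
        resOf p (E ⊔ pCore p H) ≤ resOf p (K ⊔ pCore p H) := by
      intro E K h
      apply resOf_le_resOf_of_le
      have h1 : (resOf p (E ⊔ pCore p H)).map π ≤ K.map π := by
        rw [← resOf_map, hEQ]
        exact h
      rw [Subgroup.map_le_iff_le_comap, Subgroup.comap_map_eq, hker] at h1
      exact h1
    rcases family_commute hinv' htr' hnorm' hcore' hirr' (E := E.map π) (K := K.map π) ⟨E, hE, rfl⟩
      ⟨K, hK, rfl⟩ with h | h
    · left
      apply le_antisymm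
      · exact key E K (h.le.trans (resOf_le p _))
      · exact key K E (h.ge.trans (resOf_le p _))
    · right
      rw [← Subgroup.map_commutator, Subgroup.map_eq_bot_iff, hker] at h
      exact h

end Cfsg.Agent.S2855
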