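import Cfsg.Statements.S2862
import Cfsg.Agent.H231.ALMain

set_option autoImplicit false
open Cfsg

namespace Cfsg.Agent.S2862

/-- Standing hypotheses: G a finite group, S a Sylow p-subgroup, Q a nontrivial large p-subgroup of G contained in S, M a subgroup containing S with the basic property (M ∈ 𝔐_G(S)); Y_M the largest p-reduced normal subgroup of M and M† = M·C_G(Y_M). Suppose Y_M is char-p-tall and asymmetric in G, H ∈ ℌ_G(O_p(M)), and L is minimal among the subgroups of H containing Y_M with Y_M ≰ O_p(L). Then H = ⟨L, O_p(M)⟩ = ⟨hY_Mh⁻¹, O_p(M)⟩ for every h ∈ L outside N_L(Y_M); L is Y_M-minimal and of characteristic p, with N_L(Y_M) the unique maximal subgroup of L containing Y_M; [V, O^p(L)] ≠ 1 for every noncentral chief factor V/W of H inside O_p(H) (that is, O^p(L) does not act trivially on V/W); and the normal closure of O_p(L) ∩ Y_M in L lies in O_p(H). -/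
theorem result {G : Type*} [Group G] [Finite G] {p : ℕ} [Fact p.Prime] (S : Sylow p G) (Q : Subgroup G) (hQp : IsPGroup p ↥Q) (hQ1 : Q ≠ ⊥) (hQS : Q ≤ (S : Subgroup G)) (hQ : Cfsg.IsLarge Q) (M : Subgroup G) (hSM : (S : Subgroup G) ≤ M) (hM : Cfsg.IsInFrakM p M) (htall : Cfsg.IsCharPTall p (Cfsg.largestPReducedOf p M)) (hasym : ¬ Cfsg.IsSymmetricIn (Cfsg.largestPReducedOf p M)) (H : Subgroup G) (hH : Cfsg.IsInFrakH p M H) (L : Subgroup G) (hLH : L ≤ H) (hYL : (Cfsg.largestPReducedOf p M) ≤ L) (hYO : ¬ (Cfsg.largestPReducedOf p M) ≤ (Cfsg.pCoreOf p L)) (hmin : ∀ L' : Subgroup G, L' ≤ L → (Cfsg.largestPReducedOf p M) ≤ L' → ¬ (Cfsg.largestPReducedOf p M) ≤ (Cfsg.pCoreOf p L') → L' = L) : (L ⊔ (Cfsg.pCoreOf p M) = H ∧ ∀ h ∈ L, h ∉ Subgroup.normalizer (((Cfsg.largestPReducedOf p M) : Subgroup G) : Set G) → (((Cfsg.largestPReducedOf p M) : Subgroup G).map (MulAut.conj (h : G)).toMonoidHom) ⊔ (Cfsg.pCoreOf p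 M) = H) ∧ (Cfsg.IsMinimalOver (((Cfsg.largestPReducedOf p M)).subgroupOf L) ∧ Subgroup.centralizer (Cfsg.pCore p ↥L : Set ↥L) ≤ Cfsg.pCore p ↥L ∧ L ⊓ Subgroup.normalizer (((Cfsg.largestPReducedOf p M) : Subgroup G) : Set G) < L ∧ ∀ X : Subgroup G, (Cfsg.largestPReducedOf p M) ≤ X → X < L → X ≤ L ⊓ Subgroup.normalizer (((Cfsg.largestPReducedOf p M) : Subgroup G) : Set G)) ∧ (∀ V W' : Subgroup G, V ≤ (Cfsg.pCoreOf p H) → H ≤ Subgroup.normalizer ((V : Subgroup G) : Set G) → H ≤ Subgroup.normalizer ((W' : Subgroup G) : Set G) → W' < V → (∀ Z' : Subgroup G, H ≤ Subgroup.normalizer ((Z' : Subgroup G) : Set G) → W' ≤ Z' → Z' ≤ V → Z' = W' ∨ Z' = V) → ¬ ⁅V, H⁆ ≤ W' → ¬ ⁅V, ((Cfsg.pResidual p ↥L).map (L).subtype)⁆ ≤ W') ∧ (Subgroup.normalClosure (((((Cfsg.pCoreOf p L) ⊓ (Cfsg.largestPReducedOf p M)).subgroupOf L : Subgroup ↥L)) : Set ↥L)).map L.subtype ≤ (Cfsg.pCoreOf p H) := by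
  have h : H229.Setup p S Q M := ⟨⟨hQp, hQ1, hQ⟩, hQS, hSM, hM⟩
  have hyp : H231.AL.Hyp p (pCoreOf p M) (largestPReducedOf p M) H L :=
    { pA := H229.isPGroup_pCoreOf p M
      YA := H229.largest_le_pCoreOf p M
      AY := H229.pCoreOf_le_centralizer_largest p M
      nrm := fun R hR hAR => (h.le_dag_of_core_le hasym hR hAR).trans H229.Setup.dag_le_norm
      inf := fun R hR hAR => (h.inf_cent_eq' hasym hR hAR).le
      nA := h.norm_core_le.trans H229.Setup.dag_le_norm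
      wc := fun R hR hAR g hg => h.core_weaklyClosed hasym hR hAR hg
      asym := hasym
      chp := H229.chP_iff.2 hH.1
      AH := hH.2.1
      YO := hH.2.2.1
      minH := hH.2.2.2
      LH := hLH
      YL := hYL
      YLO := hYO
      minL := hmin }
  obtain ⟨L₀, hlt, hYL₀, hmax⟩ := hyp.exists_L₀
  have h0 : H231.AL.Hyp0 p (pCoreOf p M) (largestPReducedOf p M) H L L₀ := ⟨hyp, hlt, hYL₀, hmax⟩
  refine ⟨⟨hyp.LA, fun g hg hgn => h0.gen1 hg (h0.not_mem hgn)⟩,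
    ⟨hyp.minOver, H229.chP_iff.1 h0.chp_L, ?_, fun X hX hXL => ?_⟩, ?_, ?_⟩
  · rw [← h0.L₀_eq]; exact hlt
  · rw [← h0.L₀_eq]; exact hmax X hX hXL
  · intro V W' hV h1 h2 h3 h4 hnc
    exact h0.not_comm_le ⟨hV, h1, h2, h3, h4⟩ hnc
  · rw [H229.normalClosure_map (inf_le_left.trans (H229.pCoreOf_le p L))]
    exact h0.ncl_le_core

end Cfsg.Agent.S2862
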