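import Cfsg.Statements.S2863
import Cfsg.Agent.H224.YL
import Cfsg.Agent.H227.FrakMain

set_option autoImplicit false
open Cfsg

namespace Cfsg.Agent.S2863

/-- Standing hypotheses: G a finite group, S a Sylow p-subgroup, Q a nontrivial large p-subgroup of G contained in S, M a subgroup containing S with the basic property (M ∈ 𝔐_G(S)); Y_M the largest p-reduced normal subgroup of M and M† = M·C_G(Y_M). Let L ∈ 𝔏_G(Y_M) (L ∈ 𝔏_G(Y_M): Y_M ≤ L; O_p(L) is the normal closure in L of Y_M ∩ O_p(L) and normalizes Y_M; L is Y_M-minimal of characteristic p with N_L(Y_M) its unique maximal subgroup over Y_M; and L/O_p(L) ≅ SL₂(q) with q = |Y_M : Y_M ∩ O_p(L)|, or p = 2 and L/O_p(L) is a Suzuki group Sz(q) or dihedral of order 2r, r an odd prime), A = O_p(L), and C = C_{Y_M}(L). Then every element h of L whose order is not a power of p acts without nontrivial fixed points on A/C: for a ∈ A, hah⁻¹a⁻¹ ∈ C implies a ∈ C. -/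
theorem result {G : Type*} [Group G] [Finite G] {p : ℕ} [Fact p.Prime] (S : Sylow p G) (Q : Subgroup G) (hQp : IsPGroup p ↥Q) (hQ1 : Q ≠ ⊥) (hQS : Q ≤ (S : Subgroup G)) (hQ : Cfsg.IsLarge Q) (M : Subgroup G) (hSM : (S : Subgroup G) ≤ M) (hM : Cfsg.IsInFrakM p M) (L : Subgroup G) (hL : Cfsg.IsInFrakL p M L) (h : G) (hh : h ∈ L) (hnp : ¬ ∃ k : ℕ, orderOf h = p ^ k) : ∀ a ∈ (Cfsg.pCoreOf p L), h * a * h⁻¹ * a⁻¹ ∈ (Cfsg.largestPReducedOf p M) ⊓ Subgroup.centralizer ((L : Subgroup G) : Set G) → a ∈ (Cfsg.largestPReducedOf p M) ⊓ Subgroup.centralizer ((L : Subgroup G) : Set G) := by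
  have h1 := hL
  obtain ⟨hYL, hgen, hnorm, hmin, hchar, hmax, hquot⟩ := h1
  have hYel := H224.YL.isElementaryAbelian_largest (L := ↥M) p
  set YM := Cfsg.largestPReducedOf p M with hYM
  have hel : Cfsg.IsElementaryAbelian p YM := by
    have h2 : Cfsg.IsElementaryAbelian p ((Cfsg.largestPReduced p ↥M).map M.subtype) := by
      refine ⟨⟨⟨?_⟩⟩, ?_⟩
      · rintro ⟨_, x, hx, rfl⟩ ⟨_, y, hy, rfl⟩
        have h3 := congrArg Subtype.val (hYel.1.is_comm.comm (⟨x, hx⟩ : (Cfsg.largestPReduced p ↥M))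
          ⟨y, hy⟩)
        exact Subtype.ext (congrArg (fun z : ↥M => (z : G)) h3)
      · rintro _ ⟨x, hx, rfl⟩
        rw [← map_pow, hYel.2 x hx, map_one]
    exact h2
  exact H227.FrakMain.main hel hYL hgen hnorm hmin hchar hmax hquot hh hnp

end Cfsg.Agent.S2863
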