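import Cfsg.Statements.S2872
import Cfsg.Agent.SylowSp4.ExtTransfer
import Cfsg.Agent.Lib.FrattiniPGroup

set_option autoImplicit false
open Cfsg

namespace Cfsg.Agent.S2872

/-- Let S be a Sylow 2-subgroup of the finite group G. Then G has a proper normal subgroup of 2-power index (O²(G) ≠ G), or Ω₁(Z(S)) is contained in the Frattini subgroup of S, or N_G(S) acts nontrivially on Ω₁(Z(S)) by conjugation. -/
theorem result {G : Type*} [Group G] [Finite G] (S : Sylow 2 G) : Cfsg.pResidual 2 G ≠ ⊤ ∨ Cfsg.omegaOne 2 ((S : Subgroup G) ⊓ Subgroup.centralizer ((S : Subgroup G) : Set G)) ≤ (frattini ↥(S : Subgroup G)).map (S : Subgroup G).subtype ∨ ∃ g ∈ Subgroup.normalizer ((S : Subgroup G) : Set G), ∃ z ∈ Cfsg.omegaOne 2 ((S : Subgroup G) ⊓ Subgroup.centralizer ((S : Subgroup G) : Set G)), g * z * g⁻¹ ≠ z := by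
  by_contra hcon
  push Not at hcon
  obtain ⟨h1, h2, h3⟩ := hcon
  -- an involution `z ∈ Z(S)` outside the Frattini subgroup
  obtain ⟨z, hzZ, hz2, hzF⟩ : ∃ z : G, z ∈ (S : Subgroup G) ⊓ Subgroup.centralizer ((S : Subgroup G) : Set G) ∧
      z ^ 2 = 1 ∧ z ∉ (frattini ↥(S : Subgroup G)).map (S : Subgroup G).subtype := by
    by_contra hc
    push Not at hc
    apply h2
    unfold Cfsg.omegaOne
    rw [Subgroup.closure_le]
    rintro x ⟨hx, hx2⟩
    exact hc x hx hx2
  have hzS : z ∈ (S : Subgroup G) := hzZ.1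
  have hzc : ∀ s ∈ (S : Subgroup G), s * z = z * s := fun s hs =>
    Subgroup.mem_centralizer_iff.1 hzZ.2 s hs
  -- a maximal subgroup of `S` avoiding `z`
  have hzF' : (⟨z, hzS⟩ : ↥(S : Subgroup G)) ∉ frattini ↥(S : Subgroup G) := fun h => hzF ⟨_, h, rfl⟩
  obtain ⟨M, hM, hzM⟩ : ∃ M : Subgroup ↥(S : Subgroup G), IsCoatom M ∧ (⟨z, hzS⟩ : ↥(S : Subgroup G)) ∉ M := by
    by_contra hc
    push Not at hc
    apply hzF'
    rw [frattini, Order.radical, Subgroup.mem_iInf]
    intro M
    rw [Subgroup.mem_iInf]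
    intro hM
    exact hc M hM
  have hMi : M.index = 2 := Cfsg.Agent.Lib.FrattiniPGroup.index_of_coatom S.isPGroup' hM
  have hidx : (M.map (S : Subgroup G).subtype).relIndex (S : Subgroup G) = 2 := by
    rw [Subgroup.relIndex, Subgroup.subgroupOf, Subgroup.comap_map_eq_self_of_injective (S : Subgroup G).subtype_injective]
    exact hMi
  obtain ⟨g, hg1, hg2⟩ := Cfsg.Agent.SylowSp4.ExtTransfer.exists_extremal S (M.map (S : Subgroup G).subtype)
    (Subgroup.map_subtype_le _) hidx z (by rw [← pow_two]; exact hz2) (by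
      intro f
      have hf : Cfsg.pResidual 2 G ≤ f.ker := by
        unfold Cfsg.pResidual
        rw [Subgroup.closure_le]
        intro x hx
        rw [SetLike.mem_coe, MonoidHom.mem_ker]
        have h5 : f x ^ 2 = 1 := by
          rw [← Units.val_inj]; simp [Int.units_sq]
        have h6 : f x ^ (orderOf x) = 1 := by rw [← map_pow, pow_orderOf_eq_one, map_one]
        have h7 : orderOf (f x) ∣ 1 := by
          rw [← Nat.coprime_iff_gcd_eq_one.1 hx]
          exact Nat.dvd_gcd (orderOf_dvd_of_pow_eq_one h6) (orderOf_dvd_of_pow_eq_one h5)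
        rw [Nat.dvd_one, orderOf_eq_one_iff] at h7
        exact h7
      rw [h1] at hf
      exact MonoidHom.mem_ker.1 (hf (Subgroup.mem_top z)))
    (S : Subgroup G) S.isPGroup' hzc
  have hgN : g ∈ Subgroup.normalizer ((S : Subgroup G) : Set G) := by
    have hle : (S : Subgroup G).map (MulAut.conj g).toMonoidHom ≤ (S : Subgroup G) := by
      rintro _ ⟨s, hs, rfl⟩
      exact hg2 s hs
    have heq : (S : Subgroup G).map (MulAut.conj g).toMonoidHom = (S : Subgroup G) :=
      Subgroup.eq_of_le_of_card_ge hle (Subgroup.card_map_of_injective (MulAut.conj g).injective).ge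
    rw [Subgroup.mem_normalizer_iff]
    intro y
    constructor
    · exact hg2 y
    · intro hy
      have hy' : g * y * g⁻¹ ∈ (S : Subgroup G).map (MulAut.conj g).toMonoidHom := by rw [heq]; exact hy
      obtain ⟨s, hs, hsy⟩ := hy'
      have : s = y := (MulAut.conj g).injective hsy
      rwa [← this]
  have h8 := h3 g hgN z (Subgroup.subset_closure ⟨hzZ, hz2⟩)
  rw [h8] at hg1
  obtain ⟨y, hy, hyz⟩ := hg1
  apply hzM
  have : (⟨z, hzS⟩ : ↥(S : Subgroup G)) = y := Subtype.ext hyz.symm
  rw [this]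
  exact hy

end Cfsg.Agent.S2872
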