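import Cfsg.Statements.S2873
import Cfsg.Agent.Lib.Cores
import Mathlib.Algebra.Field.ZMod
import Mathlib.GroupTheory.SpecificGroups.Dihedral

set_option autoImplicit false
set_option linter.style.haveILetI false
open Cfsg

namespace Cfsg.Agent.S2873

open DihedralGroup

/-- In a dihedral group of odd prime degree, an involution is a reflection. -/
theorem exists_sr {r : ℕ} (hp : r.Prime) (hr : r ≠ 2) {x : DihedralGroup r} (h1 : x ≠ 1) (h2 : x ^ 2 = 1) :
    ∃ i : ZMod r, x = sr i := by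
  haveI : Fact r.Prime := ⟨hp⟩
  rcases x with i | i
  · exfalso
    apply h1
    have h3 : (2 : ZMod r) * i = 0 := by
      have : DihedralGroup.r i * DihedralGroup.r i = (1 : DihedralGroup r) := by rw [← pow_two]; exact h2
      rw [r_mul_r, one_def] at this
      have h4 := DihedralGroup.r.inj this
      rw [two_mul]; exact h4
    have h5 : (2 : ZMod r) ≠ 0 := by
      intro h
      have : (r : ℕ) ∣ 2 := by
        have := (ZMod.natCast_eq_zero_iff 2 r).1 (by exact_mod_cast h)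
        exact this
      have := (Nat.prime_dvd_prime_iff_eq hp Nat.prime_two).1 this
      exact hr this
    have h6 : i = 0 := by
      rcases mul_eq_zero.1 h3 with h | h
      · exact absurd h h5
      · exact h
    rw [h6]; rfl
  · exact ⟨i, rfl⟩

theorem mem_inf_cent {G : Type*} [Group G] {Q : Subgroup G} {a x : G} :
    x ∈ Q ⊓ Subgroup.centralizer ({a} : Set G) ↔ x ∈ Q ∧ x * a = a * x := by
  rw [Subgroup.mem_inf, Subgroup.mem_centralizer_singleton_iff]

/-- Two involutions whose product has odd order are conjugate. -/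
theorem conj_of_mul_pow_odd {G : Type*} [Group G] {b c : G} (hb : b ^ 2 = 1) (hc : c ^ 2 = 1) {n : ℕ} (hn : Odd n)
    (h : (b * c) ^ n = 1) : ∃ g : G, g * b * g⁻¹ = c := by
  obtain ⟨m, hm⟩ := hn
  have hbi : b⁻¹ = b := by
    rw [inv_eq_iff_mul_eq_one, ← pow_two]; exact hb
  have hci : c⁻¹ = c := by
    rw [inv_eq_iff_mul_eq_one, ← pow_two]; exact hc
  have hbb : b * b = 1 := by rw [← pow_two]; exact hb
  refine ⟨(b * c) ^ m, ?_⟩
  have h1 : ∀ k : ℕ, b * ((b * c) ^ k)⁻¹ = (b * c) ^ k * b := by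
    intro k
    induction k with
    | zero => simp
    | succ k ih =>
      have h2 : b * (b * c)⁻¹ = (b * c) * b := by
        rw [mul_inv_rev, hbi, hci]
        group
      calc b * ((b * c) ^ (k + 1))⁻¹ = b * (b * c)⁻¹ * ((b * c) ^ k)⁻¹ := by
            rw [pow_succ, mul_inv_rev, mul_assoc]
        _ = (b * c) * (b * ((b * c) ^ k)⁻¹) := by rw [h2]; group
        _ = (b * c) ^ (k + 1) * b := by rw [ih, pow_succ', mul_assoc, mul_assoc, mul_assoc]
  rw [mul_assoc, h1, ← mul_assoc, ← pow_add, ← two_mul]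
  have h3 : (b * c) ^ (2 * m) = (b * c)⁻¹ := by
    rw [eq_inv_iff_mul_eq_one, ← pow_succ, ← hm]; exact h
  rw [h3, mul_inv_rev, hbi, hci, mul_assoc, hbb, mul_one]

/-- Let G be a finite group and r an odd prime such that G ⧸ O₂(G) is dihedral of order 2r, and let R be a Sylow r-subgroup of G with C_{O₂(G)}(R) = 1. Then N_G(R) is dihedral of order 2r; for any involution a of N_G(R), every involution of G outside O₂(G) is conjugate to a; and |C_{O₂(G)}(a)|² = |O₂(G)|. -/
theorem result {G : Type*} [Group G] [Finite G] {r : ℕ} [Fact r.Prime] (hr : r ≠ 2) [hN : (Cfsg.pCore 2 G).Normal] (hquot : Nonempty (G ⧸ Cfsg.pCore 2 G ≃* DihedralGroup r)) (R : Sylow r G) (hC : Cfsg.pCore 2 G ⊓ Subgroup.centralizer ((R : Subgroup G) : Set G) = ⊥) : Nonempty (↥(Subgroup.normalizer ((R : Subgroup G) : Set G)) ≃* DihedralGroup r) ∧ ∀ a : G, a ∈ Subgroup.normalizer ((R : Subgroup G) : Set G) → orderOf a = 2 → (∀ b : G, orderOf b = 2 → b ∉ Cfsg.pCore 2 G → ∃ g : G, g * a * g⁻¹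 = b) ∧ Nat.card ↥(Cfsg.pCore 2 G ⊓ Subgroup.centralizer ({a} : Set G)) ^ 2 = Nat.card ↥(Cfsg.pCore 2 G) := by
  classical
  have hp : r.Prime := Fact.out
  obtain ⟨e⟩ := hquot
  set Q : Subgroup G := Cfsg.pCore 2 G with hQdef
  -- the projection
  let φ : G →* DihedralGroup r := e.toMonoidHom.comp (QuotientGroup.mk' Q)
  have hφs : Function.Surjective φ := e.surjective.comp (QuotientGroup.mk'_surjective Q)
  have hφk : ∀ g : G, φ g = 1 ↔ g ∈ Q := by
    intro g
    change e (QuotientGroup.mk' Q g) = 1 ↔ g ∈ Q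
    rw [map_eq_one_iff e e.injective, QuotientGroup.mk'_apply, QuotientGroup.eq_one_iff]
  have hφe : ∀ g h : G, φ g = φ h ↔ g⁻¹ * h ∈ Q := by
    intro g h
    rw [← hφk, map_mul, map_inv, inv_mul_eq_one]
  have hQ2 : IsPGroup 2 Q := Lib.Cores.pCore_isPGroup 2
  -- order of `R`
  have hQcard : ∃ k, Nat.card Q = 2 ^ k := (IsPGroup.iff_card).1 hQ2
  have hcardG : Nat.card G = Nat.card Q * (2 * r) := by
    have h1 := Subgroup.card_eq_card_quotient_mul_card_subgroup Q
    rw [h1, Nat.card_congr e.toEquiv, DihedralGroup.nat_card, mul_comm]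
  have hRcard : Nat.card R = r := by
    rw [R.card_eq_multiplicity, hcardG]
    obtain ⟨k, hk⟩ := hQcard
    have h2 : Nat.card Q * (2 * r) = 2 ^ (k + 1) * r := by rw [hk, pow_succ]; ring
    have h3 : ¬ r ∣ 2 ^ (k + 1) := by
      intro h
      have := hp.dvd_of_dvd_pow h
      exact hr ((Nat.prime_dvd_prime_iff_eq hp Nat.prime_two).1 this)
    rw [h2, Nat.factorization_mul (by positivity) hp.ne_zero, Finsupp.add_apply,
      Nat.factorization_eq_zero_of_not_dvd h3, hp.factorization_self, zero_add, pow_one]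
  -- a generator
  obtain ⟨⟨ρ, hρR⟩, hρg⟩ : ∃ x : R, orderOf x = r := by
    exact exists_prime_orderOf_dvd_card' r hRcard.symm.dvd
  have hρo : orderOf ρ = r := by rw [← hρg, Subgroup.orderOf_mk]
  have hRz : (R : Subgroup G) = Subgroup.zpowers ρ := by
    symm
    apply Subgroup.eq_of_le_of_card_ge (by rw [Subgroup.zpowers_le]; exact hρR)
    have h1 : Nat.card (Subgroup.zpowers ρ) = r := by rw [Nat.card_zpowers, hρo]
    rw [h1]; exact hRcard.le
  -- no element of `Q` except `1` commutes with a nontrivial element of `R`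
  have hgen : ∀ u ∈ (R : Subgroup G), u ≠ 1 → Subgroup.zpowers u = (R : Subgroup G) := by
    intro u hu hu1
    apply Subgroup.eq_of_le_of_card_ge (by rw [Subgroup.zpowers_le]; exact hu)
    have h1 : orderOf u ∣ r := by
      rw [← hRcard, ← Subgroup.orderOf_mk u hu]
      exact orderOf_dvd_natCard _
    have h2 : orderOf u = r := by
      rcases (Nat.dvd_prime hp).1 h1 with h | h
      · exact absurd (orderOf_eq_one_iff.1 h) hu1
      · exact h
    change Nat.card R ≤ _
    rw [Nat.card_zpowers, h2, hRcard]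
  have hCu : ∀ u ∈ (R : Subgroup G), u ≠ 1 → ∀ q ∈ Q, q * u = u * q → q = 1 := by
    intro u hu hu1 q hq hc
    have h1 : q ∈ Q ⊓ Subgroup.centralizer ((R : Subgroup G) : Set G) := by
      refine ⟨hq, Subgroup.mem_centralizer_iff.2 ?_⟩
      intro x hx
      have hx' : x ∈ Subgroup.zpowers u := by rw [hgen u hu hu1]; exact hx
      obtain ⟨n, rfl⟩ := hx'
      have : Commute u q := hc.symm
      exact (this.zpow_left n)
    rw [hC] at h1
    exact h1
  -- Step A
  have hA : ∀ u ∈ (R : Subgroup G), u ≠ 1 → ∀ g : G, φ g = φ u → ∃ x ∈ Q, x * u * x⁻¹ = g := by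
    intro u hu hu1 g hg
    let f : Q → Q := fun x => ⟨u⁻¹ * x * u * (x : G)⁻¹, by
      have h1 : u⁻¹ * (x : G) * u ∈ Q := by
        have := hN.conj_mem x x.2 u⁻¹
        simpa using this
      exact Q.mul_mem h1 (Q.inv_mem x.2)⟩
    have hfi : Function.Injective f := by
      intro x y hxy
      have h1 : u⁻¹ * (x : G) * u * (x : G)⁻¹ = u⁻¹ * (y : G) * u * (y : G)⁻¹ := congrArg Subtype.val hxy
      have h2 : (y : G)⁻¹ * x * u = u * ((y : G)⁻¹ * x) := by
        have h3 : (x : G) * u * (x : G)⁻¹ = (y : G) * u * (y : G)⁻¹ := by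
          have := congrArg (fun z => u * z) h1
          simpa [mul_assoc] using this
        calc (y : G)⁻¹ * x * u = (y : G)⁻¹ * (x * u * (x : G)⁻¹) * x := by group
          _ = (y : G)⁻¹ * (y * u * (y : G)⁻¹) * x := by rw [h3]
          _ = u * ((y : G)⁻¹ * x) := by group
      have h4 := hCu u hu hu1 ((y : G)⁻¹ * x) (Q.mul_mem (Q.inv_mem y.2) x.2) h2
      apply Subtype.ext
      exact (inv_mul_eq_one.1 h4).symm
    have hfs : Function.Surjective f := Finite.surjective_of_injective hfi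
    have hgu : u⁻¹ * g ∈ Q := (hφe u g).1 hg.symm
    obtain ⟨x, hx⟩ := hfs ⟨u⁻¹ * g, hgu⟩
    refine ⟨x, x.2, ?_⟩
    have h1 : u⁻¹ * (x : G) * u * (x : G)⁻¹ = u⁻¹ * g := congrArg Subtype.val hx
    have := congrArg (fun z => u * z) h1
    simpa [mul_assoc] using this
  -- the image of `ρ`
  have hρ1 : ρ ≠ 1 := by
    intro h
    rw [h, orderOf_one] at hρo
    exact hp.one_lt.ne hρo
  have hRQ : ∀ u ∈ (R : Subgroup G), u ∈ Q → u = 1 := by
    intro u hu huQ
    by_contra h
    exact h (hCu u hu h u huQ rfl)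
  have hφρ1 : φ ρ ≠ 1 := fun h => hρ1 (hRQ ρ hρR ((hφk ρ).1 h))
  obtain ⟨i, hi⟩ : ∃ i : ZMod r, φ ρ = DihedralGroup.r i := by
    rcases hx : φ ρ with i | i
    · exact ⟨i, rfl⟩
    · exfalso
      have h1 : (φ ρ) ^ r = 1 := by
        have h0 : ρ ^ r = 1 := orderOf_dvd_iff_pow_eq_one.1 hρo.dvd
        rw [← map_pow, h0, map_one]
      have h2 : (φ ρ) ^ 2 = 1 := by rw [hx, pow_two, sr_mul_self]
      have h3 : Nat.Coprime r 2 := (Nat.coprime_primes hp Nat.prime_two).2 hr
      have h4 : orderOf (φ ρ) ∣ Nat.gcd r 2 :=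
        Nat.dvd_gcd (orderOf_dvd_of_pow_eq_one h1) (orderOf_dvd_of_pow_eq_one h2)
      rw [h3] at h4
      exact hφρ1 (orderOf_eq_one_iff.1 (Nat.dvd_one.1 h4))
  have hi0 : i ≠ 0 := by
    intro h
    apply hφρ1
    rw [hi, h]; rfl
  -- every rotation is the image of an element of `R`
  have hrot : ∀ j : ZMod r, ∃ u ∈ (R : Subgroup G), φ u = DihedralGroup.r j := by
    intro j
    refine ⟨ρ ^ (j * i⁻¹).val, (R : Subgroup G).pow_mem hρR _, ?_⟩
    rw [map_pow, hi, r_pow]
    congr 1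
    rw [ZMod.natCast_zmod_val, mul_comm, mul_assoc, inv_mul_cancel₀ hi0, mul_one]
  -- Step B: normalizer
  set N : Subgroup G := Subgroup.normalizer ((R : Subgroup G) : Set G) with hNdef
  have hNinj : ∀ n ∈ N, n ∈ Q → n = 1 := by
    intro n hn hnQ
    have h1 : n * ρ * n⁻¹ ∈ (R : Subgroup G) := (Subgroup.mem_normalizer_iff.1 hn ρ).1 hρR
    have h2 : n * ρ * n⁻¹ * ρ⁻¹ ∈ (R : Subgroup G) := mul_mem h1 (inv_mem hρR)
    have h3 : n * ρ * n⁻¹ * ρ⁻¹ ∈ Q := by
      have h4 : ρ * n⁻¹ * ρ⁻¹ ∈ Q := hN.conj_mem _ (Q.inv_mem hnQ) ρ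
      have h5 : n * (ρ * n⁻¹ * ρ⁻¹) ∈ Q := Q.mul_mem hnQ h4
      simpa [mul_assoc] using h5
    have h4 := hRQ _ h2 h3
    have h5 : n * ρ = ρ * n := by
      have := mul_inv_eq_one.1 h4
      exact mul_inv_eq_iff_eq_mul.1 this
    exact hCu ρ hρR hρ1 n hnQ h5
  have hNφ : ∀ n ∈ N, ∀ m ∈ N, φ n = φ m → n = m := by
    intro n hn m hm h
    have h1 := hNinj (n⁻¹ * m) (N.mul_mem (N.inv_mem hn) hm) ((hφe n m).1 h)
    exact inv_mul_eq_one.1 h1
  have hRN : (R : Subgroup G) ≤ N := Subgroup.le_normalizer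
  have hmemN : ∀ g : G, g * ρ * g⁻¹ ∈ (R : Subgroup G) → g ∈ N := by
    intro g hg
    have h1 : (R : Subgroup G).map (MulAut.conj g).toMonoidHom = (R : Subgroup G) := by
      apply Subgroup.eq_of_le_of_card_ge
      · conv_lhs => rw [hRz, MonoidHom.map_zpowers]
        rw [Subgroup.zpowers_le]
        simpa using hg
      · rw [Subgroup.card_map_of_injective (MulAut.conj g).injective]
    rw [hNdef, Subgroup.mem_normalizer_iff]
    intro h
    constructor
    · intro hh
      rw [← h1]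
      exact ⟨h, hh, rfl⟩
    · intro hh
      rw [← h1] at hh
      obtain ⟨y, hy, hyh⟩ := hh
      have h2 : g * y * g⁻¹ = g * h * g⁻¹ := hyh
      have h3 : y = h := by
        have := mul_right_cancel h2
        exact mul_left_cancel this
      rw [← h3]; exact hy
  have hNsurj : ∀ d : DihedralGroup r, ∃ n ∈ N, φ n = d := by
    intro d
    obtain ⟨g, rfl⟩ := hφs d
    obtain ⟨u, hu, hue⟩ : ∃ u ∈ (R : Subgroup G), φ u = φ (g * ρ * g⁻¹) := by
      have h1 : ∃ j : ZMod r, φ (g * ρ * g⁻¹) = DihedralGroup.r j := by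
        rw [map_mul, map_mul, map_inv, hi]
        rcases φ g with j | j
        · refine ⟨j + i + -j, ?_⟩
          rw [inv_r, r_mul_r, r_mul_r]
        · refine ⟨-i, ?_⟩
          rw [inv_sr, sr_mul_r, sr_mul_sr]
          congr 1
          ring
      obtain ⟨j, hj⟩ := h1
      obtain ⟨u, hu, hue⟩ := hrot j
      exact ⟨u, hu, by rw [hue, hj]⟩
    have hu1 : u ≠ 1 := by
      rintro rfl
      rw [map_one] at hue
      have h2 : g * ρ * g⁻¹ ∈ Q := (hφk _).1 hue.symm
      have h3 : ρ ∈ Q := by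
        have := hN.conj_mem _ h2 g⁻¹
        simpa [mul_assoc] using this
      exact hρ1 (hRQ ρ hρR h3)
    obtain ⟨x, hx, hxe⟩ := hA u hu hu1 (g * ρ * g⁻¹) hue.symm
    refine ⟨x⁻¹ * g, hmemN _ ?_, ?_⟩
    · have h4 : x⁻¹ * g * ρ * (x⁻¹ * g)⁻¹ = u := by
        calc x⁻¹ * g * ρ * (x⁻¹ * g)⁻¹ = x⁻¹ * (g * ρ * g⁻¹) * x := by group
          _ = x⁻¹ * (x * u * x⁻¹) * x := by rw [hxe]
          _ = u := by group
      rw [h4]; exact hu
    · rw [map_mul, (hφk x⁻¹).2 (Q.inv_mem hx), one_mul]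
  -- (L)
  have hodd : Odd r := hp.odd_of_ne_two hr
  have hL : ∀ b c : G, orderOf b = 2 → orderOf c = 2 → b ∉ Q → c ∉ Q → φ b ≠ φ c →
      ∃ g : G, g * b * g⁻¹ = c := by
    intro b c hb hc hbQ hcQ hne
    have hb2 : b ^ 2 = 1 := by rw [← hb]; exact pow_orderOf_eq_one b
    have hc2 : c ^ 2 = 1 := by rw [← hc]; exact pow_orderOf_eq_one c
    obtain ⟨j, hj⟩ := exists_sr hp hr (x := φ b) (fun h => hbQ ((hφk b).1 h)) (by rw [← map_pow, hb2, map_one])
    obtain ⟨k, hk⟩ := exists_sr hp hr (x := φ c) (fun h => hcQ ((hφk c).1 h)) (by rw [← map_pow, hc2, map_one])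
    obtain ⟨u, hu, hue⟩ := hrot (k - j)
    have hbc : φ (b * c) = φ u := by rw [map_mul, hj, hk, sr_mul_sr, hue]
    have hu1 : u ≠ 1 := by
      rintro rfl
      rw [map_one, map_mul] at hbc
      have hcinv : (φ c)⁻¹ = φ c := by rw [hk, inv_sr]
      apply hne
      rw [← hcinv]
      exact mul_eq_one_iff_eq_inv.1 hbc
    obtain ⟨x, hx, hxe⟩ := hA u hu hu1 (b * c) hbc
    apply conj_of_mul_pow_odd hb2 hc2 hodd
    rw [← hxe, conj_pow]
    have : u ^ r = 1 := by
      have h1 : orderOf u ∣ r := by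
        rw [← hRcard, ← Subgroup.orderOf_mk u hu]
        exact orderOf_dvd_natCard _
      exact orderOf_dvd_iff_pow_eq_one.1 h1
    rw [this]; group
  refine ⟨⟨MulEquiv.ofBijective (φ.comp N.subtype) ⟨?_, ?_⟩⟩, ?_⟩
  · intro x y hxy
    exact Subtype.ext (hNφ x x.2 y y.2 hxy)
  · intro d
    obtain ⟨n, hn, hnd⟩ := hNsurj d
    exact ⟨⟨n, hn⟩, hnd⟩
  intro a haN ha
  have ha2 : a ^ 2 = 1 := by rw [← ha]; exact pow_orderOf_eq_one a
  have ha1 : a ≠ 1 := by
    rintro rfl
    rw [orderOf_one] at ha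
    exact absurd ha (by norm_num)
  have haQ : a ∉ Q := fun h => ha1 (hNinj a haN h)
  obtain ⟨k, hk⟩ := exists_sr hp hr (x := φ a) (fun h => haQ ((hφk a).1 h)) (by rw [← map_pow, ha2, map_one])
  -- the second involution
  set c : G := ρ * a * ρ⁻¹ with hcdef
  have hcN : c ∈ N := N.mul_mem (N.mul_mem (hRN hρR) haN) (N.inv_mem (hRN hρR))
  have hc2 : c ^ 2 = 1 := by rw [hcdef, conj_pow, ha2]; group
  have hco : orderOf c = 2 := by
    rw [hcdef]
    have := orderOf_injective (MulAut.conj ρ).toMonoidHom (MulAut.conj ρ).injective a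
    rw [ha] at this
    simpa using this
  have hφc : φ c = sr (k - i - i) := by
    rw [hcdef, map_mul, map_mul, map_inv, hi, hk, inv_r, r_mul_sr, sr_mul_r]
    congr 1
    ring
  have h2ne : (2 : ZMod r) ≠ 0 := by
    intro h
    have : (r : ℕ) ∣ 2 := (ZMod.natCast_eq_zero_iff 2 r).1 (by exact_mod_cast h)
    exact hr ((Nat.prime_dvd_prime_iff_eq hp Nat.prime_two).1 this)
  have hac : φ a ≠ φ c := by
    rw [hk, hφc]
    intro h
    have h1 := sr.inj h
    have h3 : (2 : ZMod r) * i = 0 := by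
      have h4 : k - (k - i - i) = 0 := by rw [← h1, sub_self]
      calc (2 : ZMod r) * i = k - (k - i - i) := by ring
        _ = 0 := h4
    rcases mul_eq_zero.1 h3 with h | h
    · exact h2ne h
    · exact hi0 h
  have hcQ : c ∉ Q := by
    intro h
    apply haQ
    have := hN.conj_mem _ h ρ⁻¹
    simpa [hcdef, mul_assoc] using this
  refine ⟨?_, ?_⟩
  · intro b hb hbQ
    by_cases hab : φ a = φ b
    · obtain ⟨g, hg⟩ := hL c b hco hb hcQ hbQ (by rw [← hab]; exact hac.symm)
      refine ⟨g * ρ, ?_⟩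
      rw [← hg, hcdef]
      group
    · exact hL a b ha hb haQ hbQ hab
  · -- counting
    have hcinv : c⁻¹ = c := by rw [inv_eq_iff_mul_eq_one, ← pow_two]; exact hc2
    have hainv : a⁻¹ = a := by rw [inv_eq_iff_mul_eq_one, ← pow_two]; exact ha2
    -- `a * c` lies in `R`
    obtain ⟨u, hu, hue⟩ := hrot ((k - i - i) - k)
    have hacu : a * c = u := by
      apply hNφ _ (N.mul_mem haN hcN) _ (hRN hu)
      rw [map_mul, hk, hφc, sr_mul_sr, hue]
    have hu1 : u ≠ 1 := by
      rintro rfl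
      apply hac
      have : a = c := by
        rw [← hcinv]
        exact mul_eq_one_iff_eq_inv.1 hacu
      rw [← this]
    set A : Subgroup G := Q ⊓ Subgroup.centralizer ({a} : Set G) with hAdef
    set B : Subgroup G := Q ⊓ Subgroup.centralizer ({c} : Set G) with hBdef
    have hAB : Nat.card B = Nat.card A := by
      have h1 : B = A.map (MulAut.conj ρ).toMonoidHom := by
        ext y
        constructor
        · intro hy
          obtain ⟨hyQ, hyc⟩ := mem_inf_cent.1 hy
          refine ⟨ρ⁻¹ * y * ρ, mem_inf_cent.2 ⟨?_, ?_⟩, ?_⟩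
          · have := hN.conj_mem y hyQ ρ⁻¹
            simpa using this
          · have h3 : a = ρ⁻¹ * c * ρ := by rw [hcdef]; group
            rw [h3]
            calc ρ⁻¹ * y * ρ * (ρ⁻¹ * c * ρ) = ρ⁻¹ * (y * c) * ρ := by group
              _ = ρ⁻¹ * (c * y) * ρ := by rw [hyc]
              _ = ρ⁻¹ * c * ρ * (ρ⁻¹ * y * ρ) := by group
          · change ρ * (ρ⁻¹ * y * ρ) * ρ⁻¹ = y
            group
        · rintro ⟨x, hx, rfl⟩
          obtain ⟨hxQ, hxa⟩ := mem_inf_cent.1 hx
          change ρ * x * ρ⁻¹ ∈ B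
          refine mem_inf_cent.2 ⟨hN.conj_mem x hxQ ρ, ?_⟩
          rw [hcdef]
          calc ρ * x * ρ⁻¹ * (ρ * a * ρ⁻¹) = ρ * (x * a) * ρ⁻¹ := by group
            _ = ρ * (a * x) * ρ⁻¹ := by rw [hxa]
            _ = ρ * a * ρ⁻¹ * (ρ * x * ρ⁻¹) := by group
      rw [h1, Subgroup.card_map_of_injective (MulAut.conj ρ).injective]
    let f : A × B → Q := fun z => ⟨z.1 * z.2, Q.mul_mem z.1.2.1 z.2.2.1⟩
    have hbij : Function.Bijective f := by
      constructor
      · rintro ⟨x, y⟩ ⟨x', y'⟩ h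
        have h1 : (x : G) * y = x' * y' := congrArg Subtype.val h
        have h2 : (x' : G)⁻¹ * x = y' * (y : G)⁻¹ := by
          rw [inv_mul_eq_iff_eq_mul, ← mul_assoc, ← h1]
          group
        have hxA : (x' : G)⁻¹ * x ∈ A := A.mul_mem (A.inv_mem x'.2) x.2
        have hyB : (x' : G)⁻¹ * x ∈ B := by rw [h2]; exact B.mul_mem y'.2 (B.inv_mem y.2)
        have h3 : (x' : G)⁻¹ * x * u = u * ((x' : G)⁻¹ * x) := by
          have h4 : (x' : G)⁻¹ * x * a = a * ((x' : G)⁻¹ * x) := Subgroup.mem_centralizer_singleton_iff.1 hxA.2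
          have h5 : (x' : G)⁻¹ * x * c = c * ((x' : G)⁻¹ * x) := Subgroup.mem_centralizer_singleton_iff.1 hyB.2
          rw [← hacu]
          rw [← mul_assoc, h4, mul_assoc a, h5, mul_assoc a]
        have h6 := hCu u hu hu1 _ hxA.1 h3
        have h7 : x' = x := Subtype.ext (inv_mul_eq_one.1 h6)
        have h8 : y = y' := by
          rw [h6] at h2
          exact Subtype.ext (mul_inv_eq_one.1 h2.symm).symm
        rw [h7, h8]
      · rintro ⟨q, hq⟩
        set b : G := q⁻¹ * a * q with hbdef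
        have hφb : φ b = φ a := by
          rw [hbdef, map_mul, map_mul, map_inv, (hφk q).2 hq]
          simp
        have hb2 : b * b = 1 := by
          rw [hbdef]
          calc q⁻¹ * a * q * (q⁻¹ * a * q) = q⁻¹ * (a ^ 2) * q := by rw [pow_two]; group
            _ = 1 := by rw [ha2]; group
        have hbc : φ (b * c) = φ u := by rw [map_mul, hφb, ← map_mul, hacu]
        obtain ⟨x, hx, hxe⟩ := hA u hu hu1 (b * c) hbc
        -- conjugates
        have h1 : (x⁻¹ * b * x) * (x⁻¹ * c * x) = u := by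
          calc (x⁻¹ * b * x) * (x⁻¹ * c * x) = x⁻¹ * (b * c) * x := by group
            _ = x⁻¹ * (x * u * x⁻¹) * x := by rw [hxe]
            _ = u := by group
        have hb'2 : (x⁻¹ * b * x) * (x⁻¹ * b * x) = 1 := by
          calc (x⁻¹ * b * x) * (x⁻¹ * b * x) = x⁻¹ * (b * b) * x := by group
            _ = 1 := by rw [hb2]; group
        have hc'2 : (x⁻¹ * c * x) * (x⁻¹ * c * x) = 1 := by
          calc (x⁻¹ * c * x) * (x⁻¹ * c * x) = x⁻¹ * (c ^ 2) * x := by rw [pow_two]; group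
            _ = 1 := by rw [hc2]; group
        have hb'N : x⁻¹ * b * x ∈ N := by
          have h2 : (x⁻¹ * b * x) * u * (x⁻¹ * b * x)⁻¹ = u⁻¹ := by
            have h3 : (x⁻¹ * b * x)⁻¹ = x⁻¹ * b * x := inv_eq_of_mul_eq_one_right hb'2
            have h4 : (x⁻¹ * c * x)⁻¹ = x⁻¹ * c * x := inv_eq_of_mul_eq_one_right hc'2
            have h5 : ∀ s t : G, s * s = 1 → s * (s * t) * s = t * s := by
              intro s t hs
              rw [← mul_assoc s s t, hs, one_mul]
            rw [h3, ← h1, mul_inv_rev, h3, h4]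
            exact h5 _ _ hb'2
          have h3 : ∀ y ∈ (R : Subgroup G), (x⁻¹ * b * x) * y * (x⁻¹ * b * x)⁻¹ ∈ (R : Subgroup G) := by
            intro y hy
            rw [← hgen u hu hu1] at hy
            obtain ⟨n, rfl⟩ := hy
            rw [← conj_zpow, h2]
            exact zpow_mem (inv_mem hu) n
          exact hmemN _ (h3 ρ hρR)
        have hb'a : x⁻¹ * b * x = a := by
          apply hNφ _ hb'N _ haN
          rw [map_mul, map_mul, map_inv, (hφk x).2 hx]
          simp [hφb]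
        have hc'c : x⁻¹ * c * x = c := by
          rw [hb'a] at h1
          have := h1.trans hacu.symm
          exact mul_left_cancel this
        refine ⟨⟨⟨q * x, mem_inf_cent.2 ⟨Q.mul_mem hq hx, ?_⟩⟩, ⟨x⁻¹, mem_inf_cent.2 ⟨Q.inv_mem hx, ?_⟩⟩⟩, ?_⟩
        · have h5 : x⁻¹ * (q⁻¹ * a * q) * x = a := hb'a
          calc q * x * a = q * x * (x⁻¹ * (q⁻¹ * a * q) * x) := by rw [h5]
            _ = a * (q * x) := by group
        · calc x⁻¹ * c = x⁻¹ * c * x * x⁻¹ := by group
            _ = c * x⁻¹ := by rw [hc'c]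
        · apply Subtype.ext
          change q * x * x⁻¹ = q
          group
    have hcard := Nat.card_congr (Equiv.ofBijective f hbij)
    rw [Nat.card_prod, hAB] at hcard
    rw [pow_two]
    exact hcard

end Cfsg.Agent.S2873
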