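import Cfsg.Statements.S2892
import Cfsg.Agent.H238.Get88
import Cfsg.Agent.H226.Rows
import Cfsg.Agent.S0000
-- import your own Cfsg.Agent.* helpers here

set_option autoImplicit false
open Cfsg

namespace Cfsg.Agent.S2892

/-- Let p be a prime, G a finite group of parabolic characteristic p, S₀ a Sylow p-subgroup of G and H a subgroup containing S₀ with H = N_G(F*(H)) and F*(H) simple of Lie type in characteristic p of Lie rank at least two. Suppose that N_G(O_p(C_G(z))) is not contained in H for some nontrivial z in the centre of S₀, that some p-central element of H has solvable centralizer in H, and, if p is odd, that every p-local subgroup of G is a K-group. Then p = 2 and (F*(G), F*(H)) is one of (M₁₁, A₆), (M₂₃, PSL₃(4)), (G₂(3), PSU₃(3)), (PΩ₈⁺(3), Ω₈⁺(2)); or p = 3 and (F*(G), F*(H)) is one of (F₄(2), PSL₄(3)), (PSU₆(2), PSU₄(3)), (McL, PSU₄(3)),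 (Co₂, PSU₄(3)), (²E₆(2), PΩ₇(3)), (Fi₂₂, PΩ₇(3)), (Fi₂₃, PΩ₈⁺(3)), (B, PΩ₈⁺(3)); or p ∈ {3, 5, 7, 13} and F*(H) ≅ PSL₃(p). -/
theorem result {G : Type*} [Group G] [Finite G] {p : ℕ} [Fact p.Prime] (hpar : Cfsg.IsOfParabolicCharacteristic p G) (S₀ : Sylow p G) (H : Subgroup G) (hS : (S₀ : Subgroup G) ≤ H) (hN : Subgroup.normalizer (((Cfsg.generalizedFittingSubgroup ↥H).map H.subtype : Subgroup G) : Set G) = H) (hF : Cfsg.IsLieRankAtLeastTwoChar p ↥(Cfsg.generalizedFittingSubgroup ↥H)) (hz : ∃ z : G, z ≠ 1 ∧ z ∈ (S₀ : Subgroup G) ∧ (∀ s ∈ (S₀ : Subgroup G), s * z = z * s) ∧ ¬ Subgroup.normalizer (((Cfsg.pCore p ↥(Subgroup.centralizer ({z} : Set G))).map (Subgroup.centralizer ({z} : Set G)).subtype : Subgroup G) : Set G) ≤ H) (hsol : ∃ t : ↥H, Cfsg.IsPCentral p t ∧ IsSolvable ↥(Subgroup.centralizer ({t} : Set ↥H))) (hKp : p ≠ 2 → Cfsg.IsKpGroup p G) :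 (p = 2 ∧ ((Cfsg.Spor.IsoM11 ↥(Cfsg.generalizedFittingSubgroup G) ∧ Nonempty (↥(Cfsg.generalizedFittingSubgroup ↥H) ≃* ↥(alternatingGroup (Fin 6)))) ∨ (Cfsg.Spor.IsoM23 ↥(Cfsg.generalizedFittingSubgroup G) ∧ (∃ (F : Type) (_ : Field F) (_ : Fintype F), Fintype.card F = 4 ∧ Nonempty (↥(Cfsg.generalizedFittingSubgroup ↥H) ≃* Matrix.ProjectiveSpecialLinearGroup (Fin 3) F))) ∨ ((∃ (F : Type) (_ : Field F) (_ : Fintype F), Fintype.card F = 3 ∧ Nonempty (↥(Cfsg.generalizedFittingSubgroup G) ≃* ↥(Cfsg.Lie.chevG2.group F))) ∧ (∃ (F : Type) (_ : Field F) (_ : Fintype F), Fintype.card F = 3 ^ 2 ∧ Nonempty (↥(Cfsg.generalizedFittingSubgroup ↥H) ≃* Cfsg.PSU 3 F 3))) ∨ ((∃ (F : Type) (_ : Field F) (_ : Fintype F), Fintype.card F = 3 ∧ Nonempty (↥(Cfsg.generalizedFittingSubgroup G) ≃* Cfsg.POmega F (Cfsg.quadFormPlus 4 F))) ∧ (∃ (F : Type) (_ : Field F) (_ : Fintype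 F), Fintype.card F = 2 ∧ Nonempty (↥(Cfsg.generalizedFittingSubgroup ↥H) ≃* Cfsg.POmega F (Cfsg.quadFormPlus 4 F)))))) ∨ (p = 3 ∧ (((∃ (F : Type) (_ : Field F) (_ : Fintype F), Fintype.card F = 2 ∧ Nonempty (↥(Cfsg.generalizedFittingSubgroup G) ≃* ↥(Cfsg.Lie.chevF4.group F))) ∧ (∃ (F : Type) (_ : Field F) (_ : Fintype F), Fintype.card F = 3 ∧ Nonempty (↥(Cfsg.generalizedFittingSubgroup ↥H) ≃* Matrix.ProjectiveSpecialLinearGroup (Fin 4) F))) ∨ ((∃ (F : Type) (_ : Field F) (_ : Fintype F), Fintype.card F = 2 ^ 2 ∧ Nonempty (↥(Cfsg.generalizedFittingSubgroup G) ≃* Cfsg.PSU 6 F 2)) ∧ (∃ (F : Type) (_ : Field F) (_ : Fintype F), Fintype.card F = 3 ^ 2 ∧ Nonempty (↥(Cfsg.generalizedFittingSubgroup ↥H) ≃* Cfsg.PSU 4 F 3))) ∨ (Cfsg.Spor.IsoMcL ↥(Cfsg.generalizedFittingSubgroup G) ∧ (∃ (F : Type) (_ : Field F) (_ : Fintype F), Fintype.card F = 3 ^ 2 ∧ Nonempty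 (↥(Cfsg.generalizedFittingSubgroup ↥H) ≃* Cfsg.PSU 4 F 3))) ∨ (Cfsg.Spor.IsoCo2 ↥(Cfsg.generalizedFittingSubgroup G) ∧ (∃ (F : Type) (_ : Field F) (_ : Fintype F), Fintype.card F = 3 ^ 2 ∧ Nonempty (↥(Cfsg.generalizedFittingSubgroup ↥H) ≃* Cfsg.PSU 4 F 3))) ∨ ((∃ (L : Type) (_ : Field L) (_ : Fintype L), Fintype.card L = 2 ^ 2 ∧ Nonempty (↥(Cfsg.generalizedFittingSubgroup G) ≃* ↥(Cfsg.Lie.twistedE6 L 2))) ∧ (∃ (F : Type) (_ : Field F) (_ : Fintype F), Fintype.card F = 3 ∧ Nonempty (↥(Cfsg.generalizedFittingSubgroup ↥H) ≃* Cfsg.POmega F (Cfsg.quadFormOdd 3 F)))) ∨ (Cfsg.Spor.IsoFi22 ↥(Cfsg.generalizedFittingSubgroup G) ∧ (∃ (F : Type) (_ : Field F) (_ : Fintype F), Fintype.card F = 3 ∧ Nonempty (↥(Cfsg.generalizedFittingSubgroup ↥H) ≃* Cfsg.POmega F (Cfsg.quadFormOdd 3 F)))) ∨ (Cfsg.Spor.IsoFi23 ↥(Cfsg.generalizedFittingSubgroup G) ∧ (∃ (F : Type) (_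 : Field F) (_ : Fintype F), Fintype.card F = 3 ∧ Nonempty (↥(Cfsg.generalizedFittingSubgroup ↥H) ≃* Cfsg.POmega F (Cfsg.quadFormPlus 4 F)))) ∨ (Cfsg.Spor.IsoB ↥(Cfsg.generalizedFittingSubgroup G) ∧ (∃ (F : Type) (_ : Field F) (_ : Fintype F), Fintype.card F = 3 ∧ Nonempty (↥(Cfsg.generalizedFittingSubgroup ↥H) ≃* Cfsg.POmega F (Cfsg.quadFormPlus 4 F)))))) ∨ ((p = 3 ∨ p = 5 ∨ p = 7 ∨ p = 13) ∧ (∃ (F : Type) (_ : Field F) (_ : Fintype F), Fintype.card F = p ∧ Nonempty (↥(Cfsg.generalizedFittingSubgroup ↥H) ≃* Matrix.ProjectiveSpecialLinearGroup (Fin 3) F))) :=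
  Cfsg.Agent.H238.Last.s2892 (Cfsg.Agent.H238.Last.h88 (fun X _ _ _ => Cfsg.Agent.S0000.result (G := X)) Cfsg.Agent.H226.Rows.par)
    hpar S₀ H hS hN hF hz hsol

end Cfsg.Agent.S2892
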