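import Cfsg.Statements.S2905
import Cfsg.Agent.Transfer.Residual
import Cfsg.Agent.Lib.SylowNormalInf
import Cfsg.Agent.S3802
import Cfsg.Agent.H240.SylowConj
-- import your own Cfsg.Agent.* helpers here

set_option autoImplicit false
open Cfsg

namespace Cfsg.Agent.S2905

/-- In a `p`-minimal group a proper subgroup containing `S` lies in `M`. -/
theorem le_of_sylow_le {P : Type*} [Group P] [Finite P] {p : ℕ} [Fact p.Prime] (hP : Cfsg.IsPMinimal p P)
    (S : Sylow p P) (M : Subgroup P) (hM : IsCoatom M) (hSM : (S : Subgroup P) ≤ M) (H : Subgroup P)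
    (hSH : (S : Subgroup P) ≤ H) (hH : H ≠ ⊤) : H ≤ M := by
  obtain ⟨M', hM', hHM'⟩ := (eq_top_or_exists_le_coatom H).resolve_left hH
  obtain ⟨_, M0, _, huniq⟩ := hP S
  have h1 := huniq M ⟨hM, hSM⟩
  have h2 := huniq M' ⟨hM', hSH.trans hHM'⟩
  rw [h1, ← h2]
  exact hHM'

/-- Normal subgroups of a `p`-minimal group contain `O^p(P)` or lie in `M`. -/
theorem residual_le_or {P : Type*} [Group P] [Finite P] {p : ℕ} [Fact p.Prime] (hP : Cfsg.IsPMinimal p P)
    (S : Sylow p P) (M : Subgroup P) (hM : IsCoatom M) (hSM : (S : Subgroup P) ≤ M) (N : Subgroup P)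
    (hN : N.Normal) : Cfsg.pResidual p P ≤ N ∨ N ≤ M.normalCore := by
  by_cases hNM : N ≤ M.normalCore
  · exact Or.inr hNM
  left
  have hNM' : ¬ N ≤ M := fun h => hNM (Subgroup.normal_le_normalCore.mpr h)
  have htop : N ⊔ (S : Subgroup P) = ⊤ := by
    by_contra hne
    exact hNM' (le_sup_left.trans (le_of_sylow_le hP S M hM hSM _ le_sup_right hne))
  apply Transfer.Residual.pResidual_le_of_isPGroup_quotient
  have h1 : Function.Surjective ((QuotientGroup.mk' N).comp (S : Subgroup P).subtype) := by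
    intro y
    obtain ⟨x, rfl⟩ := QuotientGroup.mk'_surjective N y
    have hx : x ∈ (S : Subgroup P) ⊔ N := by rw [sup_comm, htop]; exact Subgroup.mem_top x
    obtain ⟨s, hs, n, hn, rfl⟩ := Subgroup.mem_sup_of_normal_right.mp hx
    refine ⟨⟨s, hs⟩, ?_⟩
    change QuotientGroup.mk' N s = QuotientGroup.mk' N (s * n)
    rw [map_mul, show QuotientGroup.mk' N n = 1 from (QuotientGroup.eq_one_iff n).mpr hn, mul_one]
  exact S.isPGroup'.of_surjective _ h1

theorem not_residual_le {P : Type*} [Group P] [Finite P] {p : ℕ} [Fact p.Prime]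
    (S : Sylow p P) (M : Subgroup P) (hM : IsCoatom M) (hSM : (S : Subgroup P) ≤ M) :
    ¬ Cfsg.pResidual p P ≤ M := fun h =>
  hM.1 (top_le_iff.mp (by
    rw [← Transfer.Residual.pResidual_sup_sylow S]
    exact sup_le h hSM))

/-- `S ∩ core(M)` is normal. -/
theorem inf_core_le {P : Type*} [Group P] [Finite P] {p : ℕ} [Fact p.Prime] (hP : Cfsg.IsPMinimal p P)
    (S : Sylow p P) (M : Subgroup P) (hM : IsCoatom M) (hSM : (S : Subgroup P) ≤ M) :
    (S : Subgroup P) ⊓ M.normalCore ≤ Cfsg.pCore p P := by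
  have hF : M.normalCore.Normal := Subgroup.normalCore_normal M
  have h1 := Lib.SylowNormalInf.normalizer_inf_sup_eq_top S M.normalCore
  have h2 : (S : Subgroup P) ≤
      Subgroup.normalizer (((S : Subgroup P) ⊓ M.normalCore : Subgroup P) : Set P) := by
    intro s hs
    rw [Subgroup.mem_normalizer_iff]
    intro x
    constructor
    · rintro ⟨hx1, hx2⟩
      exact ⟨(S : Subgroup P).mul_mem ((S : Subgroup P).mul_mem hs hx1) ((S : Subgroup P).inv_mem hs),
        hF.conj_mem x hx2 s⟩
    · rintro ⟨hx1, hx2⟩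
      have e : x = s⁻¹ * (s * x * s⁻¹) * s⁻¹⁻¹ := by group
      rw [e]
      exact ⟨(S : Subgroup P).mul_mem ((S : Subgroup P).mul_mem ((S : Subgroup P).inv_mem hs) hx1)
        ((S : Subgroup P).inv_mem ((S : Subgroup P).inv_mem hs)), hF.conj_mem _ hx2 _⟩
  have h3 : Subgroup.normalizer (((S : Subgroup P) ⊓ M.normalCore : Subgroup P) : Set P) = ⊤ := by
    by_contra hne
    have h4 := le_of_sylow_le hP S M hM hSM _ h2 hne
    have h5 : (⊤ : Subgroup P) ≤ M := by
      rw [← h1]
      exact sup_le h4 (Subgroup.normalCore_le M)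
    exact hM.1 (top_le_iff.mp h5)
  have h6 : ((S : Subgroup P) ⊓ M.normalCore).Normal := Subgroup.normalizer_eq_top_iff.mp h3
  exact le_sSup ⟨h6, S.isPGroup'.to_le inf_le_left⟩

/-- `S` normalises `R T` for a Sylow `t`-subgroup `R`. -/
theorem exists_normalizes {P : Type*} [Group P] [Finite P] {p : ℕ} [Fact p.Prime]
    (S : Sylow p P) (X T : Subgroup P) (hX : X.Normal) (hXi : ∃ k, X.index = p ^ k)
    (hTn : T.Normal) (hTi : ¬ p ∣ T.relIndex X) (t : ℕ) (ht : t.Prime) (htp : t ≠ p) :
    ∃ R : Subgroup P, IsPGroup t R ∧ ¬ t ∣ R.index ∧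
      (S : Subgroup P) ≤ Subgroup.normalizer ((R ⊔ T : Subgroup P) : Set P) := by
  have : Fact t.Prime := ⟨ht⟩
  obtain ⟨R0⟩ : Nonempty (Sylow t X) := inferInstance
  set R1 : Subgroup P := (R0 : Subgroup X).map X.subtype with hR1
  have hR1p : IsPGroup t R1 := R0.isPGroup'.map _
  have hR1i : ¬ t ∣ R1.index := by
    have h3 : R1.index = (R0 : Subgroup X).index * X.index := by
      rw [hR1, Subgroup.index_map_subtype]
    obtain ⟨k, hk⟩ := hXi
    rw [h3, ht.dvd_mul, not_or, hk]
    refine ⟨R0.not_dvd_index, fun h => htp ?_⟩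
    exact (Nat.prime_dvd_prime_iff_eq ht (Fact.out)).mp (ht.dvd_of_dvd_pow h)
  have hfr : Subgroup.normalizer (R1 : Set P) ⊔ X = ⊤ := Sylow.normalizer_sup_eq_top R0
  set Y : Subgroup P := Subgroup.normalizer ((R1 ⊔ T : Subgroup P) : Set P) with hY
  have hNY : Subgroup.normalizer (R1 : Set P) ≤ Y := by
    intro g hg
    rw [Subgroup.mem_normalizer_iff_map_conj_eq] at hg
    rw [hY, Subgroup.mem_normalizer_iff_map_conj_eq, Subgroup.map_sup, hg]
    have h1 : g ∈ Subgroup.normalizer (T : Set P) := by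
      rw [Subgroup.normalizer_eq_top_iff.mpr hTn]; exact Subgroup.mem_top g
    rw [Subgroup.mem_normalizer_iff_map_conj_eq] at h1
    rw [h1]
  have hYtop : Y ⊔ X = ⊤ := top_le_iff.mp (hfr ▸ sup_le_sup_right hNY X)
  have hYi : Y.index = Y.relIndex X := by
    rw [← Lib.SylowNormalInf.relIndex_sup_of_normal Y X, hYtop, Subgroup.relIndex_top_right]
  have hTY : T ≤ Y := le_sup_right.trans Subgroup.le_normalizer
  have hYp : ¬ p ∣ Y.index := by
    rw [hYi]
    exact fun h => hTi (h.trans (Subgroup.relIndex_dvd_of_le_left X hTY))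
  obtain ⟨g, hg⟩ := H240.SylowConj.exists_le_map_conj S hYp
  refine ⟨R1.map (MulAut.conj g).toMonoidHom, hR1p.map _, ?_, ?_⟩
  · have h1 : (R1.map (MulAut.conj g).toMonoidHom).index = R1.index :=
      Subgroup.index_map_equiv R1 (MulAut.conj g)
    rw [h1]
    exact hR1i
  · have h1 : T.map (MulAut.conj g).toMonoidHom = T := by
      have h1 : g ∈ Subgroup.normalizer (T : Set P) := by
        rw [Subgroup.normalizer_eq_top_iff.mpr hTn]; exact Subgroup.mem_top g
      rwa [Subgroup.mem_normalizer_iff_map_conj_eq] at h1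
    have h2 : R1.map (MulAut.conj g).toMonoidHom ⊔ T = (R1 ⊔ T).map (MulAut.conj g).toMonoidHom := by
      rw [Subgroup.map_sup, h1]
    rw [h2]
    refine hg.trans ?_
    rintro _ ⟨y, hy, rfl⟩
    rw [SetLike.mem_coe, hY, Subgroup.mem_normalizer_iff] at hy
    rw [Subgroup.mem_normalizer_iff]
    intro x
    constructor
    · rintro ⟨z, hz, rfl⟩
      refine ⟨y * z * y⁻¹, (hy z).mp hz, ?_⟩
      simp [MulAut.conj_apply, mul_assoc]
    · rintro ⟨z, hz, hzx⟩
      refine ⟨y⁻¹ * z * y, ?_, ?_⟩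
      · refine (hy _).mpr ?_
        have : y * (y⁻¹ * z * y) * y⁻¹ = z := by group
        rw [this]
        exact hz
      · have h3 : g * z * g⁻¹ = (g * y * g⁻¹) * x * (g * y * g⁻¹)⁻¹ := by
          simpa [MulAut.conj_apply] using hzx
        change g * (y⁻¹ * z * y) * g⁻¹ = x
        have h4 : z = g⁻¹ * ((g * y * g⁻¹) * x * (g * y * g⁻¹)⁻¹) * g := by rw [← h3]; group
        rw [h4]
        group

theorem card_sup_dvd {P : Type*} [Group P] [Finite P] (A B : Subgroup P)
    (h : A ≤ Subgroup.normalizer (B : Set P)) :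
    Nat.card (A ⊔ B : Subgroup P) ∣ Nat.card A * Nat.card B := by
  have h1 : Nat.card B * B.relIndex (A ⊔ B) = Nat.card (A ⊔ B : Subgroup P) :=
    Lib.SylowNormalInf.card_mul_relIndex B (A ⊔ B) le_sup_right
  have hN : (B.subgroupOf (A ⊔ B)).Normal :=
    Subgroup.normal_subgroupOf_of_le_normalizer (sup_le h Subgroup.le_normalizer)
  have htop : A.subgroupOf (A ⊔ B) ⊔ B.subgroupOf (A ⊔ B) = ⊤ := by
    rw [← Subgroup.subgroupOf_sup le_sup_left le_sup_right, Subgroup.subgroupOf_self]
  have h2 : B.relIndex (A ⊔ B) ∣ Nat.card A := by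
    have e1 : B.relIndex (A ⊔ B) = (B.subgroupOf (A ⊔ B)).relIndex (A.subgroupOf (A ⊔ B)) := by
      have e0 := Subgroup.relIndex_sup_right (A.subgroupOf (A ⊔ B)) (B.subgroupOf (A ⊔ B))
      rw [htop, Subgroup.relIndex_top_right] at e0
      exact e0
    have e2 : Nat.card (A.subgroupOf (A ⊔ B)) = Nat.card A :=
      Nat.card_congr (Subgroup.subgroupOfEquivOfLe le_sup_left).toEquiv
    rw [e1, ← e2]
    exact Subgroup.relIndex_dvd_card _ _
  rw [← h1, mul_comm]
  exact Nat.mul_dvd_mul_right h2 _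

theorem card_primeFactors_le {P : Type*} [Group P] [Finite P] {p : ℕ} [Fact p.Prime]
    (hP : Cfsg.IsPMinimal p P) (S : Sylow p P) (M : Subgroup P) (hM : IsCoatom M)
    (hSM : (S : Subgroup P) ≤ M)
    (hT : ∀ T : Sylow p ↥(Cfsg.pResidual p P), (T : Subgroup ↥(Cfsg.pResidual p P)).Normal) :
    (Nat.card P).primeFactors.card ≤ 2 := by
  have hp : p.Prime := Fact.out
  by_contra hcard
  have hX : (Cfsg.pResidual p P).Normal := Transfer.Residual.pResidual_normal p
  obtain ⟨T0⟩ : Nonempty (Sylow p ↥(Cfsg.pResidual p P)) := inferInstance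
  have hT0n : (T0 : Subgroup ↥(Cfsg.pResidual p P)).Normal := hT T0
  have hT0c : (T0 : Subgroup ↥(Cfsg.pResidual p P)).Characteristic :=
    T0.characteristic_of_normal hT0n
  set T : Subgroup P := (T0 : Subgroup ↥(Cfsg.pResidual p P)).map (Cfsg.pResidual p P).subtype with hTdef
  have hTn : T.Normal := ConjAct.normal_of_characteristic_of_normal
  have hTp : IsPGroup p T := T0.isPGroup'.map _
  have hTi : ¬ p ∣ T.relIndex (Cfsg.pResidual p P) := by
    have : T.relIndex (Cfsg.pResidual p P) = (T0 : Subgroup ↥(Cfsg.pResidual p P)).index := by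
      rw [hTdef, Subgroup.relIndex]
      congr 1
      exact Subgroup.comap_map_eq_self_of_injective (Subgroup.subtype_injective _) _
    rw [this]
    exact T0.not_dvd_index
  have hone : M.index = 1 := by
    by_contra hne
    obtain ⟨t, ht, htM⟩ := Nat.exists_prime_and_dvd hne
    by_cases htp : t = p
    · subst htp
      exact S.not_dvd_index (htM.trans (Subgroup.index_dvd_of_le hSM))
    · obtain ⟨R, hRt, hRi, hSR⟩ := exists_normalizes S (Cfsg.pResidual p P) T hX
        (Transfer.Residual.exists_index_pResidual_eq_pow p) hTn hTi t ht htp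
      by_cases hH : (S : Subgroup P) ⊔ (R ⊔ T) = ⊤
      · have h1 : Nat.card P ∣ Nat.card (S : Subgroup P) * (Nat.card R * Nat.card T) := by
          have h2 := card_sup_dvd (S : Subgroup P) (R ⊔ T) hSR
          rw [hH, Subgroup.card_top] at h2
          have hRT : R ≤ Subgroup.normalizer (T : Set P) := by
            rw [Subgroup.normalizer_eq_top_iff.mpr hTn]; exact le_top
          exact h2.trans (Nat.mul_dvd_mul_left _ (card_sup_dvd R T hRT))
        have : Fact t.Prime := ⟨ht⟩
        obtain ⟨a, ha⟩ := IsPGroup.iff_card.mp S.isPGroup'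
        obtain ⟨b, hb⟩ := IsPGroup.iff_card.mp hRt
        obtain ⟨c, hc⟩ := IsPGroup.iff_card.mp hTp
        rw [ha, hb, hc] at h1
        apply hcard
        have h3 : (Nat.card P).primeFactors ⊆ {p, t} := by
          intro q hq
          have hqp := Nat.prime_of_mem_primeFactors hq
          have h4 : q ∣ p ^ a * (t ^ b * p ^ c) := (Nat.dvd_of_mem_primeFactors hq).trans h1
          rw [hqp.dvd_mul, hqp.dvd_mul] at h4
          rw [Finset.mem_insert, Finset.mem_singleton]
          rcases h4 with h | h | h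
          · exact Or.inl ((Nat.prime_dvd_prime_iff_eq hqp hp).mp (hqp.dvd_of_dvd_pow h))
          · exact Or.inr ((Nat.prime_dvd_prime_iff_eq hqp ht).mp (hqp.dvd_of_dvd_pow h))
          · exact Or.inl ((Nat.prime_dvd_prime_iff_eq hqp hp).mp (hqp.dvd_of_dvd_pow h))
        exact (Finset.card_le_card h3).trans Finset.card_le_two
      · have h1 := le_of_sylow_le hP S M hM hSM _ le_sup_left hH
        have h2 : R ≤ M := (le_sup_left.trans le_sup_right).trans h1
        exact hRi (htM.trans (Subgroup.index_dvd_of_le h2))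
  exact hM.1 (Subgroup.index_eq_one.mp hone)

/-- Let P be a finite p-minimal group (a Sylow p-subgroup S is not normal and lies in a unique maximal subgroup M of P) and let F be the normal core of M. Then: every subnormal subgroup N of P contained in M satisfies N ∩ S ≤ O_p(P); if O^p(P) has a normal Sylow p-subgroup then the order of P has at most two prime divisors; every normal subgroup N of P either contains O^p(P) or is contained in F; and O^p(P)F ⧸ F is a minimal normal subgroup of P ⧸ F. -/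
theorem result {P : Type*} [Group P] [Finite P] {p : ℕ} [Fact p.Prime] (hP : Cfsg.IsPMinimal p P) (S : Sylow p P) (M : Subgroup P) (hM : IsCoatom M) (hSM : (S : Subgroup P) ≤ M) [hF : M.normalCore.Normal] : (∀ N : Subgroup P, N.IsSubnormal → N ≤ M → N ⊓ (S : Subgroup P) ≤ Cfsg.pCore p P) ∧ ((∀ T : Sylow p ↥(Cfsg.pResidual p P), (T : Subgroup ↥(Cfsg.pResidual p P)).Normal) → (Nat.card P).primeFactors.card ≤ 2) ∧ (∀ N : Subgroup P, N.Normal → Cfsg.pResidual p P ≤ N ∨ N ≤ M.normalCore) ∧ (∀ N : Subgroup P, N.Normal → M.normalCore ≤ N → N ≤ Cfsg.pResidual p P ⊔ M.normalCore → N = M.normalCore ∨ N = Cfsg.pResidual p P ⊔ M.normalCore) ∧ M.normalCore < Cfsg.pResidual p P ⊔ M.normalCore := by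
  refine ⟨?_, ?_, ?_, ?_, ?_⟩
  · intro N hN hNM
    have h1 : N ≤ M.normalCore := S3802.result M N hM hN hNM
    refine le_trans ?_ (inf_core_le hP S M hM hSM)
    rw [inf_comm]
    exact inf_le_inf_left _ h1
  · exact fun hT => card_primeFactors_le hP S M hM hSM hT
  · exact fun N hN => residual_le_or hP S M hM hSM N hN
  · intro N hN hFN hNle
    rcases residual_le_or hP S M hM hSM N hN with h | h
    · exact Or.inr (le_antisymm hNle (sup_le h hFN))
    · exact Or.inl (le_antisymm h hFN)
  · refine lt_of_le_of_ne le_sup_right ?_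
    intro h
    refine not_residual_le S M hM hSM ?_
    exact (le_sup_left.trans h.symm.le).trans (Subgroup.normalCore_le M)

end Cfsg.Agent.S2905
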