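import Cfsg.Statements.S5888
import Cfsg.Agent.S0000
import Cfsg.Agent.H936.DSAll

set_option autoImplicit false
open Cfsg

namespace Cfsg.Agent.S5888

open Cfsg.Agent.H936

/-- For every finite non-abelian simple group G, the outer automorphism group Out(G) = Aut(G)/Inn(G) is solvable of derived length at most 3: the third term of its derived series is trivial. -/
theorem result {G : Type*} [Group G] [Finite G]
    [IsSimpleGroup G] (hG : ¬ IsMulCommutative G) : derivedSeries (Cfsg.Out G) 3 = ⊥ := by
  exact DS.quotient (ds_known hG Cfsg.Agent.S0000.result) (Cfsg.Inn G) le_rfl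

end Cfsg.Agent.S5888
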