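import Cfsg.Statements.S2924
import Cfsg.Agent.H246.CoreBalance
import Cfsg.Agent.ThreePrime.CoreConj
import Cfsg.Agent.Classification.LocalCore
import Cfsg.Agent.SignalizersComponents.CharP
import Cfsg.Agent.S0217

set_option autoImplicit false
open Cfsg

namespace Cfsg.Agent.S2924

open Subgroup Cfsg.Agent.Lib.Cores Cfsg.Agent.ThreePrime

/-- the signalizer -/
abbrev Th {X : Type*} [Group X] (y : X) : Subgroup X :=
  (Cfsg.oddCore ↥(Subgroup.centralizer ({y} : Set X))).map (Subgroup.centralizer ({y} : Set X)).subtype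

theorem Th_eq {X : Type*} [Group X] (y : X) : Th y = centralizerPPrimeCore 2 y := rfl

theorem Th_odd {X : Type*} [Group X] [Finite X] (y : X) : Odd (Nat.card (Th y)) := by
  have := CoreConj.core_card 2 y
  rw [← Nat.not_even_iff_odd, even_iff_two_dvd]
  exact this

theorem mem_cent {X : Type*} [Group X] {y c : X} : c ∈ centralizer ({y} : Set X) ↔ c * y = y * c := by
  rw [mem_centralizer_iff]
  constructor
  · intro h
    exact (h y rfl).symm
  · rintro h _ rfl
    exact h.symm

theorem Th_comm {X : Type*} [Group X] {y d : X} (hd : d ∈ Th y) : d * y = y * d := by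
  obtain ⟨e, he, rfl⟩ := hd
  exact mem_cent.1 e.2

theorem Th_norm {X : Type*} [Group X] [Finite X] {y d c : X} (hc : c * y = y * c) (hd : d ∈ Th y) :
    c * d * c⁻¹ ∈ Th y := by
  have h1 : c ∈ centralizer ({y} : Set X) := mem_cent.2 hc
  have := mem_normalizer_iff.1 (CoreConj.core_normalized 2 y h1) d
  exact this.1 hd

theorem mem_of_subgroupOf {X : Type*} [Group X] {C H : Subgroup X} {d : C}
    (h : d ∈ H.subgroupOf C) : (d : X) ∈ H := h

theorem card_zpowers_inv {X : Type*} [Group X] {x : X} (hx : x * x = 1) :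
    IsPGroup 2 (zpowers x) := by
  rw [IsPGroup.iff_orderOf]
  intro g
  obtain ⟨k, hk⟩ := mem_zpowers_iff.1 g.2
  have hg : g * g = 1 := by
    apply Subtype.ext
    rw [Subgroup.coe_mul, Subgroup.coe_one, ← hk]
    calc x ^ k * x ^ k = (x * x) ^ k := ((Commute.refl x).mul_zpow k).symm
      _ = 1 := by rw [hx, one_zpow]
  have h3 : orderOf g ∣ 2 := orderOf_dvd_of_pow_eq_one (by rw [sq]; exact hg)
  rcases (Nat.dvd_prime Nat.prime_two).1 h3 with h4 | h4
  · exact ⟨0, by rw [h4]; rfl⟩
  · exact ⟨1, by rw [h4]; rfl⟩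

/-- if `C(z)` has characteristic `2` then `O(C(x)) ∩ C(z) = 1` for every involution `x` of
`C(z)` -/
theorem inf_eq_bot {X : Type*} [Group X] [Finite X] {z x : X}
    (hz : Cfsg.generalizedFittingSubgroup ↥(Subgroup.centralizer ({z} : Set X)) =
      Cfsg.pCore 2 ↥(Subgroup.centralizer ({z} : Set X))) (hx : x * x = 1) (hxz : x * z = z * x) :
    Th x ⊓ centralizer ({z} : Set X) = ⊥ := by
  have hxC : x ∈ centralizer ({z} : Set X) := mem_cent.2 hxz
  have hcard : Nat.card ((Th x).subgroupOf (centralizer ({z} : Set X))) ∣ Nat.card (Th x) := by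
    have h1 : Nat.card ((Th x).subgroupOf (centralizer ({z} : Set X))) =
        Nat.card (((Th x).subgroupOf (centralizer ({z} : Set X))).map
          (centralizer ({z} : Set X)).subtype) :=
      (card_map_of_injective (subtype_injective _)).symm
    rw [h1, subgroupOf_map_subtype]
    exact card_dvd_of_le inf_le_left
  have hbot : (Th x).subgroupOf (centralizer ({z} : Set X)) = ⊥ := by
    refine Cfsg.Agent.Classification.LocalCore.eq_bot_of_le_centralizer 2
      (Cfsg.Agent.SignalizersComponents.CharP.centralizer_pCore_le_of_genFitting_eq hz)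
      (zpowers ⟨x, hxC⟩) _ (card_zpowers_inv (Subtype.ext hx)) ?_ ?_ ?_
    · rw [Nat.coprime_two_right]
      exact Odd.of_dvd_nat (Th_odd x) hcard
    · rw [le_centralizer_iff, zpowers_le, mem_centralizer_iff]
      intro d hd
      exact Subtype.ext (Th_comm (mem_of_subgroupOf hd))
    · intro c hc
      have hc' : (c : X) * x = x * c :=
        (congrArg Subtype.val ((mem_centralizer_iff.1 hc) ⟨x, hxC⟩ (mem_zpowers _))).symm
      rw [mem_normalizer_iff]
      intro d
      constructor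
      · intro hd
        exact Th_norm hc' (mem_of_subgroupOf hd)
      · intro hd
        have hci : (c : X)⁻¹ * x = x * (c : X)⁻¹ := by
          calc (c : X)⁻¹ * x = (c : X)⁻¹ * (x * c) * (c : X)⁻¹ := by group
            _ = (c : X)⁻¹ * (c * x) * (c : X)⁻¹ := by rw [hc']
            _ = x * (c : X)⁻¹ := by group
        have h5 : (c : X)⁻¹ * ((c : X) * d * (c : X)⁻¹) * ((c : X)⁻¹)⁻¹ ∈ Th x :=
          Th_norm hci (mem_of_subgroupOf hd)
        have e : (c : X)⁻¹ * ((c : X) * d * (c : X)⁻¹) * ((c : X)⁻¹)⁻¹ = (d : X) := by group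
        rw [e] at h5
        exact h5
  rw [eq_bot_iff]
  intro d hd
  obtain ⟨h1, h2⟩ := mem_inf.1 hd
  have : (⟨d, h2⟩ : centralizer ({z} : Set X)) ∈ (Th x).subgroupOf (centralizer ({z} : Set X)) := by
    rw [mem_subgroupOf]
    exact h1
  rw [hbot, mem_bot] at this
  exact mem_bot.2 (congrArg Subtype.val this)

/-- `z` inverts `O(C(x))` -/
theorem inverted {X : Type*} [Group X] [Finite X] {z x : X}
    (hz : Cfsg.generalizedFittingSubgroup ↥(Subgroup.centralizer ({z} : Set X)) =
      Cfsg.pCore 2 ↥(Subgroup.centralizer ({z} : Set X))) (hz2 : z * z = 1) (hx : x * x = 1)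
    (hxz : x * z = z * x) : ∀ d ∈ Th x, z * d * z⁻¹ = d⁻¹ := by
  intro d hd
  obtain ⟨c, hc, k, hk, hcz, hkz, rfl⟩ :=
    Cfsg.Agent.Lib.KleinGen.exists_centralizer_mul_inverted (Th x) (Th_odd x) z hz2
      (fun h hh => Th_norm hxz.symm hh) hd
  have hc1 : c ∈ Th x ⊓ centralizer ({z} : Set X) :=
    mem_inf.2 ⟨hc, mem_cent.2 hcz.symm⟩
  rw [inf_eq_bot hz hx hxz, mem_bot] at hc1
  rw [hc1, one_mul]
  exact hkz

/-- **Balance** -/
theorem balance {X : Type*} [Group X] [Finite X] {z x y : X}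
    (hz : Cfsg.generalizedFittingSubgroup ↥(Subgroup.centralizer ({z} : Set X)) =
      Cfsg.pCore 2 ↥(Subgroup.centralizer ({z} : Set X))) (hz2 : z * z = 1) (hx : x * x = 1)
    (hy : y * y = 1) (hxz : x * z = z * x) (hyz : y * z = z * y) (hxy : x * y = y * x)
    (hE : layer ↥(centralizer ({y} : Set X)) = ⊥) :
    Th x ⊓ centralizer ({y} : Set X) ≤ Th y := by
  have hzC : z ∈ centralizer ({y} : Set X) := mem_cent.2 hyz.symm
  have hxC : x ∈ centralizer ({y} : Set X) := mem_cent.2 hxy
  have hcard : Nat.card ((Th x).subgroupOf (centralizer ({y} : Set X))) ∣ Nat.card (Th x) := by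
    have h1 : Nat.card ((Th x).subgroupOf (centralizer ({y} : Set X))) =
        Nat.card (((Th x).subgroupOf (centralizer ({y} : Set X))).map
          (centralizer ({y} : Set X)).subtype) :=
      (card_map_of_injective (subtype_injective _)).symm
    rw [h1, subgroupOf_map_subtype]
    exact card_dvd_of_le inf_le_left
  have key : (Th x).subgroupOf (centralizer ({y} : Set X)) ≤
      pPrimeCore 2 ↥(centralizer ({y} : Set X)) := by
    refine Cfsg.Agent.H246.CoreBalance.le_core_of_inverted hE (z := ⟨z, hzC⟩) (x := ⟨x, hxC⟩)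
      ?_ (Subtype.ext hx) ?_ ?_ (Odd.of_dvd_nat (Th_odd x) hcard) ?_
    · intro o ho
      exact Subtype.ext (inverted hz hz2 hy hyz (o : X) ⟨o, ho, rfl⟩)
    · intro d hd
      exact Subtype.ext (Th_comm (mem_of_subgroupOf hd))
    · intro c hc d hd
      exact Th_norm (congrArg Subtype.val hc) (mem_of_subgroupOf hd)
    · intro d hd
      exact Subtype.ext (inverted hz hz2 hx hxz (d : X) (mem_of_subgroupOf hd))
  intro d hd
  obtain ⟨h1, h2⟩ := mem_inf.1 hd
  exact ⟨⟨d, h2⟩, key (mem_subgroupOf.2 h1), rfl⟩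

/-- Let X be a finite group and Y an elementary abelian 2-subgroup of X of order at least 8 such that C_X(x) has no components (E(C_X(x)) = 1) for every nontrivial x ∈ Y, and F*(C_X(z)) = O₂(C_X(z)) for some nontrivial z ∈ Y. Then the subgroup generated by the cores O(C_X(y)), y ∈ Y nontrivial, has odd order and is normalized by N_X(Y). -/
theorem result {X : Type*} [Group X] [Finite X] (Y : Subgroup X) (hY : Cfsg.IsElementaryAbelian 2 Y) (h8 : 8 ≤ Nat.card ↥Y) (hE : ∀ x ∈ Y, x ≠ 1 → Cfsg.layer ↥(Subgroup.centralizer ({x} : Set X)) = ⊥) (hz : ∃ z ∈ Y, z ≠ 1 ∧ Cfsg.generalizedFittingSubgroup ↥(Subgroup.centralizer ({z} : Set X)) = Cfsg.pCore 2 ↥(Subgroup.centralizer ({z} : Set X))) : Odd (Nat.card ↥(⨆ y : {y : X // y ∈ Y ∧ y ≠ 1}, (Cfsg.oddCore ↥(Subgroup.centralizer ({(y : X)} : Set X))).map (Subgroup.centralizer ({(y : X)} : Set X)).subtype)) ∧ Subgroup.normalizer (Y : Set X) ≤ Subgroup.normalizer ((⨆ y : {y : X // y ∈ Y ∧ y ≠ 1}, (Cfsg.oddCore ↥(Subgroup.centralizer ({(y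 : X)} : Set X))).map (Subgroup.centralizer ({(y : X)} : Set X)).subtype : Subgroup X) : Set X) := by
  obtain ⟨hYc, hY2⟩ := hY
  obtain ⟨z, hzY, hz1, hz⟩ := hz
  have hYc' : ∀ a ∈ Y, ∀ b ∈ Y, a * b = b * a := by
    intro a ha b hb
    exact congrArg Subtype.val (hYc.is_comm.comm (⟨a, ha⟩ : Y) ⟨b, hb⟩)
  have hsq : ∀ a ∈ Y, a * a = 1 := by
    intro a ha
    rw [← sq]
    exact hY2 a ha
  constructor
  · have := (Cfsg.Agent.S0217.result (p := 2) Y hYc' hY2 (by simpa using h8) (fun y => Th y)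
      (fun a ha ha1 => by
        intro d hd
        exact mem_cent.2 (Th_comm hd))
      (fun a ha ha1 => CoreConj.core_card 2 a)
      (fun a ha ha1 b hb x hx => Th_norm (hYc' b hb a ha) hx)
      (fun a ha ha1 => by
        have hinv := inverted hz (hsq z hzY) (hsq a ha) (hYc' a ha z hzY)
        have hcomm : ∀ u ∈ Th a, ∀ v ∈ Th a, u * v = v * u := by
          intro u hu v hv
          have e1 := hinv _ ((Th a).mul_mem hu hv)
          have e2 : z * (u * v) * z⁻¹ = u⁻¹ * v⁻¹ := by
            calc z * (u * v) * z⁻¹ = (z * u * z⁻¹) * (z * v * z⁻¹) := by group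
              _ = u⁻¹ * v⁻¹ := by rw [hinv u hu, hinv v hv]
          rw [e2] at e1
          have e3 : (v * u)⁻¹ = (u * v)⁻¹ := by
            rw [mul_inv_rev]
            exact e1
          exact (inv_injective e3).symm
        exact Group.isSolvable_of_comm fun u v => Subtype.ext (hcomm u u.2 v v.2))
      (fun a ha ha1 b hb hb1 => balance hz (hsq z hzY) (hsq a ha) (hsq b hb) (hYc' a ha z hzY)
        (hYc' b hb z hzY) (hYc' a ha b hb) (hE b hb hb1))).1
    rw [← Nat.not_even_iff_odd, even_iff_two_dvd]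
    exact this
  · have hmap : ∀ n ∈ normalizer (Y : Set X), ∀ w ∈ (⨆ y : {y : X // y ∈ Y ∧ y ≠ 1}, Th (y : X)),
        n * w * n⁻¹ ∈ (⨆ y : {y : X // y ∈ Y ∧ y ≠ 1}, Th (y : X)) := by
      intro n hn w hw
      have h1 : (⨆ y : {y : X // y ∈ Y ∧ y ≠ 1}, Th (y : X)) ≤
          (⨆ y : {y : X // y ∈ Y ∧ y ≠ 1}, Th (y : X)).comap (MulAut.conj n).toMonoidHom := by
        refine iSup_le fun y => ?_
        intro d hd
        have h2 : n * (y : X) * n⁻¹ ∈ Y := (mem_normalizer_iff.1 hn _).1 y.2.1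
        have h3 : n * (y : X) * n⁻¹ ≠ 1 := by
          intro h
          apply y.2.2
          have : (y : X) = n⁻¹ * (n * (y : X) * n⁻¹) * n := by group
          rw [this, h]
          group
        rw [mem_comap]
        refine (le_iSup (fun y : {y : X // y ∈ Y ∧ y ≠ 1} => Th (y : X)) ⟨_, h2, h3⟩) ?_
        have h4 := CoreConj.core_conj (G := X) 2 (y : X) n
        show _ ∈ centralizerPPrimeCore 2 (n * (y : X) * n⁻¹)
        rw [h4]
        exact ⟨d, hd, rfl⟩
      exact h1 hw
    intro n hn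
    rw [mem_normalizer_iff]
    intro w
    constructor
    · exact hmap n hn w
    · intro hw
      have := hmap n⁻¹ (inv_mem hn) _ hw
      have e : n⁻¹ * (n * w * n⁻¹) * n⁻¹⁻¹ = w := by group
      rw [e] at this
      exact this

end Cfsg.Agent.S2924
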