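import Cfsg.Statements.S2927
import Cfsg.Agent.S0000
import Cfsg.Agent.H252.LT.Fill.Lists
import Cfsg.Agent.H515.Tall.TwE

set_option autoImplicit false
open Cfsg

universe u

namespace Cfsg.Agent.S2927

/-- `²E₆(3)` -/
theorem both_twE63 (K : Type u) [Group K] [Finite K] [IsSimpleGroup K] (h : ∃ (F : Type) (_ : Field F) (_ : Fintype F),
    Fintype.card F = 9 ∧ Nonempty (K ≃* Lie.twistedE6 F 3)) : H226.Tall.Both K := by
  obtain ⟨F, _, _, hF, ⟨e⟩⟩ := h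
  exact H252.LT.both_of_notCP_equiv (H515.Tall.TwE.notCP_te63 (by rw [hF]; norm_num)) e

/-- Let G be a finite group all of whose 2-local subgroups are K-groups and S a Sylow 2-subgroup of G contained in at least two maximal 2-local subgroups. Let Q ≤ S be a large subgroup in the sense that Q = O₂(N_G(Q)), C_G(Q) ≤ Q, and Q is normal in N_G(A) for every nontrivial subgroup A of Z(Q). Let M be a subgroup containing S with O₂(M) ≠ 1 and C_G(O₂(M)) ≤ O₂(M), write Y = Y_M for the largest 2-reduced normal subgroup of M and M† = M·C_G(Y), and assume: the subgroups L ≥ M with O₂(L) ≠ 1 and C_G(O₂(L)) ≤ O₂(L) are exactly the subgroups L with M ≤ L ≤ M†, O₂(L) ≠ 1 and C_{M†}(O₂(L)) ≤ O₂(L); Y_M = Y_{M†}; and the image of C_M(Y) in M ⧸ O₂(M) lies in the Frattini subgroup. If Y is asymmetric in G (no conjugate Yᵍ has 1 ≠ [Y, Yᵍ] ≤ Y ∩ Yᵍ) and tall (some subgroup K containing a Sylow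 2-subgroup of C_G(Y) has O₂(K) ≠ 1 and Y ≰ O₂(K)), then Y is characteristic 2-tall: some such K even has C_K(O₂(K)) ≤ O₂(K). -/
theorem result {G : Type*} [Group G] [Finite G] (hK : Cfsg.IsKpGroup 2 G) (S : Sylow 2 G) (hmax : ∃ M₁ M₂ : Subgroup G, M₁ ≠ M₂ ∧ Cfsg.IsMaximalTwoLocal M₁ ∧ Cfsg.IsMaximalTwoLocal M₂ ∧ (S : Subgroup G) ≤ M₁ ∧ (S : Subgroup G) ≤ M₂) (Q : Subgroup G) (hQS : Q ≤ (S : Subgroup G)) (hQ1 : ((Cfsg.pCore 2 ↥(Subgroup.normalizer (Q : Set G))).map (Subgroup.normalizer (Q : Set G)).subtype) = Q) (hQ2 : Subgroup.centralizer (Q : Set G) ≤ Q) (hQ3 : ∀ A : Subgroup G, A ≤ Q ⊓ Subgroup.centralizer (Q : Set G) → A ≠ ⊥ → Subgroup.normalizer (A : Set G) ≤ Subgroup.normalizer (Q : Set G)) (M : Subgroup G) (hSM : (S : Subgroup G) ≤ M) (hM : (((Cfsg.pCore 2 ↥M).map M.subtype) ≠ ⊥ ∧ Subgroup.centralizer (((Cfsg.pCore 2 ↥M).map M.subtype) : Set G) ≤ ((Cfsg.pCore 2 ↥M).map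 M.subtype))) (hbasic : ∀ L : Subgroup G, M ≤ L → ((((Cfsg.pCore 2 ↥L).map L.subtype) ≠ ⊥ ∧ Subgroup.centralizer (((Cfsg.pCore 2 ↥L).map L.subtype) : Set G) ≤ ((Cfsg.pCore 2 ↥L).map L.subtype)) ↔ (L ≤ (M ⊔ Subgroup.centralizer ((Cfsg.largestPReducedOf 2 M) : Set G)) ∧ ((Cfsg.pCore 2 ↥L).map L.subtype) ≠ ⊥ ∧ (M ⊔ Subgroup.centralizer ((Cfsg.largestPReducedOf 2 M) : Set G)) ⊓ Subgroup.centralizer (((Cfsg.pCore 2 ↥L).map L.subtype) : Set G) ≤ ((Cfsg.pCore 2 ↥L).map L.subtype)))) (hY : (Cfsg.largestPReducedOf 2 M) = Cfsg.largestPReducedOf 2 (M ⊔ Subgroup.centralizer ((Cfsg.largestPReducedOf 2 M) : Set G))) [hOn : (Cfsg.pCore 2 ↥M).Normal] (hfrat : ((M ⊓ Subgroup.centralizer ((Cfsg.largestPReducedOf 2 M) : Set G)).subgroupOf M).map (QuotientGroup.mk' (Cfsg.pCore 2 ↥M)) ≤ frattini (↥M ⧸ Cfsg.pCore 2 ↥M)) (hasym : ¬ Cfsg.IsSymmetricIn (Cfsg.largestPReducedOf 2 M)) (htall : Cfsg.IsTall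 2 (Cfsg.largestPReducedOf 2 M)) : Cfsg.IsCharPTall 2 (Cfsg.largestPReducedOf 2 M) := by
  by_contra hnot
  exact H17.LT.cx_false (fun L => S0000.result) (H252.LT.famsA both_twE63) (H252.LT.famsB both_twE63)
    (H258.TF.exists_cx hmax hQS hQ1 hQ2 hQ3 hSM hM hbasic hY hfrat hasym htall hnot)

end Cfsg.Agent.S2927
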