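import Cfsg.Statements.S2933
import Cfsg.Agent.H248.FourActEnd

set_option autoImplicit false
open Cfsg

namespace Cfsg.Agent.S2933

open Subgroup Cfsg.Agent.H248.FourAct Cfsg.Agent.TwoFusion.FpfThree Cfsg.Agent.OddCyclic.FpfThree

theorem fpf_V {G : Type*} [Group G] [Finite G] {V : Subgroup G} (hV : Nat.card ↥V = 4) {ρ : G} (hρ : orderOf ρ = 3)
    (hρn : ρ ∈ normalizer (V : Set G)) (hVρ : ⁅V, zpowers ρ⁆ = V) {v : G} (hv : v ∈ V) (hf : ρ * v * ρ⁻¹ = v) :
    v = 1 := by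
  by_contra hv1
  have : Fact (Nat.Prime 3) := ⟨Nat.prime_three⟩
  let c : ↥V →* ↥V := cj hρn
  have hc3 : ∀ x, c (c (c x)) = x := by
    intro x
    apply Subtype.ext
    change ρ * (ρ * (ρ * (x : G) * ρ⁻¹) * ρ⁻¹) * ρ⁻¹ = x
    have h3 : ρ * ρ * ρ = 1 := by
      rw [← pow_two, ← pow_succ, show 2 + 1 = orderOf ρ from hρ.symm]
      exact pow_orderOf_eq_one ρ
    calc ρ * (ρ * (ρ * (x : G) * ρ⁻¹) * ρ⁻¹) * ρ⁻¹ = (ρ * ρ * ρ) * x * (ρ * ρ * ρ)⁻¹ := by group
      _ = x := by rw [h3]; group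
  have h1 := card_fixed (p := 3) (c : ↥V → ↥V) (by funext x; exact hc3 x)
  rw [hV] at h1
  have h2 : Nat.card {x : ↥V // c x = x} ≤ 4 := by
    rw [← hV]
    exact Nat.card_le_card_of_injective _ Subtype.val_injective
  have h3 : 1 < Nat.card {x : ↥V // c x = x} := by
    rw [Finite.one_lt_card_iff_nontrivial]
    exact ⟨⟨1, map_one c⟩, ⟨⟨v, hv⟩, Subtype.ext hf⟩, fun e => hv1
      (congrArg (fun z : {x : ↥V // c x = x} => ((z : ↥V) : G)) e).symm⟩
  have h4 : Nat.card {x : ↥V // c x = x} = 4 := by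
    generalize Nat.card {x : ↥V // c x = x} = m at h1 h2 h3
    interval_cases m
    · exact absurd h1 (by decide)
    · exact absurd h1 (by decide)
    · rfl
  have h5 : ∀ x : ↥V, c x = x := by
    have h6 : Function.Bijective (Subtype.val : {x : ↥V // c x = x} → ↥V) :=
      Subtype.val_injective.bijective_of_nat_card_le (by rw [h4, hV])
    intro x
    obtain ⟨y, rfl⟩ := h6.2 x
    exact y.2
  have h7 : ⁅V, zpowers ρ⁆ = ⊥ := by
    rw [commutator_eq_bot_iff_le_centralizer]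
    intro x hx
    rw [mem_centralizer_iff]
    rintro _ ⟨k, rfl⟩
    have h8 : ρ * x * ρ⁻¹ = x := congrArg Subtype.val (h5 ⟨x, hx⟩)
    rw [mul_inv_eq_iff_eq_mul] at h8
    exact Commute.zpow_left h8 k
  rw [h7] at hVρ
  rw [← hVρ, Subgroup.card_bot] at hV
  omega

/-- Let T be a 2-subgroup of a finite group G, V ≤ Z(T) a four-group, and t, ρ ∈ N_G(V) ∩ N_G(T) elements of order 2 and 3 with t commuting with ρ and with V. If [V, ρ] = V and C_T(t) = V, then T is elementary abelian of order 16, or homocyclic of rank 2 (ℤ/2ⁿ × ℤ/2ⁿ for some n ≥ 1), or isomorphic to a Sylow 2-subgroup of PSL₃(4) or of PSU₃(4). -/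
theorem result {G : Type*} [Group G] [Finite G] (T V : Subgroup G) (hT : IsPGroup 2 ↥T) (hVT : V ≤ T ⊓ Subgroup.centralizer (T : Set G)) (hV : Nat.card ↥V = 4 ∧ ∀ v ∈ V, v ^ 2 = 1) (t ρ : G) (ht : orderOf t = 2) (hρ : orderOf ρ = 3) (htn : t ∈ Subgroup.normalizer (V : Set G) ⊓ Subgroup.normalizer (T : Set G)) (hρn : ρ ∈ Subgroup.normalizer (V : Set G) ⊓ Subgroup.normalizer (T : Set G)) (htρ : t * ρ = ρ * t) (htV : t ∈ Subgroup.centralizer (V : Set G)) (hVρ : ⁅V, Subgroup.zpowers ρ⁆ = V) (hCt : T ⊓ Subgroup.centralizer ({t} : Set G) = V) : (Nat.card ↥T = 16 ∧ ∀ x ∈ T, x ^ 2 = 1) ∨ (∃ n : ℕ, 1 ≤ n ∧ Nonempty (↥T ≃* Multiplicative (ZMod (2 ^ n)) × Multiplicative (ZMod (2 ^ n)))) ∨ (∃ (F : Type) (_ : Field F) (_ : Fintype F), Fintype.card F = 4 ∧ ∀ P : Sylow 2 (Matrix.ProjectiveSpecialLinearGroup (Fin 3) F), Nonempty (↥T ≃* ↥(P : Subgroup (Matrix.ProjectiveSpecialLinearGroup (Fin 3) F)))) ∨ (∃ (F : Type) (_ : Field F) (_ : Fintype F), Fintype.card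 F = 16 ∧ ∀ P : Sylow 2 (Cfsg.PSU 3 F 4), Nonempty (↥T ≃* ↥(P : Subgroup (Cfsg.PSU 3 F 4)))) := by
  have h3 : ρ * ρ * ρ = 1 := by
    rw [← pow_two, ← pow_succ, show 2 + 1 = orderOf ρ from hρ.symm]
    exact pow_orderOf_eq_one ρ
  have h2 : t * t = 1 := by
    rw [← pow_two, ← ht]
    exact pow_orderOf_eq_one t
  let τ : ↥T →* ↥T := cj htn.2
  let α : ↥T →* ↥T := cj hρn.2
  have hτ : ∀ x : ↥T, ((τ x : ↥T) : G) = t * x * t⁻¹ := fun x => rfl
  have hα : ∀ x : ↥T, ((α x : ↥T) : G) = ρ * x * ρ⁻¹ := fun x => rfl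
  have htt : ∀ x, τ (τ x) = x := by
    intro x
    apply Subtype.ext
    rw [hτ, hτ]
    calc t * (t * (x : G) * t⁻¹) * t⁻¹ = (t * t) * x * (t * t)⁻¹ := by group
      _ = x := by rw [h2]; group
  have hcube : ∀ x, α (α (α x)) = x := by
    intro x
    apply Subtype.ext
    rw [hα, hα, hα]
    calc ρ * (ρ * (ρ * (x : G) * ρ⁻¹) * ρ⁻¹) * ρ⁻¹ = (ρ * ρ * ρ) * x * (ρ * ρ * ρ)⁻¹ := by group
      _ = x := by rw [h3]; group
  have hcomm : ∀ x, τ (α x) = α (τ x) := by
    intro x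
    apply Subtype.ext
    rw [hτ, hα, hα, hτ]
    calc t * (ρ * (x : G) * ρ⁻¹) * t⁻¹ = (t * ρ) * x * (t * ρ)⁻¹ := by group
      _ = (ρ * t) * x * (ρ * t)⁻¹ := by rw [htρ]
      _ = _ := by group
  have hfix : ∀ x : ↥T, τ x = x ↔ x ∈ V.subgroupOf T := by
    intro x
    rw [mem_subgroupOf, ← hCt]
    constructor
    · intro h
      have h' : t * (x : G) * t⁻¹ = x := congrArg Subtype.val h
      rw [mul_inv_eq_iff_eq_mul] at h'
      exact ⟨x.2, mem_centralizer_singleton_iff.2 h'.symm⟩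
    · intro h
      have h' := mem_centralizer_singleton_iff.1 h.2
      apply Subtype.ext
      rw [hτ, mul_inv_eq_iff_eq_mul]
      exact h'.symm
  have hfpf : ∀ x, α x = x → x = 1 := by
    -- the fixed points of `α`
    let C : Subgroup ↥T :=
      { carrier := {x | α x = x}
        one_mem' := map_one α
        mul_mem' := by
          intro a b ha hb
          change α (a * b) = a * b
          rw [map_mul, show α a = a from ha, show α b = b from hb]
        inv_mem' := by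
          intro a ha
          change α a⁻¹ = a⁻¹
          rw [map_inv, show α a = a from ha] }
    intro x hx
    by_contra hx1
    have hCτ : ∀ y ∈ C, τ y ∈ C := by
      intro y hy
      change α (τ y) = τ y
      rw [← hcomm, show α y = y from hy]
    obtain ⟨y, hy1, hy⟩ := exists_fixed (Q := ↥C) (hT.to_subgroup C) ⟨⟨x, hx⟩, fun e => hx1 (congrArg Subtype.val e)⟩
      (fun y => ⟨τ y, hCτ y y.2⟩) (Subtype.ext (map_one τ)) (fun y => Subtype.ext (htt y))
    have hyV : (y : ↥T) ∈ V.subgroupOf T := (hfix _).1 (congrArg Subtype.val hy)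
    have h5 : ρ * ((y : ↥T) : G) * ρ⁻¹ = (y : ↥T) := congrArg Subtype.val y.2
    have h6 := fpf_V hV.1 hρ hρn.1 hVρ hyV h5
    exact hy1 (Subtype.ext (Subtype.ext h6))
  have hyp : Hyp τ α (V.subgroupOf T) :=
    { tt := htt
      fpf := ⟨hcube, hfpf⟩
      comm := hcomm
      card := by
        rw [← hV.1]
        exact Nat.card_congr (Subgroup.subgroupOfEquivOfLe (hVT.trans inf_le_left)).toEquiv
      sq := by
        intro v hv
        apply Subtype.ext
        have := hV.2 v hv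
        rw [pow_two] at this
        exact this
      cen := by
        intro v hv x
        apply Subtype.ext
        exact ((mem_centralizer_iff.1 (hVT hv).2) x x.2).symm
      fix := hfix }
  rcases main hyp hT with h | h | h | h
  · left
    refine ⟨h.1, fun x hx => ?_⟩
    rw [pow_two]
    exact congrArg Subtype.val (h.2 ⟨x, hx⟩)
  · exact Or.inr (Or.inl h)
  · exact Or.inr (Or.inr (Or.inl ⟨Cfsg.Agent.Lib.FieldFour.F4, inferInstance, inferInstance,
      Cfsg.Agent.Lib.FieldFour.F4.card, h⟩))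
  · right; right; right
    have : Fact (Nat.Prime 2) := ⟨Nat.prime_two⟩
    let i2 : Fintype (GaloisField 2 4) := Fintype.ofFinite _
    have hc : Fintype.card (GaloisField 2 4) = 16 := by
      rw [← Nat.card_eq_fintype_card, GaloisField.card 2 4 (by norm_num)]
      norm_num
    exact ⟨GaloisField 2 4, inferInstance, i2, hc, h (GaloisField 2 4) hc⟩

end Cfsg.Agent.S2933
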