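import Cfsg.Statements.S2938
import Cfsg.Agent.H261.Final
import Cfsg.Agent.S0000

set_option autoImplicit false
open Cfsg

namespace Cfsg.Agent.S2938

/-- Let G be a finite group with O_{3'}(G) = 1, S a Sylow 3-subgroup, Z ≤ S a subgroup of order 3 and M = C_G(Z). Suppose Q = F*(M) is extraspecial of order 3⁵, M ⧸ Q has a normal subgroup isomorphic to Q₈ × Q₈, and Z is not weakly closed in S (some conjugate of Z other than Z lies in S). Then F*(G) is isomorphic to F₄(2) or to PSU₆(2). -/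
theorem result {G : Type*} [Group G] [Finite G] (hO : Cfsg.pPrimeCore 3 G = ⊥) (S : Sylow 3 G) (Z : Subgroup G) (hZS : Z ≤ (S : Subgroup G)) (hZ : Nat.card ↥Z = 3) (hQ : Cfsg.IsExtraspecial 3 ↥(Cfsg.generalizedFittingSubgroup ↥(Subgroup.centralizer (Z : Set G)))) (hQcard : Nat.card ↥(Cfsg.generalizedFittingSubgroup ↥(Subgroup.centralizer (Z : Set G))) = 3 ^ 5) [hQn : (Cfsg.generalizedFittingSubgroup ↥(Subgroup.centralizer (Z : Set G))).Normal] (hN : ∃ N : Subgroup (↥(Subgroup.centralizer (Z : Set G)) ⧸ Cfsg.generalizedFittingSubgroup ↥(Subgroup.centralizer (Z : Set G))), N.Normal ∧ Nonempty (↥N ≃* QuaternionGroup 2 × QuaternionGroup 2)) (hwc : ∃ g : G, (Z.map (MulAut.conj g).toMonoidHom) ≤ (S : Subgroup G) ∧ Z.map (MulAut.conj g).toMonoidHom ≠ Z) : (∃ (F : Type) (_ : Field F) (_ : Fintype F), Fintype.card F = 2 ∧ Nonempty (↥(Cfsg.generalizedFittingSubgroup G) ≃* ↥(Cfsg.Lie.chevF4.group F))) ∨ (∃ (F : Type) (_ : Field F) (_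 : Fintype F), Fintype.card F = 2 ^ 2 ∧ Nonempty (↥(Cfsg.generalizedFittingSubgroup G) ≃* Cfsg.PSU 6 F 2)) := by
  obtain ⟨z, a1, b1, a2, b2, P1, P2, d⟩ := H261.dec_of hZ hQ hQcard ⟨hQn, hN⟩
  have hr := d.reduce (d.exists_Y_of_sylow S hZS hwc)
  have := hr.simple
  exact hr.final (S0000.result (G := ↥(Cfsg.generalizedFittingSubgroup G)))

end Cfsg.Agent.S2938
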