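import Cfsg.Statements.S2974
import Cfsg.Agent.S1938
import Cfsg.Agent.H256.ZBasic

set_option autoImplicit false
open Cfsg

namespace Cfsg.Agent.S2974

/-- Let G be a finite group, p a prime and x ∈ G an isolated element of order p (the only conjugate of x commuting with x is x) which is not central modulo the largest normal subgroup of order prime to p, while x is central modulo the largest normal subgroup of order prime to p in every proper subgroup containing x, and the image of x is so in every quotient of G by a nontrivial normal subgroup (a minimal counterexample to the Z*_p statement). Then the symmetric group of degree 4 is involved in G (G is not S₄-free); no Sylow 2-subgroup of G has a nontrivial abelian subgroup that is strongly closed in it with respect to G; and no Sylow 2-subgroup of G is isomorphic to a Sylow 2-subgroup of the special linear group SL₃ over a field with 2ⁿ elements, n ≥ 2. -/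
theorem result {G : Type*} [Group G] [Finite G] {p : ℕ} [Fact p.Prime] (x : G) (hx : orderOf x = p) (hiso : Cfsg.IsIsolated x) (hnz : ¬ Cfsg.InZStar p x) (hmin : ∀ (H : Subgroup G) (hxH : x ∈ H), H ≠ ⊤ → Cfsg.InZStar p (⟨x, hxH⟩ : ↥H)) (hquot : ∀ (N : Subgroup G) [N.Normal], N ≠ ⊥ → Cfsg.InZStar p (QuotientGroup.mk x : G ⧸ N)) : Cfsg.Involves (Equiv.Perm (Fin 4)) G ∧ (∀ (S : Sylow 2 G) (A : Subgroup G), A ≤ (S : Subgroup G) → IsMulCommutative ↥A → Cfsg.IsStronglyClosed A (S : Subgroup G) → A = ⊥) ∧ (∀ (S : Sylow 2 G) (n : ℕ) (F : Type) [Field F] [Fintype F], 2 ≤ n → Fintype.card F = 2 ^ n → ∀ T : Sylow 2 (Matrix.SpecialLinearGroup (Fin 3) F), ¬ Nonempty (↥(S : Subgroup G) ≃* ↥(T : Subgroup (Matrix.SpecialLinearGroup (Fin 3) F)))) := by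
  exfalso
  apply hnz
  have hp : IsPGroup p (Subgroup.zpowers x) := by
    apply IsPGroup.of_card (n := 1)
    rw [Nat.card_zpowers, hx, pow_one]
  obtain ⟨P, hP⟩ := hp.exists_le_sylow
  have hxP : x ∈ (P : Subgroup G) := hP (Subgroup.mem_zpowers x)
  exact Cfsg.Agent.S1938.result P x hxP fun g hg =>
    Cfsg.Agent.H256.ZBasic.eq_of_mem hiso P.isPGroup' hxP hg

end Cfsg.Agent.S2974
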