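import Cfsg.Statements.S2976
import Cfsg.Agent.ThreePrime.Main
import Cfsg.Agent.OddRank.SzTits
import Cfsg.Agent.H257.CompThree
import Cfsg.Agent.S0102

set_option autoImplicit false
open Cfsg

namespace Cfsg.Agent.S2976

open Cfsg.Agent.SignalizersComponents.Components Cfsg.Agent.SignalizersComponents.CompBasic

/-- Let G be a finite group, K a component of G whose order is not divisible by 3, and y ∈ G an element of order 3 whose centralizer C_G(y) is solvable. Then K ⧸ Z(K) is isomorphic to the Suzuki group over the field with 8 elements and y normalizes K. If moreover O₂(G) = 1, then K is simple. -/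
theorem result {G : Type*} [Group G] [Finite G] (K : Subgroup G) (hK : Cfsg.IsComponent K) (h3 : ¬ 3 ∣ Nat.card ↥K) (y : G) (hy : orderOf y = 3) (hsol : Group.IsSolvable ↥(Subgroup.centralizer ({y} : Set G))) : (∃ (F : Type) (_ : Field F) (_ : Fintype F), Fintype.card F = 8 ∧ Nonempty (↥K ⧸ Subgroup.center ↥K ≃* ↥(Cfsg.Lie.Sz F 4))) ∧ y ∈ Subgroup.normalizer (K : Set G) ∧ (Cfsg.pCore 2 G = ⊥ → IsSimpleGroup ↥K) := by
  have hyc : y ^ 3 = 1 := by rw [← hy, pow_orderOf_eq_one]
  have hsimple : IsSimpleGroup (↥K ⧸ Subgroup.center ↥K) := hK.2.2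
  have hna : ¬ IsMulCommutative (↥K ⧸ Subgroup.center ↥K) := by
    have := hK.2.1
    have hperf : Group.IsPerfect (↥K ⧸ Subgroup.center ↥K) := inferInstance
    intro hab
    exact Group.IsPerfect.not_isMulCommutative _ hab
  have hq3 : ¬ 3 ∣ Nat.card (↥K ⧸ Subgroup.center ↥K) := fun h =>
    h3 (h.trans (Subgroup.card_quotient_dvd_card _))
  have hSz : Cfsg.Lie.IsoSuzuki (↥K ⧸ Subgroup.center ↥K) :=
    Cfsg.Agent.ThreePrime.Main.isoSuzuki' hna hq3
  have hodd : ∀ (p : ℕ) [Fact p.Prime], p ≠ 2 → ∀ Q : Sylow p (↥K ⧸ Subgroup.center ↥K), IsCyclic Q :=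
    fun p _ hp Q => Cfsg.Agent.OddRank.SzTits.isCyclic_of_isPGroup hSz hp Q Q.isPGroup'
  refine ⟨?_, Cfsg.Agent.H257.CompThree.mem_normalizer hK hyc hsol, ?_⟩
  · obtain ⟨ψ, hψ3, hψ1, C, hCs, hC⟩ := Cfsg.Agent.H257.CompThree.exists_aut hK h3 hyc hsol
    obtain ⟨F, iF, iF', m, hm, hF, ⟨e⟩⟩ := hSz
    let R : Cfsg.Agent.ThreePrime.SzRel.Rel (↥K ⧸ Subgroup.center ↥K) F :=
      (Cfsg.Agent.ThreePrime.SzRel.ofGood (Cfsg.Agent.LieRecognition.SzMatrix.good hF)).map e.symm
    have h8 := Cfsg.Agent.H257.SzThree.main hm hF R hq3 hodd ψ hψ3 hψ1 C hC hCs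
    have hm1 : m = 1 := by
      rw [h8] at hF
      have h1 : (2 : ℕ) ^ 3 = 2 ^ (2 * m + 1) := hF
      have := Nat.pow_right_injective le_rfl h1
      omega
    subst hm1
    exact ⟨F, iF, iF', h8, ⟨e⟩⟩
  · intro hO
    -- the centre is a 2-group
    have hZ : IsPGroup 2 (Subgroup.center ↥K) := by
      have h1 : ∀ {d : ℕ}, d.Prime → d ∣ Nat.card (Subgroup.center ↥K) → d = 2 := by
        intro p hp hpd
        by_contra hp2
        have : Fact p.Prime := ⟨hp⟩
        have hperf := hK.2.1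
        have hperf' : Group.IsPerfect (↥K ⧸ Subgroup.center ↥K) := inferInstance
        refine Cfsg.Agent.S0102.result hperf'.commutator_eq_top (hodd p hp2)
          (QuotientGroup.mk' (Subgroup.center ↥K)) (QuotientGroup.mk'_surjective _)
          (by rw [QuotientGroup.ker_mk']) hperf.commutator_eq_top ?_
        rw [QuotientGroup.ker_mk']
        exact hpd
      exact IsPGroup.of_card (Nat.eq_prime_pow_of_unique_prime_dvd Nat.card_pos.ne' h1)
    have hZb : Subgroup.center ↥K = ⊥ := by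
      have hsub : ((Subgroup.center ↥K).map K.subtype).IsSubnormal :=
        ((inferInstance : (Subgroup.center ↥K).Normal).isSubnormal).trans' hK.1
      have hle : (Subgroup.center ↥K).map K.subtype ≤ pCore 2 G :=
        subnormal_pGroup_le_pCore hsub (hZ.map _)
      rw [hO, le_bot_iff, Subgroup.map_eq_bot_iff_of_injective _ K.subtype_injective] at hle
      exact hle
    have hnt : Nontrivial K := quasisimple_nontrivial hK.2
    let e : (↥K ⧸ Subgroup.center ↥K) ≃* ↥K :=
      (QuotientGroup.quotientMulEquivOfEq hZb).trans QuotientGroup.quotientBot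
    exact IsSimpleGroup.isSimpleGroup_of_surjective e.toMonoidHom e.surjective

end Cfsg.Agent.S2976
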