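import Cfsg.Statements.S2997
import Cfsg.Agent.S1938
import Cfsg.Agent.EvenType.StrongP

set_option autoImplicit false
open Cfsg

namespace Cfsg.Agent.S2997

open Subgroup

/-- Let G be a finite group, P a Sylow 3-subgroup of G and x ∈ P an element which is 3-locally central with respect to P: N_G(R) ≤ C_G(x) for every nontrivial subgroup R of P (equivalently, x lies in the centre of N_G(R) for all such R). Then x is central modulo the largest normal subgroup of G of order prime to 3. -/
theorem result {G : Type*} [Group G] [Finite G] (P : Sylow 3 G) (x : G) (hxP : x ∈ (P : Subgroup G)) (hlc : ∀ R : Subgroup G, R ≤ (P : Subgroup G) → R ≠ ⊥ → Subgroup.normalizer (R : Set G) ≤ Subgroup.centralizer ({x} : Set G)) : Cfsg.InZStar 3 x := by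
  have : Fact (Nat.Prime 3) := ⟨Nat.prime_three⟩
  refine S1938.result P x hxP fun g hg => ?_
  by_contra hne
  have hgC : g ∉ centralizer ({x} : Set G) := by
    intro h
    apply hne
    rw [mem_centralizer_singleton_iff] at h
    rw [h, mul_inv_cancel_right]
  have hx1 : x ≠ 1 := by
    rintro rfl
    apply hne
    group
  have hx3 : 3 ∣ orderOf x := by
    obtain ⟨k, hk⟩ := P.isPGroup' ⟨x, hxP⟩
    have hk' : x ^ 3 ^ k = 1 := congrArg Subtype.val hk
    obtain ⟨j, -, hj⟩ := (Nat.dvd_prime_pow Nat.prime_three).1 (orderOf_dvd_of_pow_eq_one hk')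
    rcases Nat.eq_zero_or_pos j with rfl | hj0
    · rw [pow_zero, orderOf_eq_one_iff] at hj
      exact absurd hj hx1
    · rw [hj]; exact dvd_pow_self 3 hj0.ne'
  have hSE : Cfsg.IsStronglyPEmbedded 3 (centralizer ({x} : Set G)) := by
    refine ⟨hx3.trans (orderOf_dvd_natCard x), fun h => hgC (by rw [h]; exact mem_top g), P, ?_⟩
    refine iSup_le fun Q => ?_
    refine hlc Q Q.2.1 fun hQ => Q.2.2 ?_
    rw [hQ]
    intro E _ _
    have h1 : Nat.card E ∣ Nat.card (⊥ : Subgroup G) := card_subgroup_dvd_card _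
    rw [Subgroup.card_bot] at h1
    rw [Nat.dvd_one.1 h1]
    norm_num
  apply EvenType.StrongP.inter hSE hgC
  have h1 : g * x * g⁻¹ ∈ centralizer ({x} : Set G) ⊓ (centralizer ({x} : Set G)).map (MulAut.conj g).toMonoidHom := by
    refine mem_inf.2 ⟨?_, x, mem_centralizer_singleton_iff.2 rfl, rfl⟩
    refine hlc P le_rfl (fun h => hx1 ?_) (le_normalizer hg)
    rw [h, mem_bot] at hxP
    exact hxP
  refine (hx3.trans ?_).trans (orderOf_dvd_natCard (⟨_, h1⟩ : (centralizer ({x} : Set G) ⊓ (centralizer ({x} : Set G)).map (MulAut.conj g).toMonoidHom : Subgroup G)))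
  rw [Subgroup.orderOf_mk]
  have := (MulAut.conj g).orderOf_eq x
  rw [MulAut.conj_apply] at this
  rw [this]

end Cfsg.Agent.S2997
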