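import Cfsg.Statements.S3002
import Cfsg.Agent.H254.FxFourOdd
import Cfsg.Agent.H254.FxFourEv

set_option autoImplicit false
open Cfsg

namespace Cfsg.Agent.S3002

/-- Let G be a non-abelian finite simple group acting faithfully and transitively on a finite set Ω with fixity 4: every non-identity element fixes at most four points and some non-identity element fixes exactly four. Then G is isomorphic to one of: PSL₂(q) for q = 8 or an odd prime power q ≥ 7; the alternating group A₇; PSU₃(3); PSU₄(3); PSp₄(q) for q ≥ 3; PΩ⁻₈(q); ³D₄(q); a Suzuki group Sz(q), q = 2^(2n+1) ≥ 8; a Ree group ²G₂(q), q = 3^(2n+1) ≥ 27; or one of the Mathieu groups M₁₁, M₁₂, M₂₂ or the Janko group J₁. -/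
theorem result {G : Type*} [Group G] [Finite G] [IsSimpleGroup G] (hG : ¬ IsMulCommutative G) {Ω : Type*} [Fintype Ω] [MulAction G Ω] [FaithfulSMul G Ω] (htr : MulAction.IsPretransitive G Ω) (hfix : ∀ g : G, g ≠ 1 → Nat.card (MulAction.fixedBy Ω g) ≤ 4) (h4 : ∃ g : G, g ≠ 1 ∧ Nat.card (MulAction.fixedBy Ω g) = 4) : (∃ (F : Type) (_ : Field F) (_ : Fintype F), (Fintype.card F = 8 ∨ (7 ≤ Fintype.card F ∧ Odd (Fintype.card F))) ∧ Nonempty (G ≃* Matrix.ProjectiveSpecialLinearGroup (Fin 2) F)) ∨ Nonempty (G ≃* ↥(alternatingGroup (Fin 7))) ∨ (∃ (F : Type) (_ : Field F) (_ : Fintype F), Fintype.card F = 9 ∧ (Nonempty (G ≃* Cfsg.PSU 3 F 3) ∨ Nonempty (G ≃* Cfsg.PSU 4 F 3))) ∨ (∃ (F : Type) (_ : Field F) (_ : Fintype F), 3 ≤ Fintype.card F ∧ Nonempty (G ≃* Cfsg.PSp 2 F)) ∨ (∃ (F : Type) (_ : Field F) (_ : Fintype F) (a b : F), (∀ z₁ z₂ : F, z₁ ^ 2 + a * z₁ * z₂ + b * z₂ ^ 2 = 0 → z₁ = 0 ∧ z₂ = 0)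 ∧ Nonempty (G ≃* Cfsg.POmega F (Cfsg.quadFormMinus 3 F a b))) ∨ Cfsg.Lie.Iso3D4 G ∨ Cfsg.Lie.IsoSuzuki G ∨ Cfsg.Lie.IsoRee G ∨ Cfsg.Spor.IsoM11 G ∨ Cfsg.Spor.IsoM12 G ∨ Cfsg.Spor.IsoM22 G ∨ Cfsg.Spor.IsoJ1 G := by
  obtain ⟨g₀, hg₀, hg₀4⟩ := h4
  have hne : (MulAction.fixedBy Ω g₀).Nonempty := by
    rw [← Set.ncard_pos, ← Nat.card_coe_set_eq, hg₀4]
    norm_num
  obtain ⟨a, -⟩ := hne
  obtain ⟨H, hH⟩ : ∃ H : Subgroup G, H = MulAction.stabilizer G a := ⟨_, rfl⟩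
  have hn : ∀ g : G, (MulAction.fixedBy (G ⧸ H) g).ncard = Nat.card (MulAction.fixedBy Ω g) := by
    intro g
    rw [hH, H254.Ev.ncard_fixedBy_quot htr, Nat.card_coe_set_eq]
  have hF : H254.Ev.FixLE 4 H := fun g hg => (hn g).trans_le (hfix g hg)
  have hex : ∃ g : G, g ≠ 1 ∧ (MulAction.fixedBy (G ⧸ H) g).ncard = 4 :=
    ⟨g₀, hg₀, (hn g₀).trans hg₀4⟩
  have key : H254.Ev.Four G := by
    by_cases h2 : 2 ∣ Nat.card H
    · exact H254.Ev.even_four hG hF h2 hex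
    · have hodd : ∀ b : Ω, Odd (Nat.card (MulAction.stabilizer G b)) := by
        intro b
        obtain ⟨x, hx⟩ := htr.exists_smul_eq a b
        rw [← hx, MulAction.stabilizer_smul_eq_stabilizer_map_conj,
          H254.Fx.card_map_eq (MulAut.conj x), ← hH, ← Nat.not_even_iff_odd]
        exact fun h => h2 h.two_dvd
      refine H254.Ev.odd_four hG
        (H254.Fx.oddTI (k := 4) hG htr (Or.inr rfl) ?_ hodd hg₀ ?_)
      · intro g hg
        rw [← Nat.card_coe_set_eq]; exact hfix g hg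
      · rw [← Nat.card_coe_set_eq]; exact hg₀4
  exact key

end Cfsg.Agent.S3002
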