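import Cfsg.Statements.S3029
import Cfsg.Agent.H269.StrongMinimal
import Cfsg.Agent.S1252

set_option autoImplicit false
open Cfsg

namespace Cfsg.Agent.S3029

/-- Let G be a finite group and S₀ a nontrivial 2-subgroup of G that is strongly closed (in some Sylow 2-subgroup containing it, with respect to G) and minimal with this property: no nontrivial proper subgroup of S₀ is strongly closed. Then either S₀ is elementary abelian, or S₀ is a Sylow 2-subgroup of its normal closure in G. -/
theorem result {G : Type*} [Group G] [Finite G] (S₀ : Subgroup G) (h2 : IsPGroup 2 S₀) (hne : S₀ ≠ ⊥)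
    (hsc : ∃ P : Sylow 2 G, Cfsg.IsStronglyClosed S₀ (P : Subgroup G))
    (hmin : ∀ S₁ : Subgroup G, S₁ ≤ S₀ → S₁ ≠ ⊥ → (∃ P : Sylow 2 G, Cfsg.IsStronglyClosed S₁ (P : Subgroup G)) → S₁ = S₀) :
    Cfsg.IsElementaryAbelian 2 S₀ ∨ ¬ 2 ∣ S₀.relIndex (Subgroup.normalClosure (S₀ : Set G)) := by
  obtain ⟨P, hP⟩ := hsc
  exact H269.elementary_or_sylow (fun X _ _ S A h1 h2 h3 => Cfsg.Agent.S1252.result S A h1 h2 h3) S₀ hne P hP hmin

end Cfsg.Agent.S3029
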