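import Cfsg.Statements.S3030
import Cfsg.Agent.H269.StrongSylowMain
import Cfsg.Agent.ThreePrime.Main
import Cfsg.Agent.S1252

set_option autoImplicit false
universe u
open Cfsg

namespace Cfsg.Agent.S3030

/-- Let G be a finite group none of whose composition factors is isomorphic to a unitary group PSU₃(2ⁿ) or a Suzuki group Sz(2ⁿ) with n ≥ 2. Then a 2-subgroup R of G is a Sylow 2-subgroup of some normal subgroup of G if and only if R is strongly closed in some Sylow 2-subgroup of G containing it, with respect to G. -/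
theorem result {G : Type u} [Group G] [Finite G]
    (hcf : ∀ (H : Subgroup G), H.IsSubnormal → ∀ (N : Subgroup ↥H) [N.Normal], IsSimpleGroup (↥H ⧸ N) →
      (¬ ∃ (F : Type) (_ : Field F) (_ : Fintype F) (n : ℕ), 2 ≤ n ∧ Fintype.card F = 4 ^ n ∧
          Nonempty (↥H ⧸ N ≃* Cfsg.PSU 3 F (2 ^ n))) ∧ ¬ Cfsg.Lie.IsoSuzuki (↥H ⧸ N))
    (R : Subgroup G) (hR : IsPGroup 2 R) :
    (∃ N : Subgroup G, N.Normal ∧ R ≤ N ∧ ¬ 2 ∣ R.relIndex N) ↔ ∃ P : Sylow 2 G, Cfsg.IsStronglyClosed R (P : Subgroup G) := by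
  constructor
  · rintro ⟨N, hN, hRN, hi⟩
    exact H269.stronglyClosed_of_sylow_normal R N hN hRN hi hR
  · rintro ⟨P, hP⟩
    refine H269.exists_normal_of_stronglyClosed (fun X _ _ S A h1 h2 h3 => Cfsg.Agent.S1252.result S A h1 h2 h3)
      ?_ R P hP
    intro H hH N _ hs
    refine ⟨(hcf H hH N hs).1, fun hsz => (hcf H hH N hs).2 ?_⟩
    exact Cfsg.Agent.ThreePrime.Main.isoSuzuki (H269.nonab_of_four_dvd hs (H269.four_dvd_suzuki hsz))
      (H269.not_three_dvd_suzuki hsz)

end Cfsg.Agent.S3030
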