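import Cfsg.Statements.S3038
import Cfsg.Agent.H271.RankTwoFin
import Cfsg.Agent.S3049
import Cfsg.Agent.OddOrderLocal.RankOneCyclic

set_option autoImplicit false
open Cfsg

namespace Cfsg.Agent.S3038

open Cfsg.Agent.H271.Isolated
open scoped commutatorElement

theorem isIsolated_conj {G : Type*} [Group G] {x : G} (h : IsIsolated x) (g : G) : IsIsolated (g * x * g⁻¹) := by
  intro a ha
  have h1 : Commute x ((g⁻¹ * a * g) * x * (g⁻¹ * a * g)⁻¹) := by
    have h2 := ha
    unfold Commute SemiconjBy at h2 ⊢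
    have h3 := congrArg (fun w => g⁻¹ * w * g) h2
    calc x * ((g⁻¹ * a * g) * x * (g⁻¹ * a * g)⁻¹) = g⁻¹ * (g * x * g⁻¹ * (a * (g * x * g⁻¹) * a⁻¹)) * g := by group
      _ = g⁻¹ * (a * (g * x * g⁻¹) * a⁻¹ * (g * x * g⁻¹)) * g := by rw [h2]
      _ = _ := by group
  have h2 := h _ h1
  calc a * (g * x * g⁻¹) * a⁻¹ = g * ((g⁻¹ * a * g) * x * (g⁻¹ * a * g)⁻¹) * g⁻¹ := by group
    _ = g * x * g⁻¹ := by rw [h2]

/-- a Sylow subgroup of a subgroup -/
theorem mem_of_mem {G : Type*} [Group G] [Finite G] {p : ℕ} [Fact p.Prime] {F : Subgroup G} (P : Sylow p F) (T : Sylow p G)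
    (hPT : (P : Subgroup F).map F.subtype ≤ T) {u : F} (hu : (u : G) ∈ T) : u ∈ P := by
  have h1 : IsPGroup p ((T : Subgroup G).subgroupOf F) :=
    T.isPGroup'.comap_of_injective F.subtype F.subtype_injective
  have h2 : (P : Subgroup F) ≤ (T : Subgroup G).subgroupOf F := by
    intro v hv
    exact hPT ⟨v, hv, rfl⟩
  have h3 := P.is_maximal' h1 h2
  show u ∈ (P : Subgroup F)
  rw [← h3]
  exact hu

theorem rank_one {G : Type*} [Group G] [Finite G] {p : ℕ} [hpp : Fact p.Prime] (hrank : Cfsg.PRankLE p 2 G) {F : Subgroup G}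
    (P : Subgroup F) (x : G) (hx : orderOf x = p) (hxP : x ∉ P.map F.subtype)
    (hc : ∀ u ∈ P.map F.subtype, x * u = u * x) : PRankLE p 1 P := by
  intro E hE hEp
  set E' : Subgroup G := (E.map P.subtype).map F.subtype with hE'
  have hcard : Nat.card E' = Nat.card E := by
    rw [hE', Subgroup.card_map_of_injective F.subtype_injective, Subgroup.card_map_of_injective P.subtype_injective]
  have hE'P : E' ≤ P.map F.subtype := Subgroup.map_mono (Subgroup.map_subtype_le _)
  have hxE : x ∉ E' := fun h => hxP (hE'P h)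
  have hxp : x ^ p = 1 := by rw [← hx]; exact pow_orderOf_eq_one x
  have hS := closure_elem (G := G) (p := p) ((E' : Set G) ∪ {x}) (by
      intro a ha b hb
      rcases ha with ha | ha <;> rcases hb with hb | hb
      · obtain ⟨_, ⟨a, ha, rfl⟩, rfl⟩ := ha
        obtain ⟨_, ⟨b, hb, rfl⟩, rfl⟩ := hb
        have := hE.is_comm.comm ⟨a, ha⟩ ⟨b, hb⟩
        have h2 : a * b = b * a := congrArg Subtype.val this
        exact congrArg (fun w : P => ((w : F) : G)) h2
      · rw [Set.mem_singleton_iff.mp hb]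
        exact (hc a (hE'P ha)).symm
      · rw [Set.mem_singleton_iff.mp ha]
        exact hc b (hE'P hb)
      · rw [Set.mem_singleton_iff.mp ha, Set.mem_singleton_iff.mp hb]) (by
      intro a ha
      rcases ha with ha | ha
      · obtain ⟨_, ⟨a, ha, rfl⟩, rfl⟩ := ha
        exact congrArg (fun w : P => ((w : F) : G)) (hEp a ha)
      · rw [Set.mem_singleton_iff.mp ha]; exact hxp)
  have h3 := hrank _ hS.1 hS.2
  have h1 := card_mul_le (H := E') (K := Subgroup.zpowers x)
  rw [zpowers_inf_eq_bot hxp hxE, Subgroup.card_bot, mul_one, Nat.card_zpowers, hx, hcard] at h1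
  have h4 : E' ⊔ Subgroup.zpowers x ≤ Subgroup.closure ((E' : Set G) ∪ {x}) := by
    refine sup_le ?_ ?_
    · intro a ha; exact Subgroup.subset_closure (Or.inl ha)
    · rw [Subgroup.zpowers_le]; exact Subgroup.subset_closure (Or.inr rfl)
  have h5 := Subgroup.card_le_of_le h4
  have h6 : Nat.card E * p ≤ p ^ 1 * p := by
    calc Nat.card E * p ≤ _ := h1
      _ ≤ _ := h5
      _ ≤ _ := h3
      _ = p ^ 1 * p := by ring
  exact Nat.le_of_mul_le_mul_right h6 hpp.out.pos

/-- Let G be a finite group and p an odd prime with O_{p'}(G) = 1. Suppose that G has p-rank at most 2 and that some element x of order p is isolated in G and not central. Then F*(G) is a non-abelian simple group, and for every Sylow p-subgroup P of F*(G), either no conjugate of x lies in P and P is cyclic, or some conjugate of x lies in P and either P is extraspecial of order p³ and exponent p, or p = 3 and P has order 3^{2k+1} for some k ≥ 2 and is of maximal class (nilpotency class 2k). Since O_{p'}(G) = 1, such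 an x is not central modulo O_{p'}(G): the hypotheses describe a counterexample to the Z*_p statement in p-rank at most 2, and the conclusion records the structure it would have. -/
theorem result {G : Type*} [Group G] [Finite G] {p : ℕ} [Fact p.Prime] (hp : p ≠ 2) (hcore : Cfsg.pPrimeCore p G = ⊥)
    (hrank : Cfsg.PRankLE p 2 G) (x : G) (hx : orderOf x = p) (hiso : Cfsg.IsIsolated x) (hnc : x ∉ Subgroup.center G) :
    IsSimpleGroup ↥(Cfsg.generalizedFittingSubgroup G) ∧ ¬ IsMulCommutative ↥(Cfsg.generalizedFittingSubgroup G) ∧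
    ∀ P : Sylow p ↥(Cfsg.generalizedFittingSubgroup G),
      ((∀ g : G, g * x * g⁻¹ ∉ ((P : Subgroup ↥(Cfsg.generalizedFittingSubgroup G)).map (Cfsg.generalizedFittingSubgroup G).subtype)) ∧
          IsCyclic ↥(P : Subgroup ↥(Cfsg.generalizedFittingSubgroup G))) ∨
      ((∃ g : G, g * x * g⁻¹ ∈ ((P : Subgroup ↥(Cfsg.generalizedFittingSubgroup G)).map (Cfsg.generalizedFittingSubgroup G).subtype)) ∧
        ((Cfsg.IsExtraspecial p ↥(P : Subgroup ↥(Cfsg.generalizedFittingSubgroup G)) ∧
            Nat.card (P : Subgroup ↥(Cfsg.generalizedFittingSubgroup G)) = p ^ 3 ∧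
            ∀ y ∈ (P : Subgroup ↥(Cfsg.generalizedFittingSubgroup G)), y ^ p = 1) ∨
         (p = 3 ∧ ∃ k : ℕ, 2 ≤ k ∧ Nat.card (P : Subgroup ↥(Cfsg.generalizedFittingSubgroup G)) = 3 ^ (2 * k + 1) ∧
            ∃ _ : Group.IsNilpotent ↥(P : Subgroup ↥(Cfsg.generalizedFittingSubgroup G)),
              Group.nilpotencyClass ↥(P : Subgroup ↥(Cfsg.generalizedFittingSubgroup G)) = 2 * k))) := by
  obtain ⟨hsimp, hnab⟩ := Cfsg.Agent.S3049.result hp hcore hrank x hx hiso hnc
  refine ⟨hsimp, hnab, ?_⟩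
  set F := generalizedFittingSubgroup G with hF
  intro P
  have hPp : IsPGroup p ((P : Subgroup F).map F.subtype) := P.isPGroup'.map F.subtype
  by_cases hcase : ∃ g : G, g * x * g⁻¹ ∈ (P : Subgroup F).map F.subtype
  · right
    refine ⟨hcase, ?_⟩
    obtain ⟨g, ξ, hξP, hξ⟩ := hcase
    have hiso' := isIsolated_conj hiso g
    have hξ' : (ξ : G) = g * x * g⁻¹ := hξ
    have hperf : commutator F = ⊤ := by
      have hn : (commutator F).Normal := inferInstance
      rcases hn.eq_bot_or_eq_top with h | h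
      · exfalso
        apply hnab
        refine ⟨⟨fun a b => ?_⟩⟩
        have h1 : ⁅a, b⁆ ∈ commutator F := Subgroup.commutator_mem_commutator (Subgroup.mem_top a) (Subgroup.mem_top b)
        rw [h, Subgroup.mem_bot, commutatorElement_eq_one_iff_mul_comm] at h1
        exact h1
      · exact h
    apply Cfsg.Agent.H271.RankTwoFin.main hp hperf P
      (Cfsg.Agent.H271.RankTwoMain.rank_subgroup 2 (Cfsg.Agent.H271.RankTwoMain.rank_subgroup 2 hrank F) P) ξ hξP
    · rw [← Subgroup.orderOf_coe, hξ']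
      have h1 : orderOf ((MulAut.conj g) x) = orderOf x := MulEquiv.orderOf_eq _ _
      rw [MulAut.conj_apply] at h1
      rw [h1, hx]
    · intro n hn
      have h1 : n * ξ * n⁻¹ ∈ (P : Subgroup F) := (Subgroup.mem_normalizer_iff.mp hn ξ).mp hξP
      have h2 := comm_of_mem hiso' hPp (x := g * x * g⁻¹) ⟨ξ, hξP, hξ⟩ (y := ((n * ξ * n⁻¹ : F) : G)) ⟨_, h1, rfl⟩
      have h3 := hiso' (n : G) (by
        have e : (n : G) * (g * x * g⁻¹) * (n : G)⁻¹ = ((n * ξ * n⁻¹ : F) : G) := by
          rw [← hξ']; rfl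
        rw [e]; exact h2)
      apply Subtype.ext
      show (n : G) * ξ = ξ * n
      rw [hξ']
      calc (n : G) * (g * x * g⁻¹) = ((n : G) * (g * x * g⁻¹) * (n : G)⁻¹) * n := by group
        _ = g * x * g⁻¹ * n := by rw [h3]
  · left
    push Not at hcase
    refine ⟨hcase, ?_⟩
    -- a Sylow subgroup containing `P`
    obtain ⟨T, hT⟩ := hPp.exists_le_sylow
    have hxp : IsPGroup p (Subgroup.zpowers x) := by
      apply IsPGroup.of_card (n := 1)
      rw [Nat.card_zpowers, hx, pow_one]
    obtain ⟨T₀, hT₀⟩ := hxp.exists_le_sylow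
    obtain ⟨g, hg⟩ := MulAction.exists_smul_eq G T₀ T
    have hxT : g * x * g⁻¹ ∈ (T : Subgroup G) := by
      rw [← hg]
      show g * x * g⁻¹ ∈ (g • T₀ : Sylow p G)
      have h1 : x ∈ T₀ := hT₀ (Subgroup.mem_zpowers x)
      have := Sylow.coe_subgroup_smul (g := g) (P := T₀)
      rw [← SetLike.mem_coe]
      show g * x * g⁻¹ ∈ ((g • T₀ : Sylow p G) : Subgroup G)
      rw [Sylow.coe_subgroup_smul]
      exact ⟨x, h1, rfl⟩
    apply Cfsg.Agent.OddOrderLocal.RankOneCyclic.isCyclic_of_pRankLE_one hp P.isPGroup'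
    apply rank_one hrank (P : Subgroup F) (g * x * g⁻¹) _ (hcase g)
    · intro u hu
      exact comm_of_mem (isIsolated_conj hiso g) T.isPGroup' hxT (hT hu)
    · have h1 : orderOf ((MulAut.conj g) x) = orderOf x := MulEquiv.orderOf_eq _ _
      rw [MulAut.conj_apply] at h1
      rw [h1, hx]

end Cfsg.Agent.S3038
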