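import Cfsg.Statements.S3046
import Cfsg.Agent.S0000
import Cfsg.Agent.H250.P1.Final
import Cfsg.Agent.H247.LP.OddRow

set_option autoImplicit false
open Cfsg

namespace Cfsg.Agent.S3046

/-- Structure of a minimal parabolic subgroup lying outside a maximal p-local subgroup that satisfies a uniqueness condition, in a group of local characteristic p. Let p be a prime and H a finite group of order divisible by p, of local characteristic p, all of whose p-local subgroups have only known simple sections. Let S be a Sylow p-subgroup, Z = Ω₁(Z(S)), and C a maximal p-local subgroup of H containing N_H(Z); put Q = O_p(C) and suppose C_H(x) ≤ C for every nontrivial x ∈ Z(Q). Let P be a p-minimal subgroup of H containing S (S is not normal in P and lies in a unique maximal subgroup of P) with C_H(O_p(P)) ≤ O_p(P), not contained in C, such that Y_M ≤ Q for every subgroup M ≥ P with C_H(O_p(M)) ≤ O_p(M) that is maximal among such subgroups (Y_M the largest p-reduced elementary abelian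 normal p-subgroup of M). Put P* = ⟨Q^P⟩ O_p(P). Then for some finite field F of characteristic p, Y_P is a natural SL₂(F)-module for P* with C_{P*}(Y_P) = O_p(P) (so P*/O_p(P) ≅ SL₂(F)); moreover Ω₁(Z(S ∩ P*)) is normal in C, and P ∩ C is the unique maximal subgroup of P containing S. -/
theorem result {H : Type*} [Group H] [Finite H] {p : ℕ} [Fact p.Prime] (hdiv : p ∣ Nat.card H)
    (hK : Cfsg.IsKpGroup p H) (hloc : Cfsg.IsOfLocalCharacteristic p H)
    (S : Sylow p H) (Z C Q : Subgroup H)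
    (hZ : Z = Cfsg.omegaOne p ((S : Subgroup H) ⊓ Subgroup.centralizer ((S : Subgroup H) : Set H)))
    (hCloc : (∃ T : Subgroup H, IsPGroup p ↥T ∧ T ≠ ⊥ ∧ C = Subgroup.normalizer (T : Set H))) (hCmax : ∀ L : Subgroup H, (∃ T : Subgroup H, IsPGroup p ↥T ∧ T ≠ ⊥ ∧ L = Subgroup.normalizer (T : Set H)) → C ≤ L → L = C)
    (hNZ : Subgroup.normalizer (Z : Set H) ≤ C) (hQ : Q = (Cfsg.pCore p ↥C).map C.subtype)
    (hQuniq : ∀ x ∈ Q ⊓ Subgroup.centralizer (Q : Set H), x ≠ 1 → Subgroup.centralizer ({x} : Set H) ≤ C)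
    (P : Subgroup H) (hSP : (S : Subgroup H) ≤ P) (hPmin : Cfsg.IsPMinimal p ↥P)
    (hPchar : Subgroup.centralizer (((Cfsg.pCore p ↥P).map P.subtype : Subgroup H) : Set H) ≤ (Cfsg.pCore p ↥P).map P.subtype) (hPC : ¬ P ≤ C)
    (hYM : ∀ M : Subgroup H, P ≤ M → Subgroup.centralizer (((Cfsg.pCore p ↥M).map M.subtype : Subgroup H) : Set H) ≤ (Cfsg.pCore p ↥M).map M.subtype →
      (∀ M' : Subgroup H, M ≤ M' → Subgroup.centralizer (((Cfsg.pCore p ↥M').map M'.subtype : Subgroup H) : Set H) ≤ (Cfsg.pCore p ↥M').map M'.subtype → M' = M) →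
      Cfsg.largestPReducedOf p M ≤ Q)
    (Pstar : Subgroup H)
    (hPstar : Pstar = (Subgroup.normalClosure ((Q.subgroupOf P : Subgroup ↥P) : Set ↥P)).map P.subtype ⊔ (Cfsg.pCore p ↥P).map P.subtype) :
    (∃ (F : Type) (_ : Field F) (_ : Fintype F), ringChar F = p ∧
       Cfsg.IsNaturalSL2Module F (Cfsg.largestPReducedOf p P) Pstar ∧
       Pstar ⊓ Subgroup.centralizer (Cfsg.largestPReducedOf p P : Set H) = (Cfsg.pCore p ↥P).map P.subtype) ∧
    Cfsg.omegaOne p (((S : Subgroup H) ⊓ Pstar) ⊓ Subgroup.centralizer (((S : Subgroup H) ⊓ Pstar : Subgroup H) : Set H)) ≤ C ∧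
    ((Cfsg.omegaOne p (((S : Subgroup H) ⊓ Pstar) ⊓ Subgroup.centralizer (((S : Subgroup H) ⊓ Pstar : Subgroup H) : Set H))).subgroupOf C).Normal ∧
    ∀ M : Subgroup H, M < P → (S : Subgroup H) ≤ M → (∀ M' : Subgroup H, M ≤ M' → M' < P → M' = M) → M = P ⊓ C := by
  exact Cfsg.Agent.H250.P1.Final.main (fun _ _ _ _ => Cfsg.Agent.S0000.result) Cfsg.Agent.H247.LP.oddRow hdiv hK hloc S Z C Q
    hZ hCloc hCmax hNZ hQ hQuniq P hSP hPmin hPchar hPC hYM Pstar hPstar

end Cfsg.Agent.S3046
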