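import Mathlib.GroupTheory.Sylow
import Cfsg.Prelude.Def_Local
import Cfsg.Prelude.Def_Transfer
import Cfsg.Prelude.Def_SylowChains
import Cfsg.Agent.H278.EssChain

set_option autoImplicit false

namespace Cfsg.Agent.S3072

open Cfsg.Agent.H278.EssChain

/-- A strong form of the Alperin–Goldschmidt fusion Theorem. Let P be a Sylow p-subgroup of the finite group G, A a subset of P containing a nonidentity element, and g an element with g⁻¹Ag ⊆ P. Then g = c·x₁⋯xₙ·y with c ∈ C_G(A), y ∈ N_G(P) and, for each i, an element xᵢ and a subgroup Hᵢ ≤ P such that: N_P(Hᵢ) is a Sylow p-subgroup of N_G(Hᵢ); C_P(Hᵢ) ≤ Hᵢ; O_{p',p}(N_G(Hᵢ)) = Hᵢ·C_G(Hᵢ); the Sylow p-subgroups of N_G(Hᵢ)/Hᵢ are not chain-connected through nontrivial intersections (the quotient has a strongly p-embedded subgroup); xᵢ lies in O^p(Xᵢ), where Xᵢ/Hᵢ is the smallest normal subgroup of N_G(Hᵢ)/Hᵢ of order divisible by p; and (x₁⋯xᵢ₋₁)⁻¹A(x₁⋯xᵢ₋₁) ⊆ Hᵢ. -/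
theorem result {G : Type*} [Group G] [Finite G] {p : ℕ} [Fact p.Prime]
    (P : Sylow p G) (A : Set G) (hA : A ⊆ (P : Set G)) (hA1 : ∃ a ∈ A, a ≠ 1)
    (g : G) (hAg : (fun a => g⁻¹ * a * g) '' A ⊆ (P : Set G)) :
    ∃ (n : ℕ) (H X : Fin n → Subgroup G) (x : Fin n → G) (c y : G),
      c ∈ Subgroup.centralizer A ∧ y ∈ Subgroup.normalizer ((P : Subgroup G) : Set G) ∧
      g = c * (List.ofFn x).prod * y ∧
      ∀ i : Fin n,
        H i ≤ (P : Subgroup G) ∧
        ¬ p ∣ ((P : Subgroup G) ⊓ Subgroup.normalizer (H i : Set G)).relIndex (Subgroup.normalizer (H i : Set G)) ∧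
        (P : Subgroup G) ⊓ Subgroup.centralizer (H i : Set G) ≤ H i ∧
        (Cfsg.pPrimePCore p ↥(Subgroup.normalizer (H i : Set G))).map (Subgroup.normalizer (H i : Set G)).subtype =
          H i ⊔ Subgroup.centralizer (H i : Set G) ∧
        ¬ Cfsg.IsSylowChainConnected p
            (↥(Subgroup.normalizer (H i : Set G)) ⧸ (H i).subgroupOf (Subgroup.normalizer (H i : Set G))) ∧
        (H i ≤ X i ∧ X i ≤ Subgroup.normalizer (H i : Set G) ∧
          ((X i).subgroupOf (Subgroup.normalizer (H i : Set G))).Normal ∧ p ∣ (H i).relIndex (X i) ∧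
          ∀ Y : Subgroup G, H i ≤ Y → Y ≤ Subgroup.normalizer (H i : Set G) →
            (Y.subgroupOf (Subgroup.normalizer (H i : Set G))).Normal → p ∣ (H i).relIndex Y → X i ≤ Y) ∧
        x i ∈ (Cfsg.pResidual p ↥(X i)).map (X i).subtype ∧
        (fun a => (((List.ofFn x).take i.val).prod)⁻¹ * a * ((List.ofFn x).take i.val).prod) '' A ⊆ (H i : Set G) := by
  have h1 : Subgroup.closure A ≤ (P : Subgroup G) := (Subgroup.closure_le _).mpr hA
  have h2 : ∀ a ∈ Subgroup.closure A, g⁻¹ * a * g ∈ (P : Subgroup G) := by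
    intro a ha
    have h3 : Subgroup.closure A ≤ (P : Subgroup G).map (MulAut.conj g).toMonoidHom := by
      rw [Subgroup.closure_le]
      intro b hb
      exact Cfsg.Agent.Transfer.FusionBasic.mem_map_conj_iff.mpr (hAg ⟨b, hb, rfl⟩)
    exact Cfsg.Agent.Transfer.FusionBasic.mem_map_conj_iff.mp (h3 ha)
  obtain ⟨c, hc, l, hl, y, hy, hg⟩ := nf_all P (Subgroup.closure A) g h1 h2
  have hof : List.ofFn (fun i : Fin l.length => (l.get i).2.2) = l.map fun t => t.2.2 := by
    have e : (fun i : Fin l.length => (l.get i).2.2) =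
      (fun t : Subgroup G × Subgroup G × G => t.2.2) ∘ l.get := rfl
    rw [e, ← List.map_ofFn, List.ofFn_get]
  refine ⟨l.length, fun i => (l.get i).1, fun i => (l.get i).2.1, fun i => (l.get i).2.2, c, y,
    ?_, hy, ?_, ?_⟩
  · exact Subgroup.centralizer_le Subgroup.subset_closure hc
  · rw [hof]; exact hg
  · intro i
    obtain ⟨h3, h4, h5⟩ := take_prod_ofFn_cond hl i
    refine ⟨h3.le, h3.syl, h3.cent, h3.rad, h3.disc, ⟨h3.leX, h3.Xle, h3.normX, h3.dvdX, h3.minX⟩,
      h4, ?_⟩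
    rintro _ ⟨a, ha, rfl⟩
    rw [hof]
    exact h5 a (Subgroup.subset_closure ha)

end Cfsg.Agent.S3072
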