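import Cfsg.Statements.S3077
import Cfsg.Agent.H261.Final
import Cfsg.Agent.H261.NotPsu
import Cfsg.Agent.H261.AutF
import Cfsg.Agent.S0000

set_option autoImplicit false
open Cfsg

namespace Cfsg.Agent.S3077

/-- Let G be a finite group and Z a subgroup of order 3 whose centralizer X has Q = F*(X) extraspecial of order 3⁵ with Z(Q) = Z(X), and X/Q possessing a normal subgroup isomorphic to Q₈ × Q₈. If some conjugate of Z other than Z lies in Q, then G is isomorphic to the Chevalley group F₄(2) or to its automorphism group. -/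
theorem result {G : Type*} [Group G] [Finite G] (Z : Subgroup G) (hZ3 : Nat.card ↥Z = 3)
    (hQ : Cfsg.IsExtraspecial 3 ↥(Cfsg.generalizedFittingSubgroup ↥(Subgroup.centralizer (Z : Set G)))) (hQord : Nat.card ↥(Cfsg.generalizedFittingSubgroup ↥(Subgroup.centralizer (Z : Set G))) = 3 ^ 5)
    (hZQ : Subgroup.center ↥(Cfsg.generalizedFittingSubgroup ↥(Subgroup.centralizer (Z : Set G))) = (Subgroup.center ↥(Subgroup.centralizer (Z : Set G))).subgroupOf (Cfsg.generalizedFittingSubgroup ↥(Subgroup.centralizer (Z : Set G))))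
    (hN : ∃ _ : (Cfsg.generalizedFittingSubgroup ↥(Subgroup.centralizer (Z : Set G))).Normal, ∃ N : Subgroup (↥(Subgroup.centralizer (Z : Set G)) ⧸ Cfsg.generalizedFittingSubgroup ↥(Subgroup.centralizer (Z : Set G))),
      N.Normal ∧ Nonempty (↥N ≃* QuaternionGroup 2 × QuaternionGroup 2))
    (hnwc : ∃ g : G, Z.map (MulAut.conj g).toMonoidHom ≠ Z ∧
      Z.map (MulAut.conj g).toMonoidHom ≤ (Cfsg.generalizedFittingSubgroup ↥(Subgroup.centralizer (Z : Set G))).map (Subgroup.centralizer (Z : Set G)).subtype)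
    {F : Type*} [Field F] [Fintype F] (hF : Fintype.card F = 2) :
    Nonempty (G ≃* ↥(Cfsg.Lie.chevF4.group F)) ∨ Nonempty (G ≃* MulAut ↥(Cfsg.Lie.chevF4.group F)) := by
  obtain ⟨z, a1, b1, a2, b2, P1, P2, d⟩ := H261.dec_of hZ3 hQ hQord hN
  obtain ⟨g, hg, hgQ⟩ := hnwc
  have hb := d.sb.base
  have hY := H261.exists_Y (hgQ.trans hb.leC) hg
  have hY' : ∃ g : G, ∃ y ∈ Z, g * y * g⁻¹ ∈ (Cfsg.generalizedFittingSubgroup ↥(Subgroup.centralizer (Z : Set G))).map
      (Subgroup.centralizer (Z : Set G)).subtype ∧ g * y * g⁻¹ ∉ Z := by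
    by_contra hcon
    push Not at hcon
    apply hg
    apply Subgroup.eq_of_le_of_card_ge
    · rintro _ ⟨y, hy, rfl⟩
      exact hcon g y hy (hgQ ⟨y, hy, rfl⟩)
    · rw [Subgroup.card_map_of_injective (MulAut.conj g).injective]
  have hr := d.reduce hY
  have := hr.simple
  rcases hr.final (S0000.result (G := ↥(Cfsg.generalizedFittingSubgroup G))) with ⟨F0, _, _, hF0, ⟨e⟩⟩ | ⟨F0, _, _, hF0, ⟨e⟩⟩
  · exact H261.final_F4 hr.normal hr.cent hF0 e hF
  · exact (d.not_psu hr.normal hr.Q_le hY' hF0 e).elim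

end Cfsg.Agent.S3077
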