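import Cfsg.Statements.S3093
import Cfsg.Agent.H283.Fin94

set_option autoImplicit false
open Cfsg

namespace Cfsg.Agent.S3093

/-- Let G be a finite group whose generalized Fitting subgroup F*(G) is a non-abelian simple group, and let K be a standard subgroup of G such that K modulo its centre is isomorphic to the Mathieu group of degree 12, to the second Janko group, to the third Conway group or to the sporadic Suzuki group. Then F*(G) is isomorphic to the sporadic Suzuki group or to the third Conway group. -/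
theorem result {G : Type*} [Group G] [Finite G]
    (hF : IsSimpleGroup ↥(Cfsg.generalizedFittingSubgroup G)) (hF' : ¬ IsMulCommutative ↥(Cfsg.generalizedFittingSubgroup G))
    (K : Subgroup G) (hK : Cfsg.IsStandardSubgroup K)
    (hKX : Cfsg.Spor.IsoM12 (↥K ⧸ Subgroup.center ↥K) ∨ Cfsg.Spor.IsoJ2 (↥K ⧸ Subgroup.center ↥K) ∨
      Cfsg.Spor.IsoCo3 (↥K ⧸ Subgroup.center ↥K) ∨ Cfsg.Spor.IsoSuz (↥K ⧸ Subgroup.center ↥K)) :
    Cfsg.Spor.IsoSuz ↥(Cfsg.generalizedFittingSubgroup G) ∨ Cfsg.Spor.IsoCo3 ↥(Cfsg.generalizedFittingSubgroup G) := by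
  have h7 : H283.NotCTSpor.Seven (↥K ⧸ Subgroup.center ↥K) := by
    rcases hKX with h | h | h | h
    · exact Or.inl h
    · exact Or.inr (Or.inr (Or.inl h))
    · exact Or.inr (Or.inr (Or.inr (Or.inl h)))
    · exact Or.inr (Or.inr (Or.inr (Or.inr (Or.inl h))))
  rcases H283.Fin94.fin hF hF' hK h7 with ⟨h, -⟩ | ⟨h, -⟩ | ⟨-, h⟩
  · exact Or.inr h
  · exact Or.inl h
  · exfalso
    have h1 := NotCT.Orders.j1 h
    rcases hKX with h | h | h | h
    · have h2 := NotCT.Orders.m12 h
      omega
    · have h2 := NotCT.Orders.j2 h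
      omega
    · have h2 := NotCT.Orders.co3 h
      omega
    · have h2 := NotCT.Orders.suz h
      omega

end Cfsg.Agent.S3093
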