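import Cfsg.Statements.S3094
import Cfsg.Agent.H283.Fin94

set_option autoImplicit false
open Cfsg

namespace Cfsg.Agent.S3094

/-- Let G be a finite group whose generalized Fitting subgroup F*(G) is a non-abelian simple group, and let A be a standard subgroup of G isomorphic to the first Janko group or to the second Janko group. Then F*(G) is isomorphic to the O'Nan group or to the sporadic Suzuki group. -/
theorem result {G : Type*} [Group G] [Finite G]
    (hF : IsSimpleGroup ↥(Cfsg.generalizedFittingSubgroup G)) (hF' : ¬ IsMulCommutative ↥(Cfsg.generalizedFittingSubgroup G))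
    (A : Subgroup G) (hA : Cfsg.IsStandardSubgroup A) (hAX : Cfsg.Spor.IsoJ1 ↥A ∨ Cfsg.Spor.IsoJ2 ↥A) :
    Cfsg.Spor.IsoON ↥(Cfsg.generalizedFittingSubgroup G) ∨ Cfsg.Spor.IsoSuz ↥(Cfsg.generalizedFittingSubgroup G) := by
  have h7 : H283.NotCTSpor.Seven ↥A := by
    rcases hAX with h | h
    · exact Or.inr (Or.inl h)
    · exact Or.inr (Or.inr (Or.inl h))
  obtain ⟨e⟩ := H283.Fin93.quo_seven hA.1 h7
  have hc : Nat.card (↥A ⧸ Subgroup.center ↥A) = Nat.card ↥A := Nat.card_congr e.toEquiv
  have hm : Nat.card ↥A = 175560 ∨ Nat.card ↥A = 604800 := by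
    rcases hAX with h | h
    · exact Or.inl (NotCT.Orders.j1 h)
    · exact Or.inr (NotCT.Orders.j2 h)
  rcases H283.Fin94.fin hF hF' hA (H283.StdSpor.Seven.congr e.symm h7) with ⟨-, h1⟩ | ⟨h, -⟩ | ⟨h, -⟩
  · have h2 := NotCT.Orders.m12 h1
    omega
  · exact Or.inr h
  · exact Or.inl h

end Cfsg.Agent.S3094
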