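import Cfsg.Statements.S3095
import Cfsg.Agent.H283.Fin93

set_option autoImplicit false
open Cfsg

namespace Cfsg.Agent.S3095

/-- Let G be a finite group whose generalized Fitting subgroup is a non-abelian simple group. Then no standard subgroup of G is isomorphic to the O'Nan group, to the Held group or to the sporadic Suzuki group. -/
theorem result {G : Type*} [Group G] [Finite G]
    (hF : IsSimpleGroup ↥(Cfsg.generalizedFittingSubgroup G)) (hF' : ¬ IsMulCommutative ↥(Cfsg.generalizedFittingSubgroup G))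
    (A : Subgroup G) (hA : Cfsg.IsStandardSubgroup A) :
    ¬ (Cfsg.Spor.IsoON ↥A ∨ Cfsg.Spor.IsoHe ↥A ∨ Cfsg.Spor.IsoSuz ↥A) := by
  intro h
  have h7 : H283.NotCTSpor.Seven ↥A := by
    rcases h with h | h | h
    · exact Or.inr (Or.inr (Or.inr (Or.inr (Or.inr (Or.inl h)))))
    · exact Or.inr (Or.inr (Or.inr (Or.inr (Or.inr (Or.inr h)))))
    · exact Or.inr (Or.inr (Or.inr (Or.inr (Or.inl h))))
  obtain ⟨e⟩ := H283.Fin93.quo_seven hA.1 h7
  have hc : Nat.card (↥A ⧸ Subgroup.center ↥A) = Nat.card ↥A := Nat.card_congr e.toEquiv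
  have hm : Nat.card ↥A = 460815505920 ∨ Nat.card ↥A = 4030387200 ∨ Nat.card ↥A = 448345497600 := by
    rcases h with h | h | h
    · exact Or.inl (NotCT.Orders.on h)
    · exact Or.inr (Or.inl (NotCT.Orders.he h))
    · exact Or.inr (Or.inr (NotCT.Orders.suz h))
  rcases H283.Fin93.fin hF hF' hA (H283.StdSpor.Seven.congr e.symm h7) (fun _ h1 _ => by
    have h2 := NotCT.Orders.j2 h1
    omega) with ⟨-, h1⟩ | ⟨-, h1 | h1⟩ | ⟨-, h1⟩
  · have h2 := NotCT.Orders.m12 h1
    omega
  · have h2 := NotCT.Orders.m12 h1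
    omega
  · have h2 := NotCT.Orders.j2 h1
    omega
  · have h2 := NotCT.Orders.j1 h1
    omega

end Cfsg.Agent.S3095
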