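import Cfsg.Statements.S3099
import Cfsg.Agent.OddHalf.RankOne
import Cfsg.Agent.S0483

set_option autoImplicit false
open Cfsg

namespace Cfsg.Agent.S3099

open Subgroup Cfsg.Agent.TwoFusion Cfsg.Agent.SignalizersComponents.QsBasic

/-- The perfect core-free case. -/
theorem core_free {K : Type*} [Group K] [Finite K] (hperf : Group.IsPerfect K)
    (hO : oddCore K = ⊥) (S : Sylow 2 K) (n : ℕ) (e : (S : Subgroup K) ≃* QuaternionGroup (2 ^ (n + 1))) :
      ((∃ (F : Type) (_ : Field F) (_ : Fintype F), Odd (Fintype.card F) ∧ 3 < Fintype.card F ∧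
        Nonempty (K ≃* Matrix.SpecialLinearGroup (Fin 2) F)) ∨
      IsNonsplitDoubleCover K ↥(alternatingGroup (Fin 7))) := by
  have hO' : ∀ N : Subgroup K, N.Normal → Odd (Nat.card N) → N = ⊥ := by
    intro N hN hodd
    have h1 : N ≤ oddCore K := Lib.Cores.le_pPrimeCore hN (Nat.coprime_two_right.mpr hodd)
    rw [hO] at h1
    exact le_bot_iff.1 h1
  have hcen2 := Cfsg.Agent.S0201.result S n e hO'
  obtain ⟨z', hz'⟩ := exists_prime_orderOf_dvd_card' (G := center K) 2 (by rw [hcen2])
  obtain ⟨z, hzc⟩ := z'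
  have hz2 : orderOf z = 2 := by rw [← hz', Subgroup.orderOf_mk]
  have hcen : center K = zpowers z := by
    symm
    apply Subgroup.eq_of_le_of_card_ge
    · rw [zpowers_le]; exact hzc
    · rw [Nat.card_zpowers, hz2, hcen2]
  have hn : (zpowers z).Normal := IsolatedCenter.normal_of_le_center (by rw [zpowers_le]; exact hzc)
  have hperfX : Group.IsPerfect (K ⧸ zpowers z) := by
    refine ⟨?_⟩
    have h1 : (commutator K).map (QuotientGroup.mk' (zpowers z)) = commutator (K ⧸ zpowers z) := by
      rw [commutator_def, commutator_def, Subgroup.map_commutator,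
        Subgroup.map_top_of_surjective _ (QuotientGroup.mk'_surjective _)]
    rw [← h1, hperf.1, Subgroup.map_top_of_surjective _ (QuotientGroup.mk'_surjective _)]
  have hOX := QuatQuotient.oddCore_quotient_eq_bot hO z hzc hz2
  have e2 : (K ⧸ zpowers z) ⧸ Cfsg.oddCore (K ⧸ zpowers z) ≃* K ⧸ zpowers z :=
    (QuotientGroup.quotientMulEquivOfEq hOX).trans QuotientGroup.quotientBot
  rcases Cfsg.Agent.S0483.result (X := K ⧸ zpowers z) (S.mapSurjective (QuotientGroup.mk'_surjective (zpowers z))) (2 ^ (n + 1))
    (by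
      calc 2 = 2 ^ 1 := by norm_num
        _ ≤ 2 ^ (n + 1) := Nat.pow_le_pow_right (by norm_num) (by omega))
    (QuatQuotient.sylow_quotient z hz2 S (n + 1) e) with ⟨F, hF1, hF2, hodd, hcard, ⟨θ⟩⟩ | hA7
  · exact Or.inl ⟨F, hF1, hF2, hodd, hcard,
      QuatCoverSL.mulEquiv_sl_two z hzc hz2 S (n + 1) (by omega) e hodd (e2.symm.trans θ)⟩
  · right
    obtain ⟨θ⟩ := hA7
    have θ' : K ⧸ zpowers z ≃* alternatingGroup (Fin 7) := e2.symm.trans θ
    refine ⟨?_, ?_, ?_⟩
    · rw [hcen, Nat.card_zpowers, hz2]
    · exact ⟨(QuotientGroup.quotientMulEquivOfEq hcen).trans θ'⟩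
    · intro L hL
      have hidx : L.index = 2 := by
        have h1 := hL.index_eq_card
        rw [hcen, Nat.card_zpowers, hz2] at h1
        exact h1
      have hLn : L.Normal := Subgroup.normal_of_index_eq_two hidx
      have h3 : commutator K ≤ L := by
        have hc : Nat.card (K ⧸ L) = 2 := hidx
        have hcyc : IsCyclic (K ⧸ L) := isCyclic_of_prime_card hc
        have h4 : ∀ a b : K ⧸ L, a * b = b * a := by
          intro a b
          obtain ⟨g, hg⟩ := hcyc.exists_generator
          obtain ⟨i, rfl⟩ := hg a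
          obtain ⟨j, rfl⟩ := hg b
          exact ((Commute.refl g).zpow_zpow i j)
        rw [_root_.commutator_def, Subgroup.commutator_le]
        intro a _ b _
        rw [← QuotientGroup.eq_one_iff]
        have := h4 (a : K ⧸ L) (b : K ⧸ L)
        rw [commutatorElement_def]
        simp only [QuotientGroup.mk_mul, QuotientGroup.mk_inv]
        rw [this]
        group
      rw [hperf.1] at h3
      rw [top_le_iff.1 h3, Subgroup.index_top] at hidx
      omega

/-- Let X be a finite perfect group of 2-rank exactly 1 (X has even order and contains no Klein four-group). Then X modulo its largest normal subgroup of odd order is isomorphic to the special linear group of dimension 2 over a field with q elements for some odd q > 3, or is a non-split double cover of the alternating group of degree 7. -/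
theorem result {X : Type*} [Group X] [Finite X] (hP : Group.IsPerfect X) (h1 : Cfsg.PRankLE 2 1 X) (h2 : Even (Nat.card X)) :
    (∃ (F : Type) (_ : Field F) (_ : Fintype F), Odd (Fintype.card F) ∧ 3 < Fintype.card F ∧
        Nonempty (X ⧸ Cfsg.oddCore X ≃* Matrix.SpecialLinearGroup (Fin 2) F)) ∨
      Cfsg.IsNonsplitDoubleCover (X ⧸ Cfsg.oddCore X) ↥(alternatingGroup (Fin 7)) := by
  have : Fact (Nat.Prime 2) := ⟨Nat.prime_two⟩
  obtain ⟨S⟩ : Nonempty (Sylow 2 X) := inferInstance
  have hcyc := not_isCyclic_sylow h2 S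
  have hS := Cfsg.Agent.S0016.result (G := S) 2 S.isPGroup'
    (unique_of_rank_one S.isPGroup' (pRankLE_subgroup h1 S))
  obtain ⟨n, ⟨e⟩⟩ : ∃ n : ℕ, Nonempty (↥(S : Subgroup X) ≃* QuaternionGroup (2 ^ (n + 1))) := by
    rcases hS with hS | ⟨_, n, ⟨e⟩⟩
    · exact absurd hS hcyc
    · rcases n with _ | n
      · exfalso
        apply hcyc
        have h1 : IsCyclic (QuaternionGroup (2 ^ 0)) := by
          rw [pow_zero]; exact QuaternionGroup.quaternionGroup_one_isCyclic
        exact isCyclic_of_surjective e.symm e.symm.surjective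
      · exact ⟨n, ⟨e⟩⟩
  set N := oddCore X with hN
  have hN2 : Odd (Nat.card N) := Nat.coprime_two_right.mp (Lib.Cores.pPrimeCore_coprime 2)
  have hSN : Disjoint (S : Subgroup X) N := by
    apply Subgroup.disjoint_of_coprime_natCard
    obtain ⟨k, hk⟩ := IsPGroup.iff_card.mp S.isPGroup'
    rw [hk]
    exact Nat.Coprime.pow_left _ (Nat.coprime_two_left.mpr hN2)
  set π := QuotientGroup.mk' N with hπ
  set T : Sylow 2 (X ⧸ N) := S.mapSurjective (QuotientGroup.mk'_surjective N) with hT
  have hinj : Function.Injective ((π.comp (S : Subgroup X).subtype)) := by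
    rw [injective_iff_map_eq_one]
    intro x hx
    have hx' : (x : X) ∈ N := by
      rw [MonoidHom.comp_apply, hπ, QuotientGroup.mk'_apply, QuotientGroup.eq_one_iff] at hx
      exact hx
    have : (x : X) ∈ (⊥ : Subgroup X) := hSN.le_bot ⟨x.2, hx'⟩
    exact Subtype.ext (Subgroup.mem_bot.mp this)
  have hrange : ((π.comp (S : Subgroup X).subtype)).range = (T : Subgroup (X ⧸ N)) := by
    rw [MonoidHom.range_comp, Subgroup.range_subtype]
    rfl
  have eT : ↥(T : Subgroup (X ⧸ N)) ≃* QuaternionGroup (2 ^ (n + 1)) :=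
    ((MulEquiv.subgroupCongr hrange).symm.trans (MonoidHom.ofInjective hinj).symm).trans e
  have hperfX : Group.IsPerfect (X ⧸ N) := by
    refine ⟨?_⟩
    have h1 : (commutator X).map (QuotientGroup.mk' N) = commutator (X ⧸ N) := by
      rw [commutator_def, commutator_def, Subgroup.map_commutator,
        Subgroup.map_top_of_surjective _ (QuotientGroup.mk'_surjective _)]
    rw [← h1, hP.1, Subgroup.map_top_of_surjective _ (QuotientGroup.mk'_surjective _)]
  exact core_free hperfX (Lib.Cores.pPrimeCore_quotient_pPrimeCore 2) T n eT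

end Cfsg.Agent.S3099
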