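import Cfsg.Statements.S3101
import Cfsg.Agent.H285.AltEnd

set_option autoImplicit false
open Cfsg

namespace Cfsg.Agent.S3101

/-- Let G be a non-abelian finite simple group whose Sylow 2-subgroups are isomorphic to those of the alternating group of degree 12. Then G is isomorphic to the alternating group of degree 12 or 13, to the projective symplectic group of dimension 6 over the field with 2 elements, or to the simple orthogonal group PΩ₇(q) (the commutator subgroup of the isometry group of a non-degenerate quadratic form in dimension 7, modulo its centre) over a field with q elements, q ≡ 3 or 5 mod 8. -/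
theorem result {G : Type*} [Group G] [Finite G] [IsSimpleGroup G] (hG : ¬ IsMulCommutative G) (S : Sylow 2 G)
    (hS : ∃ P : Sylow 2 ↥(alternatingGroup (Fin 12)), Nonempty (↥(S : Subgroup G) ≃* ↥(P : Subgroup ↥(alternatingGroup (Fin 12))))) :
    Nonempty (G ≃* ↥(alternatingGroup (Fin 12))) ∨ Nonempty (G ≃* ↥(alternatingGroup (Fin 13))) ∨
      (∃ (F : Type) (_ : Field F) (_ : Fintype F), Fintype.card F = 2 ∧ Nonempty (G ≃* Cfsg.PSp 3 F)) ∨
      (∃ (F : Type) (_ : Field F) (_ : Fintype F), (Fintype.card F % 8 = 3 ∨ Fintype.card F % 8 = 5) ∧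
        Nonempty (G ≃* Cfsg.POmega F (Cfsg.quadFormOdd 3 F))) := by
  exact Cfsg.Agent.H285.AltEnd.main hG S hS

end Cfsg.Agent.S3101
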