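import Cfsg.Statements.S3102
import Cfsg.Agent.H285.FsQ

set_option autoImplicit false
open Cfsg

namespace Cfsg.Agent.S3102

/-- Let X be a finite group with no normal subgroup of index 2 and no isolated involution (no involution commuting with none of its other conjugates), and let S be a Sylow 2-subgroup of X of 2-rank at least 3 which has no normal elementary abelian subgroup of order 8. Suppose that for some normal Klein four-subgroup U of S the three involutions of U are conjugate in X. Then S is isomorphic to a Sylow 2-subgroup of the Chevalley group of type G₂ over a field with q elements, q ≡ 1 or 7 mod 8, or to a Sylow 2-subgroup of the second Janko group, or to a Sylow 2-subgroup of the Lyons group. -/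
theorem result {X : Type*} [Group X] [Finite X] (hidx : ∀ N : Subgroup X, N.Normal → N.index ≠ 2) (hiso : ∀ z : X, ¬ Cfsg.IsIsolatedInvolution z)
    (S : Sylow 2 X) (h3 : ¬ Cfsg.PRankLE 2 2 ↥(S : Subgroup X))
    (h8 : ∀ E : Subgroup ↥(S : Subgroup X), E.Normal → Cfsg.IsElementaryAbelian 2 E → Nat.card ↥E ≠ 8)
    (U : Subgroup ↥(S : Subgroup X)) (hU : IsKleinFour ↥U) (hUn : U.Normal)
    (hconj : ∀ u ∈ U, ∀ v ∈ U, u ≠ 1 → v ≠ 1 → IsConj (u : X) (v : X)) :
    (∃ (F : Type) (_ : Field F) (_ : Fintype F), (Fintype.card F % 8 = 1 ∨ Fintype.card F % 8 = 7) ∧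
        ∃ P : Sylow 2 ↥(Cfsg.Lie.chevG2.group F), Nonempty (↥(S : Subgroup X) ≃* ↥(P : Subgroup ↥(Cfsg.Lie.chevG2.group F)))) ∨
      (∃ P : Sylow 2 Cfsg.Spor.J2, Nonempty (↥(S : Subgroup X) ≃* ↥(P : Subgroup Cfsg.Spor.J2))) ∨
      (∃ P : Sylow 2 Cfsg.Spor.Ly, Nonempty (↥(S : Subgroup X) ≃* ↥(P : Subgroup Cfsg.Spor.Ly))) := by
  obtain ⟨Y, _, _, S', U', h, hr, ⟨e⟩⟩ := Cfsg.Agent.H285.Fs.exists_glob hidx hiso S h3 h8 U hU hUn hconj
  obtain ⟨K, hn, hs, hna, hc⟩ := h.exists_simple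
  have hK4 := Cfsg.Agent.H909.KFour.k4 ↥K hna (Cfsg.Agent.GH.Rank.of_subgroup h.sr K)
  have heven : 2 ∣ Nat.card ↥K := by
    by_contra h2
    have h4 : K = ⊥ := h.eq_bot_of_odd hn (by rwa [← Nat.not_even_iff_odd, even_iff_two_dvd])
    have : Nontrivial ↥K := hs.toNontrivial
    exact (Subgroup.nontrivial_iff_ne_bot K).1 this h4
  have hSK := h.le_of_okOut hn hc (Cfsg.Agent.H285.Fs.okOut_of_k4 hna heven hK4)
  obtain ⟨T, W, hF, ⟨f⟩⟩ := h.four hr hn hSK
  exact Cfsg.Agent.H285.Fs.Concl.congr (e.trans f) (hF.concl hna hK4)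

end Cfsg.Agent.S3102
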