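import Cfsg.Statements.S3118
import Cfsg.Agent.S0205
import Cfsg.Agent.S1311
import Cfsg.Agent.OrdDiv.Table
import Cfsg.Agent.H998.UnbDC.Asm

set_option autoImplicit false
open Cfsg

namespace Cfsg.Agent.S3118

/-- Let G be a finite group whose generalized Fitting subgroup F*(G) is quasisimple, and suppose G has an unbalancing triple (a, x, J): commuting involutions a and x and an x-invariant 2-component J of C_G(a) with J = O(J)[J, O(C_G(x)) ∩ C_G(a)], such that J modulo its largest normal odd-order subgroup is a non-split double cover of the alternating group of degree m for some m ≥ 9. Then F*(G) is a non-split double cover of an alternating group of some degree n ≥ m. -/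
theorem result {G : Type*} [Group G] [Finite G] (hF : Cfsg.IsQuasisimple ↥(Cfsg.generalizedFittingSubgroup G))
    (a x : G) (ha : orderOf a = 2) (hx : orderOf x = 2) (hax : Commute a x)
    (J : Subgroup ↥(Subgroup.centralizer ({a} : Set G))) (hJ : Cfsg.IsPComponent 2 J)
    (hJx : ∀ l ∈ J.map (Subgroup.centralizer ({a} : Set G)).subtype, x * l * x⁻¹ ∈ J.map (Subgroup.centralizer ({a} : Set G)).subtype)
    (hunb : J.map (Subgroup.centralizer ({a} : Set G)).subtype =
      (Cfsg.oddCore ↥J).map ((Subgroup.centralizer ({a} : Set G)).subtype.comp J.subtype) ⊔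
        ⁅J.map (Subgroup.centralizer ({a} : Set G)).subtype, Cfsg.centralizerPPrimeCore 2 x ⊓ Subgroup.centralizer ({a} : Set G)⁆)
    (m : ℕ) (hm : 9 ≤ m) (hJA : Cfsg.IsNonsplitDoubleCover (↥J ⧸ Cfsg.oddCore ↥J) ↥(alternatingGroup (Fin m))) :
    ∃ n : ℕ, m ≤ n ∧ Cfsg.IsNonsplitDoubleCover ↥(Cfsg.generalizedFittingSubgroup G) ↥(alternatingGroup (Fin n)) := by
  have hn : (Cfsg.generalizedFittingSubgroup G).Normal := Cfsg.Agent.Lib.GenFitting.genFitting_normal
  exact Cfsg.Agent.H998.UnbDC.final Cfsg.Agent.OrdDiv.table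
    (fun h1 h2 t ht hc => Cfsg.Agent.S1311.result h1 h2 t ht hc)
    (fun _ _ _ h => Cfsg.Agent.S0205.result h) hF a x ha hx J hJ hunb m hm hJA

end Cfsg.Agent.S3118
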