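import Cfsg.Statements.S3124
import Cfsg.Agent.S0000
import Cfsg.Agent.S1814
import Cfsg.Agent.GTwoRows.ONFin
import Cfsg.Agent.OrdDiv.Table
import Cfsg.Agent.H291.LieTwo
import Cfsg.Agent.H220.AltStd

set_option autoImplicit false
open Cfsg

namespace Cfsg.Agent.S3124

/-- Let G be a finite group with no nontrivial normal subgroup of odd order in which every section has the B-property, and let A be a standard subgroup of G that is not normal in G, whose centralizer has cyclic Sylow 2-subgroups, and which is isomorphic to the alternating group of degree n for some n ≥ 8. Assume the unbalanced-group statement holds in every proper section of G: whenever a proper section X of G (a quotient of a subgroup by a normal subgroup, other than G itself) has non-abelian simple generalized Fitting subgroup F*(X) and some involution of X has a centralizer with a nontrivial normal subgroup of odd order, F*(X) is a group of Lie type over a field of odd characteristic, an alternating group of odd degree at least 5, the projective special linear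 group of dimension 3 over the field with 4 elements, or the Held group. Then one of the following holds: the layer E(G) is isomorphic to A × A; E(G) is isomorphic to the alternating group of degree n + 2; n = 8 and E(G) is isomorphic to the projective special linear group of dimension 4 over the field with 4 elements or to the Higman–Sims group; or n = 10 and E(G) is isomorphic to the Harada–Norton group. -/
theorem result {G : Type*} [Group G] [Finite G] (hO : Cfsg.oddCore G = ⊥) (hB : Cfsg.HasStrongBProperty G)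
    (A : Subgroup G) (hA : Cfsg.IsStandardSubgroup A) (hnA : ¬ A.Normal)
    (hR : ∀ R : Sylow 2 ↥(Subgroup.centralizer (A : Set G)), IsCyclic ↥(R : Subgroup ↥(Subgroup.centralizer (A : Set G))))
    (n : ℕ) (hn : 8 ≤ n) (hAX : Nonempty (↥A ≃* ↥(alternatingGroup (Fin n))))
    (hU : ∀ (H : Subgroup G) (N : Subgroup ↥H) [N.Normal], (H ≠ ⊤ ∨ N ≠ ⊥) →
      IsSimpleGroup ↥(Cfsg.generalizedFittingSubgroup (↥H ⧸ N)) → ¬ IsMulCommutative ↥(Cfsg.generalizedFittingSubgroup (↥H ⧸ N)) →
      (∃ t : ↥H ⧸ N, orderOf t = 2 ∧ Cfsg.centralizerPPrimeCore 2 t ≠ ⊥) →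
      (∃ p : ℕ, p.Prime ∧ p ≠ 2 ∧ Cfsg.IsLieTypeChar p ↥(Cfsg.generalizedFittingSubgroup (↥H ⧸ N))) ∨
        (∃ n : ℕ, 2 ≤ n ∧ Nonempty (↥(Cfsg.generalizedFittingSubgroup (↥H ⧸ N)) ≃* ↥(alternatingGroup (Fin (2 * n + 1))))) ∨
        (∃ (F : Type) (_ : Field F) (_ : Fintype F), Fintype.card F = 4 ∧
          Nonempty (↥(Cfsg.generalizedFittingSubgroup (↥H ⧸ N)) ≃* Matrix.ProjectiveSpecialLinearGroup (Fin 3) F)) ∨
        Cfsg.Spor.IsoHe ↥(Cfsg.generalizedFittingSubgroup (↥H ⧸ N))) :
    Nonempty (↥(Cfsg.layer G) ≃* ↥A × ↥A) ∨ Nonempty (↥(Cfsg.layer G) ≃* ↥(alternatingGroup (Fin (n + 2)))) ∨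
      (n = 8 ∧ ((∃ (F : Type) (_ : Field F) (_ : Fintype F), Fintype.card F = 4 ∧
          Nonempty (↥(Cfsg.layer G) ≃* Matrix.ProjectiveSpecialLinearGroup (Fin 4) F)) ∨ Cfsg.Spor.IsoHS ↥(Cfsg.layer G))) ∨
      (n = 10 ∧ Cfsg.Spor.IsoHN ↥(Cfsg.layer G)) := by
  exact H220.AltStd.main GTwoRows.h1170 S1814.two OrdDiv.table
    (fun hna hK _ hx hx1 _ hA _ hn ⟨e⟩ => H291.LieTwo.alt OrdDiv.table hna hK hx hx1 hA hn e)
    (fun _ _ _ _ => S0000.result) hO A hA hnA hR n hn hAX

end Cfsg.Agent.S3124
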