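import Cfsg.Statements.S3145
import Cfsg.Agent.S0000
import Cfsg.Agent.S1311
import Cfsg.Agent.OrdDiv.Table
import Cfsg.Agent.H337.Bend.Final
import Cfsg.Agent.H333.SLF.Main
import Cfsg.Agent.H2.Bend.Quat
import Cfsg.Agent.H2.Bend.QuatSz
import Cfsg.Agent.H2.Bend.RkCov
import Cfsg.Agent.H207.RkL.Main
import Cfsg.Agent.H207.RkU.Main
import Cfsg.Agent.H337.Bend.RkSz
import Cfsg.Agent.H333.OutSz

set_option autoImplicit false
open Cfsg

namespace Cfsg.Agent.S3145

/-- Let G be a finite group with no nontrivial normal subgroup of odd order, and X, Y subgroups of G such that: X is quasisimple and, with O(X) its largest normal odd-order subgroup, X/O(X) has central quotient a Bender group (a projective special linear group of dimension 2 over a field with 2^n ≥ 4 elements, a projective special unitary group of dimension 3 with parameter 2^n ≥ 4, or a Suzuki group over a field with 2^(2m+1) ≥ 8 elements); Y consists exactly of the elements g of G with g x g⁻¹ x⁻¹ ∈ O(X) for all x ∈ X (the centralizer of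 X/O(X)); Y is tightly embedded in G; and N_G(X) = N_G(Y). Suppose X is not normal in G. Then O(X) = 1 and one of the following holds for the layer E = E(G): E ≅ X × X; X is the projective special linear group of dimension 2 over the field with q = 2^n elements and E is the projective special linear group of dimension 2 over the field with q² elements, the projective special unitary group of dimension 3 with parameter q, or the projective special linear group of dimension 3 over the field with q elements; X is the projective special unitary group of dimension 3 with parameter q = 2^n and E is the projective special linear group of dimension 3 over the field with q² elements; X is a Suzuki group over the field with q elements and E is the symplectic group of dimension 4 over that field; X is the projective special linear group of dimension 2 over the field with 4 elements and E is the Mathieu group of degree 12, the alternating group of degree 9 or 7, the first or second Janko group, the projective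 special linear group of dimension 2 over the field with 25 elements or of dimension 3 over the field with 5 elements, or the projective special unitary group of dimension 3 with parameter 5; X is the Suzuki group over the field with 8 elements and E is the Rudvalis group; X is the projective special linear group of dimension 2 over the field with 8 elements and E is the Chevalley group of type G₂ over the field with 3 elements; or X is the special linear group of dimension 2 over the field with 5 elements and G has sectional 2-rank at most 4. -/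
theorem result {G : Type*} [Group G] [Finite G] (hO : Cfsg.oddCore G = ⊥) (X Y : Subgroup G)
    (hq : Cfsg.IsQuasisimple ↥X)
    (hB : Cfsg.IsBenderGroup ((↥X ⧸ Cfsg.oddCore ↥X) ⧸ Subgroup.center (↥X ⧸ Cfsg.oddCore ↥X)))
    (hY : ∀ g : G, g ∈ Y ↔ ∀ x ∈ X, g * x * g⁻¹ * x⁻¹ ∈ (Cfsg.oddCore ↥X).map X.subtype)
    (hT : Cfsg.IsTightlyEmbedded Y) (hN : Subgroup.normalizer (X : Set G) = Subgroup.normalizer (Y : Set G))
    (hn : ¬ X.Normal) :
    Cfsg.oddCore ↥X = ⊥ ∧
    (Nonempty (↥(Cfsg.layer G) ≃* ↥X × ↥X) ∨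
      (∃ (F : Type) (_ : Field F) (_ : Fintype F) (n : ℕ), 2 ≤ n ∧ Fintype.card F = 2 ^ n ∧
        Nonempty (↥X ≃* Matrix.ProjectiveSpecialLinearGroup (Fin 2) F) ∧
        ((∃ (K : Type) (_ : Field K) (_ : Fintype K), Fintype.card K = 4 ^ n ∧
            (Nonempty (↥(Cfsg.layer G) ≃* Matrix.ProjectiveSpecialLinearGroup (Fin 2) K) ∨ Nonempty (↥(Cfsg.layer G) ≃* Cfsg.PSU 3 K (2 ^ n)))) ∨
          Nonempty (↥(Cfsg.layer G) ≃* Matrix.ProjectiveSpecialLinearGroup (Fin 3) F))) ∨
      (∃ (F : Type) (_ : Field F) (_ : Fintype F) (n : ℕ), 2 ≤ n ∧ Fintype.card F = 4 ^ n ∧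
        Nonempty (↥X ≃* Cfsg.PSU 3 F (2 ^ n)) ∧ Nonempty (↥(Cfsg.layer G) ≃* Matrix.ProjectiveSpecialLinearGroup (Fin 3) F)) ∨
      (∃ (F : Type) (_ : Field F) (_ : Fintype F) (m : ℕ), 1 ≤ m ∧ Fintype.card F = 2 ^ (2 * m + 1) ∧
        Nonempty (↥X ≃* ↥(Cfsg.Lie.Sz F (2 ^ (m + 1)))) ∧ Nonempty (↥(Cfsg.layer G) ≃* Cfsg.PSp 2 F)) ∨
      (∃ (F : Type) (_ : Field F) (_ : Fintype F), Fintype.card F = 4 ∧ Nonempty (↥X ≃* Matrix.ProjectiveSpecialLinearGroup (Fin 2) F) ∧
        (Cfsg.Spor.IsoM12 ↥(Cfsg.layer G) ∨ Nonempty (↥(Cfsg.layer G) ≃* ↥(alternatingGroup (Fin 9))) ∨ Cfsg.Spor.IsoJ1 ↥(Cfsg.layer G) ∨ Cfsg.Spor.IsoJ2 ↥(Cfsg.layer G) ∨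
          Nonempty (↥(Cfsg.layer G) ≃* ↥(alternatingGroup (Fin 7))) ∨
          (∃ (K : Type) (_ : Field K) (_ : Fintype K), Fintype.card K = 25 ∧
            (Nonempty (↥(Cfsg.layer G) ≃* Matrix.ProjectiveSpecialLinearGroup (Fin 2) K) ∨ Nonempty (↥(Cfsg.layer G) ≃* Cfsg.PSU 3 K 5))) ∨
          (∃ (K : Type) (_ : Field K) (_ : Fintype K), Fintype.card K = 5 ∧ Nonempty (↥(Cfsg.layer G) ≃* Matrix.ProjectiveSpecialLinearGroup (Fin 3) K)))) ∨
      (∃ (F : Type) (_ : Field F) (_ : Fintype F), Fintype.card F = 8 ∧ Nonempty (↥X ≃* ↥(Cfsg.Lie.Sz F 4)) ∧ Cfsg.Spor.IsoRu ↥(Cfsg.layer G)) ∨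
      (∃ (F : Type) (_ : Field F) (_ : Fintype F), Fintype.card F = 8 ∧ Nonempty (↥X ≃* Matrix.ProjectiveSpecialLinearGroup (Fin 2) F) ∧
        ∃ (K : Type) (_ : Field K) (_ : Fintype K), Fintype.card K = 3 ∧ Nonempty (↥(Cfsg.layer G) ≃* ↥(Cfsg.Lie.chevG2.group K))) ∨
      (∃ (F : Type) (_ : Field F) (_ : Fintype F), Fintype.card F = 5 ∧ Nonempty (↥X ≃* Matrix.SpecialLinearGroup (Fin 2) F) ∧
        Cfsg.SectionalPRankLE 2 4 G)) := by
  obtain ⟨h1, h2⟩ := Cfsg.Agent.H337.Bend.main Cfsg.Agent.OrdDiv.table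
    (fun X _ _ _ => Cfsg.Agent.S0000.result) Cfsg.Agent.H333.SLF.slFive Cfsg.Agent.H2.Bend.quat Cfsg.Agent.H2.Bend.quatSz
    Cfsg.Agent.H207.RkL.rkL (Cfsg.Agent.H207.RkU.rkU (fun h1 h2 t ht hc => Cfsg.Agent.S1311.result h1 h2 t ht hc))
    Cfsg.Agent.H337.Bend.RkSzPf.rkSz Cfsg.Agent.H2.Bend.RkCov.rkCov Cfsg.Agent.H333.OutSz.outSz hO X Y hq hB hY hT hN hn
  refine ⟨h1, ?_⟩
  rcases h2 with h | (h | h | h | h | h | h) | h
  · exact Or.inl h
  · exact Or.inr (Or.inl h)
  · exact Or.inr (Or.inr (Or.inl h))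
  · exact Or.inr (Or.inr (Or.inr (Or.inl h)))
  · exact Or.inr (Or.inr (Or.inr (Or.inr (Or.inl h))))
  · exact Or.inr (Or.inr (Or.inr (Or.inr (Or.inr (Or.inl h)))))
  · exact Or.inr (Or.inr (Or.inr (Or.inr (Or.inr (Or.inr (Or.inl h))))))
  · exact Or.inr (Or.inr (Or.inr (Or.inr (Or.inr (Or.inr (Or.inr h))))))

end Cfsg.Agent.S3145
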