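import Cfsg.Statements.S3148
import Cfsg.Agent.S1252
import Cfsg.Agent.H297.Foote
import Cfsg.Agent.H297.SFinal

set_option autoImplicit false
open Cfsg

namespace Cfsg.Agent.S3148

open Subgroup

/-- Let G be a finite group with no nontrivial normal subgroup of odd order, A a standard subgroup of G, and R a cyclic Sylow 2-subgroup of the centralizer of A. Then one of the following holds: A is normal in G; A has 2-rank at most 1 and the normal closure of A in G is isomorphic to the projective special linear group of dimension 3 over a field with q elements, q ≡ 3 mod 4 and q ≠ 3, or to the projective special unitary group of dimension 3 with parameter q ≡ 1 mod 4 (realised over the field with q² elements); or some conjugate of R by an element of G outside the normalizer of A lies in the normalizer of A. -/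
theorem result {G : Type*} [Group G] [Finite G] (hO : Cfsg.oddCore G = ⊥) (A : Subgroup G) (hA : Cfsg.IsStandardSubgroup A)
    (R : Sylow 2 ↥(Subgroup.centralizer (A : Set G))) (hR : IsCyclic ↥(R : Subgroup ↥(Subgroup.centralizer (A : Set G)))) :
    A.Normal ∨
      (Cfsg.PRankLE 2 1 ↥A ∧
        ((∃ (F : Type) (_ : Field F) (_ : Fintype F), Fintype.card F % 4 = 3 ∧ Fintype.card F ≠ 3 ∧
            Nonempty (↥(Subgroup.normalClosure (A : Set G)) ≃* Matrix.ProjectiveSpecialLinearGroup (Fin 3) F)) ∨
          (∃ (F : Type) (_ : Field F) (_ : Fintype F) (q : ℕ), q % 4 = 1 ∧ Fintype.card F = q ^ 2 ∧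
            Nonempty (↥(Subgroup.normalClosure (A : Set G)) ≃* Cfsg.PSU 3 F q)))) ∨
      (∃ g : G, g ∉ Subgroup.normalizer (A : Set G) ∧
        (((R : Subgroup ↥(Subgroup.centralizer (A : Set G))).map (Subgroup.centralizer (A : Set G)).subtype).map (MulAut.conj g).toMonoidHom ≤ Subgroup.normalizer (A : Set G))) := by
  by_cases hn : A.Normal
  · exact Or.inl hn
  by_cases h3 : ∃ g : G, g ∉ Subgroup.normalizer (A : Set G) ∧
        (((R : Subgroup ↥(Subgroup.centralizer (A : Set G))).map (Subgroup.centralizer (A : Set G)).subtype).map (MulAut.conj g).toMonoidHom ≤ Subgroup.normalizer (A : Set G))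
  · exact Or.inr (Or.inr h3)
  right; left
  push Not at h3
  have hStr : H297.HStr G := fun Q _ _ P B hB h1 h2 => by
    obtain ⟨-, n, L, hL1, -, hL3, hL4, hL5⟩ := Cfsg.Agent.S1252.result P B hB h1 h2
    exact ⟨n, L, hL1, hL3, fun i => (hL4 i).1, hL5⟩
  obtain ⟨T, z, r, C⟩ := H297.Setup.exists_cfg (H297.Foote.foote_simple hStr) hO A hA (centralizer (A : Set G)) rfl R hR hn h3
  obtain ⟨x, f₀, C'⟩ := C.exists_CF
  obtain ⟨f, s, Q⟩ := C'.exists_QQ
  have hz2 : orderOf z = 2 := orderOf_eq_prime (by rw [pow_two, C.zz]) C.z1
  have hzC : z ∈ centralizer (A : Set G) := mem_centralizer_iff.2 fun a ha => (C.zK a ha).symm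
  rcases Cfsg.Agent.S1347.result A hA hO z hz2 hzC with h | h | ⟨hAL, hLs, hLn⟩
  · exact absurd h hn
  · exfalso
    obtain ⟨-, -, -, -, -, -, -, h⟩ := h
    have h1 : r ∈ centralizer (A : Set G) := mem_centralizer_iff.2 fun a ha => (C.rK a ha).symm
    rw [h] at h1
    rcases H297.CF.zpowers_z Q.toCF h1 with h2 | h2
    · have h4 := C.rr
      rw [h2, mul_one] at h4
      exact C.z1 h4.symm
    · have h4 := C.rr
      rw [h2, C.zz] at h4
      exact C.z1 h4.symm
  · have hLN : (layer G).Normal := Cfsg.Agent.SignalizersComponents.Components.layer_normal G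
    have hcl : normalClosure (A : Set G) = layer G := by
      apply le_antisymm (normalClosure_le_normal hAL)
      have h1 : ((normalClosure (A : Set G)).subgroupOf (layer G)).Normal := normal_subgroupOf
      rcases h1.eq_bot_or_eq_top with h2 | h2
      · exfalso
        apply C.z1
        have h4 : (⟨z, hAL Q.zA⟩ : ↥(layer G)) ∈ (normalClosure (A : Set G)).subgroupOf (layer G) :=
          mem_subgroupOf.2 (subset_normalClosure Q.zA)
        rw [h2, mem_bot] at h4
        exact congrArg Subtype.val h4
      · exact subgroupOf_eq_top.1 h2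
    refine ⟨Q.rank, ?_⟩
    rw [hcl]
    exact Q.final hLN hLs hLn hAL

end Cfsg.Agent.S3148
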