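import Cfsg.Statements.S3159
import Cfsg.Agent.H299.RowsAll
import Cfsg.Agent.H299.SpSixMore
import Cfsg.Agent.Schreier.Assembly
import Cfsg.Agent.GTwoRows.Rows
import Cfsg.Agent.GTwoRows.ONFin
import Cfsg.Agent.S0000

set_option autoImplicit false
open Cfsg

namespace Cfsg.Agent.S3159

universe u

theorem schComm {X : Type u} [Group X] [Finite X] [IsSimpleGroup X] (h : IsMulCommutative X) :
    Cfsg.Agent.Schreier.Basic.Sch X := by
  have h1 : (Nat.card X).Prime := by
    let _ : CommGroup X := { (inferInstance : Group X) with mul_comm := h.is_comm.comm }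
    exact IsSimpleGroup.prime_card
  have h2 : IsCyclic X := by
    have : Fact (Nat.card X).Prime := ⟨h1⟩
    exact isCyclic_of_prime_card (p := Nat.card X) rfl
  have e : MulAut X ≃* (ZMod (Nat.card X))ˣ := IsCyclic.mulAutMulEquiv X
  have hcomm : ∀ x y : MulAut X, x * y = y * x := by
    intro x y
    apply e.injective
    rw [map_mul, map_mul, mul_comm]
  intro C hC
  have h3 : C = ⊥ := by
    rw [eq_bot_iff, ← hC, Subgroup.commutator_le]
    intro x _ y _
    rw [Subgroup.mem_bot, commutatorElement_eq_one_iff_mul_comm]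
    exact hcomm x y
  rw [h3]
  exact bot_le

/-- Let G be a finite group of characteristic 2 type with no nontrivial normal 3-subgroup and no normal subgroup of index 3, and let b be an element of order 3 with centralizer C such that: C has a quasisimple normal subgroup L isomorphic to the symplectic group of dimension 6 over the field with 2 elements; the centralizer of L in G has cyclic Sylow 3-subgroups; G and C have the same 2-local 3-rank (for every k, all 2-local subgroups of G have 3-rank at most k exactly when all 2-local subgroups of C do); the subgroup generated by b is not weakly closed in C (some G-conjugate of b lies in C and generates a different subgroup); and every elementary abelian 3-subgroup B of C lying in a 2-local subgroup of C and of largest order among such subgroups normalizes without centralizing some 2-subgroup of C. Then G is isomorphic to the symplectic group of dimension 8 over the field with 2 elements or to the Chevalley group of type F₄ over that field. -/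
theorem result {G : Type*} [Group G] [Finite G] (hG : Cfsg.IsCharacteristicTwoType G) (hO3 : Cfsg.pCore 3 G = ⊥) (hO3' : ∀ N : Subgroup G, N.Normal → N.index = 3 → False)
    (b : G) (hb : orderOf b = 3) (L : Subgroup G) (hLC : L ≤ Subgroup.centralizer ({b} : Set G)) (hLn : (L.subgroupOf (Subgroup.centralizer ({b} : Set G))).Normal)
    (hq : Cfsg.IsQuasisimple ↥L) {F : Type*} [Field F] [Fintype F] (hF : Fintype.card F = 2) (hLX : Nonempty (↥L ≃* Cfsg.PSp 3 F))
    (hcyc : ∀ R : Sylow 3 ↥(Subgroup.centralizer (L : Set G)), IsCyclic ↥(R : Subgroup ↥(Subgroup.centralizer (L : Set G))))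
    (hrk : ∀ k : ℕ, Cfsg.TwoLocalPRankLE 3 k G ↔ Cfsg.TwoLocalPRankLE 3 k ↥(Subgroup.centralizer ({b} : Set G)))
    (hwc : ∃ g : G, g * b * g⁻¹ ∈ Subgroup.centralizer ({b} : Set G) ∧ Subgroup.zpowers (g * b * g⁻¹) ≠ Subgroup.zpowers b)
    (hA5 : ∀ B : Subgroup ↥(Subgroup.centralizer ({b} : Set G)), Cfsg.IsElementaryAbelian 3 B → (∃ H : Subgroup ↥(Subgroup.centralizer ({b} : Set G)), Cfsg.IsTwoLocal H ∧ B ≤ H) →
      (∀ B' : Subgroup ↥(Subgroup.centralizer ({b} : Set G)), Cfsg.IsElementaryAbelian 3 B' → (∃ H : Subgroup ↥(Subgroup.centralizer ({b} : Set G)), Cfsg.IsTwoLocal H ∧ B' ≤ H) → Nat.card ↥B' ≤ Nat.card ↥B) →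
      ∃ Q : Subgroup ↥(Subgroup.centralizer ({b} : Set G)), IsPGroup 2 ↥Q ∧ B ≤ Subgroup.normalizer (Q : Set ↥(Subgroup.centralizer ({b} : Set G))) ∧ ⁅Q, B⁆ ≠ ⊥) :
    (∃ (K : Type) (_ : Field K) (_ : Fintype K), Fintype.card K = 2 ∧ (Nonempty (G ≃* Cfsg.PSp 4 K) ∨ Nonempty (G ≃* ↥(Cfsg.Lie.chevF4.group K)))) := by
  have hfin : Finite ↥L := inferInstance
  obtain ⟨e⟩ := hLX
  have hfacts : Cfsg.Agent.H299.Facts ↥L := Cfsg.Agent.H299.SpSix.facts hF e
  have hH : Cfsg.Agent.H299.Red.Hyp G b L :=
    { char2 := hG, hb := hb, le := hLC, nrm := hLn, facts := hfacts, cyc := hcyc, rk := hrk, a5 := hA5 }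
  refine Cfsg.Agent.H299.final Cfsg.Agent.H299.rows (fun _ _ _ _ => Cfsg.Agent.S0000.result) (fun X _ _ _ => ?_)
    (Cfsg.Agent.GTwoRows.Rows.on_b Cfsg.Agent.GTwoRows.h1170) hH (Cfsg.Agent.H299.SpSix.facts2 hF e)
    (Cfsg.Agent.H299.SpSix.e8 hF e) hO3'
  by_cases hc : IsMulCommutative X
  · exact schComm hc
  · exact Cfsg.Agent.Schreier.Assembly.known X hc Cfsg.Agent.S0000.result

end Cfsg.Agent.S3159
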