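import Cfsg.Statements.S3192
import Cfsg.Agent.H307.Assemble
import Cfsg.Agent.H178.CType.PSL2Ctr

set_option autoImplicit false
open Cfsg

namespace Cfsg.Agent.S3192

/-- Simple groups of conjugate type rank three. For a finite group G consider the set of indices of the centralizers of the non-central elements of G. Then G is a non-abelian simple group for which this set has exactly three members if and only if G is isomorphic to PSL(2, 2^m) for some m ≥ 2. -/
theorem result (G : Type*) [Group G] [Finite G] :
    (IsSimpleGroup G ∧ ¬ IsMulCommutative G ∧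
        Set.ncard {m : ℕ | ∃ x : G, x ∉ Subgroup.center G ∧ m = (Subgroup.centralizer ({x} : Set G)).index} = 3) ↔
      ∃ (m : ℕ) (F : Type) (_ : Field F) (_ : Fintype F), 2 ≤ m ∧ Fintype.card F = 2 ^ m ∧
        Nonempty (G ≃* Matrix.ProjectiveSpecialLinearGroup (Fin 2) F) :=
  H307.Assemble.three_iff (fun _ _ _ m hm hF => H178.PSL2Idx.psl2_even m hm hF)
    (fun _ _ _ ho h7 => H178.PSL2Idx.psl2_odd ho h7) G

end Cfsg.Agent.S3192
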