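import Cfsg.Statements.S4158
import Cfsg.Agent.S0000
import Cfsg.Agent.H530.Final
import Cfsg.Agent.H530.ExcAll
import Cfsg.Agent.H995.CopSporadic

set_option autoImplicit false
open Cfsg

namespace Cfsg.Agent.S4158

/-- Let G be a finite non-abelian simple group and x, y non-identity elements. Then the sizes of the conjugacy classes of x and y are not coprime. -/
theorem result {G : Type*} [Group G] [Finite G] [IsSimpleGroup G] (hna : ¬ IsMulCommutative G)
    (x y : G) (hx : x ≠ 1) (hy : y ≠ 1) : ¬ ((Subgroup.centralizer ({x} : Set G)).index).Coprime (Subgroup.centralizer ({y} : Set G)).index := by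
  have hK : H995.CopEngine.AllKnown.{0} := fun S _ _ _ => Cfsg.Agent.S0000.result
  exact H530.Final.noCop_of_known hna Cfsg.Agent.S0000.result (fun h => H530.ExcAll.noCop_exc hna h)
    (fun h => H995.CopTwo.noCop_sporadic hK h) x y hx hy

end Cfsg.Agent.S4158
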