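import Cfsg.Statements.S3194
import Cfsg.Agent.H307.Assemble
import Cfsg.Agent.H178.CType.PSL2Ctr
import Cfsg.Agent.S4158

set_option autoImplicit false
open Cfsg

namespace Cfsg.Agent.S3194

/-- Simple groups of conjugate type rank five that are not three-headed. Let G be a non-abelian finite simple group and let I be the set of indices of the centralizers of the non-central elements of G. Suppose I has exactly five members, and that the number of members a of I that no other member of I divides is not three. Then G is isomorphic to a Suzuki group over the field with 2^(2n+1) elements for some n ≥ 1, or to PSL(3, 4). -/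
theorem result {G : Type*} [Group G] [Finite G]
    [IsSimpleGroup G] (hG : ¬ IsMulCommutative G)
    (h5 : Set.ncard {m : ℕ | ∃ x : G, x ∉ Subgroup.center G ∧ m = (Subgroup.centralizer ({x} : Set G)).index} = 5)
    (h3 : Set.ncard {a : ℕ | a ∈ {m : ℕ | ∃ x : G, x ∉ Subgroup.center G ∧ m = (Subgroup.centralizer ({x} : Set G)).index} ∧
      ∀ c ∈ {m : ℕ | ∃ x : G, x ∉ Subgroup.center G ∧ m = (Subgroup.centralizer ({x} : Set G)).index}, c ∣ a → c = a} ≠ 3) :
    (∃ (n : ℕ) (F : Type) (_ : Field F) (_ : Fintype F), 1 ≤ n ∧ Fintype.card F = 2 ^ (2 * n + 1) ∧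
        Nonempty (G ≃* ↥(Cfsg.Lie.Sz F (2 ^ (n + 1))))) ∨
      ∃ (F : Type) (_ : Field F) (_ : Fintype F), Fintype.card F = 4 ∧
        Nonempty (G ≃* Matrix.ProjectiveSpecialLinearGroup (Fin 3) F) :=
  H307.Assemble.five (fun _ _ _ m hm hF => H178.PSL2Idx.psl2_even m hm hF)
    (fun _ _ _ ho h7 => H178.PSL2Idx.psl2_odd ho h7)
    (fun _ _ _ _ hna x y hx hy => S4158.result hna x y hx hy) hG h5 h3

end Cfsg.Agent.S3194
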