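import Cfsg.Statements.S3197
import Cfsg.Agent.H308.A5Fusion
import Cfsg.Agent.H308.AltEight
import Cfsg.Agent.H308.GoldCore
import Cfsg.Agent.H308.GoldTransfer

set_option autoImplicit false
open Cfsg

namespace Cfsg.Agent.S3197

open Subgroup Cfsg.Agent.H308

/-- Let G be a finite group whose Sylow 2-subgroups are isomorphic to those of the alternating group of degree 8, with exactly three conjugacy classes of involutions, and containing an elementary abelian subgroup A of order 16 whose normalizer N satisfies: A·O(N) is normal in N with quotient N/(A·O(N)) isomorphic to the alternating group of degree 5, O(N) being the largest normal subgroup of odd order of N. Then A·O(G) is a normal subgroup of G. -/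
theorem result {G : Type*} [Group G] [Finite G]
    (S : Sylow 2 G) (P : Sylow 2 ↥(alternatingGroup (Fin 8)))
    (hS : Nonempty (↥(S : Subgroup G) ≃* ↥(P : Subgroup ↥(alternatingGroup (Fin 8)))))
    (h3 : Nat.card {c : ConjClasses G // ∃ x ∈ c.carrier, orderOf x = 2} = 3)
    (A : Subgroup G) (hA : Cfsg.IsElementaryAbelian 2 A) (hA16 : Nat.card ↥A = 16)
    (N : Subgroup G) (hN : N = Subgroup.normalizer (A : Set G))
    (hNA : ∃ (_ : (A.subgroupOf N ⊔ Cfsg.oddCore ↥N).Normal),
      Nonempty (↥N ⧸ (A.subgroupOf N ⊔ Cfsg.oddCore ↥N) ≃* ↥(alternatingGroup (Fin 5)))) :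
    (A ⊔ Cfsg.oddCore G).Normal := by
  classical
  haveI : Fact (Nat.Prime 2) := ⟨Nat.prime_two⟩
  subst hN
  obtain ⟨hMn, ⟨e⟩⟩ := hNA
  set M : Subgroup (normalizer (A : Set G)) :=
    A.subgroupOf (normalizer (A : Set G)) ⊔ Cfsg.oddCore ↥(normalizer (A : Set G)) with hM
  let ψ : normalizer (A : Set G) →* alternatingGroup (Fin 5) :=
    e.toMonoidHom.comp (QuotientGroup.mk' M)
  have hψs : Function.Surjective ψ := e.surjective.comp (QuotientGroup.mk'_surjective M)
  have hψk : ∀ n, ψ n = 1 ↔ n ∈ M := by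
    intro n
    change e (QuotientGroup.mk' M n) = 1 ↔ _
    rw [MulEquiv.map_eq_one_iff]
    exact QuotientGroup.eq_one_iff n
  have hcomm : ∀ a ∈ A, ∀ b ∈ A, a * b = b * a := fun a ha b hb =>
    congrArg Subtype.val (hA.1.is_comm.comm (⟨a, ha⟩ : A) ⟨b, hb⟩)
  have hexp : ∀ a ∈ A, a * a = 1 := fun a ha => by rw [← pow_two]; exact hA.2 a ha
  have hAn : (A.subgroupOf (normalizer (A : Set G))).Normal :=
    (normal_subgroupOf_iff_le_normalizer le_normalizer).2 le_rfl
  have hOn : (Cfsg.oddCore ↥(normalizer (A : Set G))).Normal := Lib.Cores.pPrimeCore_normal 2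
  have hOodd : (Nat.card (Cfsg.oddCore ↥(normalizer (A : Set G)))).Coprime 2 :=
    Lib.Cores.pPrimeCore_coprime 2
  let O : Subgroup G := (Cfsg.oddCore ↥(normalizer (A : Set G))).map (normalizer (A : Set G)).subtype
  have hOodd' : (Nat.card O).Coprime 2 := by
    rw [card_map_of_injective (normalizer (A : Set G)).subtype_injective]
    exact hOodd
  have hker : ∀ n : normalizer (A : Set G), ψ n = 1 ↔ ∃ a ∈ A, ∃ o ∈ O, (n : G) = a * o := by
    intro n
    rw [hψk, hM, ← SetLike.mem_coe, mul_normal, Set.mem_mul]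
    constructor
    · rintro ⟨a, ha, o, ho, rfl⟩
      exact ⟨a, ha, o, ⟨o, ho, rfl⟩, rfl⟩
    · rintro ⟨a, ha, _, ⟨o, ho, rfl⟩, hao⟩
      exact ⟨⟨a, le_normalizer ha⟩, ha, o, ho, Subtype.ext hao.symm⟩
  -- the Sylow 2-subgroup
  have hPc : Nat.card (P : Subgroup (alternatingGroup (Fin 8))) = 64 := AltEight.card_sylow P
  obtain ⟨φ⟩ := hS
  have hSc : Nat.card (S : Subgroup G) = 64 := by rw [Nat.card_congr φ.toEquiv, hPc]
  have hA2 : IsPGroup 2 A := by
    intro a
    refine ⟨1, Subtype.ext ?_⟩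
    have := hexp a a.2
    rw [← pow_two] at this
    simpa using this
  have hA2' : IsPGroup 2 (A.subgroupOf (normalizer (A : Set G))) :=
    hA2.comap_of_injective (normalizer (A : Set G)).subtype (normalizer (A : Set G)).subtype_injective
  obtain ⟨R, hR⟩ := hA2'.exists_le_sylow
  have h64 : 64 ∣ Nat.card (R : Subgroup (normalizer (A : Set G))) := by
    have h1 : Nat.card (normalizer (A : Set G)) = 60 * Nat.card M := by
      rw [card_eq_card_quotient_mul_card_subgroup M, Nat.card_congr e.toEquiv, AltFive.card_A5]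
    have h2 : 16 ∣ Nat.card M := by
      have h3 : Nat.card (A.subgroupOf (normalizer (A : Set G))) = 16 := by
        rw [Nat.card_congr (subgroupOfEquivOfLe le_normalizer).toEquiv, hA16]
      rw [← h3]
      exact card_dvd_of_le le_sup_left
    have h4 : 2 ^ 6 ∣ Nat.card (normalizer (A : Set G)) := by
      rw [h1]
      obtain ⟨k, hk⟩ := h2
      rw [hk]
      exact ⟨15 * k, by ring⟩
    exact R.pow_dvd_card_of_pow_dvd_card h4
  obtain ⟨S', hS'⟩ := (R.isPGroup'.map (normalizer (A : Set G)).subtype).exists_le_sylow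
  have hS'c : Nat.card (S' : Subgroup G) = 64 := by
    rw [← hSc]; exact Nat.card_congr (S'.equiv S).toEquiv
  have hRS' : (R : Subgroup (normalizer (A : Set G))).map (normalizer (A : Set G)).subtype = S' := by
    apply eq_of_le_of_card_ge hS'
    rw [hS'c, card_map_of_injective (normalizer (A : Set G)).subtype_injective]
    exact Nat.le_of_dvd Nat.card_pos h64
  have hS'N : (S' : Subgroup G) ≤ normalizer (A : Set G) := by
    rw [← hRS']; exact map_subtype_le _
  have hAS' : A ≤ S' := by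
    intro a ha
    rw [← hRS']
    exact ⟨⟨a, le_normalizer ha⟩, hR (show _ ∈ A.subgroupOf (normalizer (A : Set G)) from ha), rfl⟩
  let φ' : (S' : Subgroup G) ≃* P := (S'.equiv S).trans φ
  have hZ : ∀ Z : Subgroup G, Z ≤ A → (∀ z ∈ Z, ∀ s ∈ (S' : Subgroup G), s * z = z * s) →
      Nat.card Z < 4 := by
    intro Z hZA hZ
    have hZS : Z ≤ S' := hZA.trans hAS'
    let f : (S' : Subgroup G) →* alternatingGroup (Fin 8) :=
      (P : Subgroup (alternatingGroup (Fin 8))).subtype.comp φ'.toMonoidHom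
    have hf : Function.Injective f :=
      (P : Subgroup (alternatingGroup (Fin 8))).subtype_injective.comp φ'.injective
    have h1 := AltEight.center_small P ((Z.subgroupOf S').map f) (by
      rintro _ ⟨z, hz, rfl⟩ x hx
      obtain ⟨s, hs⟩ := φ'.surjective ⟨x, hx⟩
      have h2 : f s = x := congrArg Subtype.val hs
      rw [← h2, ← map_mul, ← map_mul]
      congr 1
      exact Subtype.ext (hZ z hz s s.2))
    rwa [card_map_of_injective hf, Nat.card_congr (subgroupOfEquivOfLe hZS).toEquiv] at h1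
  -- `M` centralizes `A`
  have hMc : ∀ n : normalizer (A : Set G), ψ n = 1 → ∀ a ∈ A, (n : G) * a = a * n := by
    intro n hn a ha
    obtain ⟨b, hb, _, ⟨o, ho, rfl⟩, hbo⟩ := (hker n).1 hn
    have h1 : o * ⟨a, le_normalizer ha⟩ * o⁻¹ * (⟨a, le_normalizer ha⟩ : normalizer (A : Set G))⁻¹ = 1 := by
      have h2 : o * ⟨a, le_normalizer ha⟩ * o⁻¹ * (⟨a, le_normalizer ha⟩ : normalizer (A : Set G))⁻¹ ∈
          A.subgroupOf (normalizer (A : Set G)) :=
        mul_mem (hAn.conj_mem _ (show _ ∈ A.subgroupOf (normalizer (A : Set G)) from ha) o)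
          (inv_mem (show _ ∈ A.subgroupOf (normalizer (A : Set G)) from ha))
      have h3 : o * ⟨a, le_normalizer ha⟩ * o⁻¹ * (⟨a, le_normalizer ha⟩ : normalizer (A : Set G))⁻¹ ∈
          Cfsg.oddCore ↥(normalizer (A : Set G)) := by
        have h4 : o * ⟨a, le_normalizer ha⟩ * o⁻¹ * (⟨a, le_normalizer ha⟩ : normalizer (A : Set G))⁻¹ =
          o * (⟨a, le_normalizer ha⟩ * o⁻¹ * (⟨a, le_normalizer ha⟩ : normalizer (A : Set G))⁻¹) := by
            group
        rw [h4]
        exact mul_mem ho (hOn.conj_mem _ (inv_mem ho) _)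
      refine GoldTransfer.eq_one_of_odd hOodd h3 ⟨1, ?_⟩
      rw [pow_one, pow_two]
      exact Subtype.ext (hexp _ h2)
    rw [mul_inv_eq_one, mul_inv_eq_iff_eq_mul] at h1
    have h2 : (o : G) * a = a * o := congrArg Subtype.val h1
    change (n : G) = b * (o : G) at hbo
    rw [hbo, mul_assoc, h2, ← mul_assoc, hcomm b hb a ha, mul_assoc]
  -- `C(A) = M`
  have hcen : ∀ n : normalizer (A : Set G), (∀ a ∈ A, (n : G) * a = a * n) → ψ n = 1 := by
    let C : Subgroup (normalizer (A : Set G)) := (centralizer (A : Set G)).subgroupOf _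
    have hCn : C.Normal := by
      refine ⟨fun n hn g => ?_⟩
      have hn' : ∀ a ∈ A, a * (n : G) = n * a := mem_centralizer_iff.1 hn
      change (g * n * (g : G)⁻¹) ∈ centralizer (A : Set G)
      rw [mem_centralizer_iff]
      intro a ha
      have h1 : (g : G)⁻¹ * a * g ∈ A := by
        have := (mem_normalizer_iff.1 (inv_mem g.2) a).1 ha
        rwa [inv_inv] at this
      have h2 := hn' _ h1
      calc a * (g * n * (g : G)⁻¹) = g * (((g : G)⁻¹ * a * g) * n) * (g : G)⁻¹ := by group
        _ = g * (n * ((g : G)⁻¹ * a * g)) * (g : G)⁻¹ := by rw [h2]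
        _ = _ := by group
    have hs : IsSimpleGroup (alternatingGroup (Fin 5)) := inferInstance
    rcases (hCn.map ψ hψs).eq_bot_or_eq_top with h4 | h4
    · intro n hn
      have h5 : ψ n ∈ C.map ψ := ⟨n, mem_centralizer_iff.2 fun a ha => (hn a ha).symm, rfl⟩
      rwa [h4, mem_bot] at h5
    · exfalso
      have h5 := hZ A le_rfl (by
        intro z hz s hs
        have h6 : ψ ⟨s, hS'N hs⟩ ∈ C.map ψ := by rw [h4]; exact mem_top _
        obtain ⟨c, hc, hcs⟩ := h6
        have h7 : ψ (⟨s, hS'N hs⟩ * c⁻¹) = 1 := by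
          rw [map_mul, map_inv, hcs, mul_inv_cancel]
        have h8 := hMc _ h7 z hz
        change s * (c : G)⁻¹ * z = z * (s * (c : G)⁻¹) at h8
        have h9 : z * (c : G) = c * z := mem_centralizer_iff.1 hc z hz
        have h10 : (c : G)⁻¹ * z = z * (c : G)⁻¹ := by
          rw [inv_mul_eq_iff_eq_mul, ← mul_assoc, ← h9, mul_inv_cancel_right]
        have h11 : s * z * (c : G)⁻¹ = z * s * (c : G)⁻¹ := by
          calc s * z * (c : G)⁻¹ = s * ((c : G)⁻¹ * z) := by rw [h10, mul_assoc]
            _ = z * (s * (c : G)⁻¹) := by rw [← mul_assoc, h8]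
            _ = _ := by rw [mul_assoc]
        exact mul_right_cancel h11)
      rw [hA16] at h5
      norm_num at h5
  have hdata : A5Count.Data A O ψ := by
    refine ⟨hcomm, hexp, hA16, hψs, map_subtype_le _, ?_, hOodd', hker, hcen⟩
    rintro n hn _ ⟨o, ho, rfl⟩
    exact ⟨⟨n, hn⟩ * o * ⟨n, hn⟩⁻¹, hOn.conj_mem o ho _, rfl⟩
  have hyp := A5Fusion.hyp_of_data hdata S' hS'N hAS' hZ h3
  haveI hOGn : (Cfsg.oddCore G).Normal := Lib.Cores.pPrimeCore_normal 2
  have hyp' := GoldTransfer.hyp_map hyp (O := Cfsg.oddCore G) (Lib.Cores.pPrimeCore_coprime 2)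
  have hn := GoldCore.normal_of_core_free hyp' (Lib.Cores.pPrimeCore_quotient_pPrimeCore 2)
  have h5 := hn.comap (QuotientGroup.mk' (Cfsg.oddCore G))
  rwa [comap_map_eq, QuotientGroup.ker_mk'] at h5

end Cfsg.Agent.S3197
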