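import Cfsg.Statements.S3205
import Cfsg.Agent.S0000
import Cfsg.Agent.S0509
import Cfsg.Agent.Schreier.Assembly
import Cfsg.Agent.SylowSp4.Recog
import Cfsg.Agent.H310.PspReduce

set_option autoImplicit false
open Cfsg

namespace Cfsg.Agent.S3205

/-- Let G be a finite perfect group with no nontrivial normal subgroup of odd order and trivial centre whose Sylow 2-subgroups are isomorphic to those of PSp(4, q) for some odd prime power q. Then G is isomorphic to the alternating group of degree 8 or of degree 9; or G is a split extension of a normal elementary abelian subgroup E of order 16 by a complement isomorphic to the alternating group of degree 5 that acts nontrivially on E by conjugation but not transitively on the nonidentity elements of E; or G is a split extension of a normal elementary abelian subgroup E of order 8 by a complement isomorphic to GL(3, 2) acting faithfully on E; or G is isomorphic to PSp(4, q′) for some odd prime power q′. -/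
theorem result {G : Type*} [Group G] [Finite G]
    (hP : commutator G = ⊤) (hO : Cfsg.oddCore G = ⊥) (hZ : Subgroup.center G = ⊥)
    {F : Type*} [Field F] [Fintype F] (hF : Odd (Fintype.card F)) (S : Sylow 2 G) (P : Sylow 2 (Cfsg.PSp 2 F))
    (hS : Nonempty (↥(S : Subgroup G) ≃* ↥(P : Subgroup (Cfsg.PSp 2 F)))) :
    Nonempty (G ≃* ↥(alternatingGroup (Fin 8))) ∨ Nonempty (G ≃* ↥(alternatingGroup (Fin 9))) ∨
    (∃ E K : Subgroup G, E.Normal ∧ Cfsg.IsElementaryAbelian 2 E ∧ Nat.card ↥E = 16 ∧
        Nonempty (↥K ≃* ↥(alternatingGroup (Fin 5))) ∧ Subgroup.IsComplement' E K ∧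
        ¬ (K ≤ Subgroup.centralizer (E : Set G)) ∧
        ∃ e₁ ∈ E, ∃ e₂ ∈ E, e₁ ≠ 1 ∧ e₂ ≠ 1 ∧ ∀ k ∈ K, k * e₁ * k⁻¹ ≠ e₂) ∨
    (∃ E K : Subgroup G, E.Normal ∧ Cfsg.IsElementaryAbelian 2 E ∧ Nat.card ↥E = 8 ∧
        Nonempty (↥K ≃* GL (Fin 3) (ZMod 2)) ∧ Subgroup.IsComplement' E K ∧
        K ⊓ Subgroup.centralizer (E : Set G) = ⊥) ∨
    (∃ (F' : Type) (_ : Field F') (_ : Fintype F'), Odd (Fintype.card F') ∧ Nonempty (G ≃* Cfsg.PSp 2 F')) := by
  obtain ⟨k, f, s, h⟩ := Cfsg.Agent.SylowSp4.Recog.exists_coord hF (S : Subgroup G) P hS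
  rcases Cfsg.Agent.H310.PspReduce.reduce hP hO hZ
      (fun K _ _ _ hK => Cfsg.Agent.Schreier.Assembly.known K hK Cfsg.Agent.S0000.result) S h with h1 | h1 | h1
  · rcases Cfsg.Agent.S0509.result hF S P hS with h2 | h2 | h2
    · exact Or.inr (Or.inr (Or.inr (Or.inr h2)))
    · exact Or.inl h2
    · exact Or.inr (Or.inl h2)
  · exact Or.inr (Or.inr (Or.inl h1))
  · exact Or.inr (Or.inr (Or.inr (Or.inl h1)))

end Cfsg.Agent.S3205
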