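import Cfsg.Statements.S3212
import Cfsg.Agent.H311.Fin3212
import Cfsg.Agent.S3205

set_option autoImplicit false
open Cfsg

namespace Cfsg.Agent.S3212

/-- Let G be a finite group with an involution j such that C_G(j) has no nontrivial normal subgroup of odd order, and let L₁ ≅ SL₂(q₁), L₂ ≅ SL₂(q₂) (over finite fields) be elementwise-commuting subgroups with L₁ ∩ L₂ = ⟨j⟩; put Y = L₁L₂. Suppose that for some odd δ either Y is normal of index 2δ in C_G(j), or C_G(j) has a normal subgroup H of index δ containing Y with index 2. Then j is central in some Sylow 2-subgroup of G, q₁ and q₂ are odd, and one of the following holds: G = C_G(j)O(G); or q₁ = q₂, neither Lᵢ is normal in C_G(j), and G has a normal subgroup of index δ isomorphic to PSp₄(q₁); or q₁ = q₂, both Lᵢ are normal in C_G(j), and G has a normal subgroup of index δ isomorphic to G₂(q₁); or one of q₁, q₂ is the cube of the other, both Lᵢ are normal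 in C_G(j), and G has a normal subgroup of index δ isomorphic to ³D₄(q) for q = min(q₁, q₂). -/
theorem result {G : Type*} [Group G] [Finite G]
    {F₁ : Type*} [Field F₁] [Fintype F₁] {F₂ : Type*} [Field F₂] [Fintype F₂] (L₁ L₂ : Subgroup G)
    (e₁ : ↥L₁ ≃* Matrix.SpecialLinearGroup (Fin 2) F₁) (e₂ : ↥L₂ ≃* Matrix.SpecialLinearGroup (Fin 2) F₂)
    (hc : ∀ x ∈ L₁, ∀ y ∈ L₂, x * y = y * x) (j : G) (hj : orderOf j = 2) (hm : L₁ ⊓ L₂ = Subgroup.zpowers j)
    (hle : L₁ ⊔ L₂ ≤ Subgroup.centralizer ({j} : Set G)) (hO : Cfsg.oddCore ↥(Subgroup.centralizer ({j} : Set G)) = ⊥) (δ : ℕ) (hδ : Odd δ)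
    (hY : (((L₁ ⊔ L₂).subgroupOf (Subgroup.centralizer ({j} : Set G))).Normal ∧ (L₁ ⊔ L₂).relIndex (Subgroup.centralizer ({j} : Set G)) = 2 * δ) ∨
      (∃ H : Subgroup G, H ≤ Subgroup.centralizer ({j} : Set G) ∧ (H.subgroupOf (Subgroup.centralizer ({j} : Set G))).Normal ∧ H.relIndex (Subgroup.centralizer ({j} : Set G)) = δ ∧
        L₁ ⊔ L₂ ≤ H ∧ (L₁ ⊔ L₂).relIndex H = 2)) :
    (∃ S : Sylow 2 G, j ∈ (S : Subgroup G) ∧ ∀ s ∈ (S : Subgroup G), s * j = j * s) ∧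
      Odd (Fintype.card F₁) ∧ Odd (Fintype.card F₂) ∧
      (Subgroup.centralizer ({j} : Set G) ⊔ Cfsg.oddCore G = ⊤ ∨
        (Fintype.card F₁ = Fintype.card F₂ ∧ ¬ (L₁.subgroupOf (Subgroup.centralizer ({j} : Set G))).Normal ∧ ¬ (L₂.subgroupOf (Subgroup.centralizer ({j} : Set G))).Normal ∧
          ∃ N : Subgroup G, N.Normal ∧ N.index = δ ∧ Nonempty (↥N ≃* Cfsg.PSp 2 F₁)) ∨
        (Fintype.card F₁ = Fintype.card F₂ ∧ (L₁.subgroupOf (Subgroup.centralizer ({j} : Set G))).Normal ∧ (L₂.subgroupOf (Subgroup.centralizer ({j} : Set G))).Normal ∧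
          ∃ N : Subgroup G, N.Normal ∧ N.index = δ ∧ Nonempty (↥N ≃* ↥(Cfsg.Lie.chevG2.group F₁))) ∨
        ((L₁.subgroupOf (Subgroup.centralizer ({j} : Set G))).Normal ∧ (L₂.subgroupOf (Subgroup.centralizer ({j} : Set G))).Normal ∧
          ∃ N : Subgroup G, N.Normal ∧ N.index = δ ∧
            ((Fintype.card F₂ = Fintype.card F₁ ^ 3 ∧ Nonempty (↥N ≃* ↥(Cfsg.Lie.twistedD4 F₂ (Fintype.card F₁)))) ∨
              (Fintype.card F₁ = Fintype.card F₂ ^ 3 ∧ Nonempty (↥N ≃* ↥(Cfsg.Lie.twistedD4 F₁ (Fintype.card F₂))))))) := by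
  have hjmem : j ∈ L₁ ⊓ L₂ := by rw [hm]; exact Subgroup.mem_zpowers j
  have hj1 : j ≠ 1 := fun h => by rw [h, orderOf_one] at hj; omega
  have hjc : ∀ x ∈ L₁ ⊔ L₂, j * x = x * j := fun x hx => (Subgroup.mem_centralizer_singleton_iff.1 (hle hx)).symm
  have t1 : (2 : F₁) ≠ 0 := Cfsg.Agent.H311.two_ne_of_central e₁ hjmem.1 hj1 fun x hx => hjc x (Subgroup.mem_sup_left hx)
  have t2 : (2 : F₂) ≠ 0 := Cfsg.Agent.H311.two_ne_of_central e₂ hjmem.2 hj1 fun x hx => hjc x (Subgroup.mem_sup_right hx)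
  have h1 := Cfsg.Agent.H311.odd_of_two_ne t1
  have h2 := Cfsg.Agent.H311.odd_of_two_ne t2
  set D := Cfsg.Agent.H311.mkDuo t1 t2 L₁ L₂ e₁ e₂ hc j hj hm with hD
  have hYD : D.Y = L₁ ⊔ L₂ := Cfsg.Agent.H311.Y_mkDuo t1 t2 L₁ L₂ e₁ e₂ hc j hj hm
  have hr1 : D.e1.range = L₁ := Cfsg.Agent.H311.range_emb L₁ e₁
  have hr2 : D.e2.range = L₂ := Cfsg.Agent.H311.range_emb L₂ e₂
  have key : (∀ c, c * j = j * c → ∀ y ∈ D.Y, c * y * c⁻¹ ∈ D.Y) ∧
      D.Y.relIndex (Subgroup.centralizer ({j} : Set G)) = 2 * δ := by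
    rw [← hYD] at hY hle
    rcases hY with ⟨hN, hi⟩ | ⟨H, hHC, hHn, hHi, hYH, hi⟩
    · refine ⟨?_, hi⟩
      intro c hc y hy
      exact hN.conj_mem ⟨y, hle hy⟩ hy ⟨c, Subgroup.mem_centralizer_singleton_iff.2 hc⟩
    · constructor
      · intro c hc
        apply D.normal_of_two h1 h2 hYH hi
        intro h hh
        exact hHn.conj_mem ⟨h, hHC hh⟩ hh ⟨c, Subgroup.mem_centralizer_singleton_iff.2 hc⟩
      · have := Subgroup.relIndex_mul_relIndex D.Y H _ hYH hHC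
        rw [hi, hHi] at this
        exact this.symm
  obtain ⟨hn, hidx⟩ := key
  have hHalf : D.Half := Cfsg.Agent.H311.Duo.half_of_index hn hδ hidx
  have cent := Cfsg.Agent.H311.Duo.cent_two (D := D) hn hδ hidx hO
  have nms := Cfsg.Agent.H311.Duo.nm_or_sw (D := D) h1 h2 hn
  refine ⟨?_, h1, h2, ?_⟩
  · obtain ⟨S, hSj, hS⟩ := hHalf.two_central t1 t2 (Subgroup.zpowers j)
      (Cfsg.Agent.H311.isPGroup_zpowers (Cfsg.Agent.H311.isTwo_of_sq D.jj)) (Cfsg.Agent.H311.Duo.isTwo_zpowers_comm rfl)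
    exact ⟨S, hS (Subgroup.mem_zpowers j), hSj⟩
  by_cases hnot : Subgroup.centralizer ({j} : Set G) ⊔ Cfsg.oddCore G = ⊤
  · exact Or.inl hnot
  right
  have i1 := D.normal1_iff
  have i2 := D.sw.normal1_iff
  rw [hr1] at i1
  have hr2' : D.sw.e1.range = L₂ := hr2
  rw [hr2'] at i2
  by_cases hall : ∀ c, c * j = j * c → D.Nm c
  · right
    have N : D.NS := ⟨hHalf, fun c hc => (hall c hc).1, fun c hc => (hall c hc).2, cent⟩
    obtain ⟨K, hKn, hKi, hout⟩ := N.final h1 h2 hO hnot hidx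
    have n1 : (L₁.subgroupOf (Subgroup.centralizer ({j} : Set G))).Normal := i1.2 fun c hc => (hall c hc).1
    have n2 : (L₂.subgroupOf (Subgroup.centralizer ({j} : Set G))).Normal := i2.2 fun c hc => (hall c hc).2
    have hout' : Cfsg.Agent.H311.Out K F₁ F₂ ∨ (Nat.card F₁ = Nat.card F₂ ^ 3 ∧
        Nonempty (K ≃* ↥(Cfsg.Lie.twistedD4 F₁ (Nat.card F₂)))) := by
      rcases hout with h | h
      · exact Or.inl h
      · rcases h with ⟨h3, h4⟩ | ⟨_, h3, h4⟩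
        · left
          rw [Nat.card_eq_fintype_card, Nat.card_eq_fintype_card] at h3
          have f := FiniteField.ringEquivOfCardEq h3
          left
          refine ⟨by rw [Nat.card_eq_fintype_card, Nat.card_eq_fintype_card, h3], ?_⟩
          obtain ⟨e⟩ := h4
          exact ⟨e.trans (Cfsg.Agent.ChevalleyStructure.FieldIso.groupEquiv Cfsg.Lie.chevG2 f)⟩
        · right
          exact ⟨h3, h4⟩
    rw [Cfsg.Agent.H311.Out] at hout'
    simp only [Nat.card_eq_fintype_card] at hout'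
    rcases hout' with (⟨h3, h4⟩ | ⟨_, h3, h4⟩) | ⟨h3, h4⟩
    · left
      exact ⟨h3, n1, n2, K, hKn, hKi, h4⟩
    · right
      rw [Nat.card_eq_fintype_card (α := F₁)] at h4
      refine ⟨n1, n2, K, hKn, hKi, Or.inl ⟨?_, h4⟩⟩
      convert h3
    · right
      rw [Nat.card_eq_fintype_card (α := F₂)] at h4
      exact ⟨n1, n2, K, hKn, hKi, Or.inr ⟨h3, h4⟩⟩
  · left
    push Not at hall
    obtain ⟨c, hcj, hcn⟩ := hall
    have hsw := (nms c hcj).resolve_left hcn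
    obtain ⟨h3, h4⟩ := Cfsg.Agent.H311.Duo.swap_final
      (fun K _ _ a1 a2 a3 F _ _ a4 S P a5 => Cfsg.Agent.S3205.result a1 a2 a3 a4 S P a5) hHalf h1 h2 hcj hsw nms cent hO hδ hidx hnot
    refine ⟨h3, ?_, ?_, h4⟩
    · intro h
      exact Cfsg.Agent.H311.Duo.not_nm1_sw1 (D := D) (i1.1 h c hcj) hsw.1
    · intro h
      exact Cfsg.Agent.H311.Duo.not_nm1_sw1 (D := D.sw) (i2.1 h c hcj) hsw.2

end Cfsg.Agent.S3212
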