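import Cfsg.Statements.S3207
import Cfsg.Agent.H471.CoreCent
import Cfsg.Agent.S3212

set_option autoImplicit false
open Cfsg

namespace Cfsg.Agent.S3207

/-- Let G be a finite group with subgroups L₁ ≅ SL₂(q₁) and L₂ ≅ SL₂(q₂), q₁ and q₂ odd prime powers, which commute elementwise and meet in ⟨j⟩ for an involution j, and suppose L₁L₂ has index 2 in C_G(j). If G ≠ C_G(j)O(G), then either q₁ = q₂ and neither L₁ nor L₂ is normal in C_G(j), or q₁ = q₂ and both L₁ and L₂ are normal in C_G(j), or one of q₁, q₂ is the cube of the other. -/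
theorem result {G : Type*} [Group G] [Finite G]
    {F₁ : Type*} [Field F₁] [Fintype F₁] {F₂ : Type*} [Field F₂] [Fintype F₂]
    (hF₁ : Odd (Fintype.card F₁)) (hF₂ : Odd (Fintype.card F₂)) (L₁ L₂ : Subgroup G)
    (e₁ : ↥L₁ ≃* Matrix.SpecialLinearGroup (Fin 2) F₁) (e₂ : ↥L₂ ≃* Matrix.SpecialLinearGroup (Fin 2) F₂)
    (hc : ∀ x ∈ L₁, ∀ y ∈ L₂, x * y = y * x) (j : G) (hj : orderOf j = 2) (hm : L₁ ⊓ L₂ = Subgroup.zpowers j)
    (hle : L₁ ⊔ L₂ ≤ Subgroup.centralizer ({j} : Set G)) (hi : (L₁ ⊔ L₂).relIndex (Subgroup.centralizer ({j} : Set G)) = 2)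
    (hG : Subgroup.centralizer ({j} : Set G) ⊔ Cfsg.oddCore G ≠ ⊤) :
    (Fintype.card F₁ = Fintype.card F₂ ∧ ¬ (L₁.subgroupOf (Subgroup.centralizer ({j} : Set G))).Normal ∧
        ¬ (L₂.subgroupOf (Subgroup.centralizer ({j} : Set G))).Normal) ∨
      (Fintype.card F₁ = Fintype.card F₂ ∧ (L₁.subgroupOf (Subgroup.centralizer ({j} : Set G))).Normal ∧
        (L₂.subgroupOf (Subgroup.centralizer ({j} : Set G))).Normal) ∨
      (Fintype.card F₁ = Fintype.card F₂ ^ 3 ∨ Fintype.card F₂ = Fintype.card F₁ ^ 3) := by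
  have hO : Cfsg.oddCore ↥(Subgroup.centralizer ({j} : Set G)) = ⊥ :=
    Cfsg.Agent.H471.CoreCent.oddCore_eq_bot hF₁ hF₂ L₁ L₂ e₁ e₂ hc hle hi
  have hn : ((L₁ ⊔ L₂).subgroupOf (Subgroup.centralizer ({j} : Set G))).Normal :=
    Subgroup.normal_of_index_eq_two hi
  have h := Cfsg.Agent.S3212.result L₁ L₂ e₁ e₂ hc j hj hm hle hO 1 odd_one (Or.inl ⟨hn, hi⟩)
  rcases h.2.2.2 with h | ⟨h1, h2, h3, -⟩ | ⟨h1, h2, h3, -⟩ | ⟨-, -, N, -, -, h | h⟩
  · exact absurd h hG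
  · exact Or.inl ⟨h1, h2, h3⟩
  · exact Or.inr (Or.inl ⟨h1, h2, h3⟩)
  · exact Or.inr (Or.inr (Or.inr h.1))
  · exact Or.inr (Or.inr (Or.inl h.1))

end Cfsg.Agent.S3207
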