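import Cfsg.Statements.S3216
import Cfsg.Agent.H312.OddCase
import Cfsg.Agent.H312.EvenCase
import Cfsg.Agent.LieClassical.FieldTransfer
import Cfsg.Agent.TwoFusion.SLTwoFacts
import Cfsg.Agent.ClassicalGeometry.PSL2Basic
import Cfsg.Agent.S0252
import Cfsg.Agent.S0253

set_option autoImplicit false
open Cfsg

namespace Cfsg.Agent.S3216

open Subgroup
open Cfsg.Agent.Intrinsic.Basic Cfsg.Agent.GH.Defs Cfsg.Agent.GH.Comp
open Cfsg.Agent.GH.L2Frame (fix mem_fix)
open Cfsg.Agent.Walter.SylowIn Cfsg.Agent.Lib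
open Cfsg.Agent.GH Cfsg.Agent.H312

theorem exists_pow (F : Type*) [Field F] [Fintype F] (h : ¬ Odd (Fintype.card F)) :
    ∃ a : ℕ, Fintype.card F = 2 ^ a := by
  obtain ⟨p, _, a, hp, hpa⟩ := FiniteField.card' F
  have hp2 : p = 2 := by
    by_contra h1
    apply h
    rw [hpa]
    exact (hp.odd_of_ne_two h1).pow
  exact ⟨a, by rw [hpa, hp2]⟩

/-- `PSL₂(q)`, `q > 3`. -/
theorem psl_facts {F : Type*} [Field F] [Fintype F] (hF : 3 < Fintype.card F) :
    IsSimpleGroup (Matrix.ProjectiveSpecialLinearGroup (Fin 2) F) ∧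
    4 ∣ Nat.card (Matrix.ProjectiveSpecialLinearGroup (Fin 2) F) ∧
    ¬ ∀ a b : Matrix.ProjectiveSpecialLinearGroup (Fin 2) F, a * b = b * a := by
  have hs := Cfsg.Agent.TwoFusion.SLTwoFacts.isSimpleGroup_psl hF
  have h4 : 4 ∣ Nat.card (Matrix.ProjectiveSpecialLinearGroup (Fin 2) F) := by
    by_cases h : Odd (Fintype.card F)
    · have h1 := ClassicalGeometry.PSL2Basic.card_PSL2_odd F h
      have h2 : 8 ∣ Fintype.card F ^ 2 - 1 := Nat.eight_dvd_sq_sub_one_of_odd h
      obtain ⟨m, hm⟩ := h2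
      rw [hm] at h1
      refine ⟨Fintype.card F * m, ?_⟩
      have h3 : Fintype.card F * (8 * m) = (4 * (Fintype.card F * m)) * 2 := by ring
      omega
    · obtain ⟨a, ha⟩ := exists_pow F h
      have h1 := ClassicalGeometry.PSL2Basic.card_PSL2_even F (Nat.not_odd_iff_even.1 h)
      rw [h1]
      apply Dvd.dvd.mul_right
      rw [ha] at hF ⊢
      have ha2 : 2 ≤ a := by
        by_contra h2
        have h3 : a ≤ 1 := by omega
        have h4 : 2 ^ a ≤ 2 ^ 1 := Nat.pow_le_pow_right (by norm_num) h3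
        omega
      exact pow_dvd_pow 2 ha2
  refine ⟨hs, h4, fun hc => ?_⟩
  let _ : CommGroup (Matrix.ProjectiveSpecialLinearGroup (Fin 2) F) :=
    { (inferInstance : Group (Matrix.ProjectiveSpecialLinearGroup (Fin 2) F)) with mul_comm := hc }
  have h1 : (Nat.card (Matrix.ProjectiveSpecialLinearGroup (Fin 2) F)).Prime :=
    IsSimpleGroup.prime_card (α := Matrix.ProjectiveSpecialLinearGroup (Fin 2) F)
  have h2 : 2 ∣ Nat.card (Matrix.ProjectiveSpecialLinearGroup (Fin 2) F) := (by norm_num : 2 ∣ 4).trans h4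
  have h3 := (Nat.prime_dvd_prime_iff_eq Nat.prime_two h1).1 h2
  rw [← h3] at h4
  omega

theorem isL2odd {F : Type*} [Field F] [Fintype F] (hF : 3 < Fintype.card F)
    (h : Odd (Fintype.card F) ∨ Fintype.card F = 4) :
    IsL2odd (Matrix.ProjectiveSpecialLinearGroup (Fin 2) F) := by
  rcases h with h | h
  · have : Small.{0} F := ⟨⟨Fin (Fintype.card F), ⟨Fintype.equivFin F⟩⟩⟩
    let _ : Fintype (Shrink.{0} F) := Fintype.ofEquiv F (equivShrink.{0} F)
    have hc : Fintype.card (Shrink.{0} F) = Fintype.card F := Fintype.card_congr (equivShrink.{0} F).symm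
    refine ⟨Shrink.{0} F, inferInstance, inferInstance, by rw [hc]; exact h, ?_,
      ⟨LieClassical.FieldTransfer.pslCongr (Shrink.ringEquiv.{0} F).symm⟩⟩
    rw [hc]
    obtain ⟨m, hm⟩ := h
    omega
  · have : Fact (Nat.Prime 5) := ⟨by norm_num⟩
    obtain ⟨e⟩ := Cfsg.Agent.S0252.result (F := F) h
    obtain ⟨f⟩ := Cfsg.Agent.S0253.result (F := ZMod 5) (ZMod.card 5)
    refine ⟨ZMod 5, inferInstance, inferInstance, ?_, ?_, ⟨e.trans f.symm⟩⟩
    · rw [ZMod.card]; decide
    · rw [ZMod.card]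

/-- Let G be a finite non-abelian simple group and t an involution of G; write C = C_G(t) and C̄ = C/O(C). If the subgroup of C̄ generated by its 2-elements (the smallest normal subgroup of C̄ of odd index) is isomorphic to Z₂ × PSL₂(q) for some prime power q > 3, then the Sylow 2-subgroups of G are elementary abelian of order 8. -/
theorem result {G : Type*} [Group G] [Finite G] [IsSimpleGroup G]
    (hG : ¬ IsMulCommutative G) (t : G) (ht : orderOf t = 2) {F : Type*} [Field F] [Fintype F] (hF : 3 < Fintype.card F)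
    (hL : Nonempty (↥(Subgroup.closure {x : (↥(Subgroup.centralizer ({t} : Set G)) ⧸ Cfsg.oddCore ↥(Subgroup.centralizer ({t} : Set G))) | ∃ k : ℕ, orderOf x = 2 ^ k}) ≃*
      (Multiplicative (ZMod 2) × Matrix.ProjectiveSpecialLinearGroup (Fin 2) F))) (S : Sylow 2 G) :
    Nat.card ↥(S : Subgroup G) = 8 ∧ ∀ x ∈ (S : Subgroup G), x ^ 2 = 1 := by
  have hnc : ¬ ∀ a b : G, a * b = b * a := fun h => hG ⟨⟨h⟩⟩
  obtain ⟨hLs, h4, hLn⟩ := psl_facts hF
  obtain ⟨e⟩ := hL
  obtain ⟨K, hK, hKn, ⟨f⟩, hT⟩ := Setup.exists_comp hLn ht e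
  have hs : IsSimpleGroup (Bar K) := isSimple_congr f.symm hLs
  have hsn : ¬ ∀ a b : Bar K, a * b = b * a := by
    intro h1
    apply hLn
    intro a b
    have := h1 (f.symm a) (f.symm b)
    rw [← map_mul, ← map_mul] at this
    exact f.symm.injective this
  have hZ : center (Bar K) = ⊥ := Setup.center_eq_bot hsn
  by_cases hq : Odd (Fintype.card F) ∨ Fintype.card F = 4
  · obtain ⟨T, hTs⟩ := exists_sylIn 2 (centralizer ({t} : Set G))
    obtain ⟨h1, h2⟩ := hT T hTs
    have hodd : ¬ EvenCenter K := by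
      rw [EvenCenter, hZ, Subgroup.card_bot]
      decide
    have hF' : L2Frame.Frame (centralizer ({t} : Set G)) K T := ⟨hK, hodd, hTs.le.trans hKn, hTs⟩
    have g : STop K ≃* Matrix.ProjectiveSpecialLinearGroup (Fin 2) F :=
      ((QuotientGroup.quotientMulEquivOfEq hZ).trans QuotientGroup.quotientBot).trans f
    exact OddCase.main hnc ht hF' hKn (TOne.good_of_isTop (Or.inl ((isL2odd hF hq).congr g.symm))) h1 h2 S
  · exfalso
    push Not at hq
    obtain ⟨a, ha⟩ := exists_pow F hq.1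
    have ha3 : 3 ≤ a := by
      by_contra h2
      have h3 : a ≤ 2 := by omega
      have h5 : 2 ^ a ≤ 2 ^ 2 := Nat.pow_le_pow_right (by norm_num) h3
      have h6 := hq.2
      rw [ha] at h6 hF
      omega
    have hsit : EvenCase.Sit t K := ⟨inferInstance, hnc, ht, hK, hKn, fun T hTs => (hT T hTs).1, hs, hsn⟩
    refine EvenCase.false_of_even hsit a ha3 ha f ?_
    rw [← Nat.card_congr f.toEquiv] at h4
    exact h4.trans (card_quotient_dvd_card _)

end Cfsg.Agent.S3216
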