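import Cfsg.Statements.S3222
import Cfsg.Agent.H314.S6Eight
import Cfsg.Agent.S0205
import Cfsg.Agent.BpAlt.Row

set_option autoImplicit false
set_option linter.style.haveILetI false
open Cfsg

namespace Cfsg.Agent.S3222

open Subgroup Cfsg.Agent.H314.S6Model Cfsg.Agent.H314.S6Fus
open scoped commutatorElement Pointwise

/-- the concrete data -/
theorem exists_hyp {G : Type*} [Group G] [Finite G]
    (t : G) (ht : orderOf t = 2) (T : Sylow 2 G) (htc : ∀ s ∈ (T : Subgroup G), s * t = t * s)
    (e : ↥(Subgroup.centralizer ({t} : Set G)) ≃* (Multiplicative (ZMod 2) × Equiv.Perm (Fin 4)))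
    (h2 : ∀ S : Sylow 2 G, Subgroup.centralizer ((⁅(S : Subgroup G), (S : Subgroup G)⁆ : Subgroup G) : Set G) = (S : Subgroup G)) :
    ∃ φ : Q →* G, φ τ = t ∧ Hyp φ := by
  let φ₀ : Q →* G := (Subgroup.centralizer ({t} : Set G)).subtype.comp e.symm.toMonoidHom
  have hinj : Function.Injective φ₀ := (Subgroup.subtype_injective _).comp e.symm.injective
  have hrange : ∀ g : G, g * t = t * g → ∃ q, φ₀ q = g := by
    intro g hg
    refine ⟨e ⟨g, mem_centralizer_singleton_iff.2 hg⟩, ?_⟩
    show ((e.symm (e ⟨g, _⟩) : Subgroup.centralizer ({t} : Set G)) : G) = g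
    rw [e.symm_apply_apply]
  have hφt : ∀ q, φ₀ q * t = t * φ₀ q := fun q => mem_centralizer_singleton_iff.1 (e.symm q).2
  have hτ : φ₀ τ = t := by
    obtain ⟨q, hq⟩ := hrange t rfl
    have h1 : ∀ p, q * p = p * q := by
      intro p
      apply hinj
      rw [map_mul, map_mul, hq]
      exact (hφt p).symm
    rcases central_cases q (h1 _) (h1 _) with rfl | rfl
    · rw [map_one] at hq
      rw [← hq, orderOf_one] at ht
      exact absurd ht (by norm_num)
    · exact hq
  -- the Sylow subgroup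
  obtain ⟨c, hc⟩ : ∃ c : Q, ∀ q, φ₀ q ∈ (T : Subgroup G) ↔ (c * q * c⁻¹) * ζ = ζ * (c * q * c⁻¹) := by
    have hp : Fact (Nat.Prime 2) := ⟨Nat.prime_two⟩
    have hT0 : IsPGroup 2 (Subgroup.centralizer ({ζ} : Set Q)) := IsPGroup.of_card (n := 4) (by rw [card_T]; norm_num)
    obtain ⟨S₀, hS₀⟩ := hT0.exists_le_sylow
    have hfac : Nat.factorization 48 2 = 4 := by
      rw [show 48 = 2 ^ 4 * 3 by norm_num]
      rw [Nat.factorization_mul (by norm_num) (by norm_num), Nat.factorization_pow]
      simp [Nat.prime_two.factorization, Nat.prime_three.factorization]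
    have hS₀c : (S₀ : Subgroup Q) = Subgroup.centralizer ({ζ} : Set Q) := by
      symm
      apply Subgroup.eq_of_le_of_card_ge hS₀
      rw [card_T, S₀.card_eq_multiplicity, card_Q, hfac]; norm_num
    -- `|T| ≥ 16`
    have hT16 : 16 ≤ Nat.card (T : Subgroup G) := by
      have h1 : IsPGroup 2 ((S₀ : Subgroup Q).map φ₀) := S₀.isPGroup'.map _
      obtain ⟨P, hP⟩ := h1.exists_le_sylow
      have h3 : Nat.card (P : Subgroup G) = Nat.card (T : Subgroup G) := by
        rw [P.card_eq_multiplicity, T.card_eq_multiplicity]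
      have h4 := Subgroup.card_le_of_le hP
      rw [h3, card_map_of_injective hinj, hS₀c, card_T] at h4
      exact h4
    have hTQ : Nat.card ((T : Subgroup G).comap φ₀) = Nat.card (T : Subgroup G) := by
      have h1 : ((T : Subgroup G).comap φ₀).map φ₀ = (T : Subgroup G) := by
        apply Subgroup.map_comap_eq_self
        intro x hx
        obtain ⟨q, hq⟩ := hrange x (htc x hx)
        exact ⟨q, hq⟩
      rw [← card_map_of_injective hinj, h1]
    have hTp : IsPGroup 2 ((T : Subgroup G).comap φ₀) := T.isPGroup'.comap_of_injective φ₀ hinj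
    obtain ⟨S₁, hS₁⟩ := hTp.exists_le_sylow
    have hS₁c : (T : Subgroup G).comap φ₀ = S₁ := by
      apply Subgroup.eq_of_le_of_card_ge hS₁
      rw [S₁.card_eq_multiplicity, card_Q, hfac, hTQ]
      norm_num
      exact hT16
    obtain ⟨c, hc⟩ := MulAction.exists_smul_eq Q S₁ S₀
    refine ⟨c, fun q => ?_⟩
    rw [← mem_comap, hS₁c, ← mem_centralizer_singleton_iff, ← hS₀c, ← hc, Sylow.coe_subgroup_smul]
    constructor
    · intro hq
      exact Subgroup.smul_mem_pointwise_smul q (MulAut.conj c) _ hq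
    · intro hq
      exact Subgroup.smul_mem_pointwise_smul_iff.1 hq
  let φ : Q →* G := φ₀.comp (MulAut.conj c⁻¹).toMonoidHom
  have hφ : ∀ q, φ q = φ₀ (c⁻¹ * q * c) := by
    intro q
    show φ₀ (c⁻¹ * q * (c⁻¹)⁻¹) = _
    rw [inv_inv]
  have hφi : Function.Injective φ := hinj.comp (MulAut.conj c⁻¹).injective
  have hφT : ∀ q, φ q ∈ (T : Subgroup G) ↔ q * ζ = ζ * q := by
    intro q
    rw [hφ, hc]
    have : c * (c⁻¹ * q * c) * c⁻¹ = q := by group
    rw [this]
  have hφr : ∀ g : G, g * t = t * g → ∃ q, φ q = g := by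
    intro g hg
    obtain ⟨q, hq⟩ := hrange g hg
    refine ⟨c * q * c⁻¹, ?_⟩
    rw [hφ, ← hq]
    congr 1
    group
  have hφτ : φ τ = t := by
    rw [hφ, τ_comm, mul_assoc, inv_mul_cancel, mul_one, hτ]
  have hTel : ∀ x ∈ (T : Subgroup G), ∃ q, q * ζ = ζ * q ∧ φ q = x := by
    intro x hx
    obtain ⟨q, rfl⟩ := hφr x (htc x hx)
    exact ⟨q, (hφT q).1 hx, rfl⟩
  have hcz : ∀ g, g * φ ζ = φ ζ * g → g ∈ (T : Subgroup G) := by
    intro g hg
    rw [← h2 T, mem_centralizer_iff]
    have h3 : (⁅(T : Subgroup G), (T : Subgroup G)⁆ : Subgroup G) ≤ centralizer ({g} : Set G) := by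
      rw [Subgroup.commutator_le]
      intro x hx y hy
      obtain ⟨p, hp, rfl⟩ := hTel x hx
      obtain ⟨q, hq, rfl⟩ := hTel y hy
      rw [mem_centralizer_singleton_iff, commutatorElement_def]
      rcases T_comm p hp q hq with h4 | h4
      · have : φ p * φ q * (φ p)⁻¹ * (φ q)⁻¹ = 1 := by
          rw [← map_mul, h4, map_mul]; group
        rw [this]; simp
      · have h5 : φ p * φ q = φ ζ * (φ q * φ p) := by
          have hqp : (q * p) * ζ = ζ * (q * p) := by rw [mul_assoc, hp, ← mul_assoc, hq, mul_assoc]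
          rw [← map_mul, h4, hqp, map_mul, map_mul]
        have : φ p * φ q * (φ p)⁻¹ * (φ q)⁻¹ = φ ζ := by
          rw [h5]; group
        rw [this]; exact hg.symm
    intro x hx
    exact mem_centralizer_singleton_iff.1 (h3 hx)
  refine ⟨φ, hφτ, ⟨hφi, ?_, ?_, T, ?_⟩⟩
  · intro g hg
    rw [hφτ] at hg
    exact hφr g hg
  · intro g hg
    obtain ⟨q, -, hq⟩ := hTel g (hcz g hg)
    exact ⟨q, hq⟩
  · ext g
    rw [mem_centralizer_singleton_iff]
    constructor
    · intro hg
      obtain ⟨q, hq, rfl⟩ := hTel g hg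
      rw [← map_mul, hq, map_mul]
    · exact hcz g

/-- Let G be a finite group of even order such that (1) some involution t lying in the centre of a Sylow 2-subgroup of G has C_G(t) ≅ Z₂ × S₄, and (2) every Sylow 2-subgroup S of G satisfies C_G(S′) = S, where S′ is the derived subgroup of S. Then G = C_G(t) if G is solvable, and G ≅ S₆ otherwise. -/
theorem result {G : Type*} [Group G] [Finite G] (hev : Even (Nat.card G))
    (t : G) (ht : orderOf t = 2) (T : Sylow 2 G) (htT : t ∈ (T : Subgroup G)) (htc : ∀ s ∈ (T : Subgroup G), s * t = t * s)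
    (e : ↥(Subgroup.centralizer ({t} : Set G)) ≃* (Multiplicative (ZMod 2) × Equiv.Perm (Fin 4)))
    (h2 : ∀ S : Sylow 2 G, Subgroup.centralizer ((⁅(S : Subgroup G), (S : Subgroup G)⁆ : Subgroup G) : Set G) = (S : Subgroup G)) :
    (Group.IsSolvable G → Subgroup.centralizer ({t} : Set G) = ⊤) ∧
      (¬ Group.IsSolvable G → Nonempty (G ≃* Equiv.Perm (Fin 6))) := by
  obtain ⟨φ, rfl, h⟩ := exists_hyp t ht T htc e h2
  rcases h.structure_G (fun H _ _ hodd => Cfsg.Agent.S0205.result hodd) with h1 | ⟨M, S⟩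
  · have htop : Subgroup.centralizer ({φ τ} : Set G) = ⊤ := by
      rw [eq_top_iff]
      intro g _
      exact mem_centralizer_singleton_iff.2 (h1 g)
    refine ⟨fun _ => htop, fun hs => absurd ?_ hs⟩
    have h48 : Nat.card G = 48 := by
      have := h.card_C
      rw [htop, Nat.card_congr Subgroup.topEquiv.toEquiv] at this
      exact this
    exact Cfsg.Agent.BpAlt.solvable_of_lt 48 G h48 (by norm_num)
  · exact ⟨fun hs => absurd hs (S.not_solvable h), fun _ => S.iso h⟩

end Cfsg.Agent.S3222
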