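import Cfsg.Statements.S3237
import Cfsg.Agent.H319.Table
import Cfsg.Agent.Held.ExtLarge

set_option autoImplicit false
open Cfsg

namespace Cfsg.Agent.S3237

/-- Let G be a finite group of even order with an involution z, H = C_G(z), such that H has a normal subgroup E of order 32 that is extraspecial and contains no elementary abelian subgroup of order 8 (the central product of a dihedral group of order 8 with a quaternion group), C_H(E) ≤ E, and H/E ≅ S₄. Then O(G) is abelian, and if G is not solvable then G is isomorphic to the automorphism group of PGL₃(4). -/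
theorem result {G : Type*} [Group G] [Finite G]
    (hev : Even (Nat.card G)) (z : G) (hz : orderOf z = 2)
    (E : Subgroup ↥(Subgroup.centralizer ({z} : Set G))) [hEn : E.Normal] (hE : Cfsg.IsExtraspecial 2 ↥E) (hE32 : Nat.card ↥E = 32)
    (hEminus : ∀ A : Subgroup ↥E, Cfsg.IsElementaryAbelian 2 A → Nat.card ↥A ≠ 8)
    (hCE : Subgroup.centralizer (E : Set ↥(Subgroup.centralizer ({z} : Set G))) ≤ E)
    (e : (↥(Subgroup.centralizer ({z} : Set G)) ⧸ E) ≃* Equiv.Perm (Fin 4)) {F : Type*} [Field F] [Fintype F] (hF : Fintype.card F = 4) :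
    IsMulCommutative ↥(Cfsg.oddCore G) ∧
      (¬ Group.IsSolvable G → Nonempty (G ≃* MulAut (GL (Fin 3) F ⧸ Subgroup.center (GL (Fin 3) F)))) := by
  have hL := Cfsg.Agent.Held.Ext.large_of_hyp z hz E hE hCE
  have C : Cfsg.Agent.H319.Conf (E.map (Subgroup.centralizer ({z} : Set G)).subtype) z
      (e.toMonoidHom.comp (QuotientGroup.mk' E)) := by
    refine ⟨hL, ?_, ?_, ?_, ?_⟩
    · rw [Subgroup.card_map_of_injective (Subgroup.subtype_injective _), hE32]
    · intro A hA h2 h8
      let f : ↥E →* G := (Subgroup.centralizer ({z} : Set G)).subtype.comp E.subtype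
      have hf : Function.Injective f := fun a b hab => Subtype.ext (Subtype.ext hab)
      have hle : A ≤ f.range := by
        intro a ha
        obtain ⟨x, hx, rfl⟩ := hA ha
        exact ⟨⟨x, hx⟩, rfl⟩
      refine hEminus (A.comap f) ⟨⟨⟨fun a b => ?_⟩⟩, fun a ha => ?_⟩ ?_
      · apply Subtype.ext
        apply hf
        have ha : f a.1 * f a.1 = 1 := h2 _ a.2
        have hb : f b.1 * f b.1 = 1 := h2 _ b.2
        have hab : f a.1 * f b.1 * (f a.1 * f b.1) = 1 := h2 _ (A.mul_mem a.2 b.2)
        change f (a.1 * b.1) = f (b.1 * a.1)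
        rw [map_mul, map_mul]
        calc f a.1 * f b.1 = (f a.1 * f b.1 * (f a.1 * f b.1))⁻¹ * (f a.1 * f b.1) := by rw [hab]; group
          _ = (f b.1)⁻¹ * (f a.1)⁻¹ := by group
          _ = f b.1 * f a.1 := by rw [inv_eq_of_mul_eq_one_left ha, inv_eq_of_mul_eq_one_left hb]
      · apply hf
        rw [map_pow, map_one, pow_two]
        exact h2 _ ha
      · rw [← Subgroup.card_map_of_injective (f := f) hf, Subgroup.map_comap_eq_self hle, h8]
    · exact e.surjective.comp (QuotientGroup.mk'_surjective E)
    · intro c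
      constructor
      · intro hc
        have h1 : e (QuotientGroup.mk' E c) = 1 := hc
        have h2 : QuotientGroup.mk' E c = 1 := e.injective (by rw [h1, map_one])
        exact ⟨c, (QuotientGroup.eq_one_iff c).1 h2, rfl⟩
      · rintro ⟨x, hx, hxc⟩
        have h1 : x = c := Subtype.ext hxc
        subst h1
        change e (QuotientGroup.mk' E x) = 1
        rw [show QuotientGroup.mk' E x = 1 from (QuotientGroup.eq_one_iff x).2 hx, map_one]
  refine ⟨C.core_comm, fun hns => ?_⟩
  exact C.main_of hns (fun L SL h1 h2 h3 h4 h5 h6 => C.false_big h1 h2 h3 h4 h5 h6) hF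

end Cfsg.Agent.S3237
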