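import Cfsg.Statements.S3252
import Cfsg.Agent.H397.ZRed
import Cfsg.Agent.H366.AlmostSimple

set_option autoImplicit false
open Cfsg

namespace Cfsg.Agent.S3252

/-- Let G be a finite non-solvable group that is the product G = AB of a cyclic subgroup A and a subgroup B all of whose Sylow subgroups are cyclic. Then the quotient of G by its largest solvable normal subgroup is isomorphic to PGL₂(p) for some prime p > 3. -/
theorem result {G : Type*} [Group G] [Finite G] (hG : ¬ Group.IsSolvable G)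
    (A B : Subgroup G) (hA : IsCyclic ↥A) (hB : ∀ (q : ℕ) [Fact q.Prime] (Q : Sylow q ↥B), IsCyclic ↥(Q : Subgroup ↥B))
    (hAB : ∀ g : G, ∃ a ∈ A, ∃ b ∈ B, g = a * b)
    (R : Subgroup G) [hR : R.Normal] (hRs : Group.IsSolvable ↥R) (hRmax : ∀ N : Subgroup G, N.Normal → Group.IsSolvable ↥N → N ≤ R) :
    ∃ (F : Type) (_ : Field F) (_ : Fintype F) (p : ℕ), p.Prime ∧ 3 < p ∧ Fintype.card F = p ∧
      Nonempty ((G ⧸ R) ≃* (GL (Fin 2) F ⧸ Subgroup.center (GL (Fin 2) F))) := by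
  have hz : IsZGroup B := ⟨fun q hq Q => by
    have : Fact q.Prime := ⟨hq⟩
    exact hB q Q⟩
  have h1 : Cfsg.Agent.H397.ZRed.Fac G A B := ⟨hA, hz, hAB⟩
  have h2 := h1.map (QuotientGroup.mk' R) (QuotientGroup.mk'_surjective R)
  have h3 : Cfsg.Agent.H397.ZRed.NR (G ⧸ R) := by
    intro M hM hMs
    have h4 := Cfsg.Agent.H366.AlmostSimple.isSolvable_comap R hRs M hMs
    have h5 := hRmax _ inferInstance h4
    rw [eq_bot_iff]
    intro x hx
    obtain ⟨g, rfl⟩ := QuotientGroup.mk'_surjective R x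
    exact (QuotientGroup.eq_one_iff g).2 (h5 hx)
  have h6 : Nontrivial (G ⧸ R) := by
    by_contra hnt
    rw [not_nontrivial_iff_subsingleton] at hnt
    apply hG
    have h7 : R = ⊤ := by
      rw [eq_top_iff]
      intro x _
      exact (QuotientGroup.eq_one_iff x).1 (Subsingleton.elim _ _)
    rw [h7] at hRs
    exact Group.isSolvable_of_surjective (f := (⊤ : Subgroup G).subtype)
      fun z => ⟨⟨z, Subgroup.mem_top z⟩, rfl⟩
  obtain ⟨p, hC, -⟩ := Cfsg.Agent.H397.ZRed.main_ind (Nat.card (G ⧸ R)) (G ⧸ R) _ _ le_rfl h2 h3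
  obtain ⟨F, i1, i2, hF, e, -⟩ := hC.ex
  exact ⟨F, i1, i2, p, hC.prime, hC.three, hF, e⟩

end Cfsg.Agent.S3252
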