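import Cfsg.Statements.S3262
import Cfsg.Agent.H384.TwoTransMain
import Cfsg.Agent.H395.TwoPtA5
import Cfsg.Agent.NotCT.Orders
import Cfsg.Agent.S0000

set_option autoImplicit false
open Cfsg

namespace Cfsg.Agent.S3262

/-- Let G be a finite doubly transitive permutation group on a set Ω with no regular normal subgroup, in which the stabilizer of two points is isomorphic to the alternating group A₅. Then either Ω has 7 points and G ≅ A₇, or Ω has 12 points and G is isomorphic to the Mathieu group M₁₁. -/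
theorem result {G : Type*} [Group G] [Finite G] {Ω : Type*} [Fintype Ω] [MulAction G Ω] [FaithfulSMul G Ω]
    (h2 : MulAction.IsMultiplyPretransitive G Ω 2) (a b : Ω) (hab : a ≠ b)
    (hnr : ∀ N : Subgroup G, N.Normal → MulAction.IsPretransitive ↥N Ω → (∀ x : Ω, MulAction.stabilizer ↥N x = ⊥) → False)
    (e : ↥(MulAction.stabilizer G a ⊓ MulAction.stabilizer G b) ≃* ↥(alternatingGroup (Fin 5))) :
    (Fintype.card Ω = 7 ∧ Nonempty (G ≃* ↥(alternatingGroup (Fin 7)))) ∨ (Fintype.card Ω = 12 ∧ Cfsg.Spor.IsoM11 G) := by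
  classical
  have h3 : 3 ≤ Nat.card Ω := by
    have hnt : Nontrivial Ω := ⟨a, b, hab⟩
    have h1 : 2 ≤ Nat.card Ω := Finite.one_lt_card_iff_nontrivial.2 hnt
    rcases Nat.lt_or_ge (Nat.card Ω) 3 with h | h
    · exfalso
      have hc : Nat.card (MulAction.stabilizer G a ⊓ MulAction.stabilizer G b : Subgroup G) = 60 := by
        rw [Nat.card_congr e.toEquiv]
        exact Cfsg.Agent.H395.TwoPtA5.card_a5
      have hG : Nat.card G ∣ Nat.card (Equiv.Perm Ω) :=
        Subgroup.card_dvd_of_injective (MulAction.toPermHom G Ω) (MulAction.toPerm_injective)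
      rw [Nat.card_perm, show Nat.card Ω = 2 by omega] at hG
      have h5 : Nat.card (MulAction.stabilizer G a ⊓ MulAction.stabilizer G b : Subgroup G) ∣ Nat.card G :=
        Subgroup.card_subgroup_dvd_card _
      rw [hc] at h5
      exact absurd (h5.trans hG) (by decide)
    · exact h
  rw [← Nat.card_eq_fintype_card]
  rcases Cfsg.Agent.H384.TwoTrans.reduction h2 h3 with ⟨N, hN, -, -, -, htr, hst⟩ | ⟨T, A⟩
  · exfalso
    refine hnr N hN ⟨fun x y => ?_⟩ fun x => ?_
    · obtain ⟨n, hn, h⟩ := htr x y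
      exact ⟨⟨n, hn⟩, h⟩
    · rw [eq_bot_iff]
      rintro ⟨n, hn⟩ h
      have h4 : n • x = x := h
      have h5 := hst x n hn h4
      subst h5
      exact Subgroup.mem_bot.2 rfl
  · have hfT := A.finT
    exact Cfsg.Agent.H395.TwoPtA5.main A
      ⟨Cfsg.Agent.NotCT.Orders.m11, Cfsg.Agent.NotCT.Orders.m12, Cfsg.Agent.NotCT.Orders.m22,
        Cfsg.Agent.NotCT.Orders.m23, Cfsg.Agent.NotCT.Orders.m24, Cfsg.Agent.NotCT.Orders.hs,
        Cfsg.Agent.NotCT.Orders.co3⟩
      (Cfsg.Agent.H384.TwoTransMain.main (fun _ _ _ _ => Cfsg.Agent.S0000.result) A) a b hab e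

end Cfsg.Agent.S3262
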