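import Cfsg.Statements.S3264
import Cfsg.Agent.H481.OddGen

set_option autoImplicit false
open Cfsg

namespace Cfsg.Agent.S3264

open Cfsg.Agent.H481.OddGen

section

variable {G : Type*} [Group G] (t : G)

/-- the odd product graph -/
abbrev Gr : SimpleGraph {x : G // IsConj t x} :=
  SimpleGraph.fromRel fun x y : {x : G // IsConj t x} => Odd (orderOf (x.1 * y.1))

/-- translation of a vertex -/
def tr (g : G) (x : {x : G // IsConj t x}) : {x : G // IsConj t x} :=
  ⟨g * x.1 * g⁻¹, x.2.trans (isConj_iff.2 ⟨g, rfl⟩)⟩

theorem tr_mul (g h : G) (x : {x : G // IsConj t x}) : tr t (g * h) x = tr t g (tr t h x) := by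
  apply Subtype.ext
  simp only [tr]
  group

theorem tr_one (x : {x : G // IsConj t x}) : tr t 1 x = x := by
  apply Subtype.ext
  simp [tr]

theorem odd_tr (g : G) {x y : {x : G // IsConj t x}} (h : Odd (orderOf (x.1 * y.1))) :
    Odd (orderOf ((tr t g x).1 * (tr t g y).1)) := by
  have h1 : (tr t g x).1 * (tr t g y).1 = MulAut.conj g (x.1 * y.1) := by
    simp only [tr, MulAut.conj_apply]
    group
  rw [h1, MulEquiv.orderOf_eq]
  exact h

theorem adj_tr (g : G) {x y : {x : G // IsConj t x}} (h : (Gr t).Adj x y) :
    (Gr t).Adj (tr t g x) (tr t g y) := by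
  rw [SimpleGraph.fromRel_adj] at h ⊢
  refine ⟨?_, ?_⟩
  · intro he
    apply h.1
    have := congrArg (tr t g⁻¹) he
    rwa [← tr_mul, ← tr_mul, inv_mul_cancel, tr_one, tr_one] at this
  · rcases h.2 with h2 | h2
    · exact Or.inl (odd_tr t g h2)
    · exact Or.inr (odd_tr t g h2)

theorem reach_tr (g : G) {x y : {x : G // IsConj t x}} (h : (Gr t).Reachable x y) :
    (Gr t).Reachable (tr t g x) (tr t g y) := by
  obtain ⟨w⟩ := h
  induction w with
  | nil => exact SimpleGraph.Reachable.refl _
  | cons hadj _ ih => exact (adj_tr t g hadj).reachable.trans ih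

/-- the base vertex -/
def base : {x : G // IsConj t x} := ⟨t, IsConj.refl t⟩

/-- the stabiliser of the component of the base vertex -/
def St : Subgroup G where
  carrier := {g | (Gr t).Reachable (base t) (tr t g (base t))}
  one_mem' := by
    change (Gr t).Reachable (base t) (tr t 1 (base t))
    rw [tr_one]
  mul_mem' := by
    intro g h hg hh
    change (Gr t).Reachable (base t) (tr t (g * h) (base t))
    rw [tr_mul]
    exact SimpleGraph.Reachable.trans hg (reach_tr t g hh)
  inv_mem' := by
    intro g hg
    change (Gr t).Reachable (base t) (tr t g⁻¹ (base t))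
    have h1 := reach_tr t g⁻¹ hg
    rw [← tr_mul, inv_mul_cancel, tr_one] at h1
    exact h1.symm

theorem mem_St_of_odd [Finite G] (ht : orderOf t = 2) {j : G} (ho : Odd (orderOf j))
    (hi : MulAut.conj t j = j⁻¹) : j ∈ St t := by
  obtain ⟨k, hk⟩ := ho
  have hjk : j ^ (2 * k + 1) = 1 := by rw [← hk]; exact pow_orderOf_eq_one j
  set h := j ^ (k + 1) with hh
  have hsq : h * h = j := by
    rw [hh, ← pow_add]
    have : k + 1 + (k + 1) = (2 * k + 1) + 1 := by ring
    rw [this, pow_succ, hjk, one_mul]
  have htt : t * t = 1 := by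
    have := pow_orderOf_eq_one t
    rwa [ht, pow_two] at this
  have htinv : t⁻¹ = t := by
    rw [inv_eq_iff_mul_eq_one]; exact htt
  have hih : MulAut.conj t h = h⁻¹ := by
    rw [hh, map_pow, hi, inv_pow]
  have h1 : t * h * t⁻¹ = h⁻¹ := by
    rw [← MulAut.conj_apply]; exact hih
  have h2 : t * h⁻¹ * t⁻¹ = h := by
    have := congrArg (·⁻¹) h1
    simpa [mul_assoc] using this
  have hmem : h ∈ St t := by
    change (Gr t).Reachable (base t) (tr t h (base t))
    by_cases he : base t = tr t h (base t)
    · rw [← he]
    · apply SimpleGraph.Adj.reachable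
      rw [SimpleGraph.fromRel_adj]
      refine ⟨he, Or.inl ?_⟩
      have h3 : (base t).1 * (tr t h (base t)).1 = j⁻¹ := by
        change t * (h * t * h⁻¹) = j⁻¹
        have h4 : h * t * h⁻¹ = h * h * t := by
          calc h * t * h⁻¹ = h * (t * h⁻¹ * t⁻¹) * t := by group
            _ = h * h * t := by rw [h2]
        rw [h4, hsq]
        have h5 : t * j * t⁻¹ = j⁻¹ := by
          rw [← MulAut.conj_apply]; exact hi
        rw [htinv] at h5
        rw [← mul_assoc]; exact h5
      rw [h3, orderOf_inv]
      exact ⟨k, hk⟩
  rw [← hsq]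
  exact (St t).mul_mem hmem hmem

end

/-- Let G be a non-abelian finite simple group and X a conjugacy class of involutions of G. Form the graph on X in which two distinct involutions are joined when their product has odd order. Then this graph is connected. (By the Baer–Suzuki Theorem the graph has at least one edge; connectedness is the stronger statement.) -/
theorem result {G : Type*} [Group G] [Finite G] [IsSimpleGroup G]
    (hG : ¬ IsMulCommutative G) (t : G) (ht : orderOf t = 2) :
    (SimpleGraph.fromRel fun x y : {x : G // IsConj t x} => Odd (orderOf (x.1 * y.1))).Connected := by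
  have htt : t * t = 1 := by
    have := pow_orderOf_eq_one t
    rwa [ht, pow_two] at this
  have ht1 : t ≠ 1 := by
    rintro rfl
    simp at ht
  -- `t` is not central
  have hcent : Subgroup.center G = ⊥ := by
    rcases (inferInstance : (Subgroup.center G).Normal).eq_bot_or_eq_top with h | h
    · exact h
    · exfalso
      apply hG
      refine ⟨⟨fun a b => ?_⟩⟩
      have : a ∈ Subgroup.center G := by rw [h]; trivial
      exact ((Subgroup.mem_center_iff.1 this) b).symm
  have hαne : MulAut.conj t ≠ 1 := by
    intro h
    apply ht1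
    have : t ∈ Subgroup.center G := by
      rw [Subgroup.mem_center_iff]
      intro g
      have h2 := DFunLike.congr_fun h g
      simp only [MulAut.conj_apply, MulAut.one_apply] at h2
      rw [mul_inv_eq_iff_eq_mul] at h2
      exact h2.symm
    rw [hcent] at this
    exact this
  have hα : orderOf (MulAut.conj t) = 2 := by
    apply orderOf_eq_prime
    · rw [← map_pow, pow_two, htt, map_one]
    · exact hαne
  have hgen : Subgroup.closure (Set.range (fun c : G => c * (MulAut.conj t c)⁻¹)) = ⊤ := by
    rcases (normal_closure_comm t).eq_bot_or_eq_top with h | h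
    · exfalso
      apply hαne
      ext c
      have h1 : c * (MulAut.conj t c)⁻¹ ∈ Subgroup.closure (Set.range (fun c : G => c * (MulAut.conj t c)⁻¹)) :=
        Subgroup.subset_closure ⟨c, rfl⟩
      rw [h, Subgroup.mem_bot, mul_inv_eq_one] at h1
      rw [← h1]; rfl
    · exact h
  have hJ := closure_odd (MulAut.conj t) hα hgen
  have hSt : St t = ⊤ := by
    rw [eq_top_iff, ← hJ, Subgroup.closure_le]
    rintro j ⟨ho, hi⟩
    exact mem_St_of_odd t ht ho hi
  have hreach : ∀ x : {x : G // IsConj t x}, (Gr t).Reachable (base t) x := by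
    rintro ⟨x, hx⟩
    obtain ⟨g, rfl⟩ := isConj_iff.1 hx
    have : g ∈ St t := by rw [hSt]; trivial
    exact this
  have : Nonempty {x : G // IsConj t x} := ⟨base t⟩
  exact ⟨fun x y => (hreach x).symm.trans (hreach y)⟩

end Cfsg.Agent.S3264
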