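import Cfsg.Statements.S3275
import Cfsg.Agent.H327.D5.Table
import Cfsg.Agent.S0000

set_option autoImplicit false
open Cfsg

namespace Cfsg.Agent.S3275

theorem rank_congr {X Y : Type*} [Group X] [Group Y] (e : X ≃* Y) {p k : ℕ} (h : Cfsg.PRankLE p k Y) :
    Cfsg.PRankLE p k X := by
  intro A hA h3
  have h1 := h (A.map e.toMonoidHom) ⟨⟨?_⟩⟩ ?_
  · rwa [Nat.card_congr (A.equivMapOfInjective e.toMonoidHom e.injective).toEquiv]
  · rintro ⟨_, a, ha, rfl⟩ ⟨_, b, hb, rfl⟩
    apply Subtype.ext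
    change e.toMonoidHom a * e.toMonoidHom b = e.toMonoidHom b * e.toMonoidHom a
    rw [← map_mul, ← map_mul]
    exact congrArg _ (congrArg Subtype.val (hA.is_comm.comm ⟨a, ha⟩ ⟨b, hb⟩))
  · rintro _ ⟨a, ha, rfl⟩
    rw [← map_pow, h3 a ha, map_one]

theorem rank_sub {X : Type*} [Group X] {p k : ℕ} (h : Cfsg.PRankLE p k X) (H : Subgroup X) : Cfsg.PRankLE p k H := by
  intro A hA h3
  have h1 := h (A.map H.subtype) ⟨⟨?_⟩⟩ ?_
  · rwa [Nat.card_congr (A.equivMapOfInjective H.subtype H.subtype_injective).toEquiv]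
  · rintro ⟨_, a, ha, rfl⟩ ⟨_, b, hb, rfl⟩
    apply Subtype.ext
    change H.subtype a * H.subtype b = H.subtype b * H.subtype a
    rw [← map_mul, ← map_mul]
    exact congrArg _ (congrArg Subtype.val (hA.is_comm.comm ⟨a, ha⟩ ⟨b, hb⟩))
  · rintro _ ⟨a, ha, rfl⟩
    rw [← map_pow, h3 a ha, map_one]

/-- Let G be a non-abelian finite simple group all of whose proper subgroups are K-groups, and suppose that no section of G is dihedral of order 2p for any prime p > 3. Then every 2-local subgroup of G is 2-constrained and has 3-rank at most 2; and if moreover every 2-local subgroup of G has 3-rank at most 1, then G is one of the known finite simple groups. -/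
theorem result {G : Type*} [Group G] [Finite G] [IsSimpleGroup G] (hG : ¬ IsMulCommutative G)
    (hK : Cfsg.IsKProper G)
    (hD : ∀ p : ℕ, p.Prime → 3 < p → ∀ (H : Subgroup G) (N : Subgroup ↥H) [N.Normal], IsEmpty (↥H ⧸ N ≃* DihedralGroup p)) :
    (∀ H : Subgroup G, Cfsg.IsTwoLocal H → Cfsg.IsPConstrained 2 ↥H) ∧ Cfsg.TwoLocalPRankLE 3 2 G ∧
      (Cfsg.TwoLocalPRankLE 3 1 G → Cfsg.IsKnownSimple' G) := by
  have hs : IsSimpleGroup G := inferInstance
  have hk : Cfsg.IsKnownSimple' G := S0000.result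
  have key : (∀ H : Subgroup G, Cfsg.IsTwoLocal H → Group.IsSolvable H) ∧ Cfsg.PRankLE 3 2 G := by
    rcases H327.D5.r5_or hs hG hk with h | h | ⟨F, _, _, hF, ⟨e⟩⟩ | ⟨F, _, _, hF, ⟨e⟩⟩
    · exact (h.false_of hD).elim
    · exact ⟨H327.D5.Small.solvable_168 h, H327.D5.Small.pRankLE_168 h⟩
    · have hc := SmallSimple.PSLFacts.card_psl_three_three hF
      have h3 : (3 : F) = 0 := by
        have : Fact (Nat.Prime 3) := ⟨Nat.prime_three⟩
        have : CharP F 3 := charP_of_card_eq_prime_pow (f := 1) (by rw [hF, pow_one])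
        exact_mod_cast CharP.cast_eq_zero F 3
      have : Finite (Matrix.ProjectiveSpecialLinearGroup (Fin 3) F) := Finite.of_equiv _ e.toEquiv
      exact ⟨H327.D5.Small.solvable_5616 (by rw [Nat.card_congr e.toEquiv, hc]),
        rank_congr e (H327.D5.Three.pRankLE_psl h3 (m := 208) (by norm_num) (by rw [hc]))⟩
    · have hc := SmallSimple.PSLFacts.card_psu_three_three (F := F) hF
      have : Fact (Nat.Prime 3) := ⟨Nat.prime_three⟩
      have hch : CharP F 3 := charP_of_card_eq_prime_pow hF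
      have h3 : (3 : F) = 0 := by exact_mod_cast CharP.cast_eq_zero F 3
      obtain ⟨a, ha⟩ : ∃ a : F, a * a = -1 := by
        have h1 : IsSquare (-1 : F) := by
          rw [FiniteField.isSquare_neg_one_iff, hF]
          norm_num
        obtain ⟨a, ha⟩ := h1
        exact ⟨a, ha.symm⟩
      have : Finite (Cfsg.PSU 3 F 3) := Finite.of_equiv _ e.toEquiv
      exact ⟨H327.D5.Small.solvable_6048 (by rw [Nat.card_congr e.toEquiv, hc]) (fun g => by
          rw [← MulEquiv.orderOf_eq e g]
          exact H327.D5.Small.orderOf_ne_14 hF (e g)),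
        rank_congr e (H327.D5.Three.pRankLE_psu h3 ha (m := 224) (by norm_num) (by rw [hc]))⟩
  refine ⟨fun H hH => ?_, fun H _ => rank_sub key.2 H, fun _ => hk⟩
  have := key.1 H hH
  exact S1396.isPConstrained_of_solvable 2

end Cfsg.Agent.S3275

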