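import Cfsg.Statements.S3280
import Cfsg.Agent.S0000
import Cfsg.Agent.OrdDiv.Table
import Cfsg.Agent.H328.SelfThree
import Cfsg.Agent.H328.SelfFour

set_option autoImplicit false
open Cfsg

namespace Cfsg.Agent.S3280

/-- A non-cyclic finite simple group containing an element whose centralizer has order at most 4 is isomorphic to the alternating group of degree 5, 6 or 7, or to PSL(2, 7). -/
theorem result {G : Type*} [Group G] [Finite G] [IsSimpleGroup G] (hG : ¬ IsCyclic G)
    (w : G) (hw : Nat.card ↥(Subgroup.centralizer ({w} : Set G)) ≤ 4) :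
    Nonempty (G ≃* ↥(alternatingGroup (Fin 5))) ∨ Nonempty (G ≃* ↥(alternatingGroup (Fin 6))) ∨
      Nonempty (G ≃* ↥(alternatingGroup (Fin 7))) ∨
      (∃ (F : Type) (_ : Field F) (_ : Fintype F), Fintype.card F = 7 ∧ Nonempty (G ≃* Matrix.ProjectiveSpecialLinearGroup (Fin 2) F)) := by
  by_cases h3 : Nat.card ↥(Subgroup.centralizer ({w} : Set G)) = 3
  · have hc : ¬ IsMulCommutative G := fun h =>
      hG (Cfsg.Agent.H328.SelfFour.isCyclic_of_comm (isMulCommutative_iff.mp h))
    rcases Cfsg.Agent.H328.SelfThree.of_known Cfsg.Agent.OrdDiv.table Cfsg.Agent.S0000.result hc w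
      h3 with h | h
    · exact Or.inl h
    · exact Or.inr (Or.inr (Or.inr h))
  · exact Cfsg.Agent.H328.SelfFour.of_le_four hG w hw h3

end Cfsg.Agent.S3280
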