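import Cfsg.Statements.S3281
import Cfsg.Agent.H329.HeMain
import Cfsg.Agent.UGT.I34.FourWOneA
import Cfsg.Agent.UGT.I34.Final
import Cfsg.Agent.KFacts.MulSpor.He
import Cfsg.Agent.OrdDiv.Table
import Cfsg.Agent.S1726
import Cfsg.Agent.S0000

set_option autoImplicit false
open Cfsg

namespace Cfsg.Agent.S3281

/-- Let H be a simple group of order 4030387200 (the order of the Held group) and let G be a finite simple group with an involution t whose centralizer is isomorphic to the centralizer in H of some involution of H (2-central or not). Then G is isomorphic to SL(5, 2), or G is simple of order 244823040 (the order of the largest Mathieu group), or G is simple of order 4030387200. -/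
theorem result {G : Type*} [Group G] [Finite G] [IsSimpleGroup G]
    {H : Type*} [Group H] [Finite H] (hH : Cfsg.IsHe H) (u : H) (hu : orderOf u = 2)
    (t : G) (ht : orderOf t = 2) (e : ↥(Subgroup.centralizer ({t} : Set G)) ≃* ↥(Subgroup.centralizer ({u} : Set H))) :
    Nonempty (G ≃* Matrix.SpecialLinearGroup (Fin 5) (ZMod 2)) ∨ Cfsg.IsM24 G ∨ Cfsg.IsHe G := by
  have hs := hH.1
  have hk := Cfsg.Agent.H329.HeOrd.isoHe_of_card Cfsg.Agent.OrdDiv.table
    (Cfsg.Agent.S0000.result (G := H)) hH.2
  exact Cfsg.Agent.H329.HeMain.main Cfsg.Agent.UGT.I34.Final.two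
    (Cfsg.Agent.UGT.I34.FourWOneA.simpleCaseB Cfsg.Agent.UGT.I34.Final.two)
    (fun _ _ _ => Cfsg.Agent.S1726.result)
    (fun _ _ _ _ h => Cfsg.Agent.KFacts.MulSpor.He.noDouble_isoHe h) hk u hu t ht e

end Cfsg.Agent.S3281
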