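import Cfsg.Statements.S3283
import Cfsg.Agent.H329.NineEnd

set_option autoImplicit false
open Cfsg

namespace Cfsg.Agent.S3283

/-- Let G be a finite group with an involution z whose centralizer M has Q = O₂(M) extraspecial of order 2⁹ with C_M(Q) ≤ Q, and M/Q isomorphic to S₃ × A₆ or to S₃ × S₆. Then G is not simple. -/
theorem result {G : Type*} [Group G] [Finite G] (z : G) (hz : orderOf z = 2)
    (hQ : Cfsg.IsExtraspecial 2 ↥(Cfsg.pCore 2 ↥(Subgroup.centralizer ({z} : Set G)))) (hQ9 : Nat.card ↥(Cfsg.pCore 2 ↥(Subgroup.centralizer ({z} : Set G))) = 2 ^ 9)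
    (hCQ : Subgroup.centralizer ((Cfsg.pCore 2 ↥(Subgroup.centralizer ({z} : Set G))) : Set ↥(Subgroup.centralizer ({z} : Set G))) ≤ Cfsg.pCore 2 ↥(Subgroup.centralizer ({z} : Set G)))
    (hMQ : Nonempty (↥(Subgroup.centralizer ({z} : Set G)) ⧸ Cfsg.pCore 2 ↥(Subgroup.centralizer ({z} : Set G)) ≃* (Equiv.Perm (Fin 3) × ↥(alternatingGroup (Fin 6)))) ∨
      Nonempty (↥(Subgroup.centralizer ({z} : Set G)) ⧸ Cfsg.pCore 2 ↥(Subgroup.centralizer ({z} : Set G)) ≃* (Equiv.Perm (Fin 3) × Equiv.Perm (Fin 6)))) :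
    ¬ IsSimpleGroup G := by
  intro hs
  have htwo : Fact (Nat.Prime 2) := ⟨Nat.prime_two⟩
  have hG := Cfsg.Agent.H329.NineEnd.not_comm_of_extraspecial hQ
  have hF : Cfsg.generalizedFittingSubgroup ↥(Subgroup.centralizer ({z} : Set G)) =
      Cfsg.pCore 2 ↥(Subgroup.centralizer ({z} : Set G)) :=
    Cfsg.Agent.SignalizersComponents.FStarPCore.generalizedFitting_eq_pCore_of_centralizer_le
      inferInstance hQ.1.1 hCQ
  have hi : (Cfsg.pCore 2 ↥(Subgroup.centralizer ({z} : Set G))).index = 2160 ∨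
      (Cfsg.pCore 2 ↥(Subgroup.centralizer ({z} : Set G))).index = 4320 := by
    rcases hMQ with ⟨⟨e⟩⟩ | ⟨⟨e⟩⟩
    · exact Or.inl ((Nat.card_congr e.toEquiv).trans Cfsg.Agent.H329.NineEnd.card_S3A6)
    · exact Or.inr ((Nat.card_congr e.toEquiv).trans Cfsg.Agent.H329.NineEnd.card_S3S6)
  rw [← hF] at hQ hQ9 hi
  exact Cfsg.Agent.H329.NineEnd.main hG z hz hQ hQ9 hi

end Cfsg.Agent.S3283
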