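import Cfsg.Statements.S3295
import Cfsg.Agent.S0516
import Cfsg.Agent.S1248
import Cfsg.Agent.S5303
import Cfsg.Agent.H332.Meta

set_option autoImplicit false
open Cfsg

namespace Cfsg.Agent.S3295

/-- Let S be a metacyclic Sylow p-subgroup (an extension of a cyclic group by a cyclic group) of a finite nonabelian simple group. Then S is homocyclic of rank two (isomorphic to Z/p^n × Z/p^n for some n ≥ 1), or p is odd and S is cyclic, or p = 2 and S is dihedral or quasi-dihedral (semidihedral). -/
theorem result {G : Type*} [Group G] [Finite G] [IsSimpleGroup G] (hna : ¬ IsMulCommutative G) (p : ℕ) [Fact p.Prime] (S : Sylow p G) (hm : Cfsg.IsMetacyclic ↥(S : Subgroup G)) : (∃ n : ℕ, 0 < n ∧ Nonempty (↥(S : Subgroup G) ≃* Multiplicative (ZMod (p ^ n)) × Multiplicative (ZMod (p ^ n)))) ∨ (p ≠ 2 ∧ IsCyclic ↥(S : Subgroup G)) ∨ (p = 2 ∧ ((∃ n : ℕ, 0 < n ∧ Nonempty (↥(S : Subgroup G) ≃* DihedralGroup n)) ∨ Cfsg.IsQuasiDihedral ↥(S : Subgroup G))) := by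
  by_cases hp2 : p = 2
  · subst hp2
    right; right
    refine ⟨rfl, ?_⟩
    have h2 : Cfsg.PRankLE 2 2 G := by
      intro A hA hexp
      have hAp : IsPGroup 2 A := by
        intro a
        exact ⟨1, Subtype.ext (by rw [pow_one]; exact hexp a a.2)⟩
      obtain ⟨P, hP⟩ := hAp.exists_le_sylow
      have e : (S : Subgroup G) ≃* P := Sylow.equiv S P
      have hmP : Cfsg.IsMetacyclic (P : Subgroup G) :=
        Cfsg.Agent.OddOrderLocal.Metacyclic.isMetacyclic_of_surjective e.toMonoidHom e.surjective hm
      exact Cfsg.Agent.H332.Meta.card_le (Cfsg.Agent.OddOrderLocal.Metacyclic.isMetacyclic_of_le hmP hP)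
        (by norm_num) (fun a => Subtype.ext (hexp a a.2))
    let F := GaloisField 2 4
    let _ : Fintype F := Fintype.ofFinite F
    have hF : Fintype.card F = 16 := by
      rw [← Nat.card_eq_fintype_card, GaloisField.card 2 4 (by norm_num)]
      norm_num
    obtain ⟨P⟩ : Nonempty (Sylow 2 (Cfsg.PSU 3 F 4)) := Sylow.nonempty
    rcases Cfsg.Agent.S0516.result hna h2 S hF P with ⟨n, hn, e⟩ | h | h | ⟨⟨e⟩⟩
    · exact Or.inl ⟨n, by omega, e⟩
    · exact Or.inr h
    · exact absurd hm (Cfsg.Agent.H332.Meta.not_wreathed h)
    · exfalso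
      have hmP : Cfsg.IsMetacyclic (P : Subgroup (Cfsg.PSU 3 F 4)) :=
        Cfsg.Agent.OddOrderLocal.Metacyclic.isMetacyclic_of_surjective e.toMonoidHom e.surjective hm
      obtain ⟨-, hK, -, hc, -, -⟩ := Cfsg.Agent.S1248.result hF P
      have hcyc := Cfsg.Agent.H332.Meta.isCyclic_commutator hmP
      rw [← hc] at hcyc
      have h4 : Nat.card (Subgroup.center (P : Subgroup (Cfsg.PSU 3 F 4))) = 4 := hK.card_four
      have hle := Cfsg.Agent.H332.Meta.cyclic_card_le hcyc (p := 2) (by norm_num) (fun x => by
        have h0 := Monoid.pow_exponent_eq_one x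
        rwa [hK.exponent_two] at h0)
      omega
  · by_cases hc : IsCyclic ↥(S : Subgroup G)
    · exact Or.inr (Or.inl ⟨hp2, hc⟩)
    · left
      have hpp : p.Prime := Fact.out
      have hG : _root_.commutator G = ⊤ := by
        rcases (inferInstance : (_root_.commutator G).Normal).eq_bot_or_eq_top with h | h
        · exfalso
          apply hna
          rw [_root_.commutator_def, Subgroup.commutator_eq_bot_iff_le_centralizer] at h
          refine ⟨⟨fun a b => ?_⟩⟩
          have := (Subgroup.mem_centralizer_iff.1 (h (Subgroup.mem_top a))) b (Subgroup.mem_top b)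
          exact this.symm
        · exact h
      have hab := Cfsg.Agent.H332.Meta.comm_of_perfect hp2 hG S hm
      have hS : (S : Subgroup G) ≠ ⊥ := by
        intro h
        apply hc
        have : Subsingleton (S : Subgroup G) := by rw [h]; infer_instance
        infer_instance
      have hcomm : ∀ a ∈ (S : Subgroup G), ∀ b ∈ (S : Subgroup G), a * b = b * a := fun a ha b hb =>
        congrArg Subtype.val (hab.is_comm.comm (⟨a, ha⟩ : (S : Subgroup G)) ⟨b, hb⟩)
      obtain ⟨Ω, hΩ⟩ : ∃ Ω : Subgroup G, ∀ x : G, x ∈ Ω ↔ x ∈ (S : Subgroup G) ∧ x ^ p = 1 := by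
        refine ⟨{ carrier := {x | x ∈ (S : Subgroup G) ∧ x ^ p = 1}
                  one_mem' := ⟨one_mem _, one_pow p⟩
                  mul_mem' := fun {a b} ha hb => ⟨mul_mem ha.1 hb.1, by
                    rw [(show Commute a b from hcomm a ha.1 b hb.1).mul_pow, ha.2, hb.2, one_mul]⟩
                  inv_mem' := fun {a} ha => ⟨inv_mem ha.1, by rw [inv_pow, ha.2, inv_one]⟩ }, fun x => Iff.rfl⟩
      obtain ⟨-, -, k, e, ⟨f⟩⟩ := Cfsg.Agent.S5303.result hna p S hS hab Ω hΩ
      -- the exponent is positive
      have he : 0 < e := by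
        rcases Nat.eq_zero_or_pos e with h | h
        · exfalso
          subst h
          apply hc
          have : Subsingleton (Fin k → Multiplicative (ZMod (p ^ 0))) := by
            rw [pow_zero]; infer_instance
          have : Subsingleton (S : Subgroup G) := f.toEquiv.subsingleton
          infer_instance
        · exact h
      have hpe : Fact (1 < p ^ e) := ⟨Nat.one_lt_pow he.ne' hpp.one_lt⟩
      have hne : NeZero (p ^ e) := ⟨(pow_pos hpp.pos e).ne'⟩
      -- the rank
      have hk : k ≤ 2 := by
        -- reduce modulo `p`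
        have hd : p ∣ p ^ e := dvd_pow_self p he.ne'
        let g : (Fin k → Multiplicative (ZMod (p ^ e))) →* (Fin k → Multiplicative (ZMod p)) :=
          MonoidHom.pi (fun i => (AddMonoidHom.toMultiplicative (ZMod.castHom hd (ZMod p)).toAddMonoidHom).comp
            (Pi.evalMonoidHom _ i))
        have hg : Function.Surjective g := by
          intro v
          have : ∀ i, ∃ w : ZMod (p ^ e), ZMod.castHom hd (ZMod p) w = (v i).toAdd := fun i =>
            ZMod.castHom_surjective hd _
          choose w hw using this
          refine ⟨fun i => Multiplicative.ofAdd (w i), ?_⟩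
          funext i
          exact congrArg Multiplicative.ofAdd (hw i)
        have hexp : ∀ f : Fin k → Multiplicative (ZMod p), f ^ p = 1 := by
          intro f
          funext i
          rw [Pi.pow_apply, Pi.one_apply]
          apply Multiplicative.toAdd.injective
          rw [toAdd_pow, toAdd_one, nsmul_eq_mul, ZMod.natCast_self, zero_mul]
        have hm2 : Cfsg.IsMetacyclic (Fin k → Multiplicative (ZMod p)) :=
          Cfsg.Agent.OddOrderLocal.Metacyclic.isMetacyclic_of_surjective (g.comp f.toMonoidHom)
            (hg.comp f.surjective) hm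
        have hle := Cfsg.Agent.H332.Meta.card_le hm2 hpp.pos hexp
        have hcard : Nat.card (Fin k → Multiplicative (ZMod p)) = p ^ k := by
          have : NeZero p := ⟨hpp.ne_zero⟩
          rw [Nat.card_pi, Finset.prod_const]
          simp [Nat.card_eq_fintype_card]
        rw [hcard] at hle
        exact (Nat.pow_le_pow_iff_right hpp.one_lt).1 hle
      have hk2 : k = 2 := by
        by_contra hne2
        apply hc
        have hk1 : k = 0 ∨ k = 1 := by omega
        rcases hk1 with h | h
        · subst h
          have : Subsingleton (S : Subgroup G) := f.toEquiv.subsingleton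
          infer_instance
        · subst h
          let f1 : (Fin 1 → Multiplicative (ZMod (p ^ e))) ≃* Multiplicative (ZMod (p ^ e)) :=
            MulEquiv.piUnique (fun _ : Fin 1 => Multiplicative (ZMod (p ^ e)))
          exact isCyclic_of_surjective (f.trans f1).symm.toMonoidHom (f.trans f1).symm.surjective
      subst hk2
      refine ⟨e, he, ⟨f.trans ?_⟩⟩
      exact
        { toFun := fun v => (v 0, v 1)
          invFun := fun w => ![w.1, w.2]
          left_inv := fun v => by funext i; fin_cases i <;> rfl
          right_inv := fun w => rfl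
          map_mul' := fun v w => rfl }

end Cfsg.Agent.S3295
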