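import Cfsg.Statements.S3298
import Cfsg.Agent.H333.AltTrans
import Cfsg.Agent.H333.OmInv
import Cfsg.Agent.S0215
import Cfsg.Agent.S3101

set_option autoImplicit false
open Cfsg

namespace Cfsg.Agent.S3298

/-- Let G be a finite group with an involution α lying in the centre of some Sylow 2-subgroup of G, whose centralizer C_G(α) is isomorphic to the centralizer in the alternating group of degree 12 of a fixed-point-free involution (a product of six disjoint transpositions). Then G is isomorphic to the alternating group of degree 12 or 13, or to the symplectic group Sp₆(2), or G = O(G)·C_G(α) with O(G), the largest normal subgroup of odd order, abelian. -/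
theorem result {G : Type*} [Group G] [Finite G] (α : G) (hα : orderOf α = 2) (S : Sylow 2 G)
    (hαS : α ∈ (S : Subgroup G) ⊓ Subgroup.centralizer ((S : Subgroup G) : Set G))
    (hC : Nonempty (↥(Subgroup.centralizer ({α} : Set G)) ≃*
      ↥(alternatingGroup (Fin 12) ⊓ Subgroup.centralizer ({(Equiv.swap (0 : Fin 12) 1 * Equiv.swap (2 : Fin 12) 3 * Equiv.swap (4 : Fin 12) 5 * Equiv.swap (6 : Fin 12) 7 * Equiv.swap (8 : Fin 12) 9 * Equiv.swap (10 : Fin 12) 11)} : Set (Equiv.Perm (Fin 12))))))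
    : Nonempty (G ≃* ↥(alternatingGroup (Fin 12))) ∨ Nonempty (G ≃* ↥(alternatingGroup (Fin 13))) ∨
      (∃ (F : Type) (_ : Field F) (_ : Fintype F), Fintype.card F = 2 ∧ Nonempty (G ≃* Cfsg.PSp 3 F)) ∨
      (Cfsg.oddCore G ⊔ Subgroup.centralizer ({α} : Set G) = ⊤ ∧ IsMulCommutative ↥(Cfsg.oddCore G)) := by
  obtain ⟨hα1, hα2⟩ := Subgroup.mem_inf.1 hαS
  obtain ⟨e⟩ := hC
  change ↥(Subgroup.centralizer ({α} : Set G)) ≃* ↥H333.AltTrans.C0 at e
  have h := H333.AltTrans.hyp hα e
  have hS : ∀ s ∈ (S : Subgroup G), s * α = α * s := fun s hs => Subgroup.mem_centralizer_iff.1 hα2 s hs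
  by_cases hiso : ∀ g : G, g * α * g⁻¹ ∈ S → g * α * g⁻¹ = α
  · right; right; right
    obtain ⟨N, hN, hodd, hcomm⟩ := S0215.result S α hα hα1 hiso
    have hNle : N ≤ Cfsg.pPrimeCore 2 G :=
      Lib.Cores.le_pPrimeCore hN (Nat.coprime_two_right.2 hodd)
    refine ⟨H333.AltGrp.sup_eq_top h fun g => hNle (hcomm g), ⟨⟨fun x y => ?_⟩⟩⟩
    exact Subtype.ext (H333.AltGrp.core_comm h x.2 y.2)
  · push Not at hiso
    obtain ⟨g₀, hg₀, hg₁⟩ := hiso
    obtain ⟨hsimp, hnc⟩ := H333.AltGrp.simple h S hS hα1 hg₀ hg₁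
    have hSC : (S : Subgroup G) ≤ Subgroup.centralizer {α} := fun s hs =>
      Subgroup.mem_centralizer_singleton_iff.2 (hS s hs)
    rcases S3101.result hnc S (H333.AltTrans.sylow S hSC e) with h1 | h1 | h1 | ⟨F, _, _, hF, ⟨e1⟩⟩
    · exact Or.inl h1
    · exact Or.inr (Or.inl h1)
    · exact Or.inr (Or.inr (Or.inl h1))
    · exact (H333.OmInv.not_omega_seven hF e1 (H333.AltGrp.aa h)
        (by rw [Nat.card_congr e.toEquiv, H333.AltTrans.card_C0])).elim

end Cfsg.Agent.S3298
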