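import Cfsg.Statements.S3325
import Cfsg.Agent.H323.OI.Fin2

set_option autoImplicit false
open Cfsg

namespace Cfsg.Agent.S3325

/-- A characterization of the orthogonal simple groups in large dimension over fields of odd order by the centralizer of an involution. Let F be a finite field of odd order q, write e = 1 if q ≡ 1 (mod 4) and e = −1 if q ≡ 3 (mod 4), and let U be the quadratic space F^n with the diagonal form Σ c_i x_i² (all c_i ≠ 0); its discriminant is the product of the c_i modulo squares. Write O(U) for its isometry group and Ω(U) for the commutator subgroup of O(U). Assume: if e = 1 then n ≥ 9, or n = 8 with square discriminant; if e = −1 then n ≥ 14, or n = 12 with square discriminant, or n = 10 with non-square discriminant. Let G be a finite group with an involution t, write C_G(t) for the centralizer of t in G and O(G) for the largest normal subgroup of G of odd order, and let M be a normal subgroup of C_G(t) with an isomorphism ψ from Ω(U)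 onto M. Let z, z′ be involutions of O(U) of determinant −1 lying in different cosets of Ω(U), and u, u′ involutions of C_G(t) inducing on M, through ψ, the automorphisms of Ω(U) given by conjugation by z and by z′. Suppose the index of the subgroup generated by M, u, u′ in C_G(t) is odd; that the product of the commutator of u, u′ with the inverse of the image under ψ of the commutator of z, z′ has even order; and that the centralizer of M in C_G(t) has order less than 3(q − e)/2, or the largest odd divisor of its order is less than 3 times the largest odd divisor of q − e. Then one of: (a) G = C_G(t)·O(G); (b) n is odd, M is normal in G, and there are normal subgroups M ≤ G₁ ≤ G₂ of G with G₁/M and G/G₂ of odd order and G₂/G₁ isomorphic to PGL(2, r) for some odd prime power r; (c) G has a normal subgroup G₀ isomorphic to Ω(V) or to PΩ(V) = Ω(V)/Z(Ω(V)), for the quadratic space V = F^{n+2} with a diagonal form of the same discriminant as U, complemented in G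 by a cyclic subgroup W of odd order acting faithfully on G₀ by conjugation. Nothing further is claimed about how W acts; in particular it is not claimed to act by field automorphisms. -/
theorem result
    (F : Type*) [Field F] [Fintype F] [DecidableEq F] (q : ℕ) (hF : Fintype.card F = q) (hq : Odd q)
    (n : ℕ) (c : Fin n → F) (hc : ∀ i, c i ≠ 0)
    (h6 : (q % 4 = 1 → 9 ≤ n ∨ (n = 8 ∧ IsSquare (∏ i, c i))) ∧
      (q % 4 = 3 → 14 ≤ n ∨ (n = 12 ∧ IsSquare (∏ i, c i)) ∨ (n = 10 ∧ ¬ IsSquare (∏ i, c i))))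
    {G : Type*} [Group G] [Finite G] (t : G) (ht : t ≠ 1 ∧ t * t = 1)
    (M : Subgroup G) (hM : M ≤ Subgroup.centralizer {t})
    (hMn : (M.subgroupOf (Subgroup.centralizer {t})).Normal)
    (ψ : ↥(Cfsg.Omega F (fun v : Fin n → F => ∑ i, c i * v i ^ 2)) ≃* ↥M)
    (z z' : ↥(Cfsg.isometryGroup F (fun v : Fin n → F => ∑ i, c i * v i ^ 2))) (hz : z ≠ 1 ∧ z * z = 1) (hz' : z' ≠ 1 ∧ z' * z' = 1)
    (hdet : ((z : GL (Fin n) F) : Matrix (Fin n) (Fin n) F).det = -1 ∧
      ((z' : GL (Fin n) F) : Matrix (Fin n) (Fin n) F).det = -1)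
    (hcoset : z⁻¹ * z' ∉ Cfsg.Omega F (fun v : Fin n → F => ∑ i, c i * v i ^ 2))
    (u u' : G) (hu : u ∈ Subgroup.centralizer {t} ∧ u ≠ 1 ∧ u * u = 1)
    (hu' : u' ∈ Subgroup.centralizer {t} ∧ u' ≠ 1 ∧ u' * u' = 1)
    (h2 : ∀ m m' : ↥(Cfsg.Omega F (fun v : Fin n → F => ∑ i, c i * v i ^ 2)), (m' : ↥(Cfsg.isometryGroup F (fun v : Fin n → F => ∑ i, c i * v i ^ 2))) = z * (m : ↥(Cfsg.isometryGroup F (fun v : Fin n → F => ∑ i, c i * v i ^ 2))) * z⁻¹ → u * (ψ m : G) * u⁻¹ = ψ m')
    (h2' : ∀ m m' : ↥(Cfsg.Omega F (fun v : Fin n → F => ∑ i, c i * v i ^ 2)), (m' : ↥(Cfsg.isometryGroup F (fun v : Fin n → F => ∑ i, c i * v i ^ 2))) = z' * (m : ↥(Cfsg.isometryGroup F (fun v : Fin n → F => ∑ i, c i * v i ^ 2))) * z'⁻¹ → u' * (ψ m : G) * u'⁻¹ = ψ m')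
    (h3 : Odd ((M ⊔ Subgroup.closure {u, u'}).relIndex (Subgroup.centralizer {t})))
    (h4 : ∀ h : ↥(Cfsg.Omega F (fun v : Fin n → F => ∑ i, c i * v i ^ 2)), (h : ↥(Cfsg.isometryGroup F (fun v : Fin n → F => ∑ i, c i * v i ^ 2))) = z * z' * z⁻¹ * z'⁻¹ →
      Even (orderOf (u * u' * u⁻¹ * u'⁻¹ * (ψ h : G)⁻¹)))
    (h5 : (q % 4 = 1 →
        2 * Nat.card ↥(Subgroup.centralizer {t} ⊓ Subgroup.centralizer (M : Set G)) < 3 * (q - 1) ∨
          Nat.card ↥(Subgroup.centralizer {t} ⊓ Subgroup.centralizer (M : Set G)) / 2 ^ ((Nat.card ↥(Subgroup.centralizer {t} ⊓ Subgroup.centralizer (M : Set G))).factorization 2) < 3 * ((q - 1) / 2 ^ ((q - 1).factorization 2))) ∧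
      (q % 4 = 3 →
        2 * Nat.card ↥(Subgroup.centralizer {t} ⊓ Subgroup.centralizer (M : Set G)) < 3 * (q + 1) ∨
          Nat.card ↥(Subgroup.centralizer {t} ⊓ Subgroup.centralizer (M : Set G)) / 2 ^ ((Nat.card ↥(Subgroup.centralizer {t} ⊓ Subgroup.centralizer (M : Set G))).factorization 2) < 3 * ((q + 1) / 2 ^ ((q + 1).factorization 2)))) :
    (Subgroup.centralizer {t} ⊔ Cfsg.oddCore G = ⊤) ∨
    (Odd n ∧ M.Normal ∧ ∃ G₁ G₂ : Subgroup G, G₁.Normal ∧ G₂.Normal ∧ M ≤ G₁ ∧ G₁ ≤ G₂ ∧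
      Odd (M.relIndex G₁) ∧ Odd G₂.index ∧
      ∃ (K : Type) (_ : Field K) (_ : Fintype K), Odd (Fintype.card K) ∧
        ∃ f : ↥G₂ →* (GL (Fin 2) K ⧸ Subgroup.center (GL (Fin 2) K)),
          Function.Surjective f ∧ f.ker = G₁.subgroupOf G₂) ∨
    (∃ G₀ : Subgroup G, G₀.Normal ∧
      (∃ c' : Fin (n + 2) → F, (∀ i, c' i ≠ 0) ∧ (IsSquare (∏ i, c' i) ↔ IsSquare (∏ i, c i)) ∧
        (Nonempty (↥G₀ ≃* Cfsg.POmega F (fun v : Fin (n + 2) → F => ∑ i, c' i * v i ^ 2)) ∨ Nonempty (↥G₀ ≃* ↥(Cfsg.Omega F (fun v : Fin (n + 2) → F => ∑ i, c' i * v i ^ 2))))) ∧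
      ∃ W : Subgroup G, IsCyclic ↥W ∧ Odd (Nat.card ↥W) ∧ W ⊓ G₀ = ⊥ ∧ W ⊔ G₀ = ⊤ ∧
        W ⊓ Subgroup.centralizer (G₀ : Set G) = ⊥) := by
  exact Cfsg.Agent.H519.OI.red Cfsg.Agent.H323.OI.main0 F q hF hq n c hc h6 t ht M hM hMn ψ z z' hz hz' hdet hcoset u u'
    hu hu' h2 h2' h3 h4 h5

end Cfsg.Agent.S3325
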