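import Cfsg.Statements.S3335
import Mathlib

set_option autoImplicit false
open Cfsg

namespace Cfsg.Agent.S3335

open Subgroup

section bound

variable {G : Type*} [Group G]

/-- The relations of Moore's presentation for the first `m` members of a sequence. -/
structure Rel (m : ℕ) (x : ℕ → G) : Prop where
  cube : 0 < m → x 0 ^ 3 = 1
  sq : ∀ i, 1 ≤ i → i < m → x i ^ 2 = 1
  br : ∀ i, i + 1 < m → (x i * x (i + 1)) ^ 3 = 1
  cm : ∀ i j, i + 1 < j → j < m → (x i * x j) ^ 2 = 1

theorem Rel.mono {m n : ℕ} {x : ℕ → G} (h : Rel n x) (hmn : m ≤ n) : Rel m x :=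
  ⟨fun hm => h.cube (by omega), fun i h1 hi => h.sq i h1 (by omega), fun i hi => h.br i (by omega),
    fun i j hij hj => h.cm i j hij (by omega)⟩

theorem Rel.inv {m : ℕ} {x : ℕ → G} (h : Rel m x) {i : ℕ} (h1 : 1 ≤ i) (hi : i < m) :
    (x i)⁻¹ = x i := by
  rw [inv_eq_iff_mul_eq_one, ← pow_two, h.sq i h1 hi]

theorem Rel.inv0 {m : ℕ} {x : ℕ → G} (h : Rel m x) (hm : 0 < m) :
    (x 0)⁻¹ = x 0 * x 0 := by
  rw [inv_eq_iff_mul_eq_one, ← mul_assoc, ← pow_two, ← pow_succ, h.cube hm]

/-- far apart generators with positive indices commute -/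
theorem Rel.comm {m : ℕ} {x : ℕ → G} (h : Rel m x) {i j : ℕ} (h1 : 1 ≤ i) (hij : i + 1 < j)
    (hj : j < m) : x j * x i = x i * x j := by
  have h2 := h.cm i j hij hj
  have h3 : x i * x j = (x i * x j)⁻¹ := by
    rw [eq_inv_iff_mul_eq_one, ← pow_two, h2]
  rw [h3, mul_inv_rev, h.inv h1 (by omega), h.inv (by omega) hj]

/-- the first generator is inverted by the far ones -/
theorem Rel.comm0 {m : ℕ} {x : ℕ → G} (h : Rel m x) {j : ℕ} (hij : 1 < j)
    (hj : j < m) : x j * x 0 = (x 0)⁻¹ * x j := by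
  have h2 := h.cm 0 j (by omega) hj
  have h3 : x 0 * x j = (x 0 * x j)⁻¹ := by
    rw [eq_inv_iff_mul_eq_one, ← pow_two, h2]
  rw [mul_inv_rev, h.inv (by omega) hj] at h3
  rw [eq_inv_mul_iff_mul_eq, ← mul_assoc, h3, mul_assoc, inv_mul_cancel, mul_one]

theorem Rel.comm0' {m : ℕ} {x : ℕ → G} (h : Rel m x) {j : ℕ} (hij : 1 < j)
    (hj : j < m) : x j * (x 0)⁻¹ = x 0 * x j := by
  rw [mul_inv_eq_iff_eq_mul, mul_assoc, h.comm0 hij hj, mul_inv_cancel_left]

/-- the braid relation for positive indices -/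
theorem Rel.braid {m : ℕ} {x : ℕ → G} (h : Rel m x) {i : ℕ} (h1 : 1 ≤ i) (hi : i + 1 < m) :
    x (i + 1) * x i * x (i + 1) = x i * x (i + 1) * x i := by
  have h2 := h.br i hi
  have h3 : x i * x (i + 1) * x i = (x (i + 1) * x i * x (i + 1))⁻¹ := by
    rw [eq_inv_iff_mul_eq_one, ← h2]
    simp only [pow_succ, pow_zero, one_mul, mul_assoc]
  rw [h3, mul_inv_rev, mul_inv_rev, h.inv h1 (by omega), h.inv (by omega) hi, mul_assoc]

/-- the braid relation for the first two generators -/
theorem Rel.braid0 {m : ℕ} {x : ℕ → G} (h : Rel m x) (hi : 1 < m) :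
    x 1 * x 0 * x 1 = (x 0)⁻¹ * x 1 * (x 0)⁻¹ := by
  have h2 := h.br 0 hi
  have h3 : x 0 * (x 1 * x 0 * x 1) * x 0 * x 1 = 1 := by
    rw [← h2]
    simp only [pow_succ, pow_zero, one_mul, mul_assoc, Nat.zero_add]
  have h4 : x 1 * x 0 * x 1 = (x 0)⁻¹ * (x 1)⁻¹ * (x 0)⁻¹ := by
    rw [← mul_right_inj (x 0), ← mul_left_inj (x 0), ← mul_left_inj (x 1), h3]
    group
  rw [h4, h.inv le_rfl hi]

theorem Rel.braid0' {m : ℕ} {x : ℕ → G} (h : Rel m x) (hi : 1 < m) :
    x 1 * (x 0)⁻¹ * x 1 = x 0 * x 1 * x 0 := by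
  have h2 := congrArg (fun g => g⁻¹) (h.braid0 hi)
  simp only [mul_inv_rev, inv_inv] at h2
  rw [h.inv le_rfl hi] at h2
  rw [mul_assoc, h2, mul_assoc]

/-- The subgroup generated by the first `m` members of a sequence. -/
def gen (m : ℕ) (x : ℕ → G) : Subgroup G := closure {g | ∃ i < m, g = x i}

theorem gen_def (m : ℕ) (x : ℕ → G) : gen m x = closure {g | ∃ i < m, g = x i} := rfl

theorem mem_gen {m : ℕ} {x : ℕ → G} {i : ℕ} (hi : i < m) : x i ∈ gen m x :=
  subset_closure ⟨i, hi, rfl⟩

/-- `D k = x m * x (m - 1) * ⋯ ` with `k` factors -/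
def D (m : ℕ) (x : ℕ → G) : ℕ → G
  | 0 => 1
  | k + 1 => D m x k * x (m - k)

theorem D_succ (m : ℕ) (x : ℕ → G) (k : ℕ) : D m x (k + 1) = D m x k * x (m - k) := rfl

theorem D_zero (m : ℕ) (x : ℕ → G) : D m x 0 = 1 := rfl

theorem D_comm {m : ℕ} {x : ℕ → G} (h : Rel (m + 1) x) {i : ℕ} (h1 : 1 ≤ i) :
    ∀ k, i + k < m → D m x k * x i = x i * D m x k := by
  intro k
  induction k with
  | zero => intro _; rw [D_zero, one_mul, mul_one]
  | succ k ih =>
    intro hk
    rw [D_succ, mul_assoc, h.comm h1 (by omega) (by omega), ← mul_assoc, ih (by omega), mul_assoc]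

theorem D_comm0 {m : ℕ} {x : ℕ → G} (h : Rel (m + 1) x) :
    ∀ k, k < m → ∃ e, (e = x 0 ∨ e = (x 0)⁻¹) ∧ D m x k * x 0 = e * D m x k ∧
      D m x k * (x 0)⁻¹ = e⁻¹ * D m x k := by
  intro k
  induction k with
  | zero => intro _; exact ⟨x 0, Or.inl rfl, by rw [D_zero, one_mul, mul_one], by rw [D_zero, one_mul, mul_one]⟩
  | succ k ih =>
    intro hk
    obtain ⟨e, he, h2, h3⟩ := ih (by omega)
    refine ⟨e⁻¹, ?_, ?_, ?_⟩
    · rcases he with rfl | rfl
      · exact Or.inr rfl
      · left; rw [inv_inv]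
    · rw [D_succ, mul_assoc, h.comm0 (by omega) (by omega), ← mul_assoc, h3, mul_assoc]
    · rw [D_succ, mul_assoc, h.comm0' (by omega) (by omega), ← mul_assoc, h2, mul_assoc, inv_inv]

theorem D_shift {m : ℕ} {x : ℕ → G} (h : Rel (m + 1) x) {i : ℕ} (hi1 : 2 ≤ i) (hi : i ≤ m) :
    ∀ k, k ≤ m → m + 1 < i + k → D m x k * x i = x (i - 1) * D m x k := by
  intro k
  induction k with
  | zero => intro _ h2; omega
  | succ k ih =>
    intro hk h2
    rcases Nat.lt_or_ge (m + 1) (i + k) with h3 | h3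
    · rw [D_succ, mul_assoc, ← h.comm (i := m - k) (j := i) (by omega) (by omega) (by omega),
        ← mul_assoc, ih (by omega) h3, mul_assoc]
    · -- `i + k = m + 1`
      obtain ⟨l, rfl⟩ : ∃ l, k = l + 1 := ⟨k - 1, by omega⟩
      have h4 : m - l = i := by omega
      have h5 : m - (l + 1) = i - 1 := by omega
      rw [D_succ, D_succ, h4, h5]
      obtain ⟨j, rfl⟩ : ∃ j, i = j + 1 := ⟨i - 1, by omega⟩
      rw [Nat.add_sub_cancel]
      have h6 := h.braid (i := j) (by omega) (by omega)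
      calc D m x l * x (j + 1) * x j * x (j + 1) = D m x l * (x (j + 1) * x j * x (j + 1)) := by
            simp only [mul_assoc]
        _ = (D m x l * x j) * x (j + 1) * x j := by rw [h6]; simp only [mul_assoc]
        _ = x j * (D m x l * x (j + 1) * x j) := by
            rw [D_comm h (by omega) l (by omega)]; simp only [mul_assoc]

/-- The coset representatives. -/
def rep (m : ℕ) (x : ℕ → G) (k : ℕ) : G :=
  if k < m + 1 then D m x k else if k = m + 1 then D m x m * x 0 else D m x m * (x 0)⁻¹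

theorem rep_lt {m : ℕ} {x : ℕ → G} {k : ℕ} (hk : k < m + 1) : rep m x k = D m x k := if_pos hk

theorem rep_one (m : ℕ) (x : ℕ → G) : rep m x (m + 1) = D m x m * x 0 := by
  unfold rep; rw [if_neg (by omega), if_pos rfl]

theorem rep_two (m : ℕ) (x : ℕ → G) : rep m x (m + 2) = D m x m * (x 0)⁻¹ := by
  unfold rep; rw [if_neg (by omega), if_neg (by omega)]

theorem step {m : ℕ} {x : ℕ → G} (h : Rel (m + 1) x) (k : ℕ) (hk : k < m + 3) (i : ℕ) (hi : i < m + 1) :
    ∃ l < m + 3, ∃ g ∈ gen m x, rep m x k * x i = g * rep m x l := by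
  rcases Nat.lt_or_ge k (m + 1) with hk1 | hk1
  · rw [rep_lt hk1]
    rcases Nat.lt_trichotomy (i + k) m with h2 | h2 | h2
    · -- the letter moves to the front
      rcases Nat.eq_zero_or_pos i with rfl | h0
      · obtain ⟨e, he, h3, -⟩ := D_comm0 h k (by omega)
        refine ⟨k, hk, e, ?_, ?_⟩
        · rcases he with rfl | rfl
          · exact mem_gen (by omega)
          · exact inv_mem (mem_gen (by omega))
        · rw [h3, rep_lt hk1]
      · exact ⟨k, hk, x i, mem_gen (by omega), by rw [D_comm h h0 k h2, rep_lt hk1]⟩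
    · -- the next letter
      have h3 : i = m - k := by omega
      rcases Nat.lt_or_ge k m with h4 | h4
      · exact ⟨k + 1, by omega, 1, one_mem _, by rw [rep_lt (by omega), D_succ, one_mul, h3]⟩
      · obtain rfl : k = m := by omega
        obtain rfl : i = 0 := by omega
        exact ⟨k + 1, by omega, 1, one_mem _, by rw [rep_one, one_mul]⟩
    · rcases Nat.lt_or_ge (m + 1) (i + k) with h3 | h3
      · refine ⟨k, hk, x (i - 1), mem_gen (by omega), ?_⟩
        rw [D_shift h (by omega) (by omega) k (by omega) h3, rep_lt hk1]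
      · -- the last letter
        obtain ⟨l, rfl⟩ : ∃ l, k = l + 1 := ⟨k - 1, by omega⟩
        refine ⟨l, by omega, 1, one_mem _, ?_⟩
        have h4 : m - l = i := by omega
        rw [rep_lt (by omega), D_succ, h4, mul_assoc, ← pow_two, h.sq i (by omega) hi, mul_one, one_mul]
  · rcases Nat.eq_or_lt_of_le hk1 with h2 | h2
    · -- `k = m + 1`
      subst h2
      rw [rep_one]
      rcases Nat.eq_zero_or_pos i with rfl | h0
      · refine ⟨m + 2, by omega, 1, one_mem _, ?_⟩
        rw [rep_two, h.inv0 (by omega), one_mul, mul_assoc]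
      · rcases Nat.eq_or_lt_of_le h0 with h1 | h1
        · have h1' : i = 1 := h1.symm
          subst h1'
          obtain ⟨l, rfl⟩ : ∃ l, m = l + 1 := ⟨m - 1, by omega⟩
          obtain ⟨e, he, h3, h4⟩ := D_comm0 h l (by omega)
          refine ⟨l + 3, by omega, e⁻¹, ?_, ?_⟩
          · rcases he with rfl | rfl
            · exact inv_mem (mem_gen (by omega))
            · exact inv_mem (inv_mem (mem_gen (by omega)))
          · have h5 : rep (l + 1) x (l + 3) = D (l + 1) x (l + 1) * (x 0)⁻¹ := rep_two (l + 1) x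
            have h6 : l + 1 - l = 1 := by omega
            rw [h5, D_succ, h6]
            calc D (l + 1) x l * x 1 * x 0 * x 1 = D (l + 1) x l * (x 1 * x 0 * x 1) := by
                  simp only [mul_assoc]
              _ = D (l + 1) x l * (x 0)⁻¹ * x 1 * (x 0)⁻¹ := by
                  rw [h.braid0 (by omega)]; simp only [mul_assoc]
              _ = e⁻¹ * (D (l + 1) x l * x 1 * (x 0)⁻¹) := by
                  rw [h4]; simp only [mul_assoc]
        · refine ⟨m + 2, by omega, x (i - 1), mem_gen (by omega), ?_⟩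
          have h3 : x 0 * x i = x i * (x 0)⁻¹ := by rw [h.comm0' (by omega) (by omega)]
          rw [rep_two, mul_assoc, h3, ← mul_assoc, D_shift h (by omega) (by omega) m le_rfl (by omega),
            mul_assoc]
    · -- `k = m + 2`
      obtain rfl : k = m + 2 := by omega
      rw [rep_two]
      rcases Nat.eq_zero_or_pos i with rfl | h0
      · refine ⟨m, by omega, 1, one_mem _, ?_⟩
        rw [rep_lt (by omega), one_mul, inv_mul_cancel_right]
      · rcases Nat.eq_or_lt_of_le h0 with h1 | h1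
        · have h1' : i = 1 := h1.symm
          subst h1'
          obtain ⟨l, rfl⟩ : ∃ l, m = l + 1 := ⟨m - 1, by omega⟩
          obtain ⟨e, he, h3, h4⟩ := D_comm0 h l (by omega)
          refine ⟨l + 2, by omega, e, ?_, ?_⟩
          · rcases he with rfl | rfl
            · exact mem_gen (by omega)
            · exact inv_mem (mem_gen (by omega))
          · have h5 : rep (l + 1) x (l + 2) = D (l + 1) x (l + 1) * x 0 := rep_one (l + 1) x
            have h6 : l + 1 - l = 1 := by omega
            rw [h5, D_succ, h6]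
            calc D (l + 1) x l * x 1 * (x 0)⁻¹ * x 1 = D (l + 1) x l * (x 1 * (x 0)⁻¹ * x 1) := by
                  simp only [mul_assoc]
              _ = D (l + 1) x l * x 0 * x 1 * x 0 := by
                  rw [h.braid0' (by omega)]; simp only [mul_assoc]
              _ = e * (D (l + 1) x l * x 1 * x 0) := by
                  rw [h3]; simp only [mul_assoc]
        · refine ⟨m + 1, by omega, x (i - 1), mem_gen (by omega), ?_⟩
          have h3 : (x 0)⁻¹ * x i = x i * x 0 := by rw [h.comm0 (by omega) (by omega)]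
          rw [rep_one, mul_assoc, h3, ← mul_assoc, D_shift h (by omega) (by omega) m le_rfl (by omega),
            mul_assoc]

theorem gen_succ_le {m : ℕ} {x : ℕ → G} (h : Rel (m + 1) x) {g : G} (hg : g ∈ gen (m + 1) x) :
    ∃ k < m + 3, ∃ y ∈ gen m x, g = y * rep m x k := by
  have key : ∀ g : G, (∃ k < m + 3, ∃ y ∈ gen m x, g = y * rep m x k) → ∀ i < m + 1,
      ∃ k < m + 3, ∃ y ∈ gen m x, g * x i = y * rep m x k := by
    rintro g ⟨k, hk, y, hy, rfl⟩ i hi
    obtain ⟨l, hl, y', hy', hkl⟩ := step h k hk i hi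
    exact ⟨l, hl, y * y', mul_mem hy hy', by rw [mul_assoc, hkl, mul_assoc]⟩
  rw [gen_def] at hg
  induction hg using Subgroup.closure_induction_right with
  | one => exact ⟨0, by omega, 1, one_mem _, by rw [rep_lt (by omega), D_zero, one_mul]⟩
  | mul_right g _ s hs ih =>
    obtain ⟨i, hi, rfl⟩ := hs
    exact key g ih i hi
  | mul_inv_cancel g _ s hs ih =>
    obtain ⟨i, hi, rfl⟩ := hs
    rcases Nat.eq_zero_or_pos i with rfl | h0
    · have h1 := key _ (key g ih 0 hi) 0 hi
      rw [mul_assoc g, ← h.inv0 (by omega)] at h1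
      exact h1
    · rw [h.inv h0 hi]
      exact key g ih i hi

theorem card_gen_succ_le {m : ℕ} {x : ℕ → G} (h : Rel (m + 1) x) [Finite (gen m x)] :
    Finite (gen (m + 1) x) ∧ Nat.card (gen (m + 1) x) ≤ (m + 3) * Nat.card (gen m x) := by
  let f : Fin (m + 3) × gen m x → G := fun p => p.2 * rep m x p.1
  have hsub : ((gen (m + 1) x : Subgroup G) : Set G) ⊆ Set.range f := by
    intro g hg
    obtain ⟨k, hk, y, hy, rfl⟩ := gen_succ_le h hg
    exact ⟨(⟨k, hk⟩, ⟨y, hy⟩), rfl⟩
  have hfin : (Set.range f).Finite := Set.finite_range f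
  refine ⟨(hfin.subset hsub).to_subtype, ?_⟩
  calc Nat.card (gen (m + 1) x) ≤ Nat.card (Set.range f) := Nat.card_mono hfin hsub
    _ ≤ Nat.card (Fin (m + 3) × gen m x) := Finite.card_range_le f
    _ = (m + 3) * Nat.card (gen m x) := by simp

theorem card_gen_le {x : ℕ → G} : ∀ m, Rel m x →
    Finite (gen m x) ∧ 2 * Nat.card (gen m x) ≤ (m + 2).factorial := by
  intro m
  induction m with
  | zero =>
    intro _
    have h0 : gen 0 x = ⊥ := by
      rw [gen_def, closure_eq_bot_iff]
      rintro g ⟨i, hi, -⟩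
      omega
    rw [h0]
    exact ⟨inferInstance, by simp⟩
  | succ m ih =>
    intro h
    obtain ⟨h1, h2⟩ := ih (h.mono (by omega))
    obtain ⟨h3, h4⟩ := card_gen_succ_le h
    refine ⟨h3, ?_⟩
    have h5 : (m + 1 + 2).factorial = (m + 3) * (m + 2).factorial := Nat.factorial_succ (m + 2)
    rw [h5]
    calc 2 * Nat.card (gen (m + 1) x) ≤ 2 * ((m + 3) * Nat.card (gen m x)) := by omega
      _ = (m + 3) * (2 * Nat.card (gen m x)) := by ring
      _ ≤ (m + 3) * (m + 2).factorial := Nat.mul_le_mul_left _ h2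

end bound

section model

open Equiv

/-- the adjacent transpositions -/
def tr (k : ℕ) (i : Fin (k + 2)) : Perm (Fin (k + 3)) := swap i.castSucc i.succ

theorem tr_mul (k : ℕ) (i : Fin (k + 2)) : tr k i * tr k i = 1 := swap_mul_self _ _

/-- Moore's generators -/
def mo (k : ℕ) (i : Fin (k + 1)) : Perm (Fin (k + 3)) := tr k 0 * tr k i.succ

theorem tr_sign (k : ℕ) (i : Fin (k + 2)) : Perm.sign (tr k i) = -1 :=
  Perm.sign_swap (Fin.castSucc_lt_succ).ne

theorem mo_mem (k : ℕ) (i : Fin (k + 1)) : mo k i ∈ alternatingGroup (Fin (k + 3)) := by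
  rw [Perm.mem_alternatingGroup, mo, Perm.sign_mul, tr_sign, tr_sign]
  decide

theorem comm_of_ne {k : ℕ} {i j : Fin (k + 2)} (h : i.val + 1 < j.val) :
    tr k i * tr k j = tr k j * tr k i := by
  have : Perm.Disjoint (tr k i) (tr k j) := by
    unfold tr
    rw [Perm.disjoint_iff_disjoint_support, Perm.support_swap (Fin.castSucc_lt_succ).ne,
      Perm.support_swap (Fin.castSucc_lt_succ).ne]
    simp only [Finset.disjoint_insert_left, Finset.mem_insert, Finset.mem_singleton,
      Finset.disjoint_singleton_left, Fin.ext_iff, Fin.val_castSucc, Fin.val_succ]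
    omega
  exact this.commute

theorem cube_of_succ {k : ℕ} {i j : Fin (k + 2)} (h : j.val = i.val + 1) :
    (tr k i * tr k j) ^ 3 = 1 := by
  have h1 : i.succ = j.castSucc := Fin.ext (by rw [Fin.val_succ, Fin.val_castSucc, h])
  have h2 : Perm.IsThreeCycle (tr k i * tr k j) := by
    unfold tr
    rw [swap_comm i.castSucc i.succ, h1]
    refine Perm.isThreeCycle_swap_mul_swap_same ?_ ?_ ?_
    · rw [← h1]; exact (Fin.castSucc_lt_succ).ne'
    · exact (Fin.castSucc_lt_succ).ne
    · intro h3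
      have := congrArg Fin.val h3
      rw [Fin.val_castSucc, Fin.val_succ] at this
      omega
  exact orderOf_dvd_iff_pow_eq_one.1 (by rw [h2.orderOf])

theorem mo_zero (k : ℕ) : mo k 0 ^ 3 = 1 := cube_of_succ rfl

theorem mo_sq {k : ℕ} {i : Fin (k + 1)} (h : 1 ≤ i.val) : mo k i ^ 2 = 1 := by
  have h1 : tr k 0 * tr k i.succ = tr k i.succ * tr k 0 := comm_of_ne (by
    rw [Fin.val_succ, Fin.val_zero]; omega)
  rw [pow_two, mo]
  calc tr k 0 * tr k i.succ * (tr k 0 * tr k i.succ) = tr k 0 * tr k i.succ * (tr k i.succ * tr k 0) := by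
        rw [h1]
    _ = tr k 0 * (tr k i.succ * tr k i.succ) * tr k 0 := by simp only [mul_assoc]
    _ = 1 := by rw [tr_mul, mul_one, tr_mul]

/-- the product of two of the generators -/
theorem mo_mul_mo {k : ℕ} {i j : Fin (k + 1)} (h : 1 ≤ i.val) :
    mo k i * mo k j = tr k i.succ * tr k j.succ := by
  have h1 : tr k 0 * tr k i.succ = tr k i.succ * tr k 0 := comm_of_ne (by
    rw [Fin.val_succ, Fin.val_zero]; omega)
  rw [mo, mo, h1]
  calc tr k i.succ * tr k 0 * (tr k 0 * tr k j.succ) = tr k i.succ * (tr k 0 * tr k 0) * tr k j.succ := by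
        simp only [mul_assoc]
    _ = _ := by rw [tr_mul, mul_one]

/-- the product with the first generator is conjugate to a product of two transpositions -/
theorem mo_zero_mul {k : ℕ} {j : Fin (k + 1)} (h : 1 ≤ j.val) (n : ℕ)
    (hn : (tr k 1 * tr k j.succ) ^ n = 1) : (mo k 0 * mo k j) ^ n = 1 := by
  have h1 : tr k 0 * tr k j.succ = tr k j.succ * tr k 0 := comm_of_ne (by
    rw [Fin.val_succ, Fin.val_zero]; omega)
  have h2 : mo k 0 * mo k j = tr k 0 * (tr k 1 * tr k j.succ) * (tr k 0)⁻¹ := by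
    have h3 : (tr k 0)⁻¹ = tr k 0 := inv_eq_of_mul_eq_one_left (tr_mul k 0)
    rw [mo, mo, h3]
    have h4 : (0 : Fin (k + 1)).succ = 1 := rfl
    rw [h4, h1]
    simp only [mul_assoc]
  rw [h2, conj_pow, hn, mul_one, mul_inv_cancel]

theorem mo_br {k : ℕ} {i j : Fin (k + 1)} (h : j.val = i.val + 1) : (mo k i * mo k j) ^ 3 = 1 := by
  rcases Nat.eq_zero_or_pos i.val with h0 | h0
  · obtain rfl : i = 0 := Fin.ext h0
    refine mo_zero_mul (by omega) 3 (cube_of_succ ?_)
    rw [Fin.val_succ, h]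
    rfl
  · rw [mo_mul_mo h0]
    exact cube_of_succ (by rw [Fin.val_succ, Fin.val_succ, h])

theorem sq_of_comm {G : Type*} [Group G] {a b : G} (ha : a * a = 1) (hb : b * b = 1)
    (hab : a * b = b * a) : (a * b) ^ 2 = 1 := by
  rw [pow_two]
  calc a * b * (a * b) = a * b * (b * a) := by rw [hab]
    _ = a * (b * b) * a := by simp only [mul_assoc]
    _ = 1 := by rw [hb, mul_one, ha]

theorem mo_cm {k : ℕ} {i j : Fin (k + 1)} (h : i.val + 1 < j.val) : (mo k i * mo k j) ^ 2 = 1 := by
  rcases Nat.eq_zero_or_pos i.val with h0 | h0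
  · obtain rfl : i = 0 := Fin.ext h0
    refine mo_zero_mul (by omega) 2 (sq_of_comm (tr_mul _ _) (tr_mul _ _) (comm_of_ne ?_))
    rw [Fin.val_succ]
    have : ((1 : Fin (k + 2)) : ℕ) = 1 := rfl
    rw [this]
    rw [Fin.val_zero] at h
    omega
  · rw [mo_mul_mo h0]
    exact sq_of_comm (tr_mul _ _) (tr_mul _ _) (comm_of_ne (by rw [Fin.val_succ, Fin.val_succ]; omega))

/-- the generators generate the alternating group -/
theorem closure_mo (k : ℕ) : closure (Set.range (mo k)) = alternatingGroup (Fin (k + 3)) := by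
  set K := closure (Set.range (mo k)) with hK
  have hle : K ≤ alternatingGroup (Fin (k + 3)) := by
    rw [hK, closure_le]
    rintro _ ⟨i, rfl⟩
    exact mo_mem k i
  -- conjugation by `t₀` normalizes `K`
  have hnorm : ∀ g ∈ K, tr k 0 * g * tr k 0 ∈ K := by
    intro g hg
    have h3 : (tr k 0)⁻¹ = tr k 0 := inv_eq_of_mul_eq_one_left (tr_mul k 0)
    rw [hK] at hg
    induction hg using Subgroup.closure_induction with
    | one => rw [mul_one, tr_mul]; exact one_mem _
    | mem x hx =>
      obtain ⟨i, rfl⟩ := hx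
      have h4 : tr k 0 * mo k i * tr k 0 = (mo k i)⁻¹ := by
        have h5 : (tr k i.succ)⁻¹ = tr k i.succ := inv_eq_of_mul_eq_one_left (tr_mul k _)
        rw [mo, mul_inv_rev, h3, h5, ← mul_assoc, tr_mul, one_mul]
      rw [h4]
      exact inv_mem (subset_closure ⟨i, rfl⟩)
    | mul x y _ _ hx hy =>
      have h4 : tr k 0 * (x * y) * tr k 0 = (tr k 0 * x * tr k 0) * (tr k 0 * y * tr k 0) := by
        calc tr k 0 * (x * y) * tr k 0 = tr k 0 * x * 1 * y * tr k 0 := by simp only [mul_assoc, mul_one]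
          _ = _ := by rw [← tr_mul k 0]; simp only [mul_assoc]
      rw [h4]
      exact mul_mem hx hy
    | inv x _ hx =>
      have h4 : tr k 0 * x⁻¹ * tr k 0 = (tr k 0 * x * tr k 0)⁻¹ := by
        rw [mul_inv_rev, mul_inv_rev, h3, mul_assoc]
      rw [h4]
      exact inv_mem hx
  -- every permutation lies in `K ∪ t₀ K`
  have hall : ∀ g : Perm (Fin (k + 3)), g ∈ K ∨ tr k 0 * g ∈ K := by
    intro g
    have hg : g ∈ Submonoid.closure (Set.range fun i : Fin (k + 2) => swap i.castSucc i.succ) := by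
      rw [Equiv.Perm.mclosure_swap_castSucc_succ]; trivial
    induction hg using Submonoid.closure_induction_left with
    | one => exact Or.inl (one_mem _)
    | mul_left x hx y _ ih =>
      obtain ⟨i, rfl⟩ := hx
      change tr k i * y ∈ K ∨ tr k 0 * (tr k i * y) ∈ K
      have h5 : tr k 0 * tr k i ∈ K := by
        rcases Fin.eq_zero_or_eq_succ i with rfl | ⟨j, rfl⟩
        · rw [tr_mul]; exact one_mem _
        · exact subset_closure ⟨j, rfl⟩
      rcases ih with ih | ih
      · right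
        rw [← mul_assoc]
        exact mul_mem h5 ih
      · left
        have h6 : tr k i * y = (tr k 0 * (tr k 0 * tr k i) * tr k 0) * (tr k 0 * y) := by
          calc tr k i * y = 1 * tr k i * 1 * y := by rw [one_mul, mul_one]
            _ = _ := by rw [← tr_mul k 0]; simp only [mul_assoc]
        rw [h6]
        exact mul_mem (hnorm _ h5) ih
  refine le_antisymm hle fun g hg => ?_
  rcases hall g with h | h
  · exact h
  · exfalso
    have h1 := hle h
    rw [Perm.mem_alternatingGroup] at hg h1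
    rw [Perm.sign_mul, hg, tr_sign] at h1
    exact absurd h1 (by decide)

end model

/-- A presentation of the alternating group of degree n ≥ 3 on generators x_1, …, x_{n−2} (indexed here by 0, …, n−3): the first generator cubes to 1, every other generator squares to 1, the product of two consecutive generators has order dividing 3, and the product of two generators at distance at least 2 has order dividing 2. The group so presented is isomorphic to the alternating group of degree n. -/
theorem result (n : ℕ) (hn : 3 ≤ n) :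
    Nonempty (PresentedGroup
      ({g : FreeGroup (Fin (n - 2)) | ∃ i : Fin (n - 2), i.val = 0 ∧ g = FreeGroup.of i ^ 3} ∪
       {g | ∃ i : Fin (n - 2), 1 ≤ i.val ∧ g = FreeGroup.of i ^ 2} ∪
       {g | ∃ i j : Fin (n - 2), j.val = i.val + 1 ∧ g = (FreeGroup.of i * FreeGroup.of j) ^ 3} ∪
       {g | ∃ i j : Fin (n - 2), i.val + 1 < j.val ∧ g = (FreeGroup.of i * FreeGroup.of j) ^ 2})
      ≃* alternatingGroup (Fin n)) := by
  obtain ⟨k, rfl⟩ : ∃ k, n = k + 3 := ⟨n - 3, by omega⟩
  change Nonempty (PresentedGroup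
      ({g : FreeGroup (Fin (k + 1)) | ∃ i : Fin (k + 1), i.val = 0 ∧ g = FreeGroup.of i ^ 3} ∪
       {g | ∃ i : Fin (k + 1), 1 ≤ i.val ∧ g = FreeGroup.of i ^ 2} ∪
       {g | ∃ i j : Fin (k + 1), j.val = i.val + 1 ∧ g = (FreeGroup.of i * FreeGroup.of j) ^ 3} ∪
       {g | ∃ i j : Fin (k + 1), i.val + 1 < j.val ∧ g = (FreeGroup.of i * FreeGroup.of j) ^ 2})
      ≃* alternatingGroup (Fin (k + 3)))
  set R : Set (FreeGroup (Fin (k + 1))) :=
      ({g : FreeGroup (Fin (k + 1)) | ∃ i : Fin (k + 1), i.val = 0 ∧ g = FreeGroup.of i ^ 3} ∪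
       {g | ∃ i : Fin (k + 1), 1 ≤ i.val ∧ g = FreeGroup.of i ^ 2} ∪
       {g | ∃ i j : Fin (k + 1), j.val = i.val + 1 ∧ g = (FreeGroup.of i * FreeGroup.of j) ^ 3} ∪
       {g | ∃ i j : Fin (k + 1), i.val + 1 < j.val ∧ g = (FreeGroup.of i * FreeGroup.of j) ^ 2}) with hR
  -- the homomorphism to the alternating group
  let f : Fin (k + 1) → alternatingGroup (Fin (k + 3)) := fun i => ⟨mo k i, mo_mem k i⟩
  have hf : ∀ r ∈ R, FreeGroup.lift f r = 1 := by
    rintro r (((⟨i, hi, rfl⟩ | ⟨i, hi, rfl⟩) | ⟨i, j, hij, rfl⟩) | ⟨i, j, hij, rfl⟩)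
    · obtain rfl : i = 0 := Fin.ext hi
      rw [map_pow, FreeGroup.lift_apply_of]
      exact Subtype.ext (mo_zero k)
    · rw [map_pow, FreeGroup.lift_apply_of]
      exact Subtype.ext (mo_sq hi)
    · rw [map_pow, map_mul, FreeGroup.lift_apply_of, FreeGroup.lift_apply_of]
      exact Subtype.ext (mo_br hij)
    · rw [map_pow, map_mul, FreeGroup.lift_apply_of, FreeGroup.lift_apply_of]
      exact Subtype.ext (mo_cm hij)
  let F : PresentedGroup R →* alternatingGroup (Fin (k + 3)) := PresentedGroup.toGroup hf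
  have hFof : ∀ i, F (PresentedGroup.of i) = f i := fun i => PresentedGroup.toGroup.of hf
  -- it is surjective
  have hsurj : Function.Surjective F := by
    rw [← MonoidHom.range_eq_top, eq_top_iff]
    rintro ⟨g, hg⟩ -
    have h1 : g ∈ (F.range).map (alternatingGroup (Fin (k + 3))).subtype := by
      rw [← closure_mo] at hg
      refine (closure_le _).2 ?_ hg
      rintro _ ⟨i, rfl⟩
      exact ⟨f i, ⟨PresentedGroup.of i, hFof i⟩, rfl⟩
    obtain ⟨y, hy, hy2⟩ := h1
    have : y = ⟨g, hg⟩ := Subtype.ext hy2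
    rwa [← this]
  -- the order of the presented group
  let x : ℕ → PresentedGroup R := fun i => if h : i < k + 1 then PresentedGroup.of ⟨i, h⟩ else 1
  have hx : ∀ (i : ℕ) (h : i < k + 1), x i = PresentedGroup.of ⟨i, h⟩ := fun i h => dif_pos h
  have hmk : ∀ i : Fin (k + 1), (PresentedGroup.of i : PresentedGroup R) = PresentedGroup.mk R (FreeGroup.of i) :=
    fun i => rfl
  have hrel : Rel (k + 1) x := by
    refine ⟨fun _ => ?_, fun i h1 hi => ?_, fun i hi => ?_, fun i j hij hj => ?_⟩
    · rw [hx 0 (by omega), hmk, ← map_pow]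
      exact PresentedGroup.one_of_mem (Or.inl (Or.inl (Or.inl ⟨0, rfl, rfl⟩)))
    · rw [hx i hi, hmk, ← map_pow]
      exact PresentedGroup.one_of_mem (Or.inl (Or.inl (Or.inr ⟨⟨i, hi⟩, h1, rfl⟩)))
    · rw [hx i (by omega), hx (i + 1) hi, hmk, hmk, ← map_mul, ← map_pow]
      exact PresentedGroup.one_of_mem (Or.inl (Or.inr ⟨⟨i, by omega⟩, ⟨i + 1, hi⟩, rfl, rfl⟩))
    · rw [hx i (by omega), hx j hj, hmk, hmk, ← map_mul, ← map_pow]
      exact PresentedGroup.one_of_mem (Or.inr ⟨⟨i, by omega⟩, ⟨j, hj⟩, hij, rfl⟩)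
  have htop : gen (k + 1) x = ⊤ := by
    rw [eq_top_iff, ← PresentedGroup.closure_range_of R, closure_le]
    rintro _ ⟨i, rfl⟩
    have h1 := mem_gen (x := x) i.2
    rwa [hx i.1 i.2] at h1
  obtain ⟨hfin, hcard⟩ := card_gen_le (k + 1) hrel
  rw [htop] at hfin hcard
  have : Finite (PresentedGroup R) := Finite.of_equiv _ (topEquiv : (⊤ : Subgroup (PresentedGroup R)) ≃* _).toEquiv
  have hcard' : 2 * Nat.card (PresentedGroup R) ≤ (k + 3).factorial := by
    rw [← Nat.card_congr (topEquiv : (⊤ : Subgroup (PresentedGroup R)) ≃* _).toEquiv]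
    exact hcard
  have hcardA : 2 * Nat.card (alternatingGroup (Fin (k + 3))) = (k + 3).factorial := by
    have h1 := two_mul_nat_card_alternatingGroup (α := Fin (k + 3))
    rw [h1, Nat.card_perm, Nat.card_eq_fintype_card, Fintype.card_fin]
  have hle : Nat.card (PresentedGroup R) ≤ Nat.card (alternatingGroup (Fin (k + 3))) := by omega
  have hbij : Function.Bijective F := by
    rw [Nat.bijective_iff_surjective_and_card]
    exact ⟨hsurj, le_antisymm hle (Nat.card_le_card_of_surjective F hsurj)⟩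
  exact ⟨MulEquiv.ofBijective F hbij⟩

end Cfsg.Agent.S3335
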