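import Cfsg.Statements.S3368
import Cfsg.Agent.H349.T3.End68
import Cfsg.Agent.H349.T3.Row68

set_option autoImplicit false
open Cfsg

namespace Cfsg.Agent.S3368

/-- Recognition of the Fischer group Fi₂₂ and its automorphism group from a 3-centralizer. Let G be a finite group and H ≤ G with Q = F*(H) extraspecial of order 3^7 and Z(Q) = Z(H). Let P be the preimage in H of O₂(H/Q) and suppose |O₂(H/Q)| = 2^7 and that O₂(H/Q) acts on Q/Z(Q) as a subgroup of a product of three quaternion groups of order 8 containing the centre of that product, in the following sense: Q is the central product of three P-invariant extraspecial subgroups Q₁, Q₂, Q₃ of order 27 containing Z(H); every element of P acts on each Qᵢ/Z(H) with order dividing 4, and acts as the identity or as inversion whenever its square acts trivially there; and for each i some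 element of P inverts Qᵢ/Z(H) while centralizing the other two Qⱼ/Z(H). Put Z = Z(H) and suppose H = C_G(Z). If Z lies in a Sylow 3-subgroup S of G and is not weakly closed in S with respect to G, then Z is not weakly closed in O₃(H), and G is isomorphic to Fi₂₂ or to its full automorphism group. -/
theorem result {G : Type*} [Group G] [Finite G]
    (H : Subgroup G) (Q : Subgroup H) (hQF : Q = Cfsg.generalizedFittingSubgroup H) [hQn : Q.Normal]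
    (hQex : Cfsg.IsExtraspecial 3 Q) (hQcard : Nat.card Q = 3 ^ 7)
    (hZZ : (Subgroup.center Q).map Q.subtype = Subgroup.center H)
    (P : Subgroup H) (hP : P = (Cfsg.pCore 2 (H ⧸ Q)).comap (QuotientGroup.mk' Q))
    (hPcard : Nat.card (Cfsg.pCore 2 (H ⧸ Q)) = 2 ^ 7)
    (Q₁ Q₂ Q₃ : Subgroup H) (hle : Q₁ ≤ Q ∧ Q₂ ≤ Q ∧ Q₃ ≤ Q)
    (hZle : Subgroup.center H ≤ Q₁ ∧ Subgroup.center H ≤ Q₂ ∧ Subgroup.center H ≤ Q₃)
    (hex : Cfsg.IsExtraspecial 3 Q₁ ∧ Cfsg.IsExtraspecial 3 Q₂ ∧ Cfsg.IsExtraspecial 3 Q₃)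
    (hcard : Nat.card Q₁ = 27 ∧ Nat.card Q₂ = 27 ∧ Nat.card Q₃ = 27)
    (hcomm : (∀ a ∈ Q₁, ∀ b ∈ Q₂, a * b = b * a) ∧ (∀ a ∈ Q₁, ∀ b ∈ Q₃, a * b = b * a) ∧ (∀ a ∈ Q₂, ∀ b ∈ Q₃, a * b = b * a))
    (hprod : Q₁ ⊔ Q₂ ⊔ Q₃ = Q)
    (hnorm : ∀ x ∈ P, ∀ Qᵢ ∈ [Q₁, Q₂, Q₃], ∀ q ∈ Qᵢ, x * q * x⁻¹ ∈ Qᵢ)
    (hexp4 : ∀ x ∈ P, ∀ Qᵢ ∈ [Q₁, Q₂, Q₃], ∀ q ∈ Qᵢ, x ^ 4 * q * (x ^ 4)⁻¹ * q⁻¹ ∈ Subgroup.center H)
    (hinv : ∀ x ∈ P, ∀ Qᵢ ∈ [Q₁, Q₂, Q₃], (∀ q ∈ Qᵢ, x ^ 2 * q * (x ^ 2)⁻¹ * q⁻¹ ∈ Subgroup.center H) →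
      (∀ q ∈ Qᵢ, x * q * x⁻¹ * q⁻¹ ∈ Subgroup.center H) ∨ (∀ q ∈ Qᵢ, x * q * x⁻¹ * q ∈ Subgroup.center H))
    (hcent : ∀ Qᵢ ∈ [Q₁, Q₂, Q₃], ∃ x ∈ P, (∀ q ∈ Qᵢ, x * q * x⁻¹ * q ∈ Subgroup.center H) ∧
      ∀ Qⱼ ∈ [Q₁, Q₂, Q₃], Qⱼ ≠ Qᵢ → ∀ q ∈ Qⱼ, x * q * x⁻¹ * q⁻¹ ∈ Subgroup.center H)
    (Z : Subgroup G) (hZ : Z = (Subgroup.center H).map H.subtype) (hHC : H = Subgroup.centralizer (Z : Set G))
    (S : Sylow 3 G) (hZS : Z ≤ S) (hnwc : ¬ Cfsg.IsWeaklyClosed Z S) :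
    ¬ Cfsg.IsWeaklyClosed Z ((Cfsg.pCore 3 H).map H.subtype) ∧
    (Cfsg.Spor.IsoFi22 G ∨ Nonempty (G ≃* MulAut Cfsg.Spor.Fi22)) := by
  obtain ⟨U, e, FP⟩ := H349.T3.frame68 H Q hQF hQex hQcard hZZ P hP hPcard Q₁ Q₂ Q₃ hle hZle hcard hcomm hprod hnorm
    hexp4 hinv hcent Z hZ hHC
  obtain ⟨fus, h1⟩ := H349.T3.main68 FP S hZS hnwc
  exact ⟨H349.T3.not_weaklyClosed (Subgroup.map_mono (H349.T3.le_pCore_three hQcard)) fus, h1⟩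

end Cfsg.Agent.S3368
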