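import Cfsg.Statements.S3685
import Cfsg.Agent.H428.Sub3
import Cfsg.Agent.H581.SimsE
import Cfsg.Agent.SignalizersComponents.DihedralIso

set_option autoImplicit false
set_option linter.style.haveILetI false
open Cfsg

namespace Cfsg.Agent.S3685

open MulAction Pointwise Cfsg.Agent.H428.Sub3

/-- a nonabelian group of order 12 with a normal subgroup of order 2 and a normal subgroup with quotient `C₂ × C₂` -/
theorem order12 {K : Type*} [Group K] [Finite K] (h12 : Nat.card K = 12) (O : Subgroup K) [O.Normal]
    (he : Nonempty (K ⧸ O ≃* Multiplicative (ZMod 2) × Multiplicative (ZMod 2)))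
    (T : Subgroup K) (hT4 : Nat.card T = 4) (hTn : ¬ T.Normal) (Q : Subgroup K) (hQ : Q.Normal)
    (hQ2 : Nat.card Q = 2) : Nonempty (K ≃* DihedralGroup 6) := by
  classical
  obtain ⟨e⟩ := he
  have hO : Nat.card O = 3 := by
    have h1 := Subgroup.card_eq_card_quotient_mul_card_subgroup O
    rw [Nat.card_congr e.toEquiv, h12] at h1
    have h2 : Nat.card (Multiplicative (ZMod 2) × Multiplicative (ZMod 2)) = 4 := by
      rw [Nat.card_prod]
      simp
    rw [h2] at h1
    omega
  -- squares are in `O`
  have hsq : ∀ y : K, y * y ∈ O := by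
    intro y
    rw [← QuotientGroup.eq_one_iff]
    apply e.injective
    rw [map_one, QuotientGroup.mk_mul, map_mul]
    have h : ∀ u : Multiplicative (ZMod 2) × Multiplicative (ZMod 2), u * u = 1 := by decide
    exact h _
  haveI : Fact (Nat.Prime 3) := ⟨Nat.prime_three⟩
  obtain ⟨⟨x, hxO⟩, hx⟩ := exists_prime_orderOf_dvd_card' (G := O) 3 (by rw [hO])
  have hx3 : orderOf x = 3 := by rw [← hx]; exact Subgroup.orderOf_mk x hxO ▸ rfl
  have hOx : O = Subgroup.zpowers x := by
    symm
    refine Subgroup.eq_of_le_of_card_ge ?_ ?_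
    · rw [Subgroup.zpowers_le]; exact hxO
    · rw [Nat.card_zpowers, hx3, hO]
  -- the involution `q`
  haveI : Fact (Nat.Prime 2) := ⟨Nat.prime_two⟩
  obtain ⟨⟨q, hqQ⟩, hq⟩ := exists_prime_orderOf_dvd_card' (G := Q) 2 (by rw [hQ2])
  have hq2 : orderOf q = 2 := by rw [← hq]; exact Subgroup.orderOf_mk q hqQ ▸ rfl
  have hQq : ∀ y ∈ Q, y ≠ 1 → y = q := by
    intro y hy hy1
    have h1 : Q = Subgroup.zpowers q := by
      symm
      refine Subgroup.eq_of_le_of_card_ge ?_ ?_
      · rw [Subgroup.zpowers_le]; exact hqQ
      · rw [Nat.card_zpowers, hq2, hQ2]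
    rw [h1] at hy
    obtain ⟨k, hk⟩ := mem_zpowers_iff_mem_range_orderOf.1 hy |> Finset.mem_image.1
    rw [hq2, Finset.mem_range] at hk
    obtain ⟨hk1, hk2⟩ := hk
    interval_cases k
    · exact absurd hk2.symm (by simpa using hy1)
    · simpa using hk2.symm
  have hqne : q ≠ 1 := by
    intro h; rw [h, orderOf_one] at hq2; omega
  have hqc : ∀ y : K, y * q = q * y := by
    intro y
    have h1 : y * q * y⁻¹ = q := by
      refine hQq _ (hQ.conj_mem _ hqQ y) ?_
      intro h
      rw [mul_inv_eq_one] at h
      exact hqne (mul_eq_left.1 h)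
    rw [mul_inv_eq_iff_eq_mul] at h1
    exact h1
  have hqq : q * q = 1 := by
    have := pow_orderOf_eq_one q
    rwa [hq2, pow_two] at this
  have hx33 : x * x * x = 1 := by
    have := pow_orderOf_eq_one x
    rwa [hx3, pow_succ, pow_two] at this
  -- an element of `T` not centralizing `x`
  obtain ⟨t, htT, htx⟩ : ∃ t ∈ T, t * x * t⁻¹ ≠ x := by
    by_contra hcon
    push Not at hcon
    apply hTn
    rw [← Subgroup.normalizer_eq_top_iff]
    have h1 : T ≤ Subgroup.normalizer (T : Set K) := Subgroup.le_normalizer
    have h2 : x ∈ Subgroup.normalizer (T : Set K) := by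
      rw [Subgroup.mem_normalizer_iff]
      have h3 : ∀ t ∈ T, x * t * x⁻¹ = t := by
        intro t ht
        have := hcon t ht
        rw [mul_inv_eq_iff_eq_mul] at this ⊢
        exact this.symm
      intro h
      constructor
      · intro hh; rw [h3 h hh]; exact hh
      · intro hh
        have h4 := h3 _ hh
        have h5 : x * h * x⁻¹ = h := by
          have h6 : x * (x * h * x⁻¹) * x⁻¹ = x * h * x⁻¹ := h4
          exact mul_left_cancel (mul_right_cancel h6)
        rwa [h5] at hh
    have hd1 : 4 ∣ Nat.card (Subgroup.normalizer (T : Set K)) := by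
      rw [← hT4]; exact Subgroup.card_dvd_of_le h1
    have hd2 : 3 ∣ Nat.card (Subgroup.normalizer (T : Set K)) := by
      rw [← hx3, ← Nat.card_zpowers]; exact Subgroup.card_dvd_of_le (by rwa [Subgroup.zpowers_le])
    have hd3 : 12 ∣ Nat.card (Subgroup.normalizer (T : Set K)) :=
      Nat.Coprime.mul_dvd_of_dvd_of_dvd (by decide : Nat.Coprime 4 3) hd1 hd2
    exact Subgroup.eq_top_of_le_card _ (by rw [h12]; exact Nat.le_of_dvd Nat.card_pos hd3)
  have htxi : t * x * t⁻¹ = x⁻¹ := by
    have h1 : t * x * t⁻¹ ∈ O := (inferInstance : O.Normal).conj_mem _ hxO t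
    rw [hOx] at h1
    obtain ⟨k, hk⟩ := mem_zpowers_iff_mem_range_orderOf.1 h1 |> Finset.mem_image.1
    rw [hx3, Finset.mem_range] at hk
    obtain ⟨hk1, hk2⟩ := hk
    interval_cases k
    · exfalso
      rw [pow_zero, eq_comm, mul_inv_eq_one] at hk2
      have h2 : x = 1 := mul_eq_left.1 hk2
      rw [h2, orderOf_one] at hx3; omega
    · exact absurd (by rw [← hk2, pow_one]) htx
    · rw [← hk2, pow_two]
      exact eq_inv_of_mul_eq_one_left hx33
  have htt : t * t = 1 := by
    have h1 : t * t ∈ O := hsq t
    have h2 : t * t ∈ T := mul_mem htT htT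
    have h3 : O ⊓ T = ⊥ := by
      refine (Subgroup.disjoint_of_coprime_natCard ?_).eq_bot
      rw [hO, hT4]; decide
    have : t * t ∈ O ⊓ T := ⟨h1, h2⟩
    rwa [h3, Subgroup.mem_bot] at this
  have hρ : orderOf (x * q) = 6 := by
    have hc : Commute x q := hqc x
    rw [hc.orderOf_mul_eq_mul_orderOf_of_coprime (by rw [hx3, hq2]; decide), hx3, hq2]
  have h1 : t * (x * q) * t⁻¹ = (x * q)⁻¹ := by
    have h2 : t * q * t⁻¹ = q := by rw [hqc t]; group
    have h3 : q⁻¹ = q := inv_eq_of_mul_eq_one_left hqq
    calc t * (x * q) * t⁻¹ = (t * x * t⁻¹) * (t * q * t⁻¹) := by group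
      _ = x⁻¹ * q := by rw [htxi, h2]
      _ = (x * q)⁻¹ := by rw [mul_inv_rev, h3, hqc]
  have h2 : t ∉ Subgroup.zpowers (x * q) := by
    intro h
    have h3 : Subgroup.zpowers (x * q) ≤ Subgroup.centralizer ({x} : Set K) := by
      rw [Subgroup.zpowers_le, Subgroup.mem_centralizer_singleton_iff]
      rw [mul_assoc, ← hqc, ← mul_assoc]
    have h4 := Subgroup.mem_centralizer_singleton_iff.1 (h3 h)
    apply htx
    rw [mul_inv_eq_iff_eq_mul]
    exact h4
  obtain ⟨f⟩ := Cfsg.Agent.SignalizersComponents.DihedralIso.nonempty_mulEquiv_of_notMem t (x * q) htt h1 h2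
  rw [hρ] at f
  have h3 : Nat.card (Subgroup.zpowers t ⊔ Subgroup.zpowers (x * q) : Subgroup K) = 12 := by
    rw [Nat.card_congr f.toEquiv, DihedralGroup.nat_card]
  have h4 : (Subgroup.zpowers t ⊔ Subgroup.zpowers (x * q) : Subgroup K) = ⊤ :=
    Subgroup.eq_top_of_card_eq _ (by rw [h3, h12])
  exact ⟨(Subgroup.topEquiv.symm.trans (MulEquiv.subgroupCongr h4.symm)).trans f⟩

/-- Let a finite group G act faithfully and primitively on a set Ω, and suppose the stabilizer of a point a has an orbit of length 3. Then the stabilizer of a is isomorphic to one of: the cyclic group of order 3, the symmetric group of degree 3, the dihedral group of order 12, the symmetric group of degree 4, or the direct product of the symmetric group of degree 4 with a group of order 2. -/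
theorem result {G Ω : Type*} [Group G] [Finite G] [MulAction G Ω] [FaithfulSMul G Ω] [Finite Ω]
    (hprim : MulAction.IsPreprimitive G Ω) (a b : Ω) (h3 : Nat.card (MulAction.orbit (MulAction.stabilizer G a) b) = 3) :
    Nonempty (MulAction.stabilizer G a ≃* Multiplicative (ZMod 3)) ∨ Nonempty (MulAction.stabilizer G a ≃* Equiv.Perm (Fin 3)) ∨
      Nonempty (MulAction.stabilizer G a ≃* DihedralGroup 6) ∨ Nonempty (MulAction.stabilizer G a ≃* Equiv.Perm (Fin 4)) ∨
      Nonempty (MulAction.stabilizer G a ≃* Equiv.Perm (Fin 4) × Multiplicative (ZMod 2)) := by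
  have hab := ne_of_card h3
  have hne := stab_ne_bot h3
  have hT2 := isTwoGroup h3
  have h3i := relIndex3 h3
  have hcard := card_orbit_mul (G := G) a b
  obtain ⟨y, hyT, hya⟩ := exists_norm h3
  rw [h3] at hcard
  set H := stabilizer G a with hH
  set T := H ⊓ stabilizer G b with hT
  by_cases hn : H ≤ Subgroup.normalizer (T : Set G)
  · -- `T` is normal in `G_a` and `G_b`
    left
    have hTb : T = ⊥ := by
      refine eq_bot_of_norm hab hne T inf_le_left hn ?_
      intro z hz
      have h1 : y⁻¹ * z * y ∈ H := by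
        rw [hH, mem_stabilizer_iff, mul_smul, mul_smul, hya, mem_stabilizer_iff.1 hz, ← hya, inv_smul_smul]
      have h2 := hn h1
      have hy : y ∈ Subgroup.normalizer (T : Set G) := by
        rw [Subgroup.mem_normalizer_iff]
        intro x
        constructor
        · intro hx
          rw [← hyT]; exact ⟨x, hx, rfl⟩
        · intro hx
          rw [← hyT] at hx
          obtain ⟨x', hx', he⟩ := hx
          have he' : y * x' * y⁻¹ = y * x * y⁻¹ := he
          rw [← mul_left_cancel (mul_right_cancel he')]
          exact hx'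
      have h3 : z = y * (y⁻¹ * z * y) * y⁻¹ := by group
      rw [h3]
      exact mul_mem (mul_mem hy h2) (inv_mem hy)
    have h4 : Nat.card H = 3 := by rw [← hcard, hTb, Subgroup.card_bot]
    haveI : Fact (Nat.Prime 3) := ⟨Nat.prime_three⟩
    exact ⟨mulEquivOfPrimeCardEq h4 (by simp)⟩
  · right
    obtain ⟨k, hk, hkn⟩ := SetLike.not_le_iff_exists.1 hn
    have hkT : MulAut.conj k • T ≠ T := by
      intro h
      apply hkn
      rw [Subgroup.mem_normalizer_iff]
      intro x
      constructor
      · intro hx
        rw [← h]; exact ⟨x, hx, rfl⟩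
      · intro hx
        rw [← h] at hx
        obtain ⟨x', hx', he⟩ := hx
        have he' : k * x' * k⁻¹ = k * x * k⁻¹ := he
        rw [← mul_left_cancel (mul_right_cancel he')]
        exact hx'
    have hkH : MulAut.conj k • H = H := by
      rw [hH, conj_stab, mem_stabilizer_iff.1 hk]
    have hkTH : MulAut.conj k • T ≤ H := by
      rw [← hkH]
      exact Subgroup.pointwise_smul_le_pointwise_smul_iff.2 inf_le_left
    have hgT : MulAut.conj (k * y) • T = MulAut.conj k • T := by rw [map_mul, mul_smul, hyT]
    have hTH : T ≤ H := inf_le_left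
    -- not normal
    have hTn : ¬ (T.subgroupOf H).Normal := by
      intro h
      exact hn (Subgroup.normal_subgroupOf_iff_le_normalizer hTH |>.1 h)
    have hsub : ∀ {A B : Subgroup G}, A ≤ B → B.relIndex H ∣ A.relIndex H := fun h => Subgroup.relIndex_dvd_of_le_left H h
    have hkTi : (MulAut.conj k • T).relIndex H = 3 := by
      have h1 := Subgroup.relIndex_pointwise_smul (MulAut.conj k) T H
      rw [hkH] at h1
      rw [h1, h3i]
    have hcardk : Nat.card (MulAut.conj k • T : Subgroup G) = Nat.card T :=
      (Nat.card_congr (Subgroup.equivSMul (MulAut.conj k) T).toEquiv).symm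
    have hjoin : H = T ⊔ MulAut.conj (k * y) • T := by
      rw [hgT]
      refine le_antisymm ?_ (sup_le hTH hkTH)
      have h1 : (T ⊔ MulAut.conj k • T).relIndex H ∣ 3 := h3i ▸ hsub le_sup_left
      rcases (Nat.dvd_prime Nat.prime_three).1 h1 with h2 | h2
      · exact Subgroup.relIndex_eq_one.1 h2
      · exfalso
        apply hkT
        have h4 : T = T ⊔ MulAut.conj k • T := by
          have h5 := Subgroup.relIndex_mul_relIndex T (T ⊔ MulAut.conj k • T) H le_sup_left (sup_le hTH hkTH)
          rw [h2, h3i] at h5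
          have h6 : T.relIndex (T ⊔ MulAut.conj k • T) = 1 := by omega
          exact le_antisymm le_sup_left (Subgroup.relIndex_eq_one.1 h6)
        refine Subgroup.eq_of_le_of_card_ge ?_ hcardk.ge
        exact le_sup_right.trans (le_of_eq h4.symm)
    have h2 : (MulAut.conj (k * y) • T).relIndex T = 2 := by
      rw [hgT]
      have h1 : (MulAut.conj k • T).relIndex T ≤ 3 := by
        rw [← hkTi]
        exact Subgroup.relIndex_le_of_le_right hTH (by rw [hkTi]; decide)
      obtain ⟨n, hn⟩ := IsPGroup.index ((isTwoGroup h3)) ((MulAut.conj k • T).subgroupOf T)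
      have hn' : (MulAut.conj k • T).relIndex T = 2 ^ n := hn
      rw [hn'] at h1 ⊢
      rcases n with _ | _ | n
      · exfalso
        apply hkT
        rw [pow_zero] at hn'
        have h4 := Subgroup.relIndex_eq_one.1 hn'
        exact (Subgroup.eq_of_le_of_card_ge h4 hcardk.le).symm
      · rfl
      · exfalso
        have h5 : 1 ≤ 2 ^ n := Nat.one_le_two_pow
        rw [pow_add] at h1
        omega
    have hfin := Cfsg.Agent.H581.Sims.final T (k * y) H hjoin h2 (by
      intro X hX h4 h5
      have h6 : MulAut.conj (k * y) • H = stabilizer G (k • b) := by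
        rw [hH, conj_stab, mul_smul, hya]
      rw [h6] at h5
      have h7 : a ≠ k • b := by
        intro h
        apply hab
        have : k • a = k • b := by rw [← h]; exact hk
        exact smul_left_cancel k this
      exact eq_bot_of_norm h7 hne X (hX.trans inf_le_left) h4 h5) (by rw [h3i]; decide)
    -- the action on the suborbit
    haveI : Finite (orbit H b) := Nat.finite_of_card_ne_zero (by rw [h3]; decide)
    let f : H →* Equiv.Perm (orbit H b) := MulAction.toPermHom H (orbit H b)
    have hker : f.ker ≤ T.subgroupOf H := by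
      intro x hx
      rw [Subgroup.mem_subgroupOf]
      refine ⟨x.2, ?_⟩
      rw [MonoidHom.mem_ker] at hx
      have h4 : f x ⟨b, mem_orbit_self b⟩ = ⟨b, mem_orbit_self b⟩ := by rw [hx]; rfl
      exact congrArg Subtype.val h4
    have hkerne : f.ker ≠ T.subgroupOf H := fun h => hTn (h ▸ inferInstance)
    have hTc : Nat.card (T.subgroupOf H) = Nat.card T := Nat.card_congr (Subgroup.subgroupOfEquivOfLe hTH).toEquiv
    have hkd : Nat.card f.ker ∣ Nat.card T := hTc ▸ Subgroup.card_dvd_of_le hker
    have hkl : Nat.card f.ker ≠ Nat.card T := by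
      intro h
      exact hkerne (Subgroup.eq_of_le_of_card_ge hker (by rw [hTc, h]))
    have hperm : Nat.card (Equiv.Perm (orbit H b)) = 6 := by
      haveI := Fintype.ofFinite (orbit H b)
      classical
      rw [Nat.card_eq_fintype_card, Fintype.card_perm, ← Nat.card_eq_fintype_card, h3]; rfl
    have hrange : Nat.card f.range * Nat.card f.ker = Nat.card H := by
      rw [← Subgroup.index_ker, Subgroup.index_mul_card]
    have hrd : Nat.card f.range ∣ 6 := hperm ▸ Subgroup.card_subgroup_dvd_card _
    rcases hfin with h4 | ⟨h4, he⟩ | ⟨h4, he⟩ | ⟨h4, he⟩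
    · left
      have h5 : Nat.card f.ker = 1 := by
        rw [h4] at hkd hkl
        rcases (Nat.dvd_prime Nat.prime_two).1 hkd with h | h
        · exact h
        · exact absurd h hkl
      have hinj : Function.Injective f := by
        rw [← MonoidHom.ker_eq_bot_iff]
        exact Subgroup.card_eq_one.1 h5
      have hbij : Function.Bijective f :=
        (Nat.bijective_iff_injective_and_card f).2 ⟨hinj, by rw [hperm, ← hcard, h4]⟩
      let e : orbit H b ≃ Fin 3 := Finite.equivFinOfCardEq h3
      exact ⟨(MulEquiv.ofBijective f hbij).trans e.permCongrHom⟩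
    · right; left
      have h12 : Nat.card H = 12 := by rw [← hcard, h4]
      refine order12 h12 (Cfsg.oddCore H) he (T.subgroupOf H) (by rw [hTc, h4]) hTn f.ker inferInstance ?_
      rw [h4] at hkd hkl
      rw [h12] at hrange
      have h5 : Nat.card f.range ≤ 6 := Nat.le_of_dvd (by decide) hrd
      have h6 : Nat.card f.ker ≤ 4 := Nat.le_of_dvd (by decide) hkd
      have h7 : 0 < Nat.card f.ker := Nat.card_pos
      interval_cases h : Nat.card f.ker
      · omega
      · rfl
      · omega
      · exact absurd rfl hkl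
    · right; right; left
      obtain ⟨e⟩ := he
      have h5 : Nat.card (Cfsg.oddCore H) = 1 := by
        have h6 := Subgroup.card_eq_card_quotient_mul_card_subgroup (Cfsg.oddCore H)
        rw [Nat.card_congr e.toEquiv, ← hcard, h4] at h6
        have h7 : Nat.card (Equiv.Perm (Fin 4)) = 24 := by
          rw [Nat.card_eq_fintype_card, Fintype.card_perm]; rfl
        rw [h7] at h6
        omega
      have h6 : Cfsg.oddCore H = ⊥ := Subgroup.card_eq_one.1 h5
      exact ⟨QuotientGroup.quotientBot.symm.trans ((QuotientGroup.quotientMulEquivOfEq h6.symm).trans e)⟩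
    · right; right; right
      obtain ⟨e⟩ := he
      have h5 : Nat.card (Cfsg.oddCore H) = 1 := by
        have h6 := Subgroup.card_eq_card_quotient_mul_card_subgroup (Cfsg.oddCore H)
        rw [Nat.card_congr e.toEquiv, ← hcard, h4] at h6
        have h7 : Nat.card (Equiv.Perm (Fin 4) × Multiplicative (ZMod 2)) = 48 := by
          rw [Nat.card_prod, Nat.card_eq_fintype_card, Fintype.card_perm]
          simp [Nat.factorial]
        rw [h7] at h6
        omega
      have h6 : Cfsg.oddCore H = ⊥ := Subgroup.card_eq_one.1 h5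
      exact ⟨QuotientGroup.quotientBot.symm.trans ((QuotientGroup.quotientMulEquivOfEq h6.symm).trans e)⟩

end Cfsg.Agent.S3685
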