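import Cfsg.Statements.S3386
import Cfsg.Agent.H851.SimsFinal
import Cfsg.Agent.H717.SimsCross
import Cfsg.Agent.H762.SimsTwF
import Cfsg.Agent.S0000

set_option autoImplicit false
universe u v
open Cfsg

namespace Cfsg.Agent.S3386

/-- The Sims conjecture (a consequence of the classification of the finite simple groups). There is a function f on the natural numbers such that whenever a finite group G acts faithfully and primitively on a set Ω and the stabilizer of a point a has an orbit of length d ≥ 2, the order of that stabilizer is at most f(d). -/
theorem result :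
    ∃ f : ℕ → ℕ, ∀ (G : Type u) [Group G] [Finite G] (Ω : Type v) [MulAction G Ω] [FaithfulSMul G Ω],
      MulAction.IsPreprimitive G Ω → ∀ a b : Ω, 2 ≤ Nat.card (MulAction.orbit (MulAction.stabilizer G a) b) →
        Nat.card ↥(MulAction.stabilizer G a) ≤ f (Nat.card (MulAction.orbit (MulAction.stabilizer G a) b)) :=
  H851.Sims.prim_bound fun d => H851.Sims.max_bound (fun c N => H717.Sims.cross_bound c N)
    (fun c => H762.SimsTwF.twF4_bound c) (fun _ _ _ _ => Cfsg.Agent.S0000.result) d

end Cfsg.Agent.S3386
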