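import Cfsg.Statements.S3392
import Cfsg.Agent.H355.LspMain
import Cfsg.Agent.H580.Lsp.Cop
import Cfsg.Agent.H779.Lsp.Solv
import Cfsg.Agent.H779.Lsp.OfTwo
import Cfsg.Agent.H781.DihMain
import Cfsg.Agent.S0000

set_option autoImplicit false
open Cfsg

namespace Cfsg.Agent.S3392

open Cfsg.Agent.H355.Lsp

/-- Let G be a finite group acting faithfully and transitively on a finite set Ω with fixity 2 (every non-identity element fixes at most two points, and some fixes exactly two). Then |G| is even and one of the following holds: (1) G has a subgroup of 2-power index that is a Frobenius group; (2) |Z(G)| = 2 and G/Z(G) is a Frobenius group; (3) the point stabilizers are metacyclic of odd order, and for every nontrivial two-point stabilizer H one has |N_G(H) : H| = 2, G is solvable, and H or N_G(H) has a normal complement K in G with K nilpotent and (|K|, |H|) = 1; (4) the point stabilizers have odd order and G has normal subgroups N < M ≤ G with N nilpotent, M/N simple and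 isomorphic to some PSL₂(q), some Sz(q) or PSL₃(4), and G/M metacyclic of odd order; (5) the point stabilizers have even order and G has a normal subgroup N of odd order such that O^{2′}(G) (the subgroup generated by the elements of 2-power order) contains N and O^{2′}(G)/N is a dihedral or semidihedral 2-group, or is isomorphic to some Sz(q), or is isomorphic to a subgroup of the automorphism group of some PSL₂(q) containing the inner automorphism group. -/
theorem result {G : Type*} [Group G] [Finite G] {Ω : Type*} [Fintype Ω] [MulAction G Ω] [FaithfulSMul G Ω] (htr : MulAction.IsPretransitive G Ω)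
    (hfix : ∀ g : G, g ≠ 1 → Nat.card (MulAction.fixedBy Ω g) ≤ 2) (hex : ∃ g : G, g ≠ 1 ∧ Nat.card (MulAction.fixedBy Ω g) = 2) :
    2 ∣ Nat.card G ∧
    ((∃ H : Subgroup G, (∃ n : ℕ, H.index = 2 ^ n) ∧ (∃ H : Subgroup ↥H, Cfsg.IsFrobeniusComplement H)) ∨
     (Nat.card (Subgroup.center G) = 2 ∧ (∃ H : Subgroup ↥(⊤ : Subgroup (G ⧸ Subgroup.center G)), Cfsg.IsFrobeniusComplement H)) ∨
     ((∀ α : Ω, Cfsg.IsMetacyclic ↥(MulAction.stabilizer G α) ∧ Odd (Nat.card (MulAction.stabilizer G α))) ∧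
        ∀ (α β : Ω) (H : Subgroup G), α ≠ β → H = MulAction.stabilizer G α ⊓ MulAction.stabilizer G β → H ≠ ⊥ →
          H.relIndex (Subgroup.normalizer (H : Set G)) = 2 ∧ Group.IsSolvable G ∧
          ∃ K : Subgroup G, K.Normal ∧ Group.IsNilpotent ↥K ∧ (Nat.card K).Coprime (Nat.card H) ∧
            (K.IsComplement' H ∨ K.IsComplement' (Subgroup.normalizer (H : Set G)))) ∨
     ((∀ α : Ω, Odd (Nat.card (MulAction.stabilizer G α))) ∧
        ∃ (N M : Subgroup G) (_ : N.Normal) (_ : M.Normal), N < M ∧ Group.IsNilpotent ↥N ∧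
          (∃ _ : (N.subgroupOf M).Normal, IsSimpleGroup (↥M ⧸ N.subgroupOf M) ∧
            ((∃ (F : Type) (_ : Field F) (_ : Fintype F), Nonempty (↥M ⧸ N.subgroupOf M ≃* Matrix.ProjectiveSpecialLinearGroup (Fin 2) F)) ∨
             Cfsg.Lie.IsoSuzuki (↥M ⧸ N.subgroupOf M) ∨
             (∃ (F : Type) (_ : Field F) (_ : Fintype F), Fintype.card F = 4 ∧ Nonempty (↥M ⧸ N.subgroupOf M ≃* Matrix.ProjectiveSpecialLinearGroup (Fin 3) F)))) ∧
          Cfsg.IsMetacyclic (G ⧸ M) ∧ Odd (Nat.card (G ⧸ M))) ∨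
     ((∀ α : Ω, Even (Nat.card (MulAction.stabilizer G α))) ∧
        ∃ N : Subgroup G, N.Normal ∧ Odd (Nat.card N) ∧ N ≤ Subgroup.closure {g : G | ∃ n : ℕ, orderOf g = 2 ^ n} ∧
          ∃ _ : (N.subgroupOf (Subgroup.closure {g : G | ∃ n : ℕ, orderOf g = 2 ^ n})).Normal,
            (IsPGroup 2 (↥(Subgroup.closure {g : G | ∃ n : ℕ, orderOf g = 2 ^ n}) ⧸ N.subgroupOf (Subgroup.closure {g : G | ∃ n : ℕ, orderOf g = 2 ^ n})) ∧
               ((∃ n, Nonempty ((↥(Subgroup.closure {g : G | ∃ n : ℕ, orderOf g = 2 ^ n}) ⧸ N.subgroupOf (Subgroup.closure {g : G | ∃ n : ℕ, orderOf g = 2 ^ n})) ≃* DihedralGroup n)) ∨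
                Cfsg.IsQuasiDihedral (↥(Subgroup.closure {g : G | ∃ n : ℕ, orderOf g = 2 ^ n}) ⧸ N.subgroupOf (Subgroup.closure {g : G | ∃ n : ℕ, orderOf g = 2 ^ n})))) ∨
            Cfsg.Lie.IsoSuzuki (↥(Subgroup.closure {g : G | ∃ n : ℕ, orderOf g = 2 ^ n}) ⧸ N.subgroupOf (Subgroup.closure {g : G | ∃ n : ℕ, orderOf g = 2 ^ n})) ∨
            (∃ (F : Type) (_ : Field F) (_ : Fintype F) (A : Subgroup (MulAut (Matrix.ProjectiveSpecialLinearGroup (Fin 2) F))),
               (MulAut.conj : Matrix.ProjectiveSpecialLinearGroup (Fin 2) F →* _).range ≤ A ∧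
               Nonempty ((↥(Subgroup.closure {g : G | ∃ n : ℕ, orderOf g = 2 ^ n}) ⧸ N.subgroupOf (Subgroup.closure {g : G | ∃ n : ℕ, orderOf g = 2 ^ n})) ≃* ↥A)))) := by
  have h : Fix2 G Ω := ⟨htr, hfix, hex⟩
  have h0 : 2 ∣ Nat.card G := Cfsg.Agent.H355.two_dvd_card_of_fixity_two htr hfix hex
  exact check h0 (main (fun M _ _ hs hM φ r hr hφ hc => by
      have := hs
      exact Cfsg.Agent.H580.Lsp.two_lt_card_fixed_of (fun X _ _ _ => S0000.result) hM φ hr hφ hc)
    (fun M _ _ hs => by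
      have := hs
      exact S0000.result)
    (fun G _ _ S n hn hS => Cfsg.Agent.H781.DihMain.dihedral_case S hn hS)
    (fun G _ _ Ω _ _ _ h hodd T hT hT2 g z α hg hgα hz hz1 hc =>
      Cfsg.Agent.H779.Lsp.solvable_of_two h hodd hT hT2 hg hgα hz hz1 hc)
    (fun G _ _ Ω _ _ _ h hodd hs => Cfsg.Agent.H779.Lsp.solvable_case h hodd hs) h)

end Cfsg.Agent.S3392
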