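import Cfsg.Statements.S3400
import Cfsg.Agent.H488.TwoSimpleMain
import Cfsg.Agent.H384.TwoTransMain
import Cfsg.Agent.S0000

set_option autoImplicit false
open Cfsg

namespace Cfsg.Agent.S3400

/-- Let G be a finite doubly transitive permutation group in which the stabilizer of two points is a non-abelian simple group with abelian Sylow 2-subgroups. Then G is isomorphic to the alternating group of degree 7, or to the Mathieu group M₁₁, or G has a regular normal subgroup. -/
theorem result {G : Type*} [Group G] [Finite G] {Ω : Type*} [Fintype Ω] [MulAction G Ω] [FaithfulSMul G Ω]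
    (h2 : MulAction.IsMultiplyPretransitive G Ω 2) (a b : Ω) (hab : a ≠ b)
    (hs : IsSimpleGroup ↥(MulAction.stabilizer G a ⊓ MulAction.stabilizer G b))
    (hna : ¬ IsMulCommutative ↥(MulAction.stabilizer G a ⊓ MulAction.stabilizer G b))
    (hab2 : ∀ S : Sylow 2 ↥(MulAction.stabilizer G a ⊓ MulAction.stabilizer G b), IsMulCommutative ↥(S : Subgroup ↥(MulAction.stabilizer G a ⊓ MulAction.stabilizer G b))) :
    Nonempty (G ≃* ↥(alternatingGroup (Fin 7))) ∨ Cfsg.Spor.IsoM11 G ∨
      (∃ N : Subgroup G, N.Normal ∧ MulAction.IsPretransitive ↥N Ω ∧ ∀ x : Ω, MulAction.stabilizer ↥N x = ⊥) :=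
  Cfsg.Agent.H488.TwoSimple.main h2 hab ⟨hs, hna, hab2⟩ (fun T A =>
    Cfsg.Agent.H384.TwoTransMain.main (fun _ _ _ _ => Cfsg.Agent.S0000.result) A)

end Cfsg.Agent.S3400
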