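import Cfsg.Statements.S3404
import Cfsg.Agent.S3387
import Cfsg.Agent.S0035
import Cfsg.Agent.Solvable.FrobeniusKernel
import Cfsg.Agent.HNType.Alt
import Cfsg.Agent.MTwelveType.SylowModel
import Cfsg.Agent.SporadicA.M24Trans
import Mathlib

set_option autoImplicit false
open Cfsg

namespace Cfsg.Agent.S3404

open Equiv.Perm MulAction
open scoped Pointwise

/-- arithmetic of a Frobenius complement -/
theorem arith {X : Type*} [Group X] [Finite X] {H : Subgroup X} (hH : Cfsg.IsFrobeniusComplement H) :
    ∃ h k, 2 ≤ h ∧ 2 ≤ k ∧ h * k = Nat.card X ∧ h ∣ k - 1 := by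
  refine ⟨Nat.card H, H.index, ?_, ?_, H.card_mul_index, Solvable.FrobeniusKernel.card_dvd_index_sub_one hH⟩
  · have h1 : Nat.card H ≠ 1 := fun h => hH.1 (Subgroup.card_eq_one.1 h)
    have h0 : 0 < Nat.card H := Nat.card_pos
    omega
  · have h1 : H.index ≠ 1 := fun h => hH.2.1 (Subgroup.index_eq_one.1 h)
    have h0 : H.index ≠ 0 := H.index_ne_zero_of_finite
    omega

/-- decidable check -/
def chk (N : ℕ) : Bool := (List.range (N + 1)).all fun h => (h < 2 || (N / h < 2) || ((N / h) * h != N) || ((N / h - 1) % h != 0))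

theorem not_of_chk {X : Type*} [Group X] [Finite X] {H : Subgroup X} (hH : Cfsg.IsFrobeniusComplement H)
    (hc : chk (Nat.card X) = true) : False := by
  obtain ⟨h, k, hh, hk, hhk, hd⟩ := arith hH
  rw [chk, List.all_eq_true] at hc
  have h1 := hc h (by rw [List.mem_range, ← hhk]; nlinarith)
  have hdiv : Nat.card X / h = k := by rw [← hhk]; exact Nat.mul_div_cancel_left _ (by omega)
  rw [hdiv] at h1
  simp only [Bool.or_eq_true, decide_eq_true_eq, bne_iff_ne, ne_eq] at h1
  rcases h1 with ((h1 | h1) | h1) | h1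
  · omega
  · omega
  · exact h1 (by rw [mul_comm]; exact hhk)
  · exact h1 (Nat.mod_eq_zero_of_dvd hd)

theorem map_frob {X Y : Type*} [Group X] [Group Y] (e : X ≃* Y) {H : Subgroup X} (hH : Cfsg.IsFrobeniusComplement H) :
    Cfsg.IsFrobeniusComplement (H.map e.toMonoidHom) := by
  obtain ⟨h1, h2, h3⟩ := hH
  refine ⟨?_, ?_, ?_⟩
  · intro h
    apply h1
    exact (Subgroup.map_eq_bot_iff_of_injective _ e.injective).1 h
  · intro h
    apply h2
    rw [eq_top_iff]
    intro x _
    have : e x ∈ H.map e.toMonoidHom := by rw [h]; trivial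
    obtain ⟨y, hy, hyx⟩ := this
    have : y = x := e.injective hyx
    rwa [this] at hy
  · intro g hg
    have hg' : e.symm g ∉ H := fun h => hg ⟨e.symm g, h, by simp⟩
    have := h3 _ hg'
    rw [eq_bot_iff]
    rintro _ ⟨⟨x, hx, rfl⟩, h5⟩
    have h5 : e x ∈ MulAut.conj g • H.map e.toMonoidHom := h5
    have h6 : x ∈ MulAut.conj (e.symm g) • H := by
      rw [Subgroup.mem_pointwise_smul_iff_inv_smul_mem] at h5 ⊢
      obtain ⟨y, hy, hyx⟩ := h5
      have : y = (MulAut.conj (e.symm g))⁻¹ • x := by
        apply e.injective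
        have h7 : e y = (MulAut.conj g)⁻¹ • e x := hyx
        rw [h7]
        simp [MulAut.smul_def, ← map_inv]
      rwa [← this]
    have h7 : x ∈ H ⊓ MulAut.conj (e.symm g) • H := ⟨hx, h6⟩
    rw [this, Subgroup.mem_bot] at h7
    rw [h7]
    simp

theorem card_perm_of {S : Type*} [Fintype S] [DecidableEq S] {m : ℕ} (h : Fintype.card S = m) :
    Nat.card (Equiv.Perm S) = m.factorial := by
  rw [Nat.card_perm, Nat.card_eq_fintype_card, h]

/-- the symmetric group of degree `≠ 3` is no Frobenius group -/
theorem sym_frob {S : Type*} [Fintype S] [DecidableEq S] {H : Subgroup (Equiv.Perm S)}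
    (hH : Cfsg.IsFrobeniusComplement H) : Fintype.card S = 3 := by
  rcases Nat.lt_or_ge (Fintype.card S) 5 with hlt | hge
  · have hcases : Fintype.card S = 0 ∨ Fintype.card S = 1 ∨ Fintype.card S = 2 ∨ Fintype.card S = 3 ∨ Fintype.card S = 4 := by
      omega
    rcases hcases with h | h | h | h | h
    · exact (not_of_chk hH (by rw [card_perm_of h]; decide)).elim
    · exact (not_of_chk hH (by rw [card_perm_of h]; decide)).elim
    · exact (not_of_chk hH (by rw [card_perm_of h]; decide)).elim
    · exact h
    · exact (not_of_chk hH (by rw [card_perm_of h]; decide)).elim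
  · exfalso
    obtain ⟨N, -, hN, hc⟩ := S0035.result H hH
    have hnt : Nontrivial N := by
      rw [Subgroup.nontrivial_iff_ne_bot]
      rintro rfl
      exact hH.2.1 (by simpa using hc)
    have hA := Equiv.Perm.alternatingGroup_le_of_normal (α := S) (by rw [Nat.card_eq_fintype_card]; exact hge) (N := N) hnt
    have hidx : N.index ∣ (alternatingGroup S).index := Subgroup.index_dvd_of_le hA
    have hS : Nontrivial S := by
      rw [← Fintype.one_lt_card_iff_nontrivial]; omega
    rw [alternatingGroup.index_eq_two] at hidx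
    have hHc : N.index = Nat.card H := hc.symm.index_eq_card
    have hh2 : 2 ≤ Nat.card H := by
      have h1 : Nat.card H ≠ 1 := fun h => hH.1 (Subgroup.card_eq_one.1 h)
      have h0 : 0 < Nat.card H := Nat.card_pos
      omega
    rw [hHc] at hidx
    have hh : Nat.card H = 2 := le_antisymm (Nat.le_of_dvd (by norm_num) hidx) hh2
    have hd := Solvable.FrobeniusKernel.card_dvd_index_sub_one hH
    have hmul := H.card_mul_index
    rw [hh] at hd hmul
    rw [card_perm_of rfl] at hmul
    have h4 : 4 ∣ (Fintype.card S).factorial := Nat.dvd_factorial (by norm_num) (by omega)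
    obtain ⟨r, hr⟩ := h4
    obtain ⟨t, ht⟩ := hd
    have : H.index ≠ 0 := H.index_ne_zero_of_finite
    omega

/-- the alternating group of degree `≠ 4` is no Frobenius group -/
theorem alt_frob {S : Type*} [Fintype S] [DecidableEq S] {H : Subgroup (alternatingGroup S)}
    (hH : Cfsg.IsFrobeniusComplement H) : Fintype.card S = 4 := by
  have hcard : ∀ m, 2 ≤ m → Fintype.card S = m → Nat.card (alternatingGroup S) = m.factorial / 2 := by
    intro m hm h
    have : Nontrivial S := by
      rw [← Fintype.one_lt_card_iff_nontrivial]; omega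
    rw [nat_card_alternatingGroup, Nat.card_eq_fintype_card, h]
  rcases Nat.lt_or_ge (Fintype.card S) 5 with hlt | hge
  · have hcases : Fintype.card S ≤ 1 ∨ Fintype.card S = 2 ∨ Fintype.card S = 3 ∨ Fintype.card S = 4 := by
      omega
    rcases hcases with h | h | h | h
    · have : Subsingleton S := Fintype.card_le_one_iff_subsingleton.1 h
      have : Subsingleton (alternatingGroup S) := inferInstance
      exact (hH.1 (Subsingleton.elim _ _)).elim
    · exact (not_of_chk hH (by rw [hcard 2 (by norm_num) h]; decide)).elim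
    · exact (not_of_chk hH (by rw [hcard 3 (by norm_num) h]; decide)).elim
    · exact h
  · exfalso
    obtain ⟨N, -, hN, hc⟩ := S0035.result H hH
    have := alternatingGroup.isSimpleGroup (α := S) (by rw [Nat.card_eq_fintype_card]; exact hge)
    rcases hN.eq_bot_or_eq_top with rfl | rfl
    · exact hH.2.1 (by simpa using hc)
    · exact hH.1 (by simpa using hc)

section stab

variable {G : Type*} [Group G] {Ω : Type*} [Fintype Ω] [DecidableEq Ω] [MulAction G Ω] (a b c d : Ω)

/-- the four-point stabiliser -/
def X (G : Type*) [Group G] {Ω : Type*} [MulAction G Ω] (a b c d : Ω) : Subgroup G :=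
  stabilizer G a ⊓ stabilizer G b ⊓ stabilizer G c ⊓ stabilizer G d

/-- the other points -/
def P (x : Ω) : Prop := x ≠ a ∧ x ≠ b ∧ x ≠ c ∧ x ≠ d

instance decP : DecidablePred (P a b c d) := fun _ => by unfold P; infer_instance

omit [Fintype Ω] [DecidableEq Ω] in
theorem mem_X {g : G} : g ∈ X G a b c d ↔ g • a = a ∧ g • b = b ∧ g • c = c ∧ g • d = d := by
  simp only [X, Subgroup.mem_inf, mem_stabilizer_iff, and_assoc]

/-- the action on the other points -/
def phi : X G a b c d →* Equiv.Perm {x : Ω // P a b c d x} where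
  toFun g := (MulAction.toPerm (g : G)).subtypePerm (by
    intro x
    obtain ⟨h1, h2, h3, h4⟩ := (mem_X a b c d).1 g.2
    simp only [P, MulAction.toPerm_apply]
    constructor
    · rintro ⟨k1, k2, k3, k4⟩
      exact ⟨fun h => k1 (h ▸ h1), fun h => k2 (h ▸ h2), fun h => k3 (h ▸ h3), fun h => k4 (h ▸ h4)⟩
    · rintro ⟨k1, k2, k3, k4⟩
      exact ⟨fun h => k1 (smul_left_cancel _ (h.trans h1.symm)), fun h => k2 (smul_left_cancel _ (h.trans h2.symm)),
        fun h => k3 (smul_left_cancel _ (h.trans h3.symm)), fun h => k4 (smul_left_cancel _ (h.trans h4.symm))⟩)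
  map_one' := by ext x; simp
  map_mul' g h := by
    ext x
    exact mul_smul (g : G) (h : G) (x : Ω)

theorem phi_apply (g : X G a b c d) (x : {x : Ω // P a b c d x}) : ((phi a b c d g x : {x : Ω // P a b c d x}) : Ω) = (g : G) • (x : Ω) := rfl

theorem ofSubtype_phi (g : X G a b c d) : ofSubtype (phi a b c d g) = MulAction.toPermHom G Ω (g : G) := by
  ext x
  by_cases hx : P a b c d x
  · rw [ofSubtype_apply_of_mem _ hx]
    rfl
  · rw [ofSubtype_apply_of_not_mem _ hx]
    obtain ⟨h1, h2, h3, h4⟩ := (mem_X a b c d).1 g.2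
    simp only [P, not_and_or, not_not] at hx
    show x = (g : G) • x
    rcases hx with rfl | rfl | rfl | rfl
    · exact h1.symm
    · exact h2.symm
    · exact h3.symm
    · exact h4.symm

theorem phi_injective [FaithfulSMul G Ω] : Function.Injective (phi (G := G) a b c d) := by
  intro g h hgh
  have := congrArg ofSubtype hgh
  rw [ofSubtype_phi, ofSubtype_phi] at this
  exact Subtype.ext (MulAction.toPerm_injective this)

theorem mem_range_phi (σ : Equiv.Perm {x : Ω // P a b c d x}) :
    σ ∈ (phi (G := G) a b c d).range ↔ ofSubtype σ ∈ (MulAction.toPermHom G Ω).range := by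
  constructor
  · rintro ⟨g, rfl⟩
    rw [ofSubtype_phi]
    exact ⟨_, rfl⟩
  · rintro ⟨g, hg⟩
    have key : ∀ x, ¬ P a b c d x → g • x = x := by
      intro x hx
      have h1 := congrArg (fun τ : Equiv.Perm Ω => τ x) hg
      simp only [ofSubtype_apply_of_not_mem σ hx] at h1
      exact h1
    have hg' : g ∈ X G a b c d := (mem_X a b c d).2 ⟨key a (by simp [P]), key b (by simp [P]), key c (by simp [P]), key d (by simp [P])⟩
    refine ⟨⟨g, hg'⟩, ?_⟩
    apply ofSubtype_injective
    rw [ofSubtype_phi]
    exact hg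

end stab

theorem result {G : Type*} [Group G] [Finite G] {Ω : Type*} [Fintype Ω] [MulAction G Ω] [FaithfulSMul G Ω]
    (h4 : MulAction.IsMultiplyPretransitive G Ω 4) (a b c d : Ω) (hab : a ≠ b) (hac : a ≠ c) (had : a ≠ d)
    (hbc : b ≠ c) (hbd : b ≠ d) (hcd : c ≠ d)
    (hF : ∃ H : Subgroup ↥(MulAction.stabilizer G a ⊓ MulAction.stabilizer G b ⊓ MulAction.stabilizer G c ⊓ MulAction.stabilizer G d),
      Cfsg.IsFrobeniusComplement H) :
    Nonempty (G ≃* Equiv.Perm (Fin 7)) ∨ Nonempty (G ≃* ↥(alternatingGroup (Fin 8))) ∨ Cfsg.Spor.IsoM23 G := by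
  classical
  obtain ⟨H, hH⟩ := hF
  change Subgroup (X G a b c d) at H
  have hset : ({a, b, c, d} : Finset Ω).card = 4 := by
    rw [Finset.card_insert_of_notMem, Finset.card_insert_of_notMem, Finset.card_insert_of_notMem, Finset.card_singleton]
    · simp [hcd]
    · simp [hbc, hbd]
    · simp [hab, hac, had]
  have hn4 : 4 ≤ Fintype.card Ω := hset ▸ Finset.card_le_univ _
  have hS : Fintype.card {x : Ω // P a b c d x} = Fintype.card Ω - 4 := by
    rw [Fintype.card_subtype, ← hset, ← Finset.card_compl]
    congr 1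
    ext x
    rw [Finset.mem_filter, Finset.mem_compl]
    simp [P]
  have hfix : fixingSubgroup G ({a, b, c, d} : Set Ω) = X G a b c d := by
    ext g
    rw [mem_X, mem_fixingSubgroup_iff]
    simp
  have hidx : (X G a b c d).index * (Fintype.card Ω - 4).factorial = (Fintype.card Ω).factorial := by
    rw [← hfix, ← Nat.card_eq_fintype_card]
    apply h4.index_of_fixingSubgroup_mul
    have : ({a, b, c, d} : Set Ω) = (({a, b, c, d} : Finset Ω) : Set Ω) := by simp
    rw [this, Set.ncard_coe_finset, hset]
  have hXc := (X G a b c d).card_mul_index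
  rcases S3387.result hn4 h4 with h | h | ⟨hn, hM⟩ | ⟨hn, hM⟩ | ⟨hn, hM⟩ | ⟨hn, hM⟩
  · -- symmetric
    left
    have hsurj : Function.Surjective (phi (G := G) a b c d) := by
      rw [← MonoidHom.range_eq_top, eq_top_iff]
      intro σ _
      rw [mem_range_phi, h]
      trivial
    have h3 := sym_frob (map_frob (MulEquiv.ofBijective _ ⟨phi_injective a b c d, hsurj⟩) hH)
    have h7 : Fintype.card Ω = 7 := by omega
    have e1 : G ≃* Equiv.Perm Ω := MulEquiv.ofBijective (MulAction.toPermHom G Ω)
      ⟨MulAction.toPerm_injective, MonoidHom.range_eq_top.1 h⟩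
    exact ⟨e1.trans (Fintype.equivFinOfCardEq h7).permCongrHom⟩
  · right; left
    have hr : (phi (G := G) a b c d).range = alternatingGroup {x : Ω // P a b c d x} := by
      ext σ
      rw [mem_range_phi, h, mem_alternatingGroup, mem_alternatingGroup, sign_ofSubtype]
    have e : X G a b c d ≃* alternatingGroup {x : Ω // P a b c d x} :=
      (MonoidHom.ofInjective (phi_injective (G := G) a b c d)).trans (MulEquiv.subgroupCongr hr)
    have h3 := alt_frob (map_frob e hH)
    have h8 : Fintype.card Ω = 8 := by omega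
    have e1 : G ≃* alternatingGroup Ω := (MonoidHom.ofInjective (f := MulAction.toPermHom G Ω) MulAction.toPerm_injective).trans
      (MulEquiv.subgroupCongr h)
    exact ⟨e1.trans (Fintype.equivFinOfCardEq h8).altCongrHom⟩
  · exfalso
    obtain ⟨e⟩ := hM
    rw [Nat.card_congr e.toEquiv, HNType.Alt.card_M11] at hXc
    rw [hn] at hidx
    norm_num [Nat.factorial] at hidx
    have hi : (X G a b c d).index = 7920 := by omega
    have : Nat.card (X G a b c d) = 1 := by rw [hi] at hXc; omega
    exact not_of_chk (X := X G a b c d) hH (by rw [this]; decide +kernel)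
  · exfalso
    obtain ⟨e⟩ := hM
    rw [Nat.card_congr e.toEquiv, MTwelveType.SylowModel.card_M12] at hXc
    rw [hn] at hidx
    norm_num [Nat.factorial] at hidx
    have hi : (X G a b c d).index = 11880 := by omega
    have : Nat.card (X G a b c d) = 8 := by rw [hi] at hXc; omega
    exact not_of_chk (X := X G a b c d) hH (by rw [this]; decide +kernel)
  · right; right; exact hM
  · exfalso
    obtain ⟨e⟩ := hM
    rw [Nat.card_congr e.toEquiv, SporadicA.M24Trans.card_M24] at hXc
    rw [hn] at hidx
    norm_num [Nat.factorial] at hidx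
    have hi : (X G a b c d).index = 255024 := by omega
    have : Nat.card (X G a b c d) = 960 := by rw [hi] at hXc; omega
    exact not_of_chk (X := X G a b c d) hH (by rw [this]; decide +kernel)

end Cfsg.Agent.S3404
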