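import Cfsg.Statements.S3405
import Cfsg.Agent.S0000
import Cfsg.Agent.H336.SpSix.All
import Cfsg.Agent.H785.SpE7End

set_option autoImplicit false
open Cfsg

namespace Cfsg.Agent.S3405

/-- Let G be a finite group with no nontrivial normal subgroup of odd order, and A an elementary abelian subgroup of order 64 with normalizer N and centralizer C such that C is the internal direct product of O(N) (the largest normal subgroup of N of odd order) and A, N/C ≅ Sp(6, 2), and N/O(N) splits over O(N)A/O(N) (there is a subgroup K of N with K·O(N)A = N and K ∩ O(N)A = O(N)). Then G is isomorphic to the Fischer group Fi₂₂, or A is normal in G. -/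
theorem result {G : Type*} [Group G] [Finite G] (hO : Cfsg.oddCore G = ⊥) {F : Type*} [Field F] [Fintype F] (hF : Fintype.card F = 2)
    (A : Subgroup G) (hA : Cfsg.IsElementaryAbelian 2 A) (hA64 : Nat.card ↥A = 64)
    (hC : Cfsg.IsInternalDirectProduct ((Cfsg.oddCore ↥(Subgroup.normalizer (A : Set G))).map (Subgroup.normalizer (A : Set G)).subtype) A
      (Subgroup.centralizer (A : Set G)))
    [hn : ((Subgroup.centralizer (A : Set G)).subgroupOf (Subgroup.normalizer (A : Set G))).Normal]
    (e : (↥(Subgroup.normalizer (A : Set G)) ⧸ (Subgroup.centralizer (A : Set G)).subgroupOf (Subgroup.normalizer (A : Set G))) ≃* Cfsg.PSp 3 F)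
    (hsplit : ∃ K : Subgroup G, K ≤ Subgroup.normalizer (A : Set G) ∧
      K ⊔ ((Cfsg.oddCore ↥(Subgroup.normalizer (A : Set G))).map (Subgroup.normalizer (A : Set G)).subtype ⊔ A) = Subgroup.normalizer (A : Set G) ∧
      K ⊓ ((Cfsg.oddCore ↥(Subgroup.normalizer (A : Set G))).map (Subgroup.normalizer (A : Set G)).subtype ⊔ A) =
        (Cfsg.oddCore ↥(Subgroup.normalizer (A : Set G))).map (Subgroup.normalizer (A : Set G)).subtype) :
    Cfsg.Spor.IsoFi22 G ∨ A.Normal := by
  obtain ⟨th, O, K0, h, rfl⟩ := Cfsg.Agent.H336.SpSix.exists_sit hF A hA hA64 hC e hsplit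
  exact Cfsg.Agent.H336.SpSix.All.main (fun K _ _ _ => Cfsg.Agent.S0000.result (G := K))
    (fun K _ _ _ F _ _ h2 e th O K0 h => Cfsg.Agent.H785.SpE7.row_e7 h2 e h) hO h

end Cfsg.Agent.S3405
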