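import Cfsg.Statements.S3406
import Cfsg.Agent.S0144
import Cfsg.Agent.S0243
import Cfsg.Agent.S0252
import Cfsg.Agent.S0253
import Cfsg.Agent.S0254
import Cfsg.Agent.S0348
import Cfsg.Agent.S0506
import Cfsg.Agent.H390.PslSpec
import Mathlib

set_option autoImplicit false
open Cfsg

namespace Cfsg.Agent.S3406

/-- element orders are constant on automorphism orbits -/
theorem orders_card_le {G : Type*} [Group G] [Finite G] (T : Finset ℕ) (hT : ∀ n ∈ T, ∃ g : G, orderOf g = n) :
    T.card ≤ Nat.card (MulAction.orbitRel.Quotient (MulAut G) G) := by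
  classical
  have hrel : ∀ a b : G, MulAction.orbitRel (MulAut G) G a b → orderOf a = orderOf b := by
    rintro a b ⟨φ, hφ⟩
    rw [← hφ]
    exact (MulEquiv.orderOf_eq φ b)
  have : ∀ n : T, ∃ g : G, orderOf g = n.1 := fun n => hT n.1 n.2
  choose g hg using this
  have hinj : Function.Injective (fun n : T => (Quotient.mk (MulAction.orbitRel (MulAut G) G) (g n))) := by
    intro n m h
    have := hrel _ _ (Quotient.exact h)
    rw [hg, hg] at this
    exact Subtype.ext this
  have := Nat.card_le_card_of_injective _ hinj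
  simpa using this

theorem six {a b c d e f : ℕ} (h : [a, b, c, d, e, f].Nodup) : ({a, b, c, d, e, f} : Finset ℕ).card = 6 := by
  have := List.toFinset_card_of_nodup h
  simpa using this

/-- the number of element orders of `PSL₂(q)` -/
theorem psl_small {F : Type*} [Field F] [Fintype F] (hq : 4 ≤ Fintype.card F)
    (h5 : ∀ T : Finset ℕ, (∀ n ∈ T, ∃ g : Matrix.ProjectiveSpecialLinearGroup (Fin 2) F, orderOf g = n) → T.card ≤ 5) :
    Fintype.card F = 4 ∨ Fintype.card F = 5 ∨ Fintype.card F = 7 ∨ Fintype.card F = 8 ∨ Fintype.card F = 9 := by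
  classical
  obtain ⟨p, hcp⟩ := CharP.exists F
  have hp : Fact p.Prime := ⟨CharP.char_is_prime F p⟩
  obtain ⟨k, -, hk⟩ := FiniteField.card F p
  have hspec := H390.PslSpec.range_orderOf (F := F) (p := p) hq
  have hmem : ∀ n, n ∈ H390.PslSpec.specSet p (Fintype.card F) →
      ∃ g : Matrix.ProjectiveSpecialLinearGroup (Fin 2) F, orderOf g = n := by
    intro n hn
    rw [← hspec] at hn
    exact hn
  set q := Fintype.card F with hqdef
  have key : ∀ a b c d e f : ℕ, [a, b, c, d, e, f].Nodup → (∀ n ∈ [a, b, c, d, e, f], n ∈ H390.PslSpec.specSet p q) → False := by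
    intro a b c d e f hnd hm
    have h1 := h5 {a, b, c, d, e, f} (by
      intro n hn
      apply hmem
      apply hm
      simpa using hn)
    rw [six hnd] at h1
    omega
  rcases Nat.even_or_odd q with hev | hodd
  · -- even
    have hdd := H390.PslSpec.dd_even hev (by omega)
    have hp2 : p = 2 := by
      have : 2 ∣ p ^ (k : ℕ) := by rw [← hk]; exact hev.two_dvd
      exact ((Nat.prime_dvd_prime_iff_eq Nat.prime_two hp.out).1 (Nat.prime_two.dvd_of_dvd_pow this)).symm
    subst hp2
    have hk2 : 2 ≤ (k : ℕ) := by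
      by_contra hlt
      have : (k : ℕ) = 0 ∨ (k : ℕ) = 1 := by omega
      rcases this with h | h <;> rw [h] at hk <;> omega
    rcases Nat.lt_or_ge (k : ℕ) 4 with hlt | hge
    · have : (k : ℕ) = 2 ∨ (k : ℕ) = 3 := by omega
      rcases this with h | h <;> rw [h] at hk <;> norm_num at hk <;> omega
    · exfalso
      rcases Nat.even_or_odd (k : ℕ) with ⟨b, hb⟩ | ⟨b, hb⟩
      · have hb2 : 2 ≤ b := by omega
        set x := 2 ^ b with hx
        have hx4 : 4 ≤ x := by
          calc 4 = 2 ^ 2 := by norm_num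
            _ ≤ 2 ^ b := Nat.pow_le_pow_right (by norm_num) hb2
        have hqx : q = x * x := by rw [hk, hb, pow_add]
        obtain ⟨y, hy⟩ : ∃ y, x = y + 1 := ⟨x - 1, by omega⟩
        have hq1 : q - 1 = y * (y + 2) := by
          rw [hqx, hy]
          have : (y + 1) * (y + 1) = y * (y + 2) + 1 := by ring
          omega
        have hqy : q = y * y + 2 * y + 1 := by rw [hqx, hy]; ring
        have hyy : 3 * y ≤ y * y := Nat.mul_le_mul_right y (by omega)
        refine key 1 2 y (y + 2) (q - 1) (q + 1) ?_ ?_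
        · simp only [List.nodup_cons, List.mem_cons, List.not_mem_nil, or_false, not_or, List.nodup_nil, and_true, not_false_eq_true]
          omega
        · intro n hn
          simp only [List.mem_cons, List.not_mem_nil, or_false] at hn
          rw [H390.PslSpec.specSet, hdd, Nat.div_one, Nat.div_one]
          rcases hn with rfl | rfl | rfl | rfl | rfl | rfl
          · left; exact one_dvd _
          · left; exact dvd_rfl
          · right; left; rw [hq1]; exact dvd_mul_right _ _
          · right; left; rw [hq1]; exact dvd_mul_left _ _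
          · right; left; exact dvd_rfl
          · right; right; exact dvd_rfl
      · have h3 : 3 ∣ q + 1 := by
          rw [hk, hb]
          have : 2 ^ (2 * b + 1) + 1 = 2 * 4 ^ b + 1 := by rw [pow_succ, pow_mul]; ring
          rw [this]
          have h4 : 4 ^ b % 3 = 1 := by
            rw [Nat.pow_mod]; simp
          omega
        obtain ⟨y, hy⟩ := h3
        have hq32 : 32 ≤ q := by
          rw [hk]
          calc 32 = 2 ^ 5 := by norm_num
            _ ≤ 2 ^ (k : ℕ) := Nat.pow_le_pow_right (by norm_num) (by omega)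
        refine key 1 2 3 y (q - 1) (q + 1) ?_ ?_
        · simp only [List.nodup_cons, List.mem_cons, List.not_mem_nil, or_false, not_or, List.nodup_nil, and_true, not_false_eq_true]
          omega
        · intro n hn
          simp only [List.mem_cons, List.not_mem_nil, or_false] at hn
          rw [H390.PslSpec.specSet, hdd, Nat.div_one, Nat.div_one]
          rcases hn with rfl | rfl | rfl | rfl | rfl | rfl
          · left; exact one_dvd _
          · left; exact dvd_rfl
          · right; right; rw [hy]; exact dvd_mul_right _ _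
          · right; right; rw [hy]; exact dvd_mul_left _ _
          · right; left; exact dvd_rfl
          · right; right; exact dvd_rfl
  · -- odd
    have hdd := H390.PslSpec.dd_odd hodd
    rcases Nat.lt_or_ge q 11 with hlt | hge
    · obtain ⟨r, hr⟩ := hodd
      omega
    · exfalso
      have hpq : p ∣ q := by rw [hk]; exact dvd_pow_self _ k.2.ne'
      have hp3 : 3 ≤ p := by
        have := hp.out.two_le
        rcases Nat.lt_or_ge 2 p with h | h
        · exact h
        · have : p = 2 := by omega
          subst this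
          obtain ⟨r, hr⟩ := hodd
          omega
      have hnd : ∀ m, 1 < m → (m ∣ q - 1 ∨ m ∣ q + 1) → m ≠ p := by
        rintro m hm h rfl
        rcases h with h | h
        · have := (Nat.dvd_sub hpq h)
          have h1 : q - (q - 1) = 1 := by omega
          rw [h1] at this
          exact hp.out.one_lt.ne' (Nat.dvd_one.1 this)
        · have := (Nat.dvd_add_right hpq).1 h
          exact hp.out.one_lt.ne' (Nat.dvd_one.1 this)
      have hsp : ∀ n, n ∈ H390.PslSpec.specSet p q ↔ (n ∣ p ∨ n ∣ (q - 1) / 2 ∨ n ∣ (q + 1) / 2) := by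
        intro n
        rw [H390.PslSpec.specSet, hdd]; rfl
      obtain ⟨r, hr⟩ := hodd
      rcases Nat.even_or_odd r with ⟨m, hm⟩ | ⟨m, hm⟩
      · -- (q-1)/2 = r = 2m
        have e1 : (q - 1) / 2 = 2 * m := by omega
        have e2 : (q + 1) / 2 = 2 * m + 1 := by omega
        have hm3 : 3 ≤ m := by omega
        have n1 := hnd m (by omega) (Or.inl ⟨4, by omega⟩)
        have n2 := hnd (2 * m) (by omega) (Or.inl ⟨2, by omega⟩)
        have n3 := hnd (2 * m + 1) (by omega) (Or.inr ⟨2, by omega⟩)
        refine key 1 2 m (2 * m) (2 * m + 1) p ?_ ?_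
        · simp only [List.nodup_cons, List.mem_cons, List.not_mem_nil, or_false, not_or, List.nodup_nil, and_true, not_false_eq_true]
          omega
        · intro n hn
          simp only [List.mem_cons, List.not_mem_nil, or_false] at hn
          rw [hsp, e1, e2]
          rcases hn with rfl | rfl | rfl | rfl | rfl | rfl
          · left; exact one_dvd _
          · right; left; exact dvd_mul_right _ _
          · right; left; exact dvd_mul_left _ _
          · right; left; exact dvd_rfl
          · right; right; exact dvd_rfl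
          · left; exact dvd_rfl
      · -- r = 2m+1, (q+1)/2 = 2m+2
        have e1 : (q - 1) / 2 = 2 * m + 1 := by omega
        have e2 : (q + 1) / 2 = 2 * (m + 1) := by omega
        have hm3 : 3 ≤ m + 1 := by omega
        have n1 := hnd (m + 1) (by omega) (Or.inr ⟨4, by omega⟩)
        have n2 := hnd (2 * (m + 1)) (by omega) (Or.inr ⟨2, by omega⟩)
        have n3 := hnd (2 * m + 1) (by omega) (Or.inl ⟨2, by omega⟩)
        refine key 1 2 (m + 1) (2 * (m + 1)) (2 * m + 1) p ?_ ?_
        · simp only [List.nodup_cons, List.mem_cons, List.not_mem_nil, or_false, not_or, List.nodup_nil, and_true, not_false_eq_true]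
          omega
        · intro n hn
          simp only [List.mem_cons, List.not_mem_nil, or_false] at hn
          rw [hsp, e1, e2]
          rcases hn with rfl | rfl | rfl | rfl | rfl | rfl
          · left; exact one_dvd _
          · right; right; exact dvd_mul_right _ _
          · right; right; exact dvd_mul_left _ _
          · right; right; exact dvd_rfl
          · right; left; exact dvd_rfl
          · left; exact dvd_rfl

theorem three_primes {G : Type*} [Group G] [Finite G] (hs : ¬ Group.IsSolvable G) :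
    3 ≤ (Nat.card G).primeFactors.card := by
  by_contra hlt
  apply hs
  have h0 : Nat.card G ≠ 0 := Nat.card_pos.ne'
  have hfac : ∏ p ∈ (Nat.card G).primeFactors, p ^ (Nat.card G).factorization p = Nat.card G := by
    have := Nat.prod_factorization_pow_eq_self h0
    rwa [Nat.prod_factorization_eq_prod_primeFactors] at this
  have hcases : (Nat.card G).primeFactors.card = 0 ∨ (Nat.card G).primeFactors.card = 1 ∨
      (Nat.card G).primeFactors.card = 2 := by omega
  rcases hcases with h | h | h
  · rw [Finset.card_eq_zero] at h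
    rw [h, Finset.prod_empty] at hfac
    exact Cfsg.Agent.S0144.result 2 3 0 0 Nat.prime_two Nat.prime_three (by rw [← hfac]; norm_num)
  · obtain ⟨p, hp⟩ := Finset.card_eq_one.1 h
    have hpp : p.Prime := Nat.prime_of_mem_primeFactors (hp ▸ Finset.mem_singleton_self p)
    rw [hp, Finset.prod_singleton] at hfac
    exact Cfsg.Agent.S0144.result p 2 ((Nat.card G).factorization p) 0 hpp Nat.prime_two
      (by rw [pow_zero, mul_one]; exact hfac.symm)
  · obtain ⟨p, r, hne, hp⟩ := Finset.card_eq_two.1 h
    have hpp : p.Prime := Nat.prime_of_mem_primeFactors (hp ▸ Finset.mem_insert_self p _)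
    have hrp : r.Prime := Nat.prime_of_mem_primeFactors (hp ▸ Finset.mem_insert_of_mem (Finset.mem_singleton_self r))
    rw [hp, Finset.prod_pair hne] at hfac
    exact Cfsg.Agent.S0144.result p r _ _ hpp hrp hfac.symm

/-- a nonabelian Sylow `2`-subgroup contains an element of order four -/
theorem exists_four {G : Type*} [Group G] [Finite G] (S : Sylow 2 G) (hS : ¬ IsMulCommutative (S : Subgroup G)) :
    ∃ g : G, orderOf g = 4 := by
  have hex : ∃ x : (S : Subgroup G), x * x ≠ 1 := by
    by_contra hall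
    push Not at hall
    apply hS
    refine ⟨⟨fun a b => ?_⟩⟩
    have h1 := hall (a * b)
    have ha := hall a
    have hb := hall b
    calc a * b = a * b * 1 := (mul_one _).symm
      _ = a * b * (b * b) := by rw [hb]
      _ = a * (b * b) * b := by group
      _ = a * b := by rw [hb, mul_one]
      _ = (a * a) * (a * b) * (b * b) := by rw [ha, hb]; group
      _ = a * (a * (a * b)) * (b * b) := by group
      _ = b * a := by
        have h2 : b * a * ((a * b)) = 1 := by
          calc b * a * (a * b) = b * (a * a) * b := by group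
            _ = 1 := by rw [ha, mul_one, hb]
        have h3 : a * b * (a * b) = 1 := h1
        have h4 : a * b = b * a := mul_right_cancel (h3.trans h2.symm)
        rw [hb, mul_one, ← mul_assoc, ha, one_mul, h4]
  obtain ⟨x, hx⟩ := hex
  obtain ⟨k, hk⟩ := (IsPGroup.iff_orderOf.1 S.2) x
  have hk2 : 2 ≤ k := by
    by_contra hlt
    apply hx
    have : k = 0 ∨ k = 1 := by omega
    rcases this with h | h
    · rw [h, pow_zero, orderOf_eq_one_iff] at hk
      rw [hk, one_mul]
    · rw [h, pow_one] at hk
      have := pow_orderOf_eq_one x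
      rwa [hk, pow_two] at this
  refine ⟨(x : G) ^ (2 ^ (k - 2)), ?_⟩
  have ho : orderOf (x : G) = 2 ^ k := by rw [Subgroup.orderOf_coe, hk]
  rw [orderOf_pow_of_dvd (by positivity) (by rw [ho]; exact pow_dvd_pow 2 (by omega)), ho,
    Nat.pow_div (by omega) (by norm_num)]
  have : k - (k - 2) = 2 := by omega
  rw [this]

/-- the number of prime divisors of the order of a Suzuki group -/
theorem four_primes_suzuki (m : ℕ) (hm : 1 ≤ m) {n : ℕ}
    (hn : n = (2 ^ (2 * m + 1)) ^ 2 * ((2 ^ (2 * m + 1)) ^ 2 + 1) * (2 ^ (2 * m + 1) - 1)) :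
    4 ≤ n.primeFactors.card := by
  set r := 2 ^ (m + 1) with hr
  have hr4 : 4 ≤ r := by
    calc 4 = 2 ^ 2 := by norm_num
      _ ≤ 2 ^ (m + 1) := Nat.pow_le_pow_right (by norm_num) (by omega)
  set q := 2 ^ (2 * m + 1) with hq
  have hqr : 2 * q = r * r := by
    rw [hq, hr, ← pow_add, ← pow_succ']
    congr 1; ring
  have hr8 : 2 ∣ r := dvd_pow_self 2 (by omega)
  obtain ⟨s, hs⟩ := hr8
  have hqs : q = 2 * (s * s) := by
    have : 2 * q = 2 * (2 * (s * s)) := by rw [hqr, hs]; ring
    omega
  have hs2 : 2 ≤ s := by omega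
  have hss : 2 * s ≤ s * s := Nat.mul_le_mul_right s hs2
  obtain ⟨a, ha⟩ : ∃ a, a + 2 * s = q + 1 := ⟨q + 1 - 2 * s, by omega⟩
  have hprod : q ^ 2 + 1 = a * (q + 2 * s + 1) := by
    have e : (a : ℤ) = q + 1 - 2 * s := by have := congrArg (Nat.cast (R := ℤ)) ha; push_cast at this; linarith
    have e2 : (q : ℤ) = 2 * (s * s) := by exact_mod_cast hqs
    zify
    rw [e]
    nlinarith [e2]
  have ha5 : 5 ≤ a := by
    have : 2 * (2 * s) ≤ 2 * (s * s) := Nat.mul_le_mul_left 2 hss
    omega
  have hsn : 2 * s ≤ q := by omega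
  obtain ⟨p1, hp1, hd1⟩ := Nat.exists_prime_and_dvd (n := q - 1) (by omega)
  obtain ⟨p2, hp2, hd2⟩ := Nat.exists_prime_and_dvd (n := a) (by omega)
  obtain ⟨p3, hp3, hd3⟩ := Nat.exists_prime_and_dvd (n := q + 2 * s + 1) (by omega)
  have hodd : ∀ p : ℕ, p.Prime → p ∣ 1 → False := fun p hp h => hp.one_lt.ne' (Nat.dvd_one.1 h)
  have hq2 : 2 ∣ q := ⟨s * s, hqs⟩
  have n1 : p1 ≠ 2 := by
    rintro rfl
    have := (Nat.dvd_sub hq2 hd1)
    have h1 : q - (q - 1) = 1 := by omega
    rw [h1] at this
    exact hodd _ hp1 this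
  have n2 : p2 ≠ 2 := by
    rintro rfl
    obtain ⟨t, ht⟩ := hd2
    omega
  have n3 : p3 ≠ 2 := by
    rintro rfl
    obtain ⟨t, ht⟩ := hd3
    omega
  have n23 : p2 ≠ p3 := by
    rintro rfl
    have h4 : p2 ∣ 4 * s := by
      have := Nat.dvd_sub hd3 hd2
      have h1 : q + 2 * s + 1 - a = 4 * s := by omega
      rwa [h1] at this
    have : p2 ∣ s := by
      rcases (Nat.Prime.dvd_mul hp2).1 h4 with h | h
      · exfalso
        apply n2
        have h5 : p2 ∣ 2 ^ 2 := by norm_num; exact h
        exact (Nat.prime_dvd_prime_iff_eq hp2 Nat.prime_two).1 (hp2.dvd_of_dvd_pow h5)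
      · exact h
    have hq : p2 ∣ q := by rw [hqs]; exact Dvd.dvd.mul_left (Dvd.dvd.mul_left this _) _
    have h6 : p2 ∣ q + 2 * s := dvd_add hq (Dvd.dvd.mul_left this _)
    exact hodd _ hp2 ((Nat.dvd_add_right h6).1 hd3)
  have key : ∀ p : ℕ, p.Prime → p ≠ 2 → p ∣ q - 1 → p ∣ q ^ 2 + 1 → False := by
    intro p hp hp2 h1 h2
    obtain ⟨c, hc⟩ : ∃ c, q = c + 1 := ⟨q - 1, by omega⟩
    rw [hc] at h1 h2
    simp only [Nat.add_sub_cancel] at h1
    have : (c + 1) ^ 2 + 1 = c * (c + 2) + 2 := by ring
    rw [this] at h2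
    have := (Nat.dvd_add_right (Dvd.dvd.mul_right h1 _)).1 h2
    exact hp2 ((Nat.prime_dvd_prime_iff_eq hp Nat.prime_two).1 this)
  have n12 : p1 ≠ p2 := by
    rintro rfl
    exact key _ hp1 n1 hd1 (by rw [hprod]; exact Dvd.dvd.mul_right hd2 _)
  have n13 : p1 ≠ p3 := by
    rintro rfl
    exact key _ hp1 n1 hd1 (by rw [hprod]; exact Dvd.dvd.mul_left hd3 _)
  have hn0 : n ≠ 0 := by
    rw [hn]
    have : q - 1 ≠ 0 := by omega
    have : q ≠ 0 := by omega
    positivity
  have hsub : ({2, p1, p2, p3} : Finset ℕ) ⊆ n.primeFactors := by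
    intro x hx
    simp only [Finset.mem_insert, Finset.mem_singleton] at hx
    rw [Nat.mem_primeFactors]
    rcases hx with rfl | rfl | rfl | rfl
    · refine ⟨Nat.prime_two, ?_, hn0⟩
      rw [hn]; exact Dvd.dvd.mul_right (Dvd.dvd.mul_right (Dvd.dvd.pow hq2 (by norm_num)) _) _
    · refine ⟨hp1, ?_, hn0⟩
      rw [hn]; exact Dvd.dvd.mul_left hd1 _
    · refine ⟨hp2, ?_, hn0⟩
      rw [hn, hprod]; exact Dvd.dvd.mul_right (Dvd.dvd.mul_left (Dvd.dvd.mul_right hd2 _) _) _
    · refine ⟨hp3, ?_, hn0⟩
      rw [hn, hprod]; exact Dvd.dvd.mul_right (Dvd.dvd.mul_left (Dvd.dvd.mul_left hd3 _) _) _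
  have hcard : ({2, p1, p2, p3} : Finset ℕ).card = 4 := by
    rw [Finset.card_insert_of_notMem, Finset.card_insert_of_notMem, Finset.card_insert_of_notMem, Finset.card_singleton]
    · simp [n23]
    · simp [n12, n13]
    · simp [n1.symm, n2.symm, n3.symm]
  rw [← hcard]
  exact Finset.card_le_card hsub

/-- the number of prime divisors of the order of a Ree group -/
theorem five_primes_ree (m : ℕ) (hm : 1 ≤ m) {n : ℕ}
    (hn : n = (3 ^ (2 * m + 1)) ^ 3 * ((3 ^ (2 * m + 1)) ^ 3 + 1) * (3 ^ (2 * m + 1) - 1)) :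
    5 ≤ n.primeFactors.card := by
  set q := 3 ^ (2 * m + 1) with hq
  have hq27 : 27 ≤ q := by
    calc 27 = 3 ^ 3 := by norm_num
      _ ≤ 3 ^ (2 * m + 1) := Nat.pow_le_pow_right (by norm_num) (by omega)
  have hq8 : q % 8 = 3 := by
    rw [hq, pow_succ, pow_mul, Nat.mul_mod, Nat.pow_mod]; norm_num
  have hq3 : 3 ∣ q := dvd_pow_self 3 (by omega)
  obtain ⟨a, ha⟩ : ∃ a, q = 2 * a + 1 := ⟨(q - 1) / 2, by omega⟩
  obtain ⟨b, hb⟩ : ∃ b, q + 1 = 4 * b := ⟨(q + 1) / 4, by omega⟩
  obtain ⟨c, hc⟩ : ∃ c, q = c + 1 := ⟨q - 1, by omega⟩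
  have hprod : q ^ 3 + 1 = 4 * b * (q * c + 1) := by
    rw [← hb, hc]; ring
  have hbodd : b % 2 = 1 := by omega
  have haodd : a % 2 = 1 := by omega
  obtain ⟨p1, hp1, hd1⟩ := Nat.exists_prime_and_dvd (n := a) (by omega)
  obtain ⟨p2, hp2, hd2⟩ := Nat.exists_prime_and_dvd (n := b) (by omega)
  obtain ⟨p3, hp3, hd3⟩ := Nat.exists_prime_and_dvd (n := q * c + 1) (by
    have : 1 ≤ q * c := Nat.mul_pos (by omega) (by omega)
    omega)
  have hodd : ∀ p : ℕ, p.Prime → p ∣ 1 → False := fun p hp h => hp.one_lt.ne' (Nat.dvd_one.1 h)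
  have a1 : p1 ≠ 2 := by rintro rfl; obtain ⟨t, ht⟩ := hd1; omega
  have a2 : p2 ≠ 2 := by rintro rfl; obtain ⟨t, ht⟩ := hd2; omega
  have a3 : p3 ≠ 2 := by
    rintro rfl
    have : 2 ∣ q * c := by
      have : 2 ∣ c := ⟨a, by omega⟩
      exact Dvd.dvd.mul_left this _
    exact hodd _ hp3 ((Nat.dvd_add_right this).1 hd3)
  have b1 : p1 ≠ 3 := by
    rintro rfl
    have h1 : 3 ∣ 2 * a := Dvd.dvd.mul_left hd1 _
    exact hodd _ hp1 ((Nat.dvd_add_right h1).1 (ha ▸ hq3))
  have b2 : p2 ≠ 3 := by
    rintro rfl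
    have h1 : 3 ∣ 4 * b := Dvd.dvd.mul_left hd2 _
    rw [← hb] at h1
    exact hodd _ hp2 ((Nat.dvd_add_right hq3).1 h1)
  have b3 : p3 ≠ 3 := by
    rintro rfl
    exact hodd _ hp3 ((Nat.dvd_add_right (Dvd.dvd.mul_right hq3 _)).1 hd3)
  have c12 : p1 ≠ p2 := by
    rintro rfl
    have h1 : p1 ∣ 4 * b := Dvd.dvd.mul_left hd2 _
    have h2 : p1 ∣ 2 * a := Dvd.dvd.mul_left hd1 _
    have h3 : 4 * b = 2 * a + 2 := by omega
    rw [h3] at h1
    have := (Nat.dvd_add_right h2).1 h1
    exact a1 ((Nat.prime_dvd_prime_iff_eq hp1 Nat.prime_two).1 this)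
  have c13 : p1 ≠ p3 := by
    rintro rfl
    have h2 : p1 ∣ c := by
      have : c = 2 * a := by omega
      rw [this]; exact Dvd.dvd.mul_left hd1 _
    exact hodd _ hp1 ((Nat.dvd_add_right (Dvd.dvd.mul_left h2 _)).1 hd3)
  have c23 : p2 ≠ p3 := by
    rintro rfl
    have h1 : p2 ∣ 4 * b := Dvd.dvd.mul_left hd2 _
    rw [← hb] at h1
    -- q*c+1 = (q+1)*(q-2)+3
    obtain ⟨d, hd⟩ : ∃ d, q = d + 2 := ⟨q - 2, by omega⟩
    have h3 : q * c + 1 = (q + 1) * d + 3 := by
      have : c = d + 1 := by omega
      rw [this, hd]; ring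
    rw [h3] at hd3
    have := (Nat.dvd_add_right (Dvd.dvd.mul_right h1 _)).1 hd3
    exact b2 ((Nat.prime_dvd_prime_iff_eq hp2 Nat.prime_three).1 this)
  have hn0 : n ≠ 0 := by
    rw [hn]
    have : q - 1 ≠ 0 := by omega
    have : q ≠ 0 := by omega
    positivity
  have hsub : ({2, 3, p1, p2, p3} : Finset ℕ) ⊆ n.primeFactors := by
    intro x hx
    simp only [Finset.mem_insert, Finset.mem_singleton] at hx
    rw [Nat.mem_primeFactors]
    rcases hx with rfl | rfl | rfl | rfl | rfl
    · refine ⟨Nat.prime_two, ?_, hn0⟩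
      rw [hn]; exact Dvd.dvd.mul_left ⟨a, by omega⟩ _
    · refine ⟨Nat.prime_three, ?_, hn0⟩
      rw [hn]; exact Dvd.dvd.mul_right (Dvd.dvd.mul_right (Dvd.dvd.pow hq3 (by norm_num)) _) _
    · refine ⟨hp1, ?_, hn0⟩
      rw [hn]
      have : q - 1 = 2 * a := by omega
      rw [this]; exact Dvd.dvd.mul_left (Dvd.dvd.mul_left hd1 _) _
    · refine ⟨hp2, ?_, hn0⟩
      rw [hn, hprod]; exact Dvd.dvd.mul_right (Dvd.dvd.mul_left (Dvd.dvd.mul_right (Dvd.dvd.mul_left hd2 _) _) _) _
    · refine ⟨hp3, ?_, hn0⟩
      rw [hn, hprod]; exact Dvd.dvd.mul_right (Dvd.dvd.mul_left (Dvd.dvd.mul_left hd3 _) _) _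
  have hcard : ({2, 3, p1, p2, p3} : Finset ℕ).card = 5 := by
    rw [Finset.card_insert_of_notMem, Finset.card_insert_of_notMem, Finset.card_insert_of_notMem,
      Finset.card_insert_of_notMem, Finset.card_singleton]
    · simp [c23]
    · simp [c12, c13]
    · simp [b1.symm, b2.symm, b3.symm]
    · simp [a1.symm, a2.symm, a3.symm]
  rw [← hcard]
  exact Finset.card_le_card hsub

theorem result {G : Type*} [Group G] [Finite G] [IsSimpleGroup G] (hG : ¬ IsMulCommutative G)
    (h5 : Nat.card (MulAction.orbitRel.Quotient (MulAut G) G) ≤ 5) :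
    Nonempty (G ≃* ↥(alternatingGroup (Fin 5))) ∨ Nonempty (G ≃* ↥(alternatingGroup (Fin 6))) ∨
      (∃ (F : Type) (_ : Field F) (_ : Fintype F), (Fintype.card F = 7 ∨ Fintype.card F = 8) ∧
        Nonempty (G ≃* Matrix.ProjectiveSpecialLinearGroup (Fin 2) F)) := by
  classical
  have hns : ¬ Group.IsSolvable G := by
    intro hsol
    apply hG
    exact ⟨⟨fun a b => (IsSimpleGroup.comm_iff_isSolvable.2 hsol) a b⟩⟩
  have h3 := three_primes hns
  have hord : ∀ T : Finset ℕ, (∀ n ∈ T, ∃ g : G, orderOf g = n) → T.card ≤ 5 :=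
    fun T hT => (orders_card_le T hT).trans h5
  have hprime : ∀ n ∈ (Nat.card G).primeFactors, ∃ g : G, orderOf g = n := by
    intro n hn
    have : Fact n.Prime := ⟨Nat.prime_of_mem_primeFactors hn⟩
    exact exists_prime_orderOf_dvd_card' n (Nat.dvd_of_mem_primeFactors hn)
  have hone : ∃ g : G, orderOf g = 1 := ⟨1, orderOf_one⟩
  -- number of primes
  have h4 : (Nat.card G).primeFactors.card ≤ 4 := by
    have := hord (insert 1 (Nat.card G).primeFactors) (by
      intro n hn
      rcases Finset.mem_insert.1 hn with rfl | hn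
      · exact hone
      · exact hprime n hn)
    rw [Finset.card_insert_of_notMem (by
      intro h; exact Nat.not_prime_one (Nat.prime_of_mem_primeFactors h))] at this
    omega
  have hlin : ∀ (F : Type) [Field F] [Fintype F], Nonempty (G ≃* Matrix.ProjectiveSpecialLinearGroup (Fin 2) F) →
      Nonempty (G ≃* ↥(alternatingGroup (Fin 5))) ∨ Nonempty (G ≃* ↥(alternatingGroup (Fin 6))) ∨
      (∃ (F : Type) (_ : Field F) (_ : Fintype F), (Fintype.card F = 7 ∨ Fintype.card F = 8) ∧
        Nonempty (G ≃* Matrix.ProjectiveSpecialLinearGroup (Fin 2) F)) := by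
    rintro F _ _ ⟨e⟩
    have hq4 : 4 ≤ Fintype.card F := by
      by_contra hlt
      have h1 : 1 < Fintype.card F := Fintype.one_lt_card
      have hcases : Fintype.card F = 2 ∨ Fintype.card F = 3 := by omega
      have hc := Nat.card_congr e.toEquiv
      rcases hcases with h | h
      · have h6 := Cfsg.Agent.S0243.result h 2 le_rfl
        rw [Fin.prod_univ_two] at h6
        norm_num [-Nat.card_eq_fintype_card] at h6
        have : Nat.card G = 2 ^ 1 * 3 ^ 1 := by rw [hc, h6]; norm_num
        exact hns (Cfsg.Agent.S0144.result 2 3 1 1 Nat.prime_two Nat.prime_three this)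
      · have h6 := Cfsg.Agent.S0243.result h 2 le_rfl
        rw [Fin.prod_univ_two] at h6
        norm_num [-Nat.card_eq_fintype_card] at h6
        have : Nat.card G = 2 ^ 2 * 3 ^ 1 := by rw [hc]; omega
        exact hns (Cfsg.Agent.S0144.result 2 3 2 1 Nat.prime_two Nat.prime_three this)
    have hsm := psl_small hq4 (by
      intro T hT
      apply hord
      intro n hn
      obtain ⟨g, hg⟩ := hT n hn
      exact ⟨e.symm g, by rw [MulEquiv.orderOf_eq, hg]⟩)
    rcases hsm with h | h | h | h | h
    · left; obtain ⟨e'⟩ := Cfsg.Agent.S0252.result h; exact ⟨e.trans e'⟩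
    · left; obtain ⟨e'⟩ := Cfsg.Agent.S0253.result h; exact ⟨e.trans e'⟩
    · right; right; exact ⟨F, _, _, Or.inl h, ⟨e⟩⟩
    · right; right; exact ⟨F, _, _, Or.inr h, ⟨e⟩⟩
    · right; left; obtain ⟨e'⟩ := Cfsg.Agent.S0254.result h; exact ⟨e.trans e'⟩
  obtain ⟨S⟩ : Nonempty (Sylow 2 G) := inferInstance
  by_cases hS : IsMulCommutative (S : Subgroup G)
  · rcases Cfsg.Agent.S0506.result hG S hS with ⟨a, -, F, _, _, -, he⟩ | ⟨F, _, _, -, he⟩ | ⟨-, m, hm, hc⟩ | ⟨-, hc⟩
    · exact hlin F he
    · exact hlin F he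
    · exact absurd (five_primes_ree m hm hc) (by omega)
    · exfalso
      have hsub : ({2, 3, 5, 7, 11} : Finset ℕ) ⊆ (Nat.card G).primeFactors := by
        intro x hx
        rw [Nat.mem_primeFactors, hc]
        simp only [Finset.mem_insert, Finset.mem_singleton] at hx
        rcases hx with rfl | rfl | rfl | rfl | rfl <;> norm_num
      have := Finset.card_le_card hsub
      have h6 : ({2, 3, 5, 7, 11} : Finset ℕ).card = 5 := by decide
      omega
  · have hfour := exists_four S hS
    have n1 : (1 : ℕ) ∉ (Nat.card G).primeFactors := fun h => Nat.not_prime_one (Nat.prime_of_mem_primeFactors h)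
    have n4 : (4 : ℕ) ∉ (Nat.card G).primeFactors := fun h => by
      have := Nat.prime_of_mem_primeFactors h
      norm_num at this
    have h3' : (Nat.card G).primeFactors.card ≤ 3 := by
      have := hord (insert 1 (insert 4 (Nat.card G).primeFactors)) (by
        intro n hn
        rcases Finset.mem_insert.1 hn with rfl | hn
        · exact hone
        rcases Finset.mem_insert.1 hn with rfl | hn
        · exact hfour
        · exact hprime n hn)
      rw [Finset.card_insert_of_notMem (by simp [n1]), Finset.card_insert_of_notMem n4] at this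
      omega
    have hCIT : ∀ t : G, orderOf t = 2 → IsPGroup 2 (Subgroup.centralizer ({t} : Set G)) := by
      intro t ht
      by_contra hnp
      obtain ⟨s, hs, hsd, hs2⟩ : ∃ s : ℕ, s.Prime ∧ s ∣ Nat.card (Subgroup.centralizer ({t} : Set G)) ∧ s ≠ 2 := by
        by_contra hno
        push Not at hno
        apply hnp
        rw [IsPGroup.iff_card]
        have h0 : Nat.card (Subgroup.centralizer ({t} : Set G)) ≠ 0 := Nat.card_pos.ne'
        exact ⟨_, Nat.eq_prime_pow_of_unique_prime_dvd h0 (fun {d} hd hdd => hno d hd hdd)⟩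
      have : Fact s.Prime := ⟨hs⟩
      obtain ⟨x, hx⟩ := exists_prime_orderOf_dvd_card' s hsd
      have hxt : Commute t (x : G) := by
        have := (Subgroup.mem_centralizer_singleton_iff.1 x.2)
        exact this.symm
      have hxo : orderOf (x : G) = s := by rw [Subgroup.orderOf_coe, hx]
      have hcop : (orderOf t).Coprime (orderOf (x : G)) := by
        rw [ht, hxo]
        exact (Nat.coprime_primes Nat.prime_two hs).2 hs2.symm
      have h2s : ∃ g : G, orderOf g = 2 * s := ⟨t * x, by
        rw [hxt.orderOf_mul_eq_mul_orderOf_of_coprime hcop, ht, hxo]⟩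
      have n2s : 2 * s ∉ (Nat.card G).primeFactors := fun h => by
        have := Nat.prime_of_mem_primeFactors h
        exact Nat.not_prime_mul (by norm_num) hs.one_lt.ne' this
      have := hord (insert 1 (insert 4 (insert (2 * s) (Nat.card G).primeFactors))) (by
        intro n hn
        rcases Finset.mem_insert.1 hn with rfl | hn
        · exact hone
        rcases Finset.mem_insert.1 hn with rfl | hn
        · exact hfour
        rcases Finset.mem_insert.1 hn with rfl | hn
        · exact h2s
        · exact hprime n hn)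
      rw [Finset.card_insert_of_notMem, Finset.card_insert_of_notMem, Finset.card_insert_of_notMem n2s] at this
      · omega
      · simp only [Finset.mem_insert, not_or]
        exact ⟨by omega, n4⟩
      · simp only [Finset.mem_insert, not_or]
        exact ⟨by norm_num, by omega, n1⟩
    have hab : ∃ a b : G, a * b ≠ b * a := by
      by_contra hno
      push Not at hno
      exact hG ⟨⟨hno⟩⟩
    rcases Cfsg.Agent.S0348.result hab hCIT with ⟨F, _, _, -, he⟩ | ⟨F, _, _, hF, ⟨e⟩⟩ | ⟨-, m, hm, hc⟩
    · exact hlin F he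
    · exfalso
      have h6 := Cfsg.Agent.S0243.result hF 3 (by norm_num)
      rw [Fin.prod_univ_three] at h6
      norm_num [-Nat.card_eq_fintype_card] at h6
      have hc : Nat.card G = 20160 := by rw [Nat.card_congr e.toEquiv]; omega
      have hsub : ({2, 3, 5, 7} : Finset ℕ) ⊆ (Nat.card G).primeFactors := by
        intro x hx
        rw [Nat.mem_primeFactors, hc]
        simp only [Finset.mem_insert, Finset.mem_singleton] at hx
        rcases hx with rfl | rfl | rfl | rfl <;> norm_num
      have := Finset.card_le_card hsub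
      have h6 : ({2, 3, 5, 7} : Finset ℕ).card = 4 := by decide
      omega
    · exact absurd (four_primes_suzuki m hm hc) (by omega)

end Cfsg.Agent.S3406
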