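import Cfsg.Statements.S3416
import Cfsg.Agent.H362.ReeMain

set_option autoImplicit false
open Cfsg

namespace Cfsg.Agent.S3416

/-- Let R be the small Ree group over the field with q = 3^(2m+1) ≥ 27 elements. If a finite group G has the same order as R and the same set of values taken by the function 'number of elements of order n' (over the element orders n that occur), then G is isomorphic to R. -/
theorem result {K : Type*} [Field K] [Fintype K] {m : ℕ} (hm : 1 ≤ m)
    (hK : Fintype.card K = 3 ^ (2 * m + 1)) {G : Type*} [Group G] [Finite G]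
    (hcard : Nat.card G = Nat.card ↥(Cfsg.Lie.twistedG2 K (3 ^ m)))
    (hnse : {c : ℕ | 0 < c ∧ ∃ n : ℕ, c = Nat.card {g : G // orderOf g = n}} =
      {c : ℕ | 0 < c ∧ ∃ n : ℕ, c = Nat.card {g : ↥(Cfsg.Lie.twistedG2 K (3 ^ m)) // orderOf g = n}}) :
    Nonempty (G ≃* ↥(Cfsg.Lie.twistedG2 K (3 ^ m))) :=
  Cfsg.Agent.H362.ReeMain.main hm hK hcard hnse

end Cfsg.Agent.S3416
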