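import Cfsg.Statements.S3490
import Cfsg.Agent.H380.TenRec.Final
import Cfsg.Agent.S4008
import Cfsg.Agent.S3719
import Cfsg.Agent.S3720

set_option autoImplicit false
open Cfsg

namespace Cfsg.Agent.S3490

/-- The alternating group of degree 10, which is not determined by its element orders alone, is determined by its element orders together with the 2-part of its order: a finite group G with exactly the same set of element orders as the alternating group of degree 10 and with 2⁷ the exact power of 2 dividing its order is isomorphic to it. -/
theorem result {G : Type*} [Group G] [Finite G] (h : Set.range (orderOf : G → ℕ) = Set.range (orderOf : alternatingGroup (Fin 10) → ℕ))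
    (h2 : 2 ^ 7 ∣ Nat.card G) (h2' : ¬ 2 ^ 8 ∣ Nat.card G) : Nonempty (G ≃* alternatingGroup (Fin 10)) :=
  Cfsg.Agent.H380.TenRec.final Cfsg.Agent.S4008.result Cfsg.Agent.S3719.result Cfsg.Agent.S3720.result h h2 h2'

end Cfsg.Agent.S3490
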