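import Cfsg.Statements.S3499
import Cfsg.Agent.H419.EP.Fin

set_option autoImplicit false
open Cfsg

namespace Cfsg.Agent.S3499

/-- The socles of the extremely primitive almost simple classical groups. Let a finite group G act faithfully and primitively on a finite set Ω with non-trivial point stabilizers, each acting primitively on every one of its orbits, and let T be a normal subgroup of G with trivial centralizer in G that is a non-abelian simple classical group (linear, symplectic, unitary or orthogonal). Then T is isomorphic to PSL₂(q) for some q ≥ 4, to PSp_{2m}(2) for some m ≥ 3, to PSL₄(2), to PSU₄(3), or to PSL₃(4). (The known proof rests on the classification of the maximal subgroups of the finite classical groups.) -/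
theorem result {G : Type*} [Group G] [Finite G] {Ω : Type*} [Fintype Ω] [MulAction G Ω] [FaithfulSMul G Ω] (T : Subgroup G) [T.Normal] (hT : IsSimpleGroup T) (hTc : ¬ IsMulCommutative T)
    (hC : Subgroup.centralizer (T : Set G) = ⊥) (hcl : (Cfsg.IsPSL T ∨ Cfsg.IsPSp T ∨ Cfsg.IsPSU T ∨ Cfsg.IsPOmegaOdd T ∨ Cfsg.IsPOmegaPlus T ∨ Cfsg.IsPOmegaMinus T))
    (hprim : MulAction.IsPreprimitive G Ω) (hH : ∀ α : Ω, MulAction.stabilizer G α ≠ ⊥) (hep : ∀ (α : Ω) (ω : Ω), MulAction.IsPreprimitive (MulAction.stabilizer G α) (MulAction.orbit (MulAction.stabilizer G α) ω)) :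
    (∃ (F : Type) (_ : Field F) (_ : Fintype F), 4 ≤ Fintype.card F ∧ Nonempty (T ≃* Matrix.ProjectiveSpecialLinearGroup (Fin 2) F)) ∨
    (∃ (F : Type) (_ : Field F) (_ : Fintype F) (m : ℕ), 3 ≤ m ∧ Fintype.card F = 2 ∧ Nonempty (T ≃* Cfsg.PSp m F)) ∨
    (∃ (F : Type) (_ : Field F) (_ : Fintype F), Fintype.card F = 2 ∧ Nonempty (T ≃* Matrix.ProjectiveSpecialLinearGroup (Fin 4) F)) ∨
    (∃ (F : Type) (_ : Field F) (_ : Fintype F), Fintype.card F = 9 ∧ Nonempty (T ≃* Cfsg.PSU 4 F 3)) ∨
    (∃ (F : Type) (_ : Field F) (_ : Fintype F), Fintype.card F = 4 ∧ Nonempty (T ≃* Matrix.ProjectiveSpecialLinearGroup (Fin 3) F)) := by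
  exact Cfsg.Agent.H419.EP.final_of Cfsg.Agent.H419.EP.targets T hT hTc hC hcl hprim hH hep

end Cfsg.Agent.S3499
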