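import Cfsg.Statements.S3505
import Cfsg.Agent.S0000
import Cfsg.Agent.H384.TwoTransMain
import Cfsg.Agent.H499.TTFullMain

set_option autoImplicit false
open Cfsg

namespace Cfsg.Agent.S3505

/-- The primitive groups containing a full cycle (a consequence of the classification of the finite 2-transitive groups). Let a finite group G act faithfully and primitively on a finite set Ω with n points, and suppose some element of G acts as an n-cycle (the cyclic group it generates is transitive). Then one of the following holds: n is prime and G is solvable; or G induces at least the alternating group on Ω; or for some finite field F and some k ≥ 2, n = (|F|^k − 1)/(|F| − 1) and G has a normal subgroup isomorphic to PSL_k(F); or n = 11 and G is isomorphic to PSL₂(11) or to the Mathieu group M₁₁; or n = 23 and G is isomorphic to the Mathieu group M₂₃. -/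
theorem result {G : Type*} [Group G] [Finite G] {Ω : Type*} [Fintype Ω] [MulAction G Ω] [FaithfulSMul G Ω] [DecidableEq Ω] (hprim : MulAction.IsPreprimitive G Ω) (g : G) (hg : MulAction.IsPretransitive (Subgroup.zpowers g) Ω) :
    ((Fintype.card Ω).Prime ∧ Group.IsSolvable G) ∨
    alternatingGroup Ω ≤ (MulAction.toPermHom G Ω).range ∨
    (∃ (F : Type) (_ : Field F) (_ : Fintype F) (k : ℕ), 2 ≤ k ∧ Fintype.card Ω * (Fintype.card F - 1) = Fintype.card F ^ k - 1 ∧
      ∃ T : Subgroup G, T.Normal ∧ Nonempty (T ≃* Matrix.ProjectiveSpecialLinearGroup (Fin k) F)) ∨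
    (Fintype.card Ω = 11 ∧ ((∃ (F : Type) (_ : Field F) (_ : Fintype F), Fintype.card F = 11 ∧ Nonempty (G ≃* Matrix.ProjectiveSpecialLinearGroup (Fin 2) F)) ∨ Cfsg.Spor.IsoM11 G)) ∨
    (Fintype.card Ω = 23 ∧ Cfsg.Spor.IsoM23 G) := by
  exact Cfsg.Agent.H499.TT.full_main
    (fun G Ω _ _ T A => Cfsg.Agent.H384.TwoTransMain.main (fun X _ _ _ => Cfsg.Agent.S0000.result) A) hprim g hg

end Cfsg.Agent.S3505
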