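import Cfsg.Statements.S3506
import Cfsg.Agent.S0000
import Cfsg.Agent.H384.TwoTransMain
import Cfsg.Agent.H499.TTPointMain

set_option autoImplicit false
open Cfsg

namespace Cfsg.Agent.S3506

/-- Let a finite group G act faithfully and primitively on a finite set Ω, whose image in the symmetric group on Ω does not contain the alternating group, and suppose some g ∈ G has exactly two cycles on Ω, of coprime lengths k ≤ l (so k + l = |Ω|; a fixed point is a cycle of length 1). Then k = 1, and one of: G is 2-transitive with a non-trivial abelian normal subgroup acting regularly (affine, of prime-power degree); or |Ω| = p + 1 for a prime p ≥ 5 and G has a normal subgroup isomorphic to PSL₂(p); or |Ω| = 12 and G is isomorphic to the Mathieu group M₁₁ or M₁₂; or |Ω| = 24 and G is isomorphic to M₂₄. -/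
theorem result {G : Type*} [Group G] [Finite G] {Ω : Type*} [Fintype Ω] [MulAction G Ω] [FaithfulSMul G Ω] [DecidableEq Ω] (hprim : MulAction.IsPreprimitive G Ω) (halt : ¬ alternatingGroup Ω ≤ (MulAction.toPermHom G Ω).range)
    (g : G) (k l : ℕ) (hk : 1 ≤ k) (hkl : k ≤ l) (hsum : k + l = Fintype.card Ω) (hcop : Nat.Coprime k l)
    (ω₁ ω₂ : Ω) (h₁ : Nat.card (MulAction.orbit (Subgroup.zpowers g) ω₁) = k) (h₂ : Nat.card (MulAction.orbit (Subgroup.zpowers g) ω₂) = l)
    (h₁₂ : ω₂ ∉ MulAction.orbit (Subgroup.zpowers g) ω₁) :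
    k = 1 ∧
    ((MulAction.IsMultiplyPretransitive G Ω 2 ∧ ∃ N : Subgroup G, N.Normal ∧ N ≠ ⊥ ∧ IsMulCommutative N ∧ ∀ ω : Ω, MulAction.stabilizer N ω = ⊥) ∨
     (∃ p : ℕ, p.Prime ∧ 5 ≤ p ∧ Fintype.card Ω = p + 1 ∧
        ∃ (F : Type) (_ : Field F) (_ : Fintype F), Fintype.card F = p ∧ ∃ T : Subgroup G, T.Normal ∧ Nonempty (T ≃* Matrix.ProjectiveSpecialLinearGroup (Fin 2) F)) ∨
     (Fintype.card Ω = 12 ∧ (Cfsg.Spor.IsoM11 G ∨ Cfsg.Spor.IsoM12 G)) ∨
     (Fintype.card Ω = 24 ∧ Cfsg.Spor.IsoM24 G)) := by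
  exact Cfsg.Agent.H499.TT.point_main
    (fun G Ω _ _ T A => Cfsg.Agent.H384.TwoTransMain.main (fun X _ _ _ => Cfsg.Agent.S0000.result) A)
    hprim halt g k l hk hkl hsum hcop ω₁ ω₂ h₁ h₂ h₁₂

end Cfsg.Agent.S3506
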