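import Cfsg.Statements.S3510
import Cfsg.Agent.H721.RC.FinalOf
import Cfsg.Agent.H864.RC.Fin3
import Cfsg.Agent.H721.RC.Mixed

set_option autoImplicit false
open Cfsg

namespace Cfsg.Agent.S3510

/-- Let a finite group G act faithfully and primitively on a finite set Ω, and let T be a normal subgroup of G with trivial centralizer in G that is a non-abelian simple classical group (linear, symplectic, unitary or orthogonal). Suppose some g ∈ G has no regular cycle (no orbit of ⟨g⟩ on which ⟨g⟩ acts with trivial stabilizer). Then T is isomorphic to the alternating group A₅, A₆ or A₈ and Ω has 5, 6 or 8 points respectively. (The known proof uses the classification of the finite simple groups.) -/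
theorem result {G : Type*} [Group G] [Finite G] {Ω : Type*} [Fintype Ω] [MulAction G Ω] [FaithfulSMul G Ω] (T : Subgroup G) [T.Normal] (hT : IsSimpleGroup T) (hTc : ¬ IsMulCommutative T)
    (hC : Subgroup.centralizer (T : Set G) = ⊥) (hcl : (Cfsg.IsPSL T ∨ Cfsg.IsPSp T ∨ Cfsg.IsPSU T ∨ Cfsg.IsPOmegaOdd T ∨ Cfsg.IsPOmegaPlus T ∨ Cfsg.IsPOmegaMinus T))
    (hprim : MulAction.IsPreprimitive G Ω) (g : G) (hg : ∀ ω : Ω, MulAction.stabilizer (Subgroup.zpowers g) ω ≠ ⊥) :
    (Nonempty (T ≃* alternatingGroup (Fin 5)) ∧ Fintype.card Ω = 5) ∨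
    (Nonempty (T ≃* alternatingGroup (Fin 6)) ∧ Fintype.card Ω = 6) ∨
    (Nonempty (T ≃* alternatingGroup (Fin 8)) ∧ Fintype.card Ω = 8) := by
  exact Cfsg.Agent.H721.RC.final_of (Cfsg.Agent.H864.RC.typeIII_of
    (fun h hIH hN i₀ j₀ hi hj => Cfsg.Agent.H721.RC.Mix.dead_mixed h hIH hN i₀ j₀ hi hj)) T hT hTc hC hcl hprim g hg

end Cfsg.Agent.S3510
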