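import Cfsg.Statements.S3512
import Cfsg.Agent.S0000
import Cfsg.Agent.H391.HT.RowP
import Cfsg.Agent.H19.RP.JOne

set_option autoImplicit false
open Cfsg

namespace Cfsg.Agent.S3512

/-- Let p be a prime and G a group of linear transformations of a finite vector space V over the field with p elements, of order divisible by p, such that all orbits of G on the non-zero vectors have the same size (a ½-transitive linear group). Then G is transitive on the non-zero vectors; or G is a group of semilinear maps of a field structure on V (there is a finite field F and an additive identification of V with F under which every element of G acts as x ↦ a·φ(x) with a ∈ F and φ a field automorphism); or p = 3, V has 81 elements, G has a normal subgroup isomorphic to SL₂(5), and G has exactly two orbits on non-zero vectors, each of size 40. (The known proof uses the classification of the finite simple groups.) -/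
theorem result (p : ℕ) [Fact p.Prime] {V : Type*} [AddCommGroup V] [Module (ZMod p) V] [Finite V] [Nontrivial V]
    {G : Type*} [Group G] [Finite G] (ρ : G →* (V ≃ₗ[ZMod p] V)) (hρ : Function.Injective ρ) (hdiv : p ∣ Nat.card G)
    (hhalf : ∀ v w : V, v ≠ 0 → w ≠ 0 → Nat.card {u : V | ∃ g : G, ρ g v = u} = Nat.card {u : V | ∃ g : G, ρ g w = u}) :
    (∀ v w : V, v ≠ 0 → w ≠ 0 → ∃ g : G, ρ g v = w) ∨
    (∃ (F : Type) (_ : Field F) (_ : Fintype F) (e : V ≃+ F), ∀ g : G, ∃ (a : F) (φ : F ≃+* F), ∀ v : V, e (ρ g v) = a * φ (e v)) ∨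
    (p = 3 ∧ Nat.card V = 81 ∧
      (∃ (F : Type) (_ : Field F) (_ : Fintype F), Fintype.card F = 5 ∧ ∃ S : Subgroup G, S.Normal ∧ Nonempty (S ≃* Matrix.SpecialLinearGroup (Fin 2) F)) ∧
      (∃ v w : V, v ≠ 0 ∧ w ≠ 0 ∧ (¬ ∃ g : G, ρ g v = w) ∧ ∀ u : V, u ≠ 0 → ∃ g : G, ρ g v = u ∨ ρ g w = u) ∧
      ∀ v : V, v ≠ 0 → Nat.card {u : V | ∃ g : G, ρ g v = u} = 40) := by
  exact Cfsg.Agent.H19.HT.final (Cfsg.Agent.H391.HT.ext (fun _ _ _ _ => Cfsg.Agent.S0000.result) (Cfsg.Agent.H391.HT.pieces Cfsg.Agent.H19.RP.j1_row)) p ρ hρ hdiv hhalf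

end Cfsg.Agent.S3512
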