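import Cfsg.Statements.S3520
import Cfsg.Agent.H386.TwoDer

set_option autoImplicit false
open Cfsg

namespace Cfsg.Agent.S3520

/-- Let a finite group G act faithfully and primitively on a finite set Ω with at least two points, suppose G is not almost simple (no non-abelian simple normal subgroup with trivial centralizer), and suppose the derangements of G form exactly two conjugacy classes. Then either Ω has 3 points and G has order 3; or G has a non-trivial abelian normal subgroup N acting regularly, every non-identity element of G fixes at most one point (so, when n > 3, G is a Frobenius group with kernel N), the number n of points is odd and a point stabilizer has order (n − 1)/2; or G is 2-transitive with a non-trivial abelian regular normal subgroup and some non-identity element fixes at least two points (a non-Frobenius 2-transitive affine group). -/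
theorem result {G : Type*} [Group G] [Finite G] {Ω : Type*} [Fintype Ω] [MulAction G Ω] [FaithfulSMul G Ω] (hΩ : 2 ≤ Fintype.card Ω) (hprim : MulAction.IsPreprimitive G Ω) (hnas : ¬ ∃ T : Subgroup G, T.Normal ∧ IsSimpleGroup T ∧ ¬ IsMulCommutative T ∧ Subgroup.centralizer (T : Set G) = ⊥)
    (hκ : Nat.card {c : ConjClasses G // ∃ g : G, ConjClasses.mk g = c ∧ ∀ ω : Ω, g • ω ≠ ω} = 2) (α : Ω) :
    (Fintype.card Ω = 3 ∧ Nat.card G = 3) ∨
    ((∃ N : Subgroup G, N.Normal ∧ N ≠ ⊥ ∧ IsMulCommutative N ∧ ∀ ω : Ω, MulAction.stabilizer N ω = ⊥) ∧ (∀ g : G, g ≠ 1 → Nat.card (MulAction.fixedBy Ω g) ≤ 1) ∧ ¬ 2 ∣ Fintype.card Ω ∧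
        2 * Nat.card (MulAction.stabilizer G α) = Fintype.card Ω - 1) ∨
    ((∃ N : Subgroup G, N.Normal ∧ N ≠ ⊥ ∧ IsMulCommutative N ∧ ∀ ω : Ω, MulAction.stabilizer N ω = ⊥) ∧ MulAction.IsMultiplyPretransitive G Ω 2 ∧ ∃ g : G, g ≠ 1 ∧ 2 ≤ Nat.card (MulAction.fixedBy Ω g)) := by
  classical
  have := hprim
  have hnt : Nontrivial Ω := Fintype.one_lt_card_iff_nontrivial.1 (by omega)
  obtain ⟨a, b, hab⟩ := hnt.exists_pair_ne
  have hGnt : Nontrivial G := by
    obtain ⟨g, hg⟩ := MulAction.exists_smul_eq G a b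
    refine ⟨⟨g, 1, fun h => hab ?_⟩⟩
    rw [← hg, h, one_smul]
  obtain ⟨N, hN, hN0, hmin⟩ := Cfsg.Agent.H386.Factor.exists_min_normal (G := G)
  by_cases hc : ∀ x ∈ N, ∀ y ∈ N, Commute x y
  · right
    have hNN : ∃ N : Subgroup G, N.Normal ∧ N ≠ ⊥ ∧ IsMulCommutative N ∧
        ∀ ω : Ω, MulAction.stabilizer N ω = ⊥ := by
      refine ⟨N, hN, hN0, ⟨⟨fun x y => Subtype.ext (hc x x.2 y y.2)⟩⟩, fun ω => ?_⟩
      rw [Subgroup.eq_bot_iff_forall]
      intro n hn
      apply Subtype.ext
      exact Cfsg.Agent.H386.PrimTools.eq_one_of_commute N (α := ω)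
        (fun a => Cfsg.Agent.H386.PrimTools.exists_smul_eq_of_normal N hN0 ω a)
        (fun m hm => (hc n n.2 m hm).eq) hn
    rcases Cfsg.Agent.H386.TwoDer.affine_case hκ N hN0 hc α with ⟨h1, h2, h3⟩ | ⟨h1, h2⟩
    · left
      rw [Nat.card_eq_fintype_card (α := Ω)] at h2 h3
      exact ⟨hNN, h1, h2, h3⟩
    · right
      exact ⟨hNN, h1, h2⟩
  · exact (Cfsg.Agent.H386.TwoDer.false_of_nonabelian hnas hκ N hN0 hmin hc).elim

end Cfsg.Agent.S3520
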