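import Cfsg.Statements.S3525
import Cfsg.Agent.H388.ClassBound

set_option autoImplicit false
open Cfsg

namespace Cfsg.Agent.S3525

/-- The prime graph of a finite group has the prime divisors of its order as vertices, two distinct primes p, q being joined when the group has an element of order pq; two groups have the same prime graph when they have the same prime divisors and the same joined pairs. If there are finite groups of arbitrarily large order with the same prime graph as the finite group G, then some finite group with the same prime graph as G has a non-trivial solvable normal subgroup. -/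
theorem result {G : Type*} [Group G] [Finite G]
    (h : ∀ n : ℕ, ∃ (H : Type) (_ : Group H) (_ : Finite H), n < Nat.card H ∧
      ((∀ p : ℕ, p.Prime → (p ∣ Nat.card G ↔ p ∣ Nat.card H)) ∧
      (∀ p q : ℕ, p.Prime → q.Prime → p ≠ q → ((∃ g : G, orderOf g = p * q) ↔ (∃ g : H, orderOf g = p * q))))) :
    ∃ (H : Type) (_ : Group H) (_ : Finite H),
      ((∀ p : ℕ, p.Prime → (p ∣ Nat.card G ↔ p ∣ Nat.card H)) ∧
      (∀ p q : ℕ, p.Prime → q.Prime → p ≠ q → ((∃ g : G, orderOf g = p * q) ↔ (∃ g : H, orderOf g = p * q)))) ∧
      ∃ N : Subgroup H, N.Normal ∧ N ≠ ⊥ ∧ Group.IsSolvable ↥N := 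
  Cfsg.Agent.H388.ClassBound.main h

end Cfsg.Agent.S3525
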