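import Cfsg.Statements.S3527
import Cfsg.Agent.H149.S3527Core
import Cfsg.Agent.S3526
import Cfsg.Agent.S2529

set_option autoImplicit false
open Cfsg

namespace Cfsg.Agent.S3527

theorem no_solvable {H : Type*} [Group H] (hs : Group.IsSolvable H)
    (h : ∃ N : Subgroup H, N.Normal ∧ IsSimpleGroup ↥N ∧ ¬ IsMulCommutative ↥N ∧ Subgroup.centralizer (N : Set H) = ⊥) :
    False := by
  obtain ⟨N, -, hN, hc, -⟩ := h
  have : Group.IsSolvable N := inferInstance
  apply hc
  exact ⟨⟨fun a b => (IsSimpleGroup.comm_iff_isSolvable.2 this) a b⟩⟩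

/-- The prime graph of a finite group has the prime divisors of its order as vertices, two distinct primes p, q being joined when the group has an element of order pq; two groups have the same prime graph when they have the same prime divisors and the same joined pairs. Suppose only finitely many finite groups, up to isomorphism, have the same prime graph as the non-trivial finite group G (equivalently, their orders are bounded). Then every vertex of the prime graph of G is non-adjacent to at least one other vertex, and the prime graph of G has three pairwise non-adjacent vertices. -/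
theorem result {G : Type*} [Group G] [Finite G] [Nontrivial G]
    (h : ∃ n : ℕ, ∀ (H : Type) [Group H] [Finite H],
      ((∀ p : ℕ, p.Prime → (p ∣ Nat.card G ↔ p ∣ Nat.card H)) ∧
      (∀ p q : ℕ, p.Prime → q.Prime → p ≠ q → ((∃ g : G, orderOf g = p * q) ↔ (∃ g : H, orderOf g = p * q)))) → Nat.card H ≤ n) :
    (∀ p : ℕ, p.Prime → p ∣ Nat.card G → ∃ q : ℕ, q.Prime ∧ q ∣ Nat.card G ∧ q ≠ p ∧ ¬ ∃ g : G, orderOf g = p * q) ∧
    ∃ p q r : ℕ, p.Prime ∧ q.Prime ∧ r.Prime ∧ p ∣ Nat.card G ∧ q ∣ Nat.card G ∧ r ∣ Nat.card G ∧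
      p ≠ q ∧ q ≠ r ∧ p ≠ r ∧ (¬ ∃ g : G, orderOf g = p * q) ∧ (¬ ∃ g : G, orderOf g = q * r) ∧ (¬ ∃ g : G, orderOf g = p * r) := by
  obtain ⟨n, hn⟩ := h
  refine ⟨?_, ?_⟩
  · intro p hp hpG
    by_contra hcon
    push Not at hcon
    obtain ⟨H, _, _, hH, hlt⟩ := H149.S3527Core.unbounded hp hpG (fun q hq hqG hne => hcon q hq hqG hne) n
    exact absurd (hn H hH) (not_le.2 hlt)
  · obtain ⟨⟨N, hN, hs, hc, hC⟩, h2⟩ := Cfsg.Agent.S3526.result (G := G) ⟨n, hn⟩
    by_contra hcon
    have h3 := (Cfsg.Agent.S2529.result N hs hc hC).1 (by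
      rintro ⟨p, q, r, hp, hq, hr, hpq, hqr, hpr, hpG, hqG, hrG, n1, n2, n3⟩
      exact hcon ⟨p, q, r, hp, hq, hr, hpG, hqG, hrG, hpq, hqr, hpr, n1, n2, n3⟩)
    obtain ⟨H, _, _, hsol, hH⟩ := h3
    exact no_solvable hsol (h2 H hH)

end Cfsg.Agent.S3527
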