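-- S3530 (helper389 and the team): see Cfsg/Agent/H389/R/Final.lean and tools/plans/S3530.md
import Cfsg.Statements.S3530
import Cfsg.Agent.H389.R.Final

set_option autoImplicit false
open Cfsg

namespace Cfsg.Agent.S3530

/-- Let R be the small Ree group over the field with q = 3^(2m+1) ≥ 27 elements. A finite group with the same set of element orders as R × R is isomorphic to R × R. -/
theorem result {K : Type*} [Field K] [Fintype K] {m : ℕ} (hm : 1 ≤ m) (hK : Fintype.card K = 3 ^ (2 * m + 1))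
    {G : Type*} [Group G] [Finite G]
    (h : Set.range (orderOf : G → ℕ) = Set.range (orderOf : ↥(Cfsg.Lie.twistedG2 K (3 ^ m)) × ↥(Cfsg.Lie.twistedG2 K (3 ^ m)) → ℕ)) :
    Nonempty (G ≃* ↥(Cfsg.Lie.twistedG2 K (3 ^ m)) × ↥(Cfsg.Lie.twistedG2 K (3 ^ m))) := by
  exact Cfsg.Agent.H389.RSq.main m hm hK h

end Cfsg.Agent.S3530
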