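import Cfsg.Statements.S3531
import Cfsg.Agent.S0205
import Cfsg.Agent.H478.WalterAll
import Cfsg.Agent.H389.Two

set_option autoImplicit false
open Cfsg

namespace Cfsg.Agent.S3531

universe u

theorem three : Cfsg.Agent.H389.JSq.Three.{u} := by
  intro K _ _ hs hc hcl
  refine Cfsg.Agent.H389.JSq.three_of hcl (Cfsg.Agent.H478.WalterAll.iso_of_exponent hc ?_)
  intro x hx
  have h := hcl x
  rw [hx] at h
  revert h
  decide +kernel

/-- Let J be the first Janko group. A finite group with the same set of element orders as J × J is isomorphic to J × J. -/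
theorem result {G : Type*} [Group G] [Finite G]
    (h : Set.range (orderOf : G → ℕ) = Set.range (orderOf : ↥Cfsg.Spor.J1 × ↥Cfsg.Spor.J1 → ℕ)) :
    Nonempty (G ≃* ↥Cfsg.Spor.J1 × ↥Cfsg.Spor.J1) :=
  Cfsg.Agent.H389.JSq.recognition (fun _ _ _ hY => Cfsg.Agent.S0205.result hY) three
    (Cfsg.Agent.H389.JSq.full_of_spec h)

end Cfsg.Agent.S3531
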