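import Cfsg.Statements.S3814
import Cfsg.Agent.H456.FourH

set_option autoImplicit false
open Cfsg

namespace Cfsg.Agent.S3814

open Cfsg.Agent.H456 in
/-- A criterion for nonsolvability from element orders: let G be a finite group and σ a set of at least four primes such that for all distinct p, q ∈ σ the product pq is the order of some element of G, while for all pairwise distinct p, q, r ∈ σ no element of G has order pqr. Then G is not solvable. -/
theorem result {G : Type*} [Group G] [Finite G]
    (σ : Finset ℕ) (hσ : 4 ≤ σ.card) (hprime : ∀ p ∈ σ, p.Prime)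
    (h2 : ∀ p ∈ σ, ∀ q ∈ σ, p ≠ q → ∃ g : G, orderOf g = p * q)
    (h3 : ∀ p ∈ σ, ∀ q ∈ σ, ∀ r ∈ σ, p ≠ q → q ≠ r → p ≠ r → ∀ g : G, orderOf g ≠ p * q * r) :
    ¬ Group.IsSolvable G := by
  intro hsolv
  obtain ⟨P, hPσ, hP4⟩ := Finset.exists_subset_card_eq hσ
  obtain ⟨L, hL, hLc⟩ := exists_hall (G := G) (fun t => t ∈ P)
  have hC : CfgG L P := by
    refine
      { hP := fun t ht => hprime t (hPσ ht)
        hP4 := hP4
        solv := inferInstance
        hG := hL
        T3 := ?_
        joined := ?_ }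
    · intro t ht u hu w hw htu htw huw a b c ha1 hb1 hc1 hat hbu hcw hab hac hbc
      apply h3 t (hPσ ht) u (hPσ hu) w (hPσ hw) htu huw htw ((a * b * c : L) : G)
      rw [Subgroup.orderOf_coe]
      exact orderOf_triple (hprime t (hPσ ht)) (hprime u (hPσ hu)) (hprime w (hPσ hw)) htu htw
        huw ha1 hb1 hc1 hat hbu hcw hab hac hbc
    · intro t ht u hu htu
      apply joined_hall hLc (hprime t (hPσ ht)) ht (hprime u (hPσ hu)) hu htu
      obtain ⟨g, hg⟩ := h2 t (hPσ ht) u (hPσ hu) htu
      exact exists_pair_of_orderOf (hprime t (hPσ ht)) (hprime u (hPσ hu)) hg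
  exact hC.false

end Cfsg.Agent.S3814
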