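import Cfsg.Statements.S3533
import Cfsg.Agent.H381.SzFinal
import Cfsg.Agent.S3814

set_option autoImplicit false
open Cfsg

namespace Cfsg.Agent.S3533

open Cfsg.Agent.H381.SzSpec Cfsg.Agent.H381.SzComp Cfsg.Agent.H381.SzRed in
/-- a group with the element orders of `Sz(q) × Sz(q)` is not solvable -/
theorem not_solvable {F : Type*} [Field F] [Fintype F] {m : ℕ} (hm : 1 ≤ m)
    (hF : Fintype.card F = 2 ^ (2 * m + 1)) {G : Type*} [Group G] [Finite G] (hG : OrdLe F m G)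
    (hG' : ∀ x : LS F m × LS F m, ∃ g : G, orderOf g = orderOf x) : ¬ Group.IsSolvable G := by
  classical
  have hp : ∀ i : Fin 4, ∃ p : ℕ, p.Prime ∧ p ∣ N m i := fun i =>
    Nat.exists_prime_and_dvd (N_ne_one hm i)
  choose P hP hPN using hp
  have hty : ∀ i : Fin 4, ty m (P i) = i := fun i => ty_N hm i.2 (hP i) (hPN i)
  have hinj : Function.Injective P := by
    intro i j hij
    apply Fin.ext
    rw [← hty i, ← hty j, hij]
  have hel : ∀ i : Fin 4, ∃ g : LS F m, orderOf g = P i := by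
    intro i
    obtain ⟨g, hg⟩ := exists_N (F := F) hm hF i
    exact ⟨_, orderOf_pow_orderOf_div (orderOf_pos g).ne' (by rw [hg]; exact hPN i)⟩
  refine Cfsg.Agent.S3814.result (G := G) (Finset.univ.image P) ?_ ?_ ?_ ?_
  · rw [Finset.card_image_of_injective _ hinj]; simp
  · intro p hp
    obtain ⟨i, -, rfl⟩ := Finset.mem_image.mp hp
    exact hP i
  · intro p hp r hr hpr
    obtain ⟨i, -, rfl⟩ := Finset.mem_image.mp hp
    obtain ⟨j, -, rfl⟩ := Finset.mem_image.mp hr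
    obtain ⟨g, hg⟩ := hel i
    obtain ⟨g', hg'⟩ := hel j
    obtain ⟨k, hk⟩ := hG' (g, g')
    refine ⟨k, ?_⟩
    rw [hk, Prod.orderOf_mk, hg, hg']
    exact ((Nat.coprime_primes (hP i) (hP j)).mpr hpr).lcm_eq_mul
  · intro p hp r hr s hs hpr hrs hps g hg
    obtain ⟨i, -, rfl⟩ := Finset.mem_image.mp hp
    obtain ⟨j, -, rfl⟩ := Finset.mem_image.mp hr
    obtain ⟨k, -, rfl⟩ := Finset.mem_image.mp hs
    have hne : ∀ a b : Fin 4, P a ≠ P b → ty m (P a) ≠ ty m (P b) := by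
      intro a b hab h
      rw [hty, hty] at h
      exact hab (by rw [Fin.ext h])
    rcases (hG.whyp hm hF).triple g (P i) (P j) (P k) (hP i) (hP j) (hP k)
      (by rw [hg, mul_assoc]; exact dvd_mul_right _ _)
      (by rw [hg]; exact (dvd_mul_left (P j) (P i)).mul_right (P k))
      (by rw [hg]; exact dvd_mul_left _ _) with h | h | h
    exacts [hne _ _ hpr h, hne _ _ hrs h, hne _ _ hps h]

/-- Let S be the Suzuki group over the field with q = 2^(2m+1) elements, where m ≥ 1 and m ≠ 2 (so q ≥ 8 and q ≠ 32). A finite group with the same set of element orders as S × S is isomorphic to S × S. -/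
theorem result {F : Type*} [Field F] [Fintype F] {m : ℕ} (hm : 1 ≤ m) (hm2 : m ≠ 2) (hF : Fintype.card F = 2 ^ (2 * m + 1))
    {G : Type*} [Group G] [Finite G]
    (h : Set.range (orderOf : G → ℕ) = Set.range (orderOf : ↥(Cfsg.Lie.Sz F (2 ^ (m + 1))) × ↥(Cfsg.Lie.Sz F (2 ^ (m + 1))) → ℕ)) :
    Nonempty (G ≃* ↥(Cfsg.Lie.Sz F (2 ^ (m + 1))) × ↥(Cfsg.Lie.Sz F (2 ^ (m + 1)))) := by
  have hG : Cfsg.Agent.H381.SzComp.OrdLe F m G := by
    intro g
    have h1 : orderOf g ∈ Set.range (orderOf : G → ℕ) := ⟨g, rfl⟩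
    rw [h] at h1
    obtain ⟨x, hx⟩ := h1
    exact ⟨x, hx.symm⟩
  have hG' : ∀ x : Cfsg.Agent.H381.SzSpec.LS F m × Cfsg.Agent.H381.SzSpec.LS F m, ∃ g : G,
      orderOf g = orderOf x := by
    intro x
    have h1 : orderOf x ∈ Set.range (orderOf : ↥(Cfsg.Lie.Sz F (2 ^ (m + 1))) ×
        ↥(Cfsg.Lie.Sz F (2 ^ (m + 1))) → ℕ) := ⟨x, rfl⟩
    rw [← h] at h1
    exact h1
  exact Cfsg.Agent.H381.SzFinal.main hm hm2 hF hG hG' (not_solvable hm hF hG hG')

end Cfsg.Agent.S3533
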