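import Cfsg.Statements.S4941
import Cfsg.Agent.H495.Cod.Final
import Cfsg.Agent.S0000

set_option autoImplicit false
open Cfsg

namespace Cfsg.Agent.S4941

/-- The codegree of an irreducible complex character χ of a finite group G is [G : ker χ] / χ(1), where ker χ is the set of elements at which χ takes the value χ(1). Let n ≥ 5 and let G be a nontrivial finite group such that every codegree of an irreducible character of G is a codegree of an irreducible character of the alternating group of degree n. Then G is isomorphic to that alternating group. -/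
theorem result (n : ℕ) (hn : 5 ≤ n) {G : Type*} [Group G] [Finite G] [Nontrivial G]
    (h : ∀ χ : Cfsg.IrrCharacter G, ∃ ψ : Cfsg.IrrCharacter ↥(alternatingGroup (Fin n)),
      (Nat.card G / (Nat.card {g : G // (χ : G → ℂ) g = (χ : G → ℂ) 1} * Cfsg.charDegree (χ : G → ℂ))) = (Nat.card ↥(alternatingGroup (Fin n)) / (Nat.card {g : ↥(alternatingGroup (Fin n)) // (ψ : ↥(alternatingGroup (Fin n)) → ℂ) g = (ψ : ↥(alternatingGroup (Fin n)) → ℂ) 1} * Cfsg.charDegree (ψ : ↥(alternatingGroup (Fin n)) → ℂ)))) :
    Nonempty (G ≃* ↥(alternatingGroup (Fin n))) :=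
  Cfsg.Agent.H495.Cod.main hn (fun _ _ _ _ => Cfsg.Agent.S0000.result) (Cfsg.Agent.H495.Cod.CodOK.of_hyp hn h)

end Cfsg.Agent.S4941
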