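import Cfsg.Statements.S3538
import Cfsg.Agent.H78.CodM
import Cfsg.Agent.S0256
import Cfsg.Agent.OrdDiv.Table
import Cfsg.Agent.S0000
import Cfsg.Agent.S4941
import Cfsg.Agent.H34.SporJ2
import Cfsg.Agent.H446.SmallCross
import Cfsg.Agent.H446.AltNum

set_option autoImplicit false
open Cfsg

namespace Cfsg.Agent.S3538

open Cfsg.Agent.H677.CodMultiset Cfsg.Agent.H78 Cfsg.Agent.H902

universe u v w

theorem exists_j2 {S : Type u} [Group S] [Finite S] (h : Spor.IsoJ2 S) :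
    ∃ χ : IrrCharacter S, 20 ≤ charDegree (χ : S → ℂ) := by
  obtain ⟨e⟩ := h
  have : Finite Spor.J2 := Finite.of_equiv _ e.toEquiv
  obtain ⟨χ, hχ⟩ := H34.SporJ2.exists_63
  refine ⟨⟨(χ : Spor.J2 → ℂ) ∘ e.toMonoidHom, Characters.Core.isIrr_comp e.toMonoidHom e.surjective χ.2⟩, ?_⟩
  have h2 : charDegree ((χ : Spor.J2 → ℂ) ∘ e.toMonoidHom) = charDegree (χ : Spor.J2 → ℂ) := by
    unfold charDegree
    simp
  change 20 ≤ charDegree ((χ : Spor.J2 → ℂ) ∘ e.toMonoidHom)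
  rw [h2, hχ]
  norm_num

/-- For an irreducible complex character χ of a finite group, the codegree of χ is the index of its kernel {g : χ(g) = χ(1)} divided by its degree χ(1). Let n ≥ 4, q a prime power and L = PSL(n,q). If a finite group G has the same set of codegrees as L, then G is isomorphic to L. -/
theorem result {F : Type*} [Field F] [Fintype F] {n : ℕ} (hn : 4 ≤ n)
    {G : Type*} [Group G] [Finite G]
    (h : {c : ℕ | ∃ χ : Cfsg.IrrCharacter G, (c : ℂ) * (χ : G → ℂ) 1 * (Nat.card {g : G // (χ : G → ℂ) g = (χ : G → ℂ) 1} : ℂ) = (Nat.card G : ℂ)} =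
      {c : ℕ | ∃ χ : Cfsg.IrrCharacter (Matrix.ProjectiveSpecialLinearGroup (Fin n) F), (c : ℂ) * (χ : (Matrix.ProjectiveSpecialLinearGroup (Fin n) F) → ℂ) 1 * (Nat.card {g : (Matrix.ProjectiveSpecialLinearGroup (Fin n) F) // (χ : (Matrix.ProjectiveSpecialLinearGroup (Fin n) F) → ℂ) g = (χ : (Matrix.ProjectiveSpecialLinearGroup (Fin n) F) → ℂ) 1} : ℂ) = (Nat.card (Matrix.ProjectiveSpecialLinearGroup (Fin n) F) : ℂ)}) :
    Nonempty (G ≃* Matrix.ProjectiveSpecialLinearGroup (Fin n) F) := by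
  have hfin : Finite (Matrix.ProjectiveSpecialLinearGroup (Fin n) F) :=
    Finite.of_surjective _ (QuotientGroup.mk'_surjective _)
  have h1 : ∀ χ : IrrCharacter G, ∃ ψ : IrrCharacter (Matrix.ProjectiveSpecialLinearGroup (Fin n) F),
      cod χ = cod ψ := by
    intro χ
    have h3 : cod χ ∈ {c : ℕ | ∃ χ : Cfsg.IrrCharacter G, (c : ℂ) * (χ : G → ℂ) 1 *
        (Nat.card {g : G // (χ : G → ℂ) g = (χ : G → ℂ) 1} : ℂ) = (Nat.card G : ℂ)} :=
      ⟨χ, (CodM.cod_iff χ _).2 rfl⟩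
    rw [h] at h3
    obtain ⟨ψ, hψ⟩ := h3
    exact ⟨ψ, ((CodM.cod_iff ψ _).1 hψ).symm⟩
  have h2 : ∀ ψ : IrrCharacter (Matrix.ProjectiveSpecialLinearGroup (Fin n) F), ∃ χ : IrrCharacter G,
      cod χ = cod ψ := by
    intro ψ
    have h3 : cod ψ ∈ {c : ℕ | ∃ χ : Cfsg.IrrCharacter (Matrix.ProjectiveSpecialLinearGroup (Fin n) F),
        (c : ℂ) * (χ : (Matrix.ProjectiveSpecialLinearGroup (Fin n) F) → ℂ) 1 *
        (Nat.card {g : (Matrix.ProjectiveSpecialLinearGroup (Fin n) F) // (χ : (Matrix.ProjectiveSpecialLinearGroup (Fin n) F) → ℂ) g = (χ : (Matrix.ProjectiveSpecialLinearGroup (Fin n) F) → ℂ) 1} : ℂ) =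
        (Nat.card (Matrix.ProjectiveSpecialLinearGroup (Fin n) F) : ℂ)} :=
      ⟨ψ, (CodM.cod_iff ψ _).2 rfl⟩
    rw [← h] at h3
    obtain ⟨χ, hχ⟩ := h3
    exact ⟨χ, (CodM.cod_iff χ _).1 hχ⟩
  by_cases h42 : n = 4 ∧ Fintype.card F = 2
  · obtain ⟨rfl, hF⟩ := h42
    obtain ⟨e⟩ := S0256.result hF
    have hnt : Nontrivial G := CodM.nontrivial_of_cod (by omega) h2
    obtain ⟨e'⟩ := S4941.result 8 (by norm_num) (G := G) (CodM.Sub.right h1 e.symm)
    exact ⟨e'.trans e.symm⟩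
  · exact CodM.main (fun hn h h43 hr hrp => H446.SmallCross.small_cross hn h h43 hr hrp)
      (fun hn h hm hM hk hpm => H446.AltNum.alt_num hn h hm hM hk hpm) hn h42
      (fun N _ _ hna => Names.exists_nam OrdDiv.table S0000.result hna)
      (fun N _ _ hJ => exists_j2 hJ) h1 h2

end Cfsg.Agent.S3538
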