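import Cfsg.Statements.S3539
import Cfsg.Agent.H66.Cod.Fin
import Cfsg.Agent.S0000

set_option autoImplicit false
open Cfsg

namespace Cfsg.Agent.S3539

/-- For an irreducible complex character χ of a finite group, the codegree of χ is the index of its kernel {g : χ(g) = χ(1)} divided by its degree χ(1). Let L be the Chevalley group of type F₄, E₆, E₇ or E₈ over a finite field. If a finite group G has the same set of codegrees as L, then G is isomorphic to L. -/
theorem result {F : Type*} [Field F] [Fintype F] (D : Cfsg.Lie.ChevalleyDatum)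
    (hD : D ∈ [Cfsg.Lie.chevF4, Cfsg.Lie.chevE6, Cfsg.Lie.chevE7, Cfsg.Lie.chevE8])
    {G : Type*} [Group G] [Finite G]
    (h : {c : ℕ | ∃ χ : Cfsg.IrrCharacter G, (c : ℂ) * (χ : G → ℂ) 1 * (Nat.card {g : G // (χ : G → ℂ) g = (χ : G → ℂ) 1} : ℂ) = (Nat.card G : ℂ)} =
      {c : ℕ | ∃ χ : Cfsg.IrrCharacter ↥(D.group F), (c : ℂ) * (χ : ↥(D.group F) → ℂ) 1 * (Nat.card {g : ↥(D.group F) // (χ : ↥(D.group F) → ℂ) g = (χ : ↥(D.group F) → ℂ) 1} : ℂ) = (Nat.card ↥(D.group F) : ℂ)}) :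
    Nonempty (G ≃* ↥(D.group F)) :=
  Cfsg.Agent.H66.Cod.fin hD (fun _ _ _ _ => Cfsg.Agent.S0000.result) h

end Cfsg.Agent.S3539
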