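import Cfsg.Statements.S3540
import Cfsg.Agent.S3695
import Cfsg.Agent.S0205
import Cfsg.Agent.H960.HT.Glue
import Cfsg.Agent.H337.HT.Row
import Cfsg.Agent.H662.HT.Row
import Cfsg.Agent.H312.HT.Row

set_option autoImplicit false
open Cfsg

namespace Cfsg.Agent.S3540

/-- Let p be a prime, V a non-trivial finite vector space over the field with p elements, and G a finite insoluble group of order prime to p acting faithfully and linearly on V in such a way that all G-orbits on the non-zero vectors of V have the same size. Then either only the identity of G fixes a non-zero vector (G is semiregular on the non-zero vectors), or G has a normal subgroup isomorphic to SL(2,5) and either V has dimension 2 and p is 11, 19 or 29, or V has dimension 4 and p = 13. -/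
theorem result (p : ℕ) [Fact p.Prime] {V : Type*} [AddCommGroup V] [Module (ZMod p) V] [Finite V] [Nontrivial V]
    {G : Type*} [Group G] [Finite G] (hsol : ¬ Group.IsSolvable G) (hcop : ¬ p ∣ Nat.card G)
    (ρ : G →* (V ≃ₗ[ZMod p] V)) (hρ : Function.Injective ρ)
    (hhalf : ∀ v w : V, v ≠ 0 → w ≠ 0 →
      Nat.card {u : V | ∃ g : G, ρ g v = u} = Nat.card {u : V | ∃ g : G, ρ g w = u}) :
    (∀ v : V, v ≠ 0 → ∀ g : G, ρ g v = v → g = 1) ∨
    ((∃ N : Subgroup G, N.Normal ∧ Nonempty (↥N ≃* Matrix.SpecialLinearGroup (Fin 2) (ZMod 5))) ∧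
      ((Module.finrank (ZMod p) V = 2 ∧ (p = 11 ∨ p = 19 ∨ p = 29)) ∨
        (Module.finrank (ZMod p) V = 4 ∧ p = 13))) := by
  have hFT : Cfsg.Agent.H960.HT.FT := fun Y _ _ h => Cfsg.Agent.S0205.result h
  exact Cfsg.Agent.H960.HT.final
    ⟨Cfsg.Agent.H960.HT.herHyp_of (fun q n hq hn h1 H => Cfsg.Agent.S3695.result q n hq hn h1 H) hFT,
      Cfsg.Agent.H337.HT.qsRow, Cfsg.Agent.H960.HT.compsRow, Cfsg.Agent.H662.HT.e1_row, Cfsg.Agent.H312.HT.sl5row⟩
    hFT p hsol hcop ρ hρ hhalf

end Cfsg.Agent.S3540
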