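import Cfsg.Statements.S3542
import Cfsg.Agent.S3387
import Cfsg.Agent.H392.KHalf

set_option autoImplicit false
open Cfsg

namespace Cfsg.Agent.S3542

/-- Let k ≥ 4 and let G act faithfully and k-transitively on a finite set with at least k + 1 points, in such a way that for every k distinct points the orbits of their pointwise stabilizer on the remaining points all have the same size. Then G is (k+1)-transitive, or G is sharply k-transitive (the pointwise stabilizer of any k distinct points is trivial). -/
theorem result {G Ω : Type*} [Group G] [Finite G] [MulAction G Ω] [FaithfulSMul G Ω] [Finite Ω]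
    (k : ℕ) (hk : 4 ≤ k) (hn : k + 1 ≤ Nat.card Ω) (htrans : MulAction.IsMultiplyPretransitive G Ω k)
    (hhalf : ∀ s : Fin k ↪ Ω, ∀ b c : Ω, b ∉ Set.range s → c ∉ Set.range s →
      Nat.card (MulAction.orbit (↥(⨅ i, MulAction.stabilizer G (s i))) b) = Nat.card (MulAction.orbit (↥(⨅ i, MulAction.stabilizer G (s i))) c)) :
    MulAction.IsMultiplyPretransitive G Ω (k + 1) ∨
    (∀ s : Fin k ↪ Ω, (⨅ i, MulAction.stabilizer G (s i)) = ⊥) := by
  classical
  have : Fintype Ω := Fintype.ofFinite Ω
  have h4n : 4 ≤ Fintype.card Ω := by rw [← Nat.card_eq_fintype_card]; omega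
  have h4 : MulAction.IsMultiplyPretransitive G Ω 4 :=
    MulAction.isMultiplyPretransitive_of_le (n := k) hk (by omega)
  have hlist := Cfsg.Agent.S3387.result h4n h4
  have hhalf' : ∀ s : Fin k ↪ Ω, ∀ b c : Ω, b ∉ Set.range s → c ∉ Set.range s →
      Nat.card (MulAction.orbit (MulAction.stabilizer G s) b) =
        Nat.card (MulAction.orbit (MulAction.stabilizer G s) c) := by
    intro s b c hb hc
    have := hhalf s b c hb hc
    rwa [Cfsg.Agent.H392.MultTrans.iInf_stab] at this
  rcases Cfsg.Agent.H392.KHalf.main k hk hn htrans hhalf' hlist with h | h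
  · exact Or.inl h
  · right
    intro s
    rw [Cfsg.Agent.H392.MultTrans.iInf_stab]
    exact h s

end Cfsg.Agent.S3542
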