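import Cfsg.Statements.S3551
import Cfsg.Agent.H394.SqFinal
import Cfsg.Agent.H396.SqAll

set_option autoImplicit false
open Cfsg

namespace Cfsg.Agent.S3551

/-- Let G act faithfully and transitively on a finite set whose size n is square-free, and suppose every element of G of prime order fixes a point (G is elusive). Then every minimal normal subgroup N of G is an elementary abelian r-group for some prime r, and every N-orbit has prime length dividing n. -/
theorem result {G Ω : Type*} [Group G] [Finite G] [MulAction G Ω] [FaithfulSMul G Ω] [Finite Ω]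
    (htrans : MulAction.IsPretransitive G Ω) (hsq : Squarefree (Nat.card Ω)) (helus : ∀ g : G, (orderOf g).Prime → ∃ ω : Ω, g • ω = ω)
    (N : Subgroup G) (hN : N.Normal) (hN1 : N ≠ ⊥) (hmin : ∀ M : Subgroup G, M.Normal → M ≤ N → M = ⊥ ∨ M = N) :
    (∃ r : ℕ, r.Prime ∧ Cfsg.IsElementaryAbelian r N) ∧
    ∀ ω : Ω, (Nat.card (MulAction.orbit N ω)).Prime ∧ Nat.card (MulAction.orbit N ω) ∣ Nat.card Ω := by
  obtain ⟨r, hr, hN', h⟩ := Cfsg.Agent.H394.SqFinal.of_SQ htrans hsq helus N hN hN1 hmin
    (fun S hS hna => Cfsg.Agent.H396.sq_all hna)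
  refine ⟨⟨r, hr, hN'⟩, fun ω => ?_⟩
  obtain ⟨h1, h2⟩ := h ω
  rw [h1]
  exact ⟨hr, h2⟩

end Cfsg.Agent.S3551
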