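import Cfsg.Statements.S3554

set_option autoImplicit false
open Cfsg

namespace Cfsg.Agent.S3554

/-- Let G act faithfully and transitively on a finite set and suppose G has a non-trivial cyclic normal subgroup. Then some element of G of prime order fixes no point. -/
theorem result {G Ω : Type*} [Group G] [Finite G] [MulAction G Ω] [FaithfulSMul G Ω] [Finite Ω]
    (htrans : MulAction.IsPretransitive G Ω) (C : Subgroup G) (hC : C.Normal) (hC1 : C ≠ ⊥) (hcyc : IsCyclic ↥C) :
    ∃ g : G, (orderOf g).Prime ∧ ∀ ω : Ω, g • ω ≠ ω := by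
  have hcard : Nat.card C ≠ 1 := fun h => hC1 (Subgroup.card_eq_one.mp h)
  obtain ⟨p, hp, hpd⟩ := Nat.exists_prime_and_dvd hcard
  have : Fact p.Prime := ⟨hp⟩
  obtain ⟨x, hx⟩ := exists_prime_orderOf_dvd_card' p hpd
  have hx' : orderOf (x : G) = p := by rw [Subgroup.orderOf_coe, hx]
  refine ⟨x, by rw [hx']; exact hp, fun ω hω => ?_⟩
  have hx1 : (x : G) ≠ 1 := by
    intro h
    rw [h, orderOf_one] at hx'
    exact hp.one_lt.ne hx'
  apply hx1
  apply FaithfulSMul.eq_of_smul_eq_smul (α := Ω)
  intro ω'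
  obtain ⟨g, rfl⟩ := htrans.exists_smul_eq ω ω'
  -- `g⁻¹ x g` lies in the cyclic group `C` and has order `p`
  let y : C := ⟨g⁻¹ * x * g, by
    have := hC.conj_mem x x.2 g⁻¹
    simpa using this⟩
  have hy : orderOf y = p := by
    rw [← Subgroup.orderOf_coe, ← hx']
    change orderOf (g⁻¹ * (x : G) * g) = orderOf (x : G)
    have h1 : orderOf (MulAut.conj g⁻¹ (x : G)) = orderOf (x : G) :=
      orderOf_injective (MulAut.conj g⁻¹).toMonoidHom (MulAut.conj g⁻¹).injective _
    rw [← h1, MulAut.conj_apply, inv_inv]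
  have hmem : y ∈ Subgroup.zpowers x := by
    classical
    have : Fintype C := Fintype.ofFinite C
    have h1 := IsCyclic.card_pow_eq_one_le (α := C) hp.pos
    have h2 : (Subgroup.zpowers x : Set C).toFinset ⊆ Finset.univ.filter (fun a : C => a ^ p = 1) := by
      intro a ha
      rw [Set.mem_toFinset] at ha
      obtain ⟨k, rfl⟩ := ha
      rw [Finset.mem_filter]
      refine ⟨Finset.mem_univ _, ?_⟩
      change (x ^ k) ^ p = 1
      rw [← zpow_natCast, zpow_comm, zpow_natCast, ← hx, pow_orderOf_eq_one, one_zpow]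
    have h3 : ((Subgroup.zpowers x : Set C).toFinset).card = p := by
      rw [Set.toFinset_card, ← Nat.card_eq_fintype_card]
      change Nat.card (Subgroup.zpowers x) = p
      rw [Nat.card_zpowers, hx]
    have h4 := Finset.eq_of_subset_of_card_le h2 (by rw [h3]; exact h1)
    have h5 : y ∈ Finset.univ.filter (fun a : C => a ^ p = 1) := by
      rw [Finset.mem_filter]
      exact ⟨Finset.mem_univ _, by rw [← hy, pow_orderOf_eq_one]⟩
    rw [← h4, Set.mem_toFinset] at h5
    exact h5
  obtain ⟨k, hk⟩ := hmem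
  have hk' : (x : G) ^ k = g⁻¹ * x * g := by
    have := congrArg (Subtype.val) hk
    simpa using this
  have hfix : (g⁻¹ * x * g) • ω = ω := by
    rw [← hk']
    have : (x : G) ∈ MulAction.stabilizer G ω := hω
    exact (MulAction.stabilizer G ω).zpow_mem this k
  rw [one_smul]
  calc (x : G) • g • ω = g • (g⁻¹ * x * g) • ω := by
        rw [smul_smul, smul_smul]; congr 1; group
    _ = g • ω := by rw [hfix]

end Cfsg.Agent.S3554
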