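import Cfsg.Statements.S3555
import Cfsg.Agent.Solvable.FrobeniusTheorem
import Cfsg.Agent.H395.DerangeCount

set_option autoImplicit false
open Cfsg

namespace Cfsg.Agent.S3555

open MulAction Subgroup
open scoped Pointwise

/-- Let G act faithfully and transitively on a finite set and suppose every element of G fixing no point is an involution. Then either G is an elementary abelian 2-group, or G is a Frobenius group whose Frobenius kernel is an elementary abelian 2-group: G has a Frobenius complement H, and the elements lying in no conjugate of H, together with the identity, pairwise commute and square to the identity. -/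
theorem result {G Ω : Type*} [Group G] [Finite G] [MulAction G Ω] [FaithfulSMul G Ω] [Finite Ω]
    (htrans : MulAction.IsPretransitive G Ω) (hinv : ∀ g : G, (∀ ω : Ω, g • ω ≠ ω) → orderOf g = 2) :
    (IsMulCommutative G ∧ ∀ g : G, g ^ 2 = 1) ∨
    (∃ H : Subgroup G, Cfsg.IsFrobeniusComplement H ∧
      (∀ x ∈ Cfsg.frobeniusKernel H, x ^ 2 = 1) ∧
      ∀ x ∈ Cfsg.frobeniusKernel H, ∀ y ∈ Cfsg.frobeniusKernel H, x * y = y * x) := by
  classical
  have hne : Nonempty Ω := by
    by_contra h
    have h1 := hinv 1 (fun ω => absurd ⟨ω⟩ h)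
    rw [orderOf_one] at h1
    omega
  obtain ⟨ω₀⟩ := hne
  have hone : ∀ {g : G}, g ≠ 1 → ∀ {a b : Ω}, g • a = a → g • b = b → a = b :=
    fun hg _ _ ha hb => H395.DerangeCount.fixes_at_most_one htrans hinv hg ha hb
  have hsq : ∀ g : G, (∀ ω : Ω, g • ω ≠ ω) → g ^ 2 = 1 := by
    intro g hg
    rw [← hinv g hg, pow_orderOf_eq_one]
  by_cases hH : stabilizer G ω₀ = ⊥
  · left
    have hall : ∀ g : G, g ^ 2 = 1 := by
      intro g
      by_cases hg : g = 1
      · rw [hg, one_pow]
      · apply hsq
        intro ω hω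
        obtain ⟨k, rfl⟩ := htrans.exists_smul_eq ω₀ ω
        have h1 : k⁻¹ * g * k ∈ stabilizer G ω₀ := by
          rw [mem_stabilizer_iff, mul_smul, mul_smul, hω, inv_smul_smul]
        rw [hH, mem_bot] at h1
        apply hg
        have h2 := congrArg (fun x => k * x * k⁻¹) h1
        simpa [mul_assoc] using h2
    refine ⟨⟨⟨fun x y => ?_⟩⟩, hall⟩
    have hx := hall x
    have hy := hall y
    have hxy := hall (x * y)
    rw [sq] at hx hy hxy
    have h1 : x⁻¹ = x := inv_eq_of_mul_eq_one_left hx
    have h2 : y⁻¹ = y := inv_eq_of_mul_eq_one_left hy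
    have h3 : (x * y)⁻¹ = x * y := inv_eq_of_mul_eq_one_left hxy
    rw [mul_inv_rev, h1, h2] at h3
    exact h3.symm
  · right
    have hcomp : Cfsg.IsFrobeniusComplement (stabilizer G ω₀) := by
      refine ⟨hH, ?_, fun g hg => ?_⟩
      · intro htop
        apply hH
        rw [eq_bot_iff]
        intro x _
        rw [mem_bot]
        refine FaithfulSMul.eq_of_smul_eq_smul (α := Ω) fun ω => ?_
        obtain ⟨k, rfl⟩ := htrans.exists_smul_eq ω₀ ω
        have h1 : k ∈ stabilizer G ω₀ := by rw [htop]; exact mem_top k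
        have h2 : x ∈ stabilizer G ω₀ := by rw [htop]; exact mem_top x
        rw [mem_stabilizer_iff] at h1 h2
        rw [h1, h2, one_smul]
      · rw [eq_bot_iff]
        rintro x ⟨hx1, hx2⟩
        rw [mem_bot]
        by_contra hx
        obtain ⟨y, hy, hyx⟩ := hx2
        change g * y * g⁻¹ = x at hyx
        have h1 : x • ω₀ = ω₀ := hx1
        have hy' : y • ω₀ = ω₀ := hy
        have h2 : x • (g • ω₀) = g • ω₀ := by
          rw [← hyx, smul_smul, inv_mul_cancel_right, mul_smul, hy']
        apply hg
        rw [mem_stabilizer_iff]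
        exact (hone hx h1 h2).symm
    have hker : ∀ x ∈ Cfsg.frobeniusKernel (stabilizer G ω₀), x ^ 2 = 1 := by
      intro x hx
      rcases hx with rfl | hx
      · rw [one_pow]
      · apply hsq
        intro ω hω
        obtain ⟨k, rfl⟩ := htrans.exists_smul_eq ω₀ ω
        apply hx k
        refine ⟨k⁻¹ * x * k, ?_, ?_⟩
        · change k⁻¹ * x * k ∈ stabilizer G ω₀
          rw [mem_stabilizer_iff, mul_smul, mul_smul, hω, inv_smul_smul]
        · change k * (k⁻¹ * x * k) * k⁻¹ = x
          group
    refine ⟨stabilizer G ω₀, hcomp, hker, fun x hx y hy => ?_⟩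
    obtain ⟨N, hN, -, -⟩ := Cfsg.Agent.Solvable.FrobeniusTheorem.frobenius hcomp
    have hx' : x ∈ N := by rw [← SetLike.mem_coe, hN]; exact hx
    have hy' : y ∈ N := by rw [← SetLike.mem_coe, hN]; exact hy
    have hxy' : x * y ∈ Cfsg.frobeniusKernel (stabilizer G ω₀) := by
      rw [← hN]; exact N.mul_mem hx' hy'
    have h1 := hker x hx
    have h2 := hker y hy
    have h3 := hker _ hxy'
    rw [sq] at h1 h2 h3
    have h4 : x⁻¹ = x := inv_eq_of_mul_eq_one_left h1
    have h5 : y⁻¹ = y := inv_eq_of_mul_eq_one_left h2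
    have h6 : (x * y)⁻¹ = x * y := inv_eq_of_mul_eq_one_left h3
    rw [mul_inv_rev, h4, h5] at h6
    exact h6.symm

end Cfsg.Agent.S3555
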