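import Cfsg.Statements.S3556
import Cfsg.Agent.H395.PrimNonab

set_option autoImplicit false
open Cfsg

namespace Cfsg.Agent.S3556

open MulAction Subgroup

/-- Let G act faithfully and primitively on a finite set with at least two points, and suppose that for some fixed prime p every element of G fixing no point has order a power of p. Then G is of affine type (it has a regular normal subgroup that is an elementary abelian r-group for some prime r) or almost simple (it has a non-abelian simple normal subgroup with trivial centralizer). -/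
theorem result {G Ω : Type*} [Group G] [Finite G] [MulAction G Ω] [FaithfulSMul G Ω] [Finite Ω]
    (hprim : MulAction.IsPreprimitive G Ω) (hΩ : 2 ≤ Nat.card Ω) (p : ℕ) (hp : p.Prime)
    (hder : ∀ g : G, (∀ ω : Ω, g • ω ≠ ω) → ∃ k : ℕ, orderOf g = p ^ k) :
    (∃ (N : Subgroup G) (r : ℕ), r.Prime ∧ N.Normal ∧ Cfsg.IsElementaryAbelian r N ∧
      MulAction.IsPretransitive N Ω ∧ ∀ a : Ω, MulAction.stabilizer N a = ⊥) ∨
    (∃ T : Subgroup G, T.Normal ∧ IsSimpleGroup ↥T ∧ ¬ IsMulCommutative ↥T ∧
      Subgroup.centralizer (T : Set G) = ⊥) := by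
  classical
  -- a minimal normal subgroup
  obtain ⟨d, hd⟩ := H395.Jordan.exists_derangement (G := G) (X := Ω) inferInstance hΩ
  have hne : Nonempty Ω := by
    rw [← not_isEmpty_iff]
    intro h
    rw [Nat.card_of_isEmpty] at hΩ
    omega
  have htop : (⊤ : Subgroup G) ≠ ⊥ := by
    intro h
    have h1 : d ∈ (⊥ : Subgroup G) := by rw [← h]; exact mem_top d
    rw [mem_bot] at h1
    obtain ⟨ω⟩ := hne
    exact hd ω (by rw [h1, one_smul])
  obtain ⟨N, -, hN0, hNn, hNmin⟩ := Lib.MinNormal.exists_minimal_normal_le (⊤ : Subgroup G) htop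
  have hNn' : N.Normal := by
    rw [← normalizer_eq_top_iff, eq_top_iff]
    exact hNn
  have hmin : ∀ M : Subgroup G, M.Normal → M ≤ N → M = ⊥ ∨ M = N := by
    intro M hM hMN
    refine hNmin M hMN ?_
    rw [normalizer_eq_top_iff.mpr hM]
  by_cases hab : ∀ x ∈ N, ∀ y ∈ N, Commute x y
  · left
    obtain ⟨r, hr, -, hrN⟩ := Lib.MinNormalNonabelian.abelian_structure N hN0 hmin hab
    have htransN : IsPretransitive N Ω := by
      obtain ⟨n, hn⟩ := Subgroup.ne_bot_iff_exists_ne_one.mp hN0
      have : ∃ ω : Ω, (n : G) • ω ≠ ω := by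
        by_contra hcon
        push Not at hcon
        apply hn
        apply Subtype.ext
        exact FaithfulSMul.eq_of_smul_eq_smul (α := Ω) fun ω => by
          rw [hcon ω, OneMemClass.coe_one, one_smul]
      obtain ⟨ω, hω⟩ := this
      exact PermutationGroups.JordanNormal.normal_transitive_of_primitive hprim _ ⟨n, n.2, ω, hω⟩
    refine ⟨N, r, hr, hNn', ⟨⟨⟨fun x y => Subtype.ext (hab x x.2 y y.2).eq⟩⟩, hrN⟩, htransN,
      fun a => ?_⟩
    rw [eq_bot_iff]
    intro n hn
    rw [mem_bot]
    apply Subtype.ext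
    refine FaithfulSMul.eq_of_smul_eq_smul (α := Ω) fun ω => ?_
    obtain ⟨c, rfl⟩ := htransN.exists_smul_eq a ω
    rw [OneMemClass.coe_one, one_smul]
    change (n : G) • (c : G) • a = (c : G) • a
    have hn' : (n : G) • a = a := hn
    rw [smul_smul, (hab n n.2 c c.2).eq, mul_smul, hn']
  · right
    exact ⟨N, hNn', H395.PrimNonab.nonabelian_minimal hprim p hp hder N hmin hab⟩

end Cfsg.Agent.S3556
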