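import Cfsg.Statements.S3558
import Cfsg.Agent.H396.SqAll
import Cfsg.Agent.H396.ElFinal

set_option autoImplicit false
open Cfsg

namespace Cfsg.Agent.S3558

/-- Let G act faithfully and transitively on a finite set with p·q·r points, where p > q > r are primes, in such a way that every element of prime order fixes a point, and let N be a minimal normal subgroup of G. Then N is an elementary abelian p-group, every N-orbit has length p, and p − 1 = q·t for an even number t with r > t. -/
theorem result {G Ω : Type*} [Group G] [Finite G] [MulAction G Ω] [FaithfulSMul G Ω] [Finite Ω]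
    (htrans : MulAction.IsPretransitive G Ω) (p q r : ℕ) (hp : p.Prime) (hq : q.Prime) (hr : r.Prime)
    (hpq : q < p) (hqr : r < q) (hcard : Nat.card Ω = p * q * r) (helus : ∀ g : G, (orderOf g).Prime → ∃ ω : Ω, g • ω = ω)
    (N : Subgroup G) (hN : N.Normal) (hN1 : N ≠ ⊥) (hmin : ∀ M : Subgroup G, M.Normal → M ≤ N → M = ⊥ ∨ M = N) :
    Cfsg.IsElementaryAbelian p N ∧ (∀ ω : Ω, Nat.card (MulAction.orbit N ω) = p) ∧
    ∃ t : ℕ, p - 1 = q * t ∧ Even t ∧ t < r := by
  exact Cfsg.Agent.H396.ElFinal.degree_pqr htrans p q r hp hq hr hpq hqr hcard helus N hN hN1 hmin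
    fun S hS hna => Cfsg.Agent.H396.sq_all hna

end Cfsg.Agent.S3558
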