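import Cfsg.Statements.S3564
import Cfsg.Agent.S0000
import Cfsg.Agent.H384.TwoTransMain
import Cfsg.Agent.H397.KHomMain

set_option autoImplicit false
open Cfsg

namespace Cfsg.Agent.S3564

/-- Call a permutation group G on a finite set (k−1,k)-homogeneous if for every (k−1)-subset I and every k-subset J some element of G carries I into J. Let the set have n points and 2 ≤ k with 2k ≤ n + 1, and suppose (n,k) is none of (5,3), (7,4), (9,5). If G is (k−1,k)-homogeneous then G is (k−1)-homogeneous (transitive on (k−1)-subsets). -/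
theorem result {G Ω : Type*} [Group G] [Finite G] [MulAction G Ω] [FaithfulSMul G Ω] [Fintype Ω] [DecidableEq Ω]
    (n k : ℕ) (hn : Fintype.card Ω = n) (hk : 2 ≤ k) (hk2 : 2 * k ≤ n + 1)
    (hexc : ¬ ((n = 5 ∧ k = 3) ∨ (n = 7 ∧ k = 4) ∨ (n = 9 ∧ k = 5)))
    (hhom : (∀ I J : Finset Ω, I.card = k - 1 → J.card = k → ∃ g : G, ∀ x ∈ I, g • x ∈ J)) :
    (∀ I J : Finset Ω, I.card = k - 1 → J.card = k - 1 → ∃ g : G, ∀ x ∈ I, g • x ∈ J) := by
  exact Cfsg.Agent.H397.KHomMain.hom_main
    (fun T A => Cfsg.Agent.H384.TwoTransMain.main (fun _ _ _ _ => Cfsg.Agent.S0000.result) A) n k hn hk hk2 hexc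
    hhom

end Cfsg.Agent.S3564
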