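import Cfsg.Statements.S3562
import Cfsg.Agent.H447.KUtMain
import Cfsg.Agent.S3564
import Cfsg.Agent.S3387
-- import your own Cfsg.Agent.* helpers here

set_option autoImplicit false
open Cfsg

namespace Cfsg.Agent.S3562

/-- Say that a permutation group G on a finite set has the k-universal transversal property if for every k-subset I and every partition of the set into k parts (given as the fibres of a surjection onto a k-element set) some element of G carries I to a transversal of the partition. Let the set have n ≥ 11 points and let 6 ≤ k with 2k ≤ n + 1. Then G has the k-universal transversal property if and only if G contains every even permutation of the set. -/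
theorem result {G Ω : Type*} [Group G] [Finite G] [MulAction G Ω] [FaithfulSMul G Ω] [Fintype Ω] [DecidableEq Ω]
    (n k : ℕ) (hn : Fintype.card Ω = n) (h11 : 11 ≤ n) (hk : 6 ≤ k) (hk2 : 2 * k ≤ n + 1) :
    (∀ (I : Finset Ω) (f : Ω → Fin k), I.card = k → Function.Surjective f → ∃ g : G, Set.InjOn (fun x => f (g • x)) ↑I) ↔
      ∀ σ : Equiv.Perm Ω, σ ∈ alternatingGroup Ω → ∃ g : G, ∀ x : Ω, g • x = σ x := by
  constructor
  · intro hut σ hσ
    have h1 := H447.KUtMain.hom_of_kut (G := G) (Ω := Ω) (k := k) (by omega) (by omega) hut
    have h2 := Cfsg.Agent.S3564.result (G := G) (Ω := Ω) n k hn (by omega) hk2 (by omega) h1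
    have h3 : H447.MathieuUt.KUt (MulAction.toPermHom G Ω).range Ω k := by
      intro I f hI hf
      obtain ⟨g, hg⟩ := hut I f hI hf
      exact ⟨⟨MulAction.toPermHom G Ω g, g, rfl⟩, hg⟩
    have h4 : alternatingGroup Ω ≤ (MulAction.toPermHom G Ω).range := by
      apply H447.KUtMain.main _ hk (by omega) h3
      · intro I J hI hJ
        obtain ⟨g, hg⟩ := h2 I J hI hJ
        exact ⟨⟨MulAction.toPermHom G Ω g, g, rfl⟩, hg⟩
      · intro ht
        exact Cfsg.Agent.S3387.result (by omega) ht
    obtain ⟨g, hg⟩ := h4 hσ
    exact ⟨g, fun x => by rw [← hg]; rfl⟩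
  · intro h
    exact H447.KUtMain.kut_of_alt (by omega) h

end Cfsg.Agent.S3562
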