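import Cfsg.Statements.S3563
import Cfsg.Agent.S0000
import Cfsg.Agent.H384.TwoTransMain
import Cfsg.Agent.H397.KHomMain

set_option autoImplicit false
open Cfsg

namespace Cfsg.Agent.S3563

/-- Say that a permutation group G acting faithfully on a finite set has the k-universal transversal property if every k-subset can be carried by some element of G to a transversal of any partition of the set into k parts. If G acts on n ≥ 5 points and has the k-universal transversal property for some k with 2 ≤ k and 2k ≤ n + 1, then it has the (k−1)-universal transversal property. -/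
theorem result {G Ω : Type*} [Group G] [Finite G] [MulAction G Ω] [FaithfulSMul G Ω] [Fintype Ω] [DecidableEq Ω]
    (n k : ℕ) (hn : Fintype.card Ω = n) (h5 : 5 ≤ n) (hk : 2 ≤ k) (hk2 : 2 * k ≤ n + 1)
    (hut : (∀ (I : Finset Ω) (f : Ω → Fin k), I.card = k → Function.Surjective f → ∃ g : G, Set.InjOn (fun x => f (g • x)) ↑I)) :
    (∀ (I : Finset Ω) (f : Ω → Fin (k - 1)), I.card = (k - 1) → Function.Surjective f → ∃ g : G, Set.InjOn (fun x => f (g • x)) ↑I) := by
  exact Cfsg.Agent.H397.KHomMain.ut_main
    (fun T A => Cfsg.Agent.H384.TwoTransMain.main (fun _ _ _ _ => Cfsg.Agent.S0000.result) A) n k hn hk hk2 hut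

end Cfsg.Agent.S3563
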