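import Cfsg.Statements.S3565
import Cfsg.Agent.S0000
import Cfsg.Agent.H50.HerKnown
import Cfsg.Agent.H384.TwoTransMain
import Cfsg.Agent.H487.Gen.Final
import Cfsg.Agent.H487.Gen.Alt
import Cfsg.Agent.H891.Gen.Psl42
import Cfsg.Agent.H490.GenG2

set_option autoImplicit false
open Cfsg

namespace Cfsg.Agent.S3565

/-- Every finite 2-homogeneous permutation group (a group acting faithfully on a finite set and transitively on its 2-subsets) can be generated by two elements. -/
theorem result {G Ω : Type*} [Group G] [Finite G] [MulAction G Ω] [FaithfulSMul G Ω] [Fintype Ω] [DecidableEq Ω]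
    (h2 : (∀ I J : Finset Ω, I.card = 2 → J.card = 2 → ∃ g : G, ∀ x ∈ I, g • x ∈ J)) :
    ∃ x y : G, Subgroup.closure ({x, y} : Set G) = ⊤ :=
  Cfsg.Agent.H487.Gen.final Cfsg.Agent.H487.Gen.AltRow.alt_row Cfsg.Agent.H891.Gen.Psl42.row
    Cfsg.Agent.H490.G2.lin_g2 (Cfsg.Agent.H384.TwoTrans.rows fun _ _ _ _ => Cfsg.Agent.S0000.result)
    Cfsg.Agent.H50.Her.main (fun _ _ _ _ => Cfsg.Agent.S0000.result) h2

end Cfsg.Agent.S3565
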