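import Cfsg.Statements.S3567
import Cfsg.Agent.H399.ETwo

set_option autoImplicit false
open Cfsg

namespace Cfsg.Agent.S3567

/-- Let G act faithfully and primitively on a finite set and suppose the stabilizer of a point a has an orbit of length 4. Then the order of the stabilizer of a is one of 4, 8, 12, 16, 24, 32, 36, 72, 144. -/
theorem result {G Ω : Type*} [Group G] [Finite G] [MulAction G Ω] [FaithfulSMul G Ω] [Finite Ω]
    (hprim : MulAction.IsPreprimitive G Ω) (a b : Ω) (h4 : Nat.card (MulAction.orbit (MulAction.stabilizer G a) b) = 4) :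
    Nat.card ↥(MulAction.stabilizer G a) ∈ ({4, 8, 12, 16, 24, 32, 36, 72, 144} : Set ℕ) := by
  simp only [Set.mem_insert_iff, Set.mem_singleton_iff]
  have h := Cfsg.Agent.H399.pr_of_primitive hprim a b h4
  rcases h.list with ⟨-, h1⟩ | ⟨-, -, h1⟩ | ⟨-, -, -, h1⟩ <;> tauto

end Cfsg.Agent.S3567
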