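import Cfsg.Statements.S3569
import Cfsg.Agent.H398.FPR.Disp
import Cfsg.Agent.H409.FprExcAll
import Cfsg.Agent.H444.FprSporAll
import Cfsg.Agent.H400.FprE6Fin
import Cfsg.Agent.H435.Fpr.DFourRow
import Cfsg.Agent.S0000

set_option autoImplicit false
open Cfsg

namespace Cfsg.Agent.S3569

/-- Let G act faithfully and transitively on a finite set Ω, let p be a prime dividing the order of G, and suppose G is generated by its p-elements. Then some p-element x of G has fixed point ratio at most (p − 1)/(2p − 1): (2p − 1)·(number of fixed points of x) ≤ (p − 1)·(number of points). -/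
theorem result {G Ω : Type*} [Group G] [Finite G] [MulAction G Ω] [FaithfulSMul G Ω] [Finite Ω]
    (htrans : MulAction.IsPretransitive G Ω) (p : ℕ) [Fact p.Prime] (hpG : p ∣ Nat.card G) (hgen : Subgroup.closure {g : G | ∃ k : ℕ, orderOf g = p ^ k} = ⊤) :
    ∃ x : G, (∃ k : ℕ, orderOf x = p ^ k) ∧
      (2 * p - 1) * Nat.card (MulAction.fixedBy Ω x) ≤ (p - 1) * Nat.card Ω := by
  have hp : p.Prime := Fact.out
  have B : Cfsg.Agent.H940.Eng.Base := ⟨Cfsg.Agent.OrdDiv.table, fun _ _ _ _ => Cfsg.Agent.S0000.result⟩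
  have hTw : Cfsg.Agent.H409.Exc.TwRows (fun p => 2 * p - 1) (fun p => p - 1) :=
    ⟨fun K _ _ q hq hK p hp hc hd => by
      have := Fact.mk hp
      exact Cfsg.Agent.H435.Fpr.D4Row.row569 hq hK hc hd,
    fun K _ _ q hq hK p hp hc hd => by
      have := Fact.mk hp
      exact Cfsg.Agent.H400.Fpr.E6Row.row569 hq hK hc hd⟩
  have hrow : Cfsg.Agent.H409.FprRow (2 * p - 1) (p - 1) p G := by
    refine Cfsg.Agent.H409.row_of_simple ?_ (fun S _ _ h1 h2 h3 =>
      Cfsg.Agent.H398.FPR.rows_all (fun _ _ _ _ => Cfsg.Agent.S0000.result) hp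
        (fun T _ _ _ h hd => Cfsg.Agent.H409.Exc.exc69 B hTw h hp hd)
        (fun T _ _ _ h hd => Cfsg.Agent.H444.FprSporAll.sporTwoK B h hp hd) S h1 h2 h3) _ G rfl hgen
    have h2 := hp.two_le
    obtain ⟨k, rfl⟩ : ∃ k, p = k + 2 := ⟨p - 2, by omega⟩
    have e1 : 2 * (k + 2) - 1 = 2 * k + 3 := by omega
    have e2 : k + 2 - 1 = k + 1 := by omega
    rw [e1, e2]
    nlinarith
  have : Nontrivial Ω := by
    by_contra hcon
    rw [not_nontrivial_iff_subsingleton] at hcon
    have hG1 : Subsingleton G := by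
      constructor
      intro g g'
      apply FaithfulSMul.eq_of_smul_eq_smul (α := Ω)
      intro ω
      exact Subsingleton.elim _ _
    have h1 : Nat.card G = 1 := Nat.card_of_subsingleton 1
    rw [h1, Nat.dvd_one] at hpG
    exact hp.ne_one hpG
  exact hrow.action (Ω := Ω)

end Cfsg.Agent.S3569
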