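import Cfsg.Statements.S3576
import Cfsg.Agent.S0000
import Cfsg.Agent.H386.HalfTwo.Main
import Cfsg.Agent.H384.TwoTransMain
import Cfsg.Agent.H50.HerKnown

set_option autoImplicit false
open Cfsg

namespace Cfsg.Agent.S3576

/-- Let G act faithfully and doubly transitively on a finite set with n ≥ 3 points, in such a way that for every 2 distinct points the orbits of their pointwise stabilizer on the remaining points all have the same size. Then one of the following holds: G is 3-transitive; G is sharply 2-transitive; n = q + 1 for a prime power q ≥ 4 and G has a normal subgroup isomorphic to PSL(2, q); for some q = 2^(2m+1) with m ≥ 1, G is a simple group of order q²(q² + 1)(q − 1) (the order of the Suzuki group Sz(q)) and n = q² + 1; or n = 2^p for a prime p, G has order 2^p·(2^p − 1)·p and G has a regular normal elementary abelian 2-subgroup. -/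
theorem result {G Ω : Type*} [Group G] [Finite G] [MulAction G Ω] [FaithfulSMul G Ω] [Finite Ω]
    (hn : 3 ≤ Nat.card Ω) (htrans : MulAction.IsMultiplyPretransitive G Ω 2)
    (hhalf : ∀ s : Fin 2 ↪ Ω, ∀ b c : Ω, b ∉ Set.range s → c ∉ Set.range s →
      Nat.card (MulAction.orbit (↥(⨅ i, MulAction.stabilizer G (s i))) b) = Nat.card (MulAction.orbit (↥(⨅ i, MulAction.stabilizer G (s i))) c)) :
    MulAction.IsMultiplyPretransitive G Ω 3 ∨
    (∀ s : Fin 2 ↪ Ω, (⨅ i, MulAction.stabilizer G (s i)) = ⊥) ∨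
    (∃ (F : Type) (_ : Field F) (_ : Fintype F), 4 ≤ Fintype.card F ∧ Nat.card Ω = Fintype.card F + 1 ∧
      ∃ N : Subgroup G, N.Normal ∧ Nonempty (↥N ≃* Matrix.ProjectiveSpecialLinearGroup (Fin 2) F)) ∨
    (∃ m : ℕ, 1 ≤ m ∧ IsSimpleGroup G ∧
      Nat.card G = (2 ^ (2 * m + 1)) ^ 2 * ((2 ^ (2 * m + 1)) ^ 2 + 1) * (2 ^ (2 * m + 1) - 1) ∧
      Nat.card Ω = (2 ^ (2 * m + 1)) ^ 2 + 1) ∨
    (∃ p : ℕ, p.Prime ∧ Nat.card Ω = 2 ^ p ∧ Nat.card G = 2 ^ p * (2 ^ p - 1) * p ∧
      ∃ N : Subgroup G, N.Normal ∧ Cfsg.IsElementaryAbelian 2 N ∧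
        MulAction.IsPretransitive ↥N Ω ∧ ∀ a : Ω, MulAction.stabilizer ↥N a = ⊥) := by
  refine Cfsg.Agent.H386.HalfTwo.main hn htrans hhalf
    (fun T A => Cfsg.Agent.H384.TwoTransMain.main (fun X _ _ _ => Cfsg.Agent.S0000.result) A) ?_
  intro V _ _ _ _ X hX
  exact Cfsg.Agent.H50.Her.main 2 V X ⊥ hX bot_le (fun g _ a ha => by
    rw [Subgroup.mem_bot] at ha ⊢
    rw [ha]
    group) (fun a ha b hb => by
    rw [Subgroup.mem_bot] at ha hb
    rw [ha, hb])

end Cfsg.Agent.S3576
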