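import Cfsg.Statements.S3577
import Cfsg.Agent.H192.Ht.Fin
import Cfsg.Agent.H192.Ht.LeavesFin
import Cfsg.Agent.S3512
import Cfsg.Agent.S3540

set_option autoImplicit false
open Cfsg

namespace Cfsg.Agent.S3577

/-- Let p be a prime, V a non-trivial finite vector space over the field with p elements, and G a finite group acting faithfully and linearly on V in such a way that all G-orbits on the non-zero vectors have the same size. Then one of the following holds: G is transitive on the non-zero vectors; G normalizes a cyclic group of linear maps of order |V| − 1 (G lies in a one-dimensional semilinear group); only the identity of G fixes a non-zero vector; p is odd, |V| = q² for some q, and G has order 4(q − 1); G is soluble and |V| is one of 9, 25, 49, 121, 289, 81; or G has a normal subgroup isomorphic to SL(2,5) and |V| is one of 81, 121, 361, 841, 28561. -/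
theorem result (p : ℕ) [Fact p.Prime] {V : Type*} [AddCommGroup V] [Module (ZMod p) V] [Finite V] [Nontrivial V]
    {G : Type*} [Group G] [Finite G] (ρ : G →* (V ≃ₗ[ZMod p] V)) (hρ : Function.Injective ρ)
    (hhalf : ∀ v w : V, v ≠ 0 → w ≠ 0 →
      Nat.card {u : V | ∃ g : G, ρ g v = u} = Nat.card {u : V | ∃ g : G, ρ g w = u}) :
    (∀ v w : V, v ≠ 0 → w ≠ 0 → ∃ g : G, ρ g v = w) ∨
    (∃ S : Subgroup (V ≃ₗ[ZMod p] V), IsCyclic ↥S ∧ Nat.card ↥S = Nat.card V - 1 ∧ ∀ g : G, ∀ s ∈ S, ρ g * s * (ρ g)⁻¹ ∈ S) ∨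
    (∀ v : V, v ≠ 0 → ∀ g : G, ρ g v = v → g = 1) ∨
    (p ≠ 2 ∧ ∃ q : ℕ, Nat.card V = q ^ 2 ∧ Nat.card G = 4 * (q - 1)) ∨
    (Group.IsSolvable G ∧ Nat.card V ∈ ({9, 25, 49, 121, 289, 81} : Set ℕ)) ∨
    ((∃ N : Subgroup G, N.Normal ∧ Nonempty (↥N ≃* Matrix.SpecialLinearGroup (Fin 2) (ZMod 5))) ∧
      Nat.card V ∈ ({81, 121, 361, 841, 28561} : Set ℕ)) := by
  exact Cfsg.Agent.H192.Ht.main Cfsg.Agent.H192.Ht.leaves p ρ hρ hhalf
    (fun h1 => Cfsg.Agent.S3512.result p ρ hρ h1 hhalf)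
    (fun h1 h2 => Cfsg.Agent.S3540.result p h1 h2 ρ hρ hhalf)

end Cfsg.Agent.S3577
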