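import Cfsg.Statements.S3578
import Cfsg.Agent.H398.FPR.Fin78
import Cfsg.Agent.H444.FprSporFin
import Cfsg.Agent.S0000

set_option autoImplicit false
open Cfsg

namespace Cfsg.Agent.S3578

/-- Let G act faithfully and transitively on a finite set Ω, let p be a prime dividing the order of G, and suppose G is generated by its p-elements and has no factor group isomorphic to an alternating group of degree m with p + 1 < m < p² − p, nor, when p + 1 is a power of 2, to SL(2, p + 1). Then some p-element x of G satisfies (p + 1)·(number of fixed points of x) ≤ (number of points). -/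
theorem result {G Ω : Type*} [Group G] [Finite G] [MulAction G Ω] [FaithfulSMul G Ω] [Finite Ω]
    (htrans : MulAction.IsPretransitive G Ω) (p : ℕ) [Fact p.Prime] (hpG : p ∣ Nat.card G) (hgen : Subgroup.closure {g : G | ∃ k : ℕ, orderOf g = p ^ k} = ⊤)
    (hA : ∀ (N : Subgroup G) [N.Normal] (m : ℕ), p + 1 < m → m < p ^ 2 - p →
      ¬ Nonempty (G ⧸ N ≃* ↥(alternatingGroup (Fin m))))
    (hS : ∀ (N : Subgroup G) [N.Normal] (k : ℕ), p + 1 = 2 ^ k →
      ¬ Nonempty (G ⧸ N ≃* Matrix.SpecialLinearGroup (Fin 2) (GaloisField 2 k))) :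
    ∃ x : G, (∃ k : ℕ, orderOf x = p ^ k) ∧ (p + 1) * Nat.card (MulAction.fixedBy Ω x) ≤ Nat.card Ω := by
  have B : Cfsg.Agent.H940.Eng.Base := ⟨Cfsg.Agent.OrdDiv.table, fun _ _ _ _ => Cfsg.Agent.S0000.result⟩
  exact Cfsg.Agent.H398.FPR.fin78 B (fun _ _ _ _ => Cfsg.Agent.S0000.result)
    (fun S _ _ _ h p hp hd => Cfsg.Agent.H444.FprSporFin.spor B h hp hd) htrans hpG hgen hA hS

end Cfsg.Agent.S3578
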