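import Cfsg.Statements.S3579
import Cfsg.Agent.H396.SqAll
import Cfsg.Agent.H396.ElFinal

set_option autoImplicit false
open Cfsg

namespace Cfsg.Agent.S3579

/-- Let G act faithfully and transitively on a finite set with 2pq points, where p and q are distinct odd primes. Then G contains an element of prime order fixing no point (G is not elusive). -/
theorem result {G Ω : Type*} [Group G] [Finite G] [MulAction G Ω] [FaithfulSMul G Ω] [Finite Ω]
    (htrans : MulAction.IsPretransitive G Ω) (p q : ℕ) (hp : p.Prime) (hq : q.Prime) (hp2 : p ≠ 2) (hq2 : q ≠ 2)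
    (hpq : p ≠ q) (hcard : Nat.card Ω = 2 * p * q) :
    ∃ g : G, (orderOf g).Prime ∧ ∀ ω : Ω, g • ω ≠ ω := by
  exact Cfsg.Agent.H396.ElFinal.degree_two_pq htrans p q hp hq hp2 hq2 hpq hcard
    fun S hS hna => Cfsg.Agent.H396.sq_all hna

end Cfsg.Agent.S3579
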