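import Cfsg.Statements.S3581
import Cfsg.Agent.H992.TC.Inst

set_option autoImplicit false
open Cfsg

namespace Cfsg.Agent.S3581

/-- Thompson's conjecture on conjugacy class sizes for the Chevalley groups F₄(q) with q odd, E₆(q), and the twisted groups ²E₆(q): let L be one of these simple groups and G a finite group with trivial centre whose set of conjugacy class sizes equals that of L. Then G is isomorphic to L. -/
theorem result {L : Type*} [Group L] [Finite L]
    (hL : (∃ (F : Type) (_ : Field F) (_ : Fintype F), Odd (Fintype.card F) ∧ Nonempty (L ≃* Cfsg.Lie.chevF4.group F)) ∨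
      Cfsg.Lie.IsoChevE6 L ∨ Cfsg.Lie.Iso2E6 L)
    {G : Type*} [Group G] [Finite G] (hZ : Subgroup.center G = ⊥)
    (h : Set.range (fun g : G => (Subgroup.centralizer ({g} : Set G)).index) = Set.range (fun g : L => (Subgroup.centralizer ({g} : Set L)).index)) :
    Nonempty (G ≃* L) := by
  rcases hL with hL | hL | hL
  · exact Cfsg.Agent.H992.TC.f4_odd hL hZ h
  · exact Cfsg.Agent.H992.TC.e6 hL hZ h
  · exact Cfsg.Agent.H992.TC.te6 hL hZ h

end Cfsg.Agent.S3581
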