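import Cfsg.Statements.S3582
import Cfsg.Agent.H137.TC7.Final
import Cfsg.Agent.H992.TC.Inst
import Cfsg.Agent.H992.TC.F4e
import Cfsg.Agent.H992.TC.G2
import Cfsg.Agent.H992.TC.E8
import Cfsg.Agent.H992.TC.TD4
import Cfsg.Agent.H35.TCSz
import Cfsg.Agent.H35.TCRee
import Cfsg.Agent.H92.TCTF4

set_option autoImplicit false
open Cfsg

namespace Cfsg.Agent.S3582

/-- Thompson's conjecture on conjugacy class sizes for the exceptional groups of Lie type: let L be one of the finite simple groups G₂(q) with q ≥ 3, F₄(q), E₆(q), E₇(q), E₈(q), ²E₆(q), ³D₄(q), ²B₂(q) and ²F₄(q) with q = 2^(2m+1) ≥ 8, or ²G₂(q) with q = 3^(2m+1) ≥ 27 (the Tits group ²F₄(2)′ is not included), and let G be a finite group with trivial centre whose set of conjugacy class sizes equals that of L. Then G is isomorphic to L. -/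
theorem result {L : Type*} [Group L] [Finite L]
    (hL : Cfsg.Lie.IsoChevG2 L ∨ Cfsg.Lie.IsoF4 L ∨ Cfsg.Lie.IsoChevE6 L ∨ Cfsg.Lie.IsoE7 L ∨ Cfsg.Lie.IsoE8 L ∨
      Cfsg.Lie.Iso2E6 L ∨ Cfsg.Lie.Iso3D4 L ∨ Cfsg.Lie.IsoSuzuki L ∨ Cfsg.Lie.IsoRee L ∨ Cfsg.Lie.Iso2F4 L)
    {G : Type*} [Group G] [Finite G] (hZ : Subgroup.center G = ⊥)
    (h : Set.range (fun g : G => (Subgroup.centralizer ({g} : Set G)).index) = Set.range (fun g : L => (Subgroup.centralizer ({g} : Set L)).index)) :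
    Nonempty (G ≃* L) := by
  rcases hL with hL | hL | hL | hL | hL | hL | hL | hL | hL | hL
  · exact Cfsg.Agent.H992.TC.g2 hL hZ h
  · exact Cfsg.Agent.H992.TC.f4 hL hZ h
  · exact Cfsg.Agent.H992.TC.e6 hL hZ h
  · exact Cfsg.Agent.H137.TC7.e7 hL hZ h
  · exact Cfsg.Agent.H992.TC.e8 hL hZ h
  · exact Cfsg.Agent.H992.TC.te6 hL hZ h
  · exact Cfsg.Agent.H992.TC.triD4 hL hZ h
  · exact Cfsg.Agent.H35.TCSz.sz hL hZ h
  · exact Cfsg.Agent.H35.TCRee.ree hL hZ h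
  · exact Cfsg.Agent.H92.TCTF4.tf4 hL hZ h

end Cfsg.Agent.S3582
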