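import Cfsg.Statements.S3590
import Cfsg.Agent.S3589
import Cfsg.Agent.H404.Spec
import Cfsg.Agent.LieClassical.OrthForms

set_option autoImplicit false
open Cfsg

namespace Cfsg.Agent.S3590

open Cfsg.Agent.H404.Spec Cfsg.Agent.H404.Semi Cfsg.Agent.LieClassical.OrthForms

/-- an anisotropic binary form in characteristic two -/
theorem exists_aniso (F : Type*) [Field F] [Finite F] [CharP F 2] :
    ∃ b : F, ∀ z₁ z₂ : F, z₁ ^ 2 + 1 * z₁ * z₂ + b * z₂ ^ 2 = 0 → z₁ = 0 ∧ z₂ = 0 := by
  have h1 : ¬ Function.Surjective (fun x : F => x ^ 2 + x) := by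
    intro h
    have h2 := Finite.injective_iff_surjective.2 h
    have h3 : (0 : F) = 1 := h2 (by
      change (0 : F) ^ 2 + 0 = 1 ^ 2 + 1
      rw [one_pow, CharTwo.add_self_eq_zero]
      simp)
    exact zero_ne_one h3
  unfold Function.Surjective at h1
  push Not at h1
  obtain ⟨b, hb⟩ := h1
  refine ⟨b, fun z₁ z₂ h => ?_⟩
  by_cases h2 : z₂ = 0
  · subst h2
    refine ⟨?_, rfl⟩
    simpa using h
  · exfalso
    apply hb (z₁ / z₂)
    have h3 : (z₁ / z₂) ^ 2 + z₁ / z₂ + b = 0 := by
      have h4 : (z₁ / z₂) ^ 2 + z₁ / z₂ + b = (z₁ ^ 2 + 1 * z₁ * z₂ + b * z₂ ^ 2) / z₂ ^ 2 := by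
        field_simp
      rw [h4, h, zero_div]
    exact (eq_neg_of_add_eq_zero_left h3).trans (CharTwo.neg_eq b)

theorem nondegenerate {F : Type*} [Field F] {ι : Type} (Q : QuadraticForm F (ι → F))
    (h : ∀ x, (∀ y, QuadraticMap.polar Q x y = 0) → x = 0) :
    LinearMap.BilinForm.Nondegenerate (QuadraticMap.polarBilin Q) := by
  constructor
  · exact fun x hx => h x hx
  · exact fun x hx => h x fun y => by rw [QuadraticMap.polar_comm]; exact hx y

/-- a finite group is isomorphic to one in the lowest universe -/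
theorem exists_type_zero (G₀ : Type*) [Group G₀] [Finite G₀] :
    ∃ (H : Type) (_ : Group H) (_ : Fintype H), Fintype.card H = Nat.card G₀ ∧
      Set.range (orderOf : H → ℕ) = Set.range (orderOf : G₀ → ℕ) := by
  have hsm : Small.{0} G₀ := Countable.toSmall G₀
  have hf : Finite (Shrink.{0} G₀) := Finite.of_equiv G₀ (equivShrink G₀)
  let φ : Shrink.{0} G₀ ≃* G₀ := Shrink.mulEquiv
  let ft : Fintype (Shrink.{0} G₀) := Fintype.ofFinite _
  refine ⟨Shrink.{0} G₀, inferInstance, ft, ?_, ?_⟩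
  · rw [← Nat.card_eq_fintype_card]
    exact Nat.card_congr φ.toEquiv
  · ext n
    constructor
    · rintro ⟨g, rfl⟩
      exact ⟨φ g, MulEquiv.orderOf_eq φ g⟩
    · rintro ⟨g, rfl⟩
      exact ⟨φ.symm g, MulEquiv.orderOf_eq φ.symm g⟩

/-- Let F be a finite field of characteristic 2. Then PSp(8,F) is not determined by its set of element orders, not even up to finitely many groups: for every bound there is a finite group of larger order with exactly the same set of element orders as PSp(8,F). -/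
theorem result {F : Type*} [Field F] [Fintype F]
    [CharP F 2] (M : ℕ) :
    ∃ (H : Type) (_ : Group H) (_ : Fintype H), M < Fintype.card H ∧ Set.range (orderOf : H → ℕ) = Set.range (orderOf : Cfsg.PSp 4 F → ℕ) := by
  classical
  obtain ⟨b, hb⟩ := exists_aniso F
  have hnd := nondegenerate (minusForm 3 F 1 b) (nondeg_minusForm 3 F 1 b hb)
  have h2 : (2 : F) = 0 := CharTwo.two_eq_zero
  have hι : Fintype.card ((Fin 3 ⊕ Fin 3) ⊕ Fin 2) = 8 := by simp
  let k := M + 1
  let G₀ := G (X (minusForm 3 F 1 b) hι hnd) (Mod ((Fin 3 ⊕ Fin 3) ⊕ Fin 2) F k)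
  have hr : Set.range (orderOf : G₀ → ℕ) = Set.range (orderOf : Cfsg.PSp 4 F → ℕ) := by
    rw [Cfsg.Agent.S3589.result 1 b hb, ← coe_minusForm]
    exact range_eq h2 hι hnd k (Nat.succ_pos M)
  have hfX : Finite (X (minusForm 3 F 1 b) hι hnd) :=
    have := finite_iso (Q := minusForm 3 F 1 b)
    inferInstance
  have hfM : Finite (Mod ((Fin 3 ⊕ Fin 3) ⊕ Fin 2) F k) :=
    inferInstanceAs (Finite (Fin k → (Fin 3 ⊕ Fin 3) ⊕ Fin 2 → F))
  have hfM' : Finite (Multiplicative (Mod ((Fin 3 ⊕ Fin 3) ⊕ Fin 2) F k)) := hfM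
  have hfin : Finite G₀ := Finite.of_injective
    (fun g : G₀ => (g.left, g.right)) (fun g h hgh => by
      have h1 := congrArg Prod.fst hgh
      have h2 := congrArg Prod.snd hgh
      exact SemidirectProduct.ext h1 h2)
  -- the order
  have hcard : M < Nat.card G₀ := by
    have h1 : Nat.card (Fin k → F) ≤ Nat.card G₀ := by
      apply Nat.card_le_card_of_injective
        (fun f : Fin k → F => (el (fun j _ => f j : Mod ((Fin 3 ⊕ Fin 3) ⊕ Fin 2) F k) 1 : G₀))
      intro f f' hff
      have h3 := (el_inj hff).1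
      funext j
      exact congrFun (congrFun h3 j) (Sum.inr 0)
    have h3 : M < Nat.card (Fin k → F) := by
      rw [Nat.card_fun, Nat.card_eq_fintype_card, Nat.card_eq_fintype_card, Fintype.card_fin]
      have h4 : 2 ≤ Fintype.card F := Fintype.one_lt_card
      calc M < k := Nat.lt_succ_self M
        _ < 2 ^ k := Nat.lt_two_pow_self
        _ ≤ Fintype.card F ^ k := Nat.pow_le_pow_left h4 k
    exact h3.trans_le h1
  obtain ⟨H, i1, i2, h3, h4⟩ := exists_type_zero G₀
  exact ⟨H, i1, i2, by rw [h3]; exact hcard, h4.trans hr⟩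

end Cfsg.Agent.S3590
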