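import Cfsg.Statements.S3600
import Cfsg.Agent.S3433
import Cfsg.Agent.H406.CritFour

set_option autoImplicit false
open Cfsg

namespace Cfsg.Agent.S3600

open Subgroup Cfsg.Agent.H406.CritFour

/-- The orders of the elements of `A₅`. -/
theorem ord_five : ∀ g : alternatingGroup (Fin 5), g * g = 1 ∨ g ^ 3 = 1 ∨ g ^ 5 = 1 := by
  decide +kernel

/-- A finite group is critical with respect to a set Ω of natural numbers when its set of element orders is Ω while no proper section has Ω as its set of element orders. A finite group critical with respect to {1, 2, 3, 4, 5} (the set of element orders of the alternating group of degree 6) is isomorphic either to the alternating group of degree 6 or to the affine group F² ⋊ SL(2,F) over the field F with four elements (realised as the matrices of SL(3,F) with last row (0, 0, 1)). -/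
theorem result {G : Type*} [Group G] [Finite G]
    (hcrit : Set.range (orderOf : G → ℕ) = ({1, 2, 3, 4, 5} : Set ℕ) ∧
      ∀ (H : Subgroup G) (N : Subgroup ↥H) [N.Normal], (H ≠ ⊤ ∨ N ≠ ⊥) → Set.range (orderOf : (↥H ⧸ N) → ℕ) ≠ ({1, 2, 3, 4, 5} : Set ℕ)) :
    Nonempty (G ≃* alternatingGroup (Fin 6)) ∨
      ∃ (F : Type) (_ : Field F) (_ : Fintype F), Fintype.card F = 4 ∧
        Nonempty (G ≃* ↥(Subgroup.closure {M : Matrix.SpecialLinearGroup (Fin 3) F |
          (M : Matrix (Fin 3) (Fin 3) F) 2 0 = 0 ∧ (M : Matrix (Fin 3) (Fin 3) F) 2 1 = 0 ∧ (M : Matrix (Fin 3) (Fin 3) F) 2 2 = 1})) := by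
  obtain ⟨hspec, hcrit⟩ := hcrit
  have hmem : ∀ g : G, orderOf g ∈ ({1, 2, 3, 4, 5} : Set ℕ) := fun g => by
    rw [← hspec]; exact ⟨g, rfl⟩
  have hspec' : Set.range (orderOf : G → ℕ) = {k : ℕ | 1 ≤ k ∧ k ≤ 5} := by
    rw [hspec]
    ext k
    simp only [Set.mem_insert_iff, Set.mem_singleton_iff, Set.mem_setOf_eq]
    omega
  rcases Cfsg.Agent.S3433.result hspec' with h | ⟨N, hN, hA, ⟨e⟩⟩
  · exact Or.inl h
  right
  letI : Fintype (GaloisField 2 2) := Fintype.ofFinite _
  have h4 : Fintype.card (GaloisField 2 2) = 4 := by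
    rw [← Nat.card_eq_fintype_card, GaloisField.card 2 2 two_ne_zero]
    norm_num
  let π : G →* alternatingGroup (Fin 5) := e.toMonoidHom.comp (QuotientGroup.mk' N)
  have hπ : Function.Surjective π := e.surjective.comp (QuotientGroup.mk'_surjective N)
  have hk : π.ker = N := by
    ext g
    rw [MonoidHom.mem_ker]
    change e (QuotientGroup.mk' N g) = 1 ↔ _
    rw [map_eq_one_iff e e.injective, QuotientGroup.mk'_apply, QuotientGroup.eq_one_iff]
  have h2 : ∀ n ∈ N, n ≠ 1 → orderOf n = 2 := fun n hn hn1 =>
    orderOf_eq_prime (hA.2 n hn) hn1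
  have hne : N ≠ ⊥ := by
    intro hb
    have : (4 : ℕ) ∈ Set.range (orderOf : G → ℕ) := by rw [hspec]; simp
    obtain ⟨x, hx⟩ := this
    have hinj : Function.Injective π := by
      rw [← MonoidHom.ker_eq_bot_iff, hk, hb]
    have hx' : orderOf (π x) = 4 := by rw [orderOf_injective π hinj, hx]
    rcases ord_five (π x) with h | h | h
    · rw [← pow_two] at h
      have := orderOf_dvd_of_pow_eq_one h
      rw [hx'] at this
      omega
    · have := orderOf_dvd_of_pow_eq_one h
      rw [hx'] at this
      omega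
    · have := orderOf_dvd_of_pow_eq_one h
      rw [hx'] at this
      omega
  -- fixed point freeness
  have hfree : ∀ p : ℕ, p.Prime → p ≠ 2 → ∀ g : G, (π g) ^ p = 1 → π g ≠ 1 →
      ∀ n ∈ N, n * g = g * n → n = 1 := by
    intro p hp hp2 g hg hg1 n hn hc
    by_contra hn1
    haveI := Fact.mk hp
    have ho : orderOf (π g) = p := orderOf_eq_prime hg hg1
    have hd : p ∣ orderOf g := by
      rw [← ho]
      exact orderOf_map_dvd π g
    have hog : orderOf g = p := by
      have hp3 : 3 ≤ p := by
        have := hp.two_le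
        omega
      obtain ⟨k, hk'⟩ := hd
      have := hmem g
      rw [hk'] at this ⊢
      simp only [Set.mem_insert_iff, Set.mem_singleton_iff] at this
      rcases Nat.lt_or_ge k 2 with h | h
      · interval_cases k
        · simp at this
        · rw [mul_one]
      · have : 6 ≤ p * k := by nlinarith
        omega
    have hcop : Nat.Coprime (orderOf n) (orderOf g) := by
      rw [h2 n hn hn1, hog]
      exact (Nat.coprime_primes Nat.prime_two hp).2 (Ne.symm hp2)
    have hng := (show Commute n g from hc).orderOf_mul_eq_mul_orderOf_of_coprime hcop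
    rw [h2 n hn hn1, hog] at hng
    have := hmem (n * g)
    rw [hng] at this
    simp only [Set.mem_insert_iff, Set.mem_singleton_iff] at this
    have := hp.two_le
    omega
  obtain ⟨f, hf⟩ := exists_emb h4 hN hA π hπ hk hne
    (hfree 3 Nat.prime_three (by norm_num)) (hfree 5 Nat.prime_five (by norm_num))
  refine ⟨GaloisField 2 2, inferInstance, inferInstance, h4, ?_⟩
  have ef : Aff (GaloisField 2 2) ≃* f.range := MonoidHom.ofInjective hf
  have htop : f.range = ⊤ := by
    by_contra htop
    apply hcrit f.range ⊥ (Or.inl htop)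
    have e2 : ↥f.range ⧸ (⊥ : Subgroup ↥f.range) ≃* Aff (GaloisField 2 2) :=
      QuotientGroup.quotientBot.trans ef.symm
    have h1 : Set.range (orderOf : (↥f.range ⧸ (⊥ : Subgroup ↥f.range)) → ℕ) =
        Set.range (orderOf : Aff (GaloisField 2 2) → ℕ) := by
      ext m
      constructor
      · rintro ⟨x, rfl⟩
        exact ⟨e2 x, by rw [MulEquiv.orderOf_eq]⟩
      · rintro ⟨x, rfl⟩
        exact ⟨e2.symm x, by rw [MulEquiv.orderOf_eq]⟩
    rw [h1]
    have h3 := Cfsg.Agent.S3488.result h4
    rw [Cfsg.Agent.H380.AltSpec.range_six] at h3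
    refine h3.trans ?_
    ext m
    simp
  exact ⟨(Subgroup.topEquiv.symm.trans (MulEquiv.subgroupCongr htop.symm)).trans ef.symm⟩

end Cfsg.Agent.S3600
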