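import Cfsg.Statements.S3609
import Cfsg.Agent.S3608
import Cfsg.Agent.H893.RegPrim

set_option autoImplicit false
open Cfsg

namespace Cfsg.Agent.S3609

open Cfsg.Agent.H893 in
theorem hasReg {T : Type*} [Group T] [Finite T] (hs : IsSimpleGroup T)
    (hna : ∃ a b : T, a * b ≠ b * a) (R : Subgroup T) {p j : ℕ} (hp : p.Prime) (hj : 1 ≤ j)
    (hR : R.index = p ^ j) : HasReg R := by
  have hna' : ¬ IsMulCommutative T := by
    rintro ⟨⟨h⟩⟩
    obtain ⟨a, b, hab⟩ := hna
    exact hab (h a b)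
  rcases Cfsg.Agent.S3608.result hs hna' R p j hp hj hR with ⟨h5, ⟨e⟩⟩ |
    ⟨d, F, _, _, hd, hq, ⟨e⟩⟩ | ⟨h11, h | h⟩ | ⟨h23, h⟩ | ⟨h27, ⟨e⟩⟩
  · exact hasReg_alternating hp h5 e R hR
  · exact hasReg_of_not_dvd hp R hR (psl_not_dvd hp hj R hR hd hq e)
  · obtain ⟨e⟩ := h
    exact hasReg_psl11 e R (hR.trans h11)
  · exact hasReg_m11 h.2 R (hR.trans h11)
  · exact hasReg_m23 h.2 R (hR.trans h23)
  · exact hasReg_psp e R (hR.trans h27)

/-- Every finite primitive permutation group of prime-power degree has a regular subgroup: if G acts faithfully and primitively on a set of size p^k (p prime, k ≥ 1), then some subgroup of G acts transitively with trivial point stabilizers. -/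
theorem result {G Ω : Type*} [Group G] [Finite G] [MulAction G Ω] [FaithfulSMul G Ω] [Finite Ω]
    (p k : ℕ) (hp : p.Prime) (hk : 1 ≤ k) (hΩ : Nat.card Ω = p ^ k) (hprim : MulAction.IsPreprimitive G Ω) :
    ∃ R : Subgroup G, MulAction.IsPretransitive ↥R Ω ∧ ∀ ω : Ω, MulAction.stabilizer ↥R ω = ⊥ :=
  Cfsg.Agent.H893.exists_regular hp hk hΩ hprim fun _T R _j hs hna hj hR =>
    hasReg hs hna (R.subgroupOf _) hp hj hR

end Cfsg.Agent.S3609
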