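import Cfsg.Statements.S3610
import Cfsg.Agent.H561.PPRow
import Cfsg.Agent.S3608

set_option autoImplicit false
open Cfsg

namespace Cfsg.Agent.S3610

/-- Let a finite group G act faithfully and primitively on two finite sets of the same prime-power size p^k (p prime, k ≥ 1). Then the two actions are equivalent under an automorphism of G: there are an automorphism σ of G and a bijection f between the sets with f(g • x) = σ(g) • f(x) for all g and x. -/
theorem result {G Ω₁ Ω₂ : Type*} [Group G] [Finite G] [MulAction G Ω₁] [FaithfulSMul G Ω₁] [Finite Ω₁]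
    [MulAction G Ω₂] [FaithfulSMul G Ω₂] [Finite Ω₂]
    (p k : ℕ) (hp : p.Prime) (hk : 1 ≤ k) (h₁ : Nat.card Ω₁ = p ^ k) (h₂ : Nat.card Ω₂ = p ^ k)
    (hprim₁ : MulAction.IsPreprimitive G Ω₁) (hprim₂ : MulAction.IsPreprimitive G Ω₂) :
    ∃ (σ : G ≃* G) (f : Ω₁ ≃ Ω₂), ∀ (g : G) (x : Ω₁), f (g • x) = σ g • f x := by
  exact Cfsg.Agent.H561.PPow.equiv_of_list p k hp hk h₁ h₂ hprim₁ hprim₂
    fun T hT hna H j hj hH => Cfsg.Agent.S3608.result hT hna H p j hp hj hH

end Cfsg.Agent.S3610
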