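import Cfsg.Statements.S3618
import Cfsg.Agent.H411.PrA.Assembly
import Cfsg.Agent.H487.Red.Red
import Cfsg.Agent.H579.Pr.TwoT

set_option autoImplicit false
open Cfsg

namespace Cfsg.Agent.S3618

/-- Let G act faithfully on a finite set in such a way that every non-trivial normal subgroup of G is transitive (G is quasiprimitive). Suppose G contains an element g of prime order p that moves exactly qp points (g has q cycles of length p), where 2 ≤ q < p, and let f be the number of fixed points of g. Then one of the following holds: 2(f + 1) ≤ 5q; G induces every even permutation of the set (G contains the alternating group); or for some c ≥ p the set has c(c-1)/2 points, 2q + p + 1 = 2c, and G is isomorphic, as an abstract group, to the alternating or the symmetric group of degree c. -/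
theorem result {G Ω : Type*} [Group G] [Finite G] [MulAction G Ω] [FaithfulSMul G Ω] [Fintype Ω] [DecidableEq Ω]
    (hqp : ∀ N : Subgroup G, N.Normal → N ≠ ⊥ → MulAction.IsPretransitive ↥N Ω)
    (p q : ℕ) (hp : p.Prime) (hq2 : 2 ≤ q) (hqp' : q < p) (g : G) (hg : orderOf g = p)
    (hmoved : Fintype.card Ω = q * p + Nat.card ↥(MulAction.fixedBy Ω g)) :
    2 * (Nat.card ↥(MulAction.fixedBy Ω g) + 1) ≤ 5 * q ∨
    (∀ σ : Equiv.Perm Ω, Equiv.Perm.sign σ = 1 → ∃ x : G, (MulAction.toPerm x : Equiv.Perm Ω) = σ) ∨
    (∃ c : ℕ, p ≤ c ∧ Fintype.card Ω = c.choose 2 ∧ 2 * q + p + 1 = 2 * c ∧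
      (Nonempty (G ≃* alternatingGroup (Fin c)) ∨ Nonempty (G ≃* Equiv.Perm (Fin c)))) :=
  Cfsg.Agent.H487.Red.reduction (Cfsg.Agent.H411.PrA.primThm fun p hp => Cfsg.Agent.H579.Pr.twoT hp)
    hqp p q hp hq2 hqp' g hg hmoved

end Cfsg.Agent.S3618
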