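import Cfsg.Statements.S3623
import Cfsg.Agent.S0675
import Cfsg.Agent.S3608
import Cfsg.Agent.H412.AltIndex
import Cfsg.Agent.H386.PslPts

set_option autoImplicit false
open Cfsg

namespace Cfsg.Agent.S3623

/-- Let G be a finite non-abelian simple group acting faithfully and transitively on a set of prime-power size p^k (p prime, k ≥ 1). Then the action is doubly transitive, unless the set has 27 points and G is isomorphic to PSp(4, 3) (whose action of degree 27 has rank 3). -/
theorem result {G Ω : Type*} [Group G] [Finite G] [MulAction G Ω] [FaithfulSMul G Ω] [Finite Ω]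
    (hs : IsSimpleGroup G) (hna : ¬ IsMulCommutative G)
    (p k : ℕ) (hp : p.Prime) (hk : 1 ≤ k) (hΩ : Nat.card Ω = p ^ k) (htrans : MulAction.IsPretransitive G Ω) :
    MulAction.IsMultiplyPretransitive G Ω 2 ∨ (Nat.card Ω = 27 ∧ Nonempty (G ≃* Cfsg.PSp 2 (ZMod 3))) := by
  classical
  have : Fintype Ω := Fintype.ofFinite Ω
  have hpos : 0 < Nat.card Ω := by rw [hΩ]; exact pow_pos hp.pos k
  obtain ⟨a⟩ : Nonempty Ω := (Nat.card_pos_iff.1 hpos).1
  have hidx : (MulAction.stabilizer G a).index = p ^ k := by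
    rw [MulAction.index_stabilizer_of_transitive, hΩ]
  -- transitive groups of prime degree
  have hburn : (p ^ k).Prime → MulAction.IsMultiplyPretransitive G Ω 2 := by
    intro hpk
    let φ := MulAction.toPermHom G Ω
    have hinj : Function.Injective φ := MulAction.toPerm_injective
    have htr : MulAction.IsPretransitive φ.range Ω := by
      constructor
      intro x y
      obtain ⟨g, hg⟩ := MulAction.exists_smul_eq G x y
      exact ⟨⟨φ g, g, rfl⟩, hg⟩
    rcases Cfsg.Agent.S0675.result (α := Ω) (by rw [← Nat.card_eq_fintype_card, hΩ]; exact hpk) φ.range with h | h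
    · exfalso
      have e : G ≃* φ.range := MonoidHom.ofInjective hinj
      have hsol : Group.IsSolvable G := by
        have := h
        exact Group.isSolvable_of_isSolvable_injective (f := e.toMonoidHom) e.injective
      exact hna ⟨⟨IsSimpleGroup.comm_iff_isSolvable.2 hsol⟩⟩
    · rw [MulAction.is_two_pretransitive_iff] at h ⊢
      intro x y x' y' hxy hxy'
      obtain ⟨⟨_, g, rfl⟩, h1, h2⟩ := h hxy hxy'
      exact ⟨g, h1, h2⟩
  rcases Cfsg.Agent.S3608.result hs hna (MulAction.stabilizer G a) p k hp hk hidx with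
    ⟨h5, ⟨e⟩⟩ | ⟨d, F, _, _, hd, hF, ⟨e⟩⟩ | ⟨h11, -⟩ | ⟨h23, -⟩ | ⟨h27, h⟩
  · exact Or.inl (Cfsg.Agent.H412.AltIndex.two_transitive h5 e hp hk hΩ).2
  · exact Or.inl (Cfsg.Agent.H386.PslPts.psl_two hd e (by rw [hΩ, hF]))
  · exact Or.inl (hburn (by rw [h11]; norm_num))
  · exact Or.inl (hburn (by rw [h23]; norm_num))
  · exact Or.inr ⟨by rw [hΩ, h27], h⟩

end Cfsg.Agent.S3623
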