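import Cfsg.Statements.S3626
import Cfsg.Agent.S1159
import Cfsg.Agent.H413.TwistedModule

set_option autoImplicit false
open Cfsg

namespace Cfsg.Agent.S3626

open Cfsg.Agent.H413.SpecProd Cfsg.Agent.H413.TwistedModule

/-- replacing one factor -/
theorem perm_lcm {P Q : ℕ → Prop} {A : ℕ → Prop} (h : ∀ n, A n → Q n ∨ P n) (one : Q 1)
    (hP : ∀ a b c, A a → A b → A c → P a → P b → P c →
      ∃ x y, A x ∧ A y ∧ Nat.lcm x y = Nat.lcm a (Nat.lcm b c)) {a b c : ℕ} (ha : A a) (hb : A b) (hc : A c) :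
    ∃ x y z, A x ∧ A y ∧ Q z ∧ Nat.lcm x (Nat.lcm y z) = Nat.lcm a (Nat.lcm b c) := by
  rcases h a ha with h1 | h1
  · exact ⟨b, c, a, hb, hc, h1, by rw [← Nat.lcm_assoc, Nat.lcm_comm]⟩
  rcases h b hb with h2 | h2
  · exact ⟨a, c, b, ha, hc, h2, by rw [Nat.lcm_comm c b]⟩
  rcases h c hc with h3 | h3
  · exact ⟨a, b, c, ha, hb, h3, rfl⟩
  obtain ⟨x, y, hx, hy, hxy⟩ := hP a b c ha hb hc h1 h2 h3
  exact ⟨x, y, 1, hx, hy, one, by rw [Nat.lcm_one_right, hxy]⟩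

/-- Let R be the small Ree group over the field with q = 3^(2m+1) ≥ 27 elements. Then there are finite groups of arbitrarily large order with exactly the same set of element orders as R × R × R. -/
theorem result {K : Type*} [Field K] [Fintype K] {m : ℕ} (hm : 1 ≤ m) (hK : Fintype.card K = 3 ^ (2 * m + 1)) (N : ℕ) :
    ∃ (H : Type) (_ : Group H) (_ : Fintype H), N < Fintype.card H ∧
      Set.range (orderOf : H → ℕ) = Set.range (orderOf : ↥(Cfsg.Lie.twistedG2 K (3 ^ m)) × ↥(Cfsg.Lie.twistedG2 K (3 ^ m)) × ↥(Cfsg.Lie.twistedG2 K (3 ^ m)) → ℕ) := by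
  classical
  have hcp : CharP K 3 := by
    have : Fact (Nat.Prime 3) := ⟨Nat.prime_three⟩
    exact charP_of_card_eq_prime_pow hK
  have hq8 : Fintype.card K % 8 = 3 := by
    rw [hK, pow_succ, pow_mul, Nat.mul_mod, Nat.pow_mod]
    norm_num
  have hq27 : 27 ≤ Fintype.card K := by
    rw [hK]
    calc 27 = 3 ^ 3 := by norm_num
      _ ≤ 3 ^ (2 * m + 1) := Nat.pow_le_pow_right (by norm_num) (by omega)
  have hq4 : 4 ≤ Fintype.card K := by omega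
  let R := ↥(Cfsg.Lie.twistedG2 K (3 ^ m))
  have hfin : Finite R := inferInstance
  have horb : ∀ d, IsOrd R d ↔ (d ∣ 6 ∨ d ∣ 9 ∨ d ∣ 3 ^ (2 * m + 1) - 1 ∨ d ∣ (3 ^ (2 * m + 1) + 1) / 2 ∨
        d ∣ 3 ^ (2 * m + 1) - 3 ^ (m + 1) + 1 ∨ d ∣ 3 ^ (2 * m + 1) + 3 ^ (m + 1) + 1) :=
    fun d => Cfsg.Agent.S1159.result hm hK d
  have haff : ∀ d, IsOrd (Aff K (N + 1)) d ↔ (d ∣ 6 ∨ d ∣ 9 ∨ d ∣ 3 ^ (2 * m + 1) - 1 ∨
      d ∣ (3 ^ (2 * m + 1) + 1) / 2) := by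
    intro d
    rw [isOrd_iff (Nat.succ_pos N) hq8 hq4, hK]
  obtain ⟨H, iH, jH, ⟨e⟩⟩ := exists_type_zero (R × R × Aff K (N + 1))
  refine ⟨H, iH, jH, ?_, ?_⟩
  · rw [← Nat.card_eq_fintype_card, Nat.card_congr e.toEquiv, Nat.card_prod, Nat.card_prod]
    have h1 := card_Aff (K := K) (N + 1)
    have h2 : 0 < Nat.card R := Nat.card_pos
    calc N < N + 1 := Nat.lt_succ_self N
      _ < Nat.card (Aff K (N + 1)) := h1
      _ = 1 * (1 * Nat.card (Aff K (N + 1))) := by ring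
      _ ≤ _ := Nat.mul_le_mul h2 (Nat.mul_le_mul h2 le_rfl)
  · ext k
    rw [mem_range, mem_range, ord_congr e]
    simp only [ord_prod (G := R), ord_prod (G := ↥(Cfsg.Lie.twistedG2 K (3 ^ m)))]
    constructor
    · rintro ⟨a, r, ha, ⟨b, c, hb, hc, rfl⟩, rfl⟩
      refine ⟨a, _, ha, ⟨b, c, hb, ?_, rfl⟩, rfl⟩
      have h1 := (haff c).1 hc
      exact (horb c).2 (by tauto)
    · rintro ⟨a, r, ha, ⟨b, c, hb, hc, rfl⟩, rfl⟩
      have key := perm_lcm (A := IsOrd R) (Q := IsOrd (Aff K (N + 1)))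
        (P := fun d => d ∣ 3 ^ (2 * m + 1) - 3 ^ (m + 1) + 1 ∨ d ∣ 3 ^ (2 * m + 1) + 3 ^ (m + 1) + 1)
        (fun n hn => by
          have h1 := (horb n).1 hn
          rw [haff]
          tauto) ⟨1, orderOf_one⟩ (by
          intro a b c ha hb hc h1 h2 h3
          have L : ∀ x y : ℕ, ((x ∣ 3 ^ (2 * m + 1) - 3 ^ (m + 1) + 1 ∧ y ∣ 3 ^ (2 * m + 1) - 3 ^ (m + 1) + 1) ∨
              (x ∣ 3 ^ (2 * m + 1) + 3 ^ (m + 1) + 1 ∧ y ∣ 3 ^ (2 * m + 1) + 3 ^ (m + 1) + 1)) →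
              IsOrd R (Nat.lcm x y) := by
            rintro x y (⟨h4, h5⟩ | ⟨h4, h5⟩)
            · rw [horb]
              have := Nat.lcm_dvd h4 h5
              tauto
            · rw [horb]
              have := Nat.lcm_dvd h4 h5
              tauto
          rcases h1 with h1 | h1 <;> rcases h2 with h2 | h2 <;> rcases h3 with h3 | h3
          · exact ⟨a, _, ha, L b c (Or.inl ⟨h2, h3⟩), rfl⟩
          · exact ⟨_, c, L a b (Or.inl ⟨h1, h2⟩), hc, Nat.lcm_assoc a b c⟩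
          · exact ⟨b, _, hb, L a c (Or.inl ⟨h1, h3⟩), by
              rw [← Nat.lcm_assoc, ← Nat.lcm_assoc, Nat.lcm_comm b a]⟩
          · exact ⟨a, _, ha, L b c (Or.inr ⟨h2, h3⟩), rfl⟩
          · exact ⟨a, _, ha, L b c (Or.inl ⟨h2, h3⟩), rfl⟩
          · exact ⟨b, _, hb, L a c (Or.inr ⟨h1, h3⟩), by
              rw [← Nat.lcm_assoc, ← Nat.lcm_assoc, Nat.lcm_comm b a]⟩
          · exact ⟨_, c, L a b (Or.inr ⟨h1, h2⟩), hc, Nat.lcm_assoc a b c⟩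
          · exact ⟨a, _, ha, L b c (Or.inr ⟨h2, h3⟩), rfl⟩) ha hb hc
      obtain ⟨x, y, z, hx, hy, hz, h⟩ := key
      exact ⟨x, _, hx, ⟨y, z, hy, hz, rfl⟩, h⟩

end Cfsg.Agent.S3626
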