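import Cfsg.Statements.S3649
import Cfsg.Agent.H419.VanOrd.Final
import Cfsg.Agent.S0000

set_option autoImplicit false
open Cfsg

namespace Cfsg.Agent.S3649

/-- An element g of a finite group X is vanishing if some irreducible complex character of X takes the value 0 at g; let Vo(X) be the set of orders of vanishing elements. Let F be a finite field with 2^a ≥ 4 elements. A finite group G with Vo(G) = Vo(PSL(2, F)) is isomorphic to PSL(2, F). -/
theorem result {F : Type*} [Field F] [Fintype F] (a : ℕ) (ha : 2 ≤ a) (hF : Fintype.card F = 2 ^ a)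
    {G : Type*} [Group G] [Finite G] (h : {n : ℕ | ∃ g : G, (∃ χ : Cfsg.IrrCharacter G, (χ : G → ℂ) g = 0) ∧ orderOf g = n} = {n : ℕ | ∃ g : (Matrix.ProjectiveSpecialLinearGroup (Fin 2) F), (∃ χ : Cfsg.IrrCharacter (Matrix.ProjectiveSpecialLinearGroup (Fin 2) F), (χ : (Matrix.ProjectiveSpecialLinearGroup (Fin 2) F) → ℂ) g = 0) ∧ orderOf g = n}) :
    Nonempty (G ≃* Matrix.ProjectiveSpecialLinearGroup (Fin 2) F) := by
  exact Cfsg.Agent.H419.VanOrd.Final.final (fun _ _ _ _ => Cfsg.Agent.S0000.result) a ha hF h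

end Cfsg.Agent.S3649
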