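import Cfsg.Statements.S3661
import Cfsg.Agent.H422.Final

set_option autoImplicit false
open Cfsg

namespace Cfsg.Agent.S3661

/-- The prime graph of a finite group has the prime divisors of its order as vertices, two distinct primes p, q being joined when the group has an element of order pq; two groups have the same prime graph when they have the same prime divisors and the same joined pairs. Exactly five finite groups, up to isomorphism, have the same prime graph as the alternating group A₇: there are five pairwise non-isomorphic finite groups H₀, …, H₄ with the prime graph of A₇, and every finite group with that prime graph is isomorphic to one of them. -/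
theorem result :
    ∃ (H : Fin 5 → Type) (_ : ∀ i, Group (H i)) (_ : ∀ i, Fintype (H i)),
      (∀ i, ((∀ p : ℕ, p.Prime → (p ∣ Nat.card (alternatingGroup (Fin 7)) ↔ p ∣ Nat.card (H i))) ∧
      (∀ p q : ℕ, p.Prime → q.Prime → p ≠ q → ((∃ g : (alternatingGroup (Fin 7)), orderOf g = p * q) ↔ (∃ g : (H i), orderOf g = p * q))))) ∧
      (∀ i j, Nonempty (H i ≃* H j) → i = j) ∧
      ∀ (K : Type) [Group K] [Finite K], ((∀ p : ℕ, p.Prime → (p ∣ Nat.card (alternatingGroup (Fin 7)) ↔ p ∣ Nat.card K)) ∧
      (∀ p q : ℕ, p.Prime → q.Prime → p ≠ q → ((∃ g : (alternatingGroup (Fin 7)), orderOf g = p * q) ↔ (∃ g : K, orderOf g = p * q)))) → ∃ i, Nonempty (K ≃* H i) := by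
  refine ⟨H422.Final.HH, H422.Final.grp, fun i => @Fintype.ofFinite _ (H422.Final.fin i), ?_, ?_, ?_⟩
  · intro i
    let _ := H422.Final.grp i
    have := H422.Final.fin i
    exact H422.Graph.good_alt.same (H422.Final.good_HH i)
  · rintro i j ⟨e⟩
    let _ := H422.Final.grp i
    let _ := H422.Final.grp j
    apply H422.Final.ord_inj
    rw [← H422.Final.card_HH, ← H422.Final.card_HH]
    exact Nat.card_congr e.toEquiv
  · intro K _ _ hK
    have hG : H422.Graph.Good K := H422.Graph.good_alt.of_same hK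
    rcases H422.Final.main hG with ⟨⟨e⟩⟩ | ⟨⟨e⟩⟩ | ⟨⟨e⟩⟩ | ⟨⟨e⟩⟩ | ⟨⟨e⟩⟩
    · exact ⟨0, ⟨e⟩⟩
    · exact ⟨1, ⟨e⟩⟩
    · exact ⟨2, ⟨e⟩⟩
    · exact ⟨3, ⟨e⟩⟩
    · exact ⟨4, ⟨e⟩⟩

end Cfsg.Agent.S3661
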