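import Cfsg.Statements.S3668
import Cfsg.Agent.H424.SmallIso
import Cfsg.Agent.H424.SimpleFacts
import Cfsg.Agent.H424.SimpleFactsAlt
import Cfsg.Agent.H424.GSide3

set_option autoImplicit false
open Cfsg

namespace Cfsg.Agent.S3668

open Cfsg.Agent.H424.DegTools Cfsg.Agent.H424.GroupTools Cfsg.Agent.H424.GSide
open Cfsg.Agent.H424.GSide2 Cfsg.Agent.H424.GSide3 Cfsg.Agent.H424.SmallIso
open Cfsg.Agent.SmallSimple.PrimeLocal

section

variable {G : Type*} [Group G] [Finite G]

theorem sylow_data {n p : ℕ} [hp : Fact p.Prime] (hn : Nat.card G = n) (h1 : p ∣ n)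
    (h2 : ¬ p ^ 2 ∣ n) (hmem : p ∈ degreePrimes G) :
    ∃ P : Sylow p G, Nat.card P = p ∧ ¬ (P : Subgroup G).Normal := by
  have hP : Nat.card (default : Sylow p G) = p :=
    card_of_not_sq_dvd (hn ▸ h1) (hn ▸ h2) _
  exact ⟨default, hP, not_normal hmem _ hP⟩

theorem not_solvable' {n p : ℕ} [hp : Fact p.Prime] (hn : Nat.card G = n) (h1 : p ∣ n)
    (h2 : ¬ p ^ 2 ∣ n) (hmem : p ∈ degreePrimes G) (h : chk n p [] = true) :
    ¬ Group.IsSolvable G := by
  obtain ⟨P, hP, hnn⟩ := sylow_data hn h1 h2 hmem
  exact not_solvable P hP hnn hn h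

theorem not_solvable_exc {n p r c : ℕ} [hp : Fact p.Prime] (hn : Nat.card G = n) (h1 : p ∣ n)
    (h2 : ¬ p ^ 2 ∣ n) (hmem : p ∈ degreePrimes G) (hr : r.Prime) (hc0 : c ≠ 0)
    (hrc : ¬ r ^ (c + 1) ∣ n) (h : chk n p [r ^ c] = true) (hrmem : r ∈ degreePrimes G) :
    ¬ Group.IsSolvable G := by
  intro hs
  obtain ⟨P, hP, hnn⟩ := sylow_data hn h1 h2 hmem
  exact solvable_exception P hP hnn hn hr hc0 hrc h hrmem

/-- The conclusion from the exclusion of the proper simple sections. -/
theorem finish {n : ℕ} (hn : Nat.card G = n) (hn6 : n < 6000) (h3600 : ¬ 3600 ∣ n)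
    (hns : ¬ Group.IsSolvable G)
    (kill : ∀ (R : Subgroup G) [R.Normal]
      (_ : ∀ N : Subgroup (G ⧸ R), N.Normal → Group.IsSolvable N → N = ⊥)
      (T : Subgroup (G ⧸ R)) [T.Normal] [IsSimpleGroup T] (_ : ¬ IsMulCommutative T),
      (Nat.card T = 60 ∨ Nat.card T = 168 ∨ Nat.card T = 360 ∨ Nat.card T = 504 ∨
        Nat.card T = 660 ∨ Nat.card T = 1092 ∨ Nat.card T = 2448 ∨ Nat.card T = 2520 ∨
        Nat.card T = 3420 ∨ Nat.card T = 4080 ∨ Nat.card T = 5616) →
      Nat.card T ∣ n → Nat.card T ≠ n → False) : IsSimpleGroup G := by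
  obtain ⟨R, hR, hRs, hrad, T, hTn, hTs, hTna⟩ := exists_reduction hns (by omega)
    (by rw [hn]; exact h3600)
  have h1 : Nat.card T ∣ n := by
    rw [← hn]
    exact (Subgroup.card_subgroup_dvd_card T).trans (Subgroup.card_quotient_dvd_card R)
  have h0 : 0 < Nat.card G := Nat.card_pos
  have h2 : Nat.card T ≤ n := Nat.le_of_dvd (hn ▸ h0) h1
  have h3 := orders hTna (by omega)
  by_cases h4 : Nat.card T = n
  · exact isSimpleGroup_of_card T (h4.trans hn.symm)
  · exact (kill R hrad T hTna h3 h1 h4).elim

end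

/-- The character degree graph of a finite group has as vertices the primes dividing some irreducible complex character degree, two distinct primes being joined when their product divides some irreducible character degree; two groups have the same character degree graph when they have the same vertices and the same joined pairs. Let S be a finite non-abelian simple group of order less than 6000. If a finite group G has the same order as S and the same character degree graph as S, then G is isomorphic to S. -/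
theorem result {S : Type*} [Group S] [Finite S] [IsSimpleGroup S] (hS : ¬ IsMulCommutative S)
    (hlt : Nat.card S < 6000) {G : Type*} [Group G] [Finite G] (hcard : Nat.card G = Nat.card S) (hΓ : Cfsg.degreePrimes G = Cfsg.degreePrimes S ∧ Cfsg.degreeGraph G = Cfsg.degreeGraph S) :
    Nonempty (G ≃* S) := by
  have hna : ∀ h : IsSimpleGroup G, ¬ Group.IsSolvable G → ¬ IsMulCommutative G := by
    intro h hs hc
    exact hs (Group.isSolvable_of_comm fun a b => hc.is_comm.comm a b)
  suffices h : ¬ Group.IsSolvable G ∧ (¬ Group.IsSolvable G → IsSimpleGroup G) by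
    have hs := h.2 h.1
    exact iso (hna hs h.1) (by omega) hS hcard.symm
  have hV : ∀ {p : ℕ}, p ∈ degreePrimes S → p ∈ degreePrimes G := fun h => hΓ.1 ▸ h
  have : Fact (Nat.Prime 5) := ⟨by norm_num⟩
  have : Fact (Nat.Prime 7) := ⟨by norm_num⟩
  have : Fact (Nat.Prime 11) := ⟨by norm_num⟩
  have : Fact (Nat.Prime 13) := ⟨by norm_num⟩
  have : Fact (Nat.Prime 17) := ⟨by norm_num⟩
  have : Fact (Nat.Prime 19) := ⟨by norm_num⟩
  rcases orders hS hlt with h1 | h1 | h1 | h1 | h1 | h1 | h1 | h1 | h1 | h1 | h1
  · -- 60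
    have hn := hcard.trans h1
    refine ⟨not_solvable' (p := 5) hn (by norm_num) (by norm_num)
      (hV (H424.SimpleFacts.sixty h1)) (by decide +kernel), fun hs =>
      finish hn (by norm_num) (by norm_num) hs ?_⟩
    intro R _ hrad T _ _ hTna h2 h3 h4
    rcases h2 with h2 | h2 | h2 | h2 | h2 | h2 | h2 | h2 | h2 | h2 | h2 <;> rw [h2] at h3 h4 <;>
      first | exact absurd rfl h4 | exact absurd h3 (by norm_num)
  · -- 168
    have hn := hcard.trans h1
    refine ⟨not_solvable_exc (p := 7) (r := 2) (c := 3) hn (by norm_num) (by norm_num)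
      (hV (H424.SimpleFacts.seven_168 h1)) (by norm_num) (by norm_num) (by norm_num)
      (by decide +kernel) (hV ⟨by norm_num, 6, H424.SimpleFacts.six_168 h1, by norm_num⟩),
      fun hs => finish hn (by norm_num) (by norm_num) hs ?_⟩
    intro R _ hrad T _ _ hTna h2 h3 h4
    rcases h2 with h2 | h2 | h2 | h2 | h2 | h2 | h2 | h2 | h2 | h2 | h2 <;> rw [h2] at h3 h4 <;>
      first | exact absurd rfl h4 | exact absurd h3 (by norm_num)
  · -- 360
    have hn := hcard.trans h1
    obtain ⟨h5, h6, h7⟩ := H424.SimpleFactsAlt.block_360 h1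
    refine ⟨not_solvable' (p := 5) hn (by norm_num) (by norm_num) (hV h5) (by decide +kernel),
      fun hs => finish hn (by norm_num) (by norm_num) hs ?_⟩
    intro R _ hrad T _ _ hTna h2 h3 h4
    rcases h2 with h2 | h2 | h2 | h2 | h2 | h2 | h2 | h2 | h2 | h2 | h2
    · have h8 : (degreeGraph S).Adj 2 5 := ⟨by norm_num, by norm_num, by norm_num, 10, h7,
        by norm_num⟩
      rw [← hΓ.2] at h8
      obtain ⟨-, -, -, d, hd, hd10⟩ := adj_iff.1 h8
      refine kill_360_60 hn hd ?_ ?_ R hrad T hTna h2
      · have := Nat.le_of_dvd (pos_of_mem hd) hd10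
        omega
      · intro d hd h6d
        have h8 : (degreeGraph G).Adj 2 3 := ⟨by norm_num, by norm_num, by norm_num, d, hd, h6d⟩
        rw [hΓ.2] at h8
        obtain ⟨-, -, -, c, hc, hc6⟩ := adj_iff.1 h8
        exact h6 c hc hc6
    all_goals
      rw [h2] at h3 h4
      first | exact absurd rfl h4 | exact absurd h3 (by norm_num)
  · -- 504
    have hn := hcard.trans h1
    obtain ⟨h5, h6, h7⟩ := H424.SimpleFacts.block_504 h1
    refine ⟨not_solvable_exc (p := 7) (r := 2) (c := 3) hn (by norm_num) (by norm_num)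
      (hV h5) (by norm_num) (by norm_num) (by norm_num)
      (by decide +kernel) (hV ⟨by norm_num, 8, h6, by norm_num⟩),
      fun hs => finish hn (by norm_num) (by norm_num) hs ?_⟩
    intro R _ hrad T _ _ hTna h2 h3 h4
    rcases h2 with h2 | h2 | h2 | h2 | h2 | h2 | h2 | h2 | h2 | h2 | h2
    rotate_left
    · obtain ⟨d, hd, h6d⟩ := six_of_168 R T h2
      have h8 : (degreeGraph G).Adj 2 3 := ⟨by norm_num, by norm_num, by norm_num, d, hd, h6d⟩
      rw [hΓ.2] at h8
      obtain ⟨-, -, -, c, hc, hc6⟩ := adj_iff.1 h8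
      exact h7 c hc hc6
    all_goals
      rw [h2] at h3 h4
      first | exact absurd rfl h4 | exact absurd h3 (by norm_num)
  · -- 660
    have hn := hcard.trans h1
    have h5 := hV (H424.SimpleFacts.eleven_660 h1)
    refine ⟨not_solvable' (p := 11) hn (by norm_num) (by norm_num) h5 (by decide +kernel),
      fun hs => finish hn (by norm_num) (by norm_num) hs ?_⟩
    intro R _ hrad T _ _ hTna h2 h3 h4
    rcases h2 with h2 | h2 | h2 | h2 | h2 | h2 | h2 | h2 | h2 | h2 | h2
    · exact kill_sixty (m := 11) hn (by norm_num) (by norm_num) h5 R hrad T hTna h2 (by norm_num)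
        (by norm_num) (by norm_num) (by norm_num) (by norm_num) (by norm_num)
    all_goals
      rw [h2] at h3 h4
      first | exact absurd rfl h4 | exact absurd h3 (by norm_num)
  · -- 1092
    have hn := hcard.trans h1
    refine ⟨not_solvable' (p := 13) hn (by norm_num) (by norm_num)
      (hV (H424.SimpleFacts.thirteen_1092 h1)) (by decide +kernel), fun hs =>
      finish hn (by norm_num) (by norm_num) hs ?_⟩
    intro R _ hrad T _ _ hTna h2 h3 h4
    rcases h2 with h2 | h2 | h2 | h2 | h2 | h2 | h2 | h2 | h2 | h2 | h2 <;> rw [h2] at h3 h4 <;>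
      first | exact absurd rfl h4 | exact absurd h3 (by norm_num)
  · -- 2448
    have hn := hcard.trans h1
    refine ⟨not_solvable' (p := 17) hn (by norm_num) (by norm_num)
      (hV (H424.SimpleFacts.seventeen_2448 h1)) (by decide +kernel), fun hs =>
      finish hn (by norm_num) (by norm_num) hs ?_⟩
    intro R _ hrad T _ _ hTna h2 h3 h4
    rcases h2 with h2 | h2 | h2 | h2 | h2 | h2 | h2 | h2 | h2 | h2 | h2 <;> rw [h2] at h3 h4 <;>
      first | exact absurd rfl h4 | exact absurd h3 (by norm_num)
  · -- 2520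
    have hn := hcard.trans h1
    obtain ⟨h5, h7⟩ := H424.SimpleFactsAlt.block_2520 h1
    refine ⟨not_solvable' (p := 5) hn (by norm_num) (by norm_num) (hV h5) (by decide +kernel),
      fun hs => finish hn (by norm_num) (by norm_num) hs ?_⟩
    intro R _ hrad T _ _ hTna h2 h3 h4
    rcases h2 with h2 | h2 | h2 | h2 | h2 | h2 | h2 | h2 | h2 | h2 | h2
    · exact kill_sixty (p := 7) (m := 42) hn (by norm_num) (by norm_num) (hV h7) R hrad T hTna h2
        (by norm_num) (by norm_num) (by norm_num) (by norm_num) (by norm_num) (by norm_num)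
    · exact kill_168 (m := 15) hn (by norm_num) (by norm_num) (hV h5) R hrad T hTna h2
        (by norm_num) (by norm_num) (by norm_num)
    · exact kill_360 (m := 7) hn (by norm_num) (by norm_num) (hV h7) R hrad T hTna h2
        (by norm_num) (by norm_num) (by norm_num)
    · exact kill_504 (m := 5) hn (by norm_num) (by norm_num) (hV h5) R hrad T hTna h2
        (by norm_num) (by norm_num) (by norm_num)
    all_goals
      rw [h2] at h3 h4
      first | exact absurd rfl h4 | exact absurd h3 (by norm_num)
  · -- 3420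
    have hn := hcard.trans h1
    have h5 := hV (H424.SimpleFacts.nineteen_3420 h1)
    refine ⟨not_solvable' (p := 19) hn (by norm_num) (by norm_num) h5 (by decide +kernel),
      fun hs => finish hn (by norm_num) (by norm_num) hs ?_⟩
    intro R _ hrad T _ _ hTna h2 h3 h4
    rcases h2 with h2 | h2 | h2 | h2 | h2 | h2 | h2 | h2 | h2 | h2 | h2
    · exact kill_sixty (m := 57) hn (by norm_num) (by norm_num) h5 R hrad T hTna h2 (by norm_num)
        (by norm_num) (by norm_num) (by norm_num) (by norm_num) (by norm_num)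
    all_goals
      rw [h2] at h3 h4
      first | exact absurd rfl h4 | exact absurd h3 (by norm_num)
  · -- 4080
    have hn := hcard.trans h1
    have h5 := hV (H424.SimpleFacts.seventeen_4080 h1)
    refine ⟨not_solvable' (p := 17) hn (by norm_num) (by norm_num) h5 (by decide +kernel),
      fun hs => finish hn (by norm_num) (by norm_num) hs ?_⟩
    intro R _ hrad T _ _ hTna h2 h3 h4
    rcases h2 with h2 | h2 | h2 | h2 | h2 | h2 | h2 | h2 | h2 | h2 | h2
    · exact kill_sixty (m := 68) hn (by norm_num) (by norm_num) h5 R hrad T hTna h2 (by norm_num)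
        (by norm_num) (by norm_num) (by norm_num) (by norm_num) (by norm_num)
    all_goals
      rw [h2] at h3 h4
      first | exact absurd rfl h4 | exact absurd h3 (by norm_num)
  · -- 5616
    have hn := hcard.trans h1
    obtain ⟨h5, h6⟩ := H424.SimpleFacts.block_5616 h1
    refine ⟨not_solvable_exc (p := 13) (r := 3) (c := 3) hn (by norm_num) (by norm_num)
      (hV h5) (by norm_num) (by norm_num) (by norm_num)
      (by decide +kernel) (hV h6),
      fun hs => finish hn (by norm_num) (by norm_num) hs ?_⟩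
    intro R _ hrad T _ _ hTna h2 h3 h4
    rcases h2 with h2 | h2 | h2 | h2 | h2 | h2 | h2 | h2 | h2 | h2 | h2 <;> rw [h2] at h3 h4 <;>
      first | exact absurd rfl h4 | exact absurd h3 (by norm_num)

end Cfsg.Agent.S3668
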