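import Cfsg.Statements.S3674
import Cfsg.Agent.S0000
import Cfsg.Agent.OrdDiv.Table
import Cfsg.Agent.H425.Core3674

set_option autoImplicit false
open Cfsg

namespace Cfsg.Agent.S3674

/-- The non-commuting graph of a finite non-abelian group has the non-central elements as vertices, two of them joined when they do not commute. Let F be the field with 3 elements, n ≥ 5 odd, and M = PΩ⁺(2n,F). If the non-commuting graph of a finite group G is isomorphic to that of M (a bijection between the non-central elements of G and of M under which two elements commute exactly when their images do), then G is isomorphic to M. -/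
theorem result {F : Type*} [Field F] [Fintype F] (hF : Fintype.card F = 3)
    {n : ℕ} (hn : 5 ≤ n) (hodd : Odd n) {G : Type*} [Group G] [Finite G]
    (φ : {g : G // g ∉ Subgroup.center G} ≃ {m : Cfsg.POmega F (Cfsg.quadFormPlus n F) // m ∉ Subgroup.center (Cfsg.POmega F (Cfsg.quadFormPlus n F))})
    (hφ : ∀ x y : {g : G // g ∉ Subgroup.center G}, Commute x.1 y.1 ↔ Commute (φ x).1 (φ y).1) :
    Nonempty (G ≃* Cfsg.POmega F (Cfsg.quadFormPlus n F)) :=
  Cfsg.Agent.H425.Core3674.main hF hn hodd Cfsg.Agent.OrdDiv.table
    (fun S _ _ _ => Cfsg.Agent.S0000.result (G := S)) φ hφ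

end Cfsg.Agent.S3674
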