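import Cfsg.Statements.S3692
import Cfsg.Agent.S0000
import Cfsg.Agent.H936.DSAll
import Cfsg.Agent.OrdDiv.Table
import Cfsg.Agent.H484.CritFinal
import Cfsg.Agent.H429.RegFinal
import Cfsg.Agent.H429.RegAll

set_option autoImplicit false
open Cfsg

namespace Cfsg.Agent.S3692

/-- Primitive groups with an almost simple regular subgroup (the known proof uses the classification of the finite simple groups). Let a finite group G act faithfully and primitively on a finite set Ω, and let B be a subgroup of G acting regularly on Ω that is almost simple (it has a non-abelian simple normal subgroup with trivial centralizer in B). Then one of the following holds: the image of G in the symmetric group of Ω contains the alternating group of Ω; G has a normal subgroup with trivial centralizer isomorphic to T × T for a non-abelian simple group T, and B is isomorphic to T; or G itself is almost simple. -/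
theorem result {G Ω : Type*} [Group G] [Finite G] [MulAction G Ω] [FaithfulSMul G Ω] [Fintype Ω] [DecidableEq Ω]
    (hprim : MulAction.IsPreprimitive G Ω)
    (B : Subgroup G) (hBt : MulAction.IsPretransitive B Ω) (hBr : ∀ ω : Ω, MulAction.stabilizer B ω = ⊥)
    (S : Subgroup B) (hSn : S.Normal) (hSs : IsSimpleGroup S) (hSa : ¬ IsMulCommutative S) (hSc : Subgroup.centralizer (S : Set B) = ⊥) :
    alternatingGroup Ω ≤ (MulAction.toPermHom G Ω).range ∨
    (∃ (N : Subgroup G) (T : Type) (_ : Group T), N.Normal ∧ Subgroup.centralizer (N : Set G) = ⊥ ∧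
        IsSimpleGroup T ∧ ¬ IsMulCommutative T ∧ Nonempty (N ≃* T × T) ∧ Nonempty (B ≃* T)) ∨
    (∃ N : Subgroup G, N.Normal ∧ IsSimpleGroup N ∧ ¬ IsMulCommutative N ∧ Subgroup.centralizer (N : Set G) = ⊥) := by
  right
  refine Cfsg.Agent.H429.Reg.reduction ⟨hprim, hBt, hBr, hSn, hSs, hSa, hSc⟩
    (Cfsg.Agent.H429.Reg.rt_known Cfsg.Agent.OrdDiv.table Cfsg.Agent.H484.SylNorm.outTable
      (Cfsg.Agent.S0000.result (G := S)) hSs hSa) ?_
  intro T _ _ hT hna
  exact Cfsg.Agent.H936.ds_known hna Cfsg.Agent.S0000.result

end Cfsg.Agent.S3692
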