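import Cfsg.Statements.S3730
-- import your own Cfsg.Agent.* helpers here
import Cfsg.Agent.S0205
import Cfsg.Agent.S3214
import Cfsg.Agent.H439.NC.Reduce
import Cfsg.Agent.H439.NC.NoSuz
import Cfsg.Agent.H439.NC.NoASev
import Cfsg.Agent.H439.NC.NoLThree
import Cfsg.Agent.H439.NC.Final

set_option autoImplicit false
open Cfsg

namespace Cfsg.Agent.S3730

/-- Let G be a nontrivial finite group with no nontrivial solvable normal subgroup, such that for every cyclic subgroup X of even order and every nontrivial subgroup Y of X one has N_G(X) = N_G(Y) (every nontrivial subgroup of a cyclic subgroup of even order has the same normalizer as the whole cyclic subgroup). Then G is isomorphic to PSL(2, q) or to PGL(2, q) for some prime power q > 3. -/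
theorem result
    {G : Type*} [Group G] [Finite G] [Nontrivial G]
    (hss : ∀ N : Subgroup G, N.Normal → Group.IsSolvable ↥N → N = ⊥)
    (hii : ∀ X : Subgroup G, IsCyclic ↥X → Even (Nat.card ↥X) → ∀ Y : Subgroup G, Y ≤ X → Y ≠ ⊥ →
      Subgroup.normalizer (X : Set G) = Subgroup.normalizer (Y : Set G)) :
    ∃ (F : Type) (_ : Field F) (_ : Fintype F), 3 < Fintype.card F ∧
      (Nonempty (G ≃* Matrix.ProjectiveSpecialLinearGroup (Fin 2) F) ∨
        Nonempty (G ≃* Matrix.ProjGenLinGroup (Fin 2) F)) := by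
  have h : H439.NC.EqNorm G := hii
  obtain ⟨L, hLn, hLs, hLc, hL⟩ := H439.NC.reduce (fun K _ _ hK => S0205.result hK) hss h
  have hLE : H439.NC.EqNorm L := h.subgroup L
  rcases S3214.result hLc hLE.hnc with ⟨F, iF, iF', hF, ⟨e⟩⟩ | hS | ⟨⟨e⟩⟩ | ⟨F, iF, iF', hF, ⟨e⟩⟩
  · exact H439.NC.of_socle h hF L hL e
  · exact (H439.NC.not_suz hLE hS).elim
  · exact (H439.NC.not_alt hLE e).elim
  · exact (H439.NC.not_l3 hLE hF e).elim

end Cfsg.Agent.S3730
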