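import Cfsg.Statements.S3758
import Cfsg.Agent.H444.ZNChar
import Cfsg.Agent.S1296
import Cfsg.Agent.Lib.ComponentSolvable
import Cfsg.Agent.Transfer.Residual

set_option autoImplicit false
open Cfsg

namespace Cfsg.Agent.S3758

open Subgroup Cfsg.Agent.StdEven.Syl Cfsg.Agent.H444.ZNSit
open Cfsg.Agent.H444.RankTwoMain.Hyp (fourGroup mem_fourGroup card_fourGroup)
open Cfsg.Agent.TwoFusion.RankTwoBasic (Four)

theorem mem_Z {G : Type*} [Group G] [Finite G] (S : Subgroup G) (x : G) :
    x ∈ omegaOne 2 (S ⊓ centralizer (S : Set G)) ↔ InZ S x := by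
  constructor
  · intro hx
    have h1 : omegaOne 2 (S ⊓ centralizer (S : Set G)) ≤ zSub S := by
      unfold omegaOne
      rw [Subgroup.closure_le]
      rintro y ⟨hy, hy2⟩
      obtain ⟨h1, h2⟩ := mem_inf.1 hy
      refine ⟨h1, by rw [← pow_two]; exact hy2, fun s hs => mem_centralizer_iff.1 h2 s hs⟩
    exact h1 hx
  · intro hx
    exact Subgroup.subset_closure ⟨mem_inf.2 ⟨hx.1, mem_centralizer_iff.2 hx.2.2⟩, by rw [pow_two]; exact hx.2.1⟩

theorem solc_of {G : Type*} [Group G] [Finite G] (hN : ∀ L : Subgroup G, Cfsg.IsTwoLocal L → Group.IsSolvable L)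
    (z : G) (hz2 : z * z = 1) (hz1 : z ≠ 1) : Group.IsSolvable (centralizer ({z} : Set G)) := by
  have ht : orderOf z = 2 := orderOf_eq_prime (by rw [pow_two]; exact hz2) hz1
  have h2 : IsPGroup 2 (Subgroup.zpowers z) := by
    apply IsPGroup.of_card (n := 1)
    rw [Nat.card_zpowers, ht, pow_one]
  have h1 : Subgroup.zpowers z ≠ ⊥ := by
    intro h
    rw [Subgroup.zpowers_eq_bot] at h
    exact hz1 h
  apply isSolvable_of_le _ (hN _ ⟨_, h2, h1, rfl⟩)
  rw [← Subgroup.centralizer_closure, ← Subgroup.zpowers_eq_closure]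
  exact Subgroup.centralizer_le_normalizer _

theorem sit_of {G : Type*} [Group G] [Finite G] (heven : Even (Nat.card G))
    (hN : ∀ L : Subgroup G, Cfsg.IsTwoLocal L → Group.IsSolvable L)
    (hO' : Cfsg.pPrimeCore 2 G = ⊥) (hO : Cfsg.pCore 2 G = ⊥) (S : Sylow 2 G)
    (hZ : Subgroup.centralizer (Cfsg.omegaOne 2 ((S : Subgroup G) ⊓ Subgroup.centralizer ((S : Subgroup G) : Set G)) : Set G) ≤ Subgroup.normalizer ((S : Subgroup G) : Set G)) :
    Sit G (S : Subgroup G) (pResidual 2 G) := by
  have : Fact (Nat.Prime 2) := ⟨Nat.prime_two⟩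
  have hHn : (pResidual 2 G).Normal := Cfsg.Agent.Transfer.Residual.pResidual_normal 2
  refine
    { even := heven
      syl := isSyl_top_of_sylow S
      Hn := fun g x hx => hHn.conj_mem x hx g
      HS := ?_
      odd := fun g hg => Cfsg.Agent.Transfer.Residual.mem_pResidual_of_coprime (Nat.coprime_two_right.2 hg)
      solc := solc_of hN
      hZ := ?_
      O1 := ?_
      O2 := ?_ }
  · intro g
    have h1 : g ∈ pResidual 2 G ⊔ (S : Subgroup G) := by
      rw [Cfsg.Agent.Transfer.Residual.pResidual_sup_sylow S]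
      exact mem_top g
    rw [← SetLike.mem_coe, Subgroup.normal_mul, Set.mem_mul] at h1
    obtain ⟨x, hx, y, hy, hxy⟩ := h1
    exact ⟨x, hx, y, hy, hxy.symm⟩
  · intro g hg
    apply hZ
    rw [mem_centralizer_iff]
    intro x hx
    obtain ⟨h1, h2, h3⟩ := (mem_Z _ _).1 hx
    exact (hg x h1 h2 h3).symm
  · intro N hNn hNo
    have h1 := Cfsg.Agent.Lib.Cores.le_pPrimeCore (p := 2) hNn (Nat.coprime_two_right.2 hNo)
    rw [hO'] at h1
    exact le_bot_iff.1 h1
  · intro N hNn hNp
    have h1 := Cfsg.Agent.Lib.Cores.le_pCore hNn hNp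
    rw [hO] at h1
    exact le_bot_iff.1 h1

theorem residual_top {G : Type*} [Group G] : pResidual 2 (pResidual 2 G) = ⊤ := by
  rw [eq_top_iff]
  intro x _
  have h1 : pResidual 2 G ≤ (pResidual 2 (pResidual 2 G)).map (pResidual 2 G).subtype := by
    conv_lhs => rw [Cfsg.Agent.Transfer.Residual.pResidual_def]
    rw [Subgroup.closure_le]
    intro g hg
    have hgH : g ∈ pResidual 2 G := Cfsg.Agent.Transfer.Residual.mem_pResidual_of_coprime hg
    refine ⟨⟨g, hgH⟩, Cfsg.Agent.Transfer.Residual.mem_pResidual_of_coprime ?_, rfl⟩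
    rw [Subgroup.orderOf_mk]
    exact hg
  obtain ⟨y, hy, hyx⟩ := h1 x.2
  have h2 : y = x := Subtype.ext hyx
  rwa [← h2]

theorem sol_sub {G : Type*} [Group G] (H : Subgroup G)
    (hN : ∀ L : Subgroup G, Cfsg.IsTwoLocal L → Group.IsSolvable L) (L : Subgroup H) (hL : IsTwoLocal L) :
    Group.IsSolvable L := by
  obtain ⟨T, hT, hT1, rfl⟩ := hL
  have h1 : Group.IsSolvable (normalizer ((T.map H.subtype : Subgroup G) : Set G)) :=
    hN _ ⟨T.map H.subtype, hT.map _, by
      intro hb
      apply hT1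
      rw [Subgroup.map_eq_bot_iff, Subgroup.ker_subtype] at hb
      exact le_bot_iff.1 hb, rfl⟩
  have key : ∀ x : H, x ∈ normalizer (T : Set H) → (x : G) ∈ normalizer ((T.map H.subtype : Subgroup G) : Set G) := by
    intro x hx
    rw [mem_normalizer_iff]
    intro y
    constructor
    · rintro ⟨t, ht, rfl⟩
      exact ⟨x * t * x⁻¹, (mem_normalizer_iff.1 hx t).1 ht, rfl⟩
    · rintro ⟨t, ht, hty⟩
      refine ⟨x⁻¹ * t * x, ?_, ?_⟩
      · apply (mem_normalizer_iff.1 hx _).2
        have h2 : x * (x⁻¹ * t * x) * x⁻¹ = t := by group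
        rw [h2]
        exact ht
      · have h3 : (t : G) = x * y * (x : G)⁻¹ := hty
        show (x : G)⁻¹ * t * x = y
        rw [h3]
        group
  let f : normalizer (T : Set H) →* normalizer ((T.map H.subtype : Subgroup G) : Set G) :=
    { toFun := fun x => ⟨(x : H), key x x.2⟩
      map_one' := rfl
      map_mul' := fun _ _ => rfl }
  exact Group.isSolvable_of_isSolvable_injective (f := f) (fun x y hxy => by
    apply Subtype.ext
    apply Subtype.ext
    have h2 : ((f x : normalizer ((T.map H.subtype : Subgroup G) : Set G)) : G) = f y := by rw [hxy]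
    exact h2)

theorem no_index_two {G : Type*} [Group G] [Finite G] (h : pResidual 2 G = ⊤) (N : Subgroup G) (hN : N.Normal) :
    N.index ≠ 2 := by
  have : Fact (Nat.Prime 2) := ⟨Nat.prime_two⟩
  intro hi
  have h1 : pResidual 2 G ≤ N := Cfsg.Agent.Transfer.Residual.pResidual_le_of_isPGroup_quotient (by
    apply IsPGroup.of_card (n := 1)
    rw [pow_one, ← hi]
    rfl)
  rw [h, top_le_iff] at h1
  rw [h1, Subgroup.index_top] at hi
  norm_num at hi

theorem not_isComponentType {G : Type*} [Group G] [Finite G]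
    (hN : ∀ L : Subgroup G, Cfsg.IsTwoLocal L → Group.IsSolvable L) : ¬ IsComponentType G := by
  rintro ⟨t, ht, K, -, hK⟩
  have h2 : IsPGroup 2 (Subgroup.zpowers t) := by
    apply IsPGroup.of_card (n := 1)
    rw [Nat.card_zpowers, ht, pow_one]
  have h1 : Subgroup.zpowers t ≠ ⊥ := by
    intro h
    rw [Subgroup.zpowers_eq_bot] at h
    rw [h, orderOf_one] at ht
    exact absurd ht (by norm_num)
  have hs : Group.IsSolvable (Subgroup.centralizer ({t} : Set G)) := by
    refine isSolvable_of_le ?_ (hN _ ⟨_, h2, h1, rfl⟩)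
    rw [← Subgroup.centralizer_closure, ← Subgroup.zpowers_eq_closure]
    exact Subgroup.centralizer_le_normalizer _
  have hq : Group.IsSolvable (↥(Subgroup.centralizer ({t} : Set G)) ⧸
      oddCore ↥(Subgroup.centralizer ({t} : Set G))) := inferInstance
  exact Cfsg.Agent.Lib.ComponentSolvable.quasisimple_not_solvable hK inferInstance


/-- Let G be a finite group of even order in which every 2-local subgroup is solvable and C_G(Ω₁(Z(S))) ≤ N_G(S) for every Sylow 2-subgroup S, and suppose O_{2'}(G) = 1 = O₂(G). Fix a Sylow 2-subgroup S, put Z = Ω₁(Z(S)), H = O²(G) (generated by the elements of odd order) and R = S ∩ H. Then one of the following holds: H has a strongly embedded subgroup; R is dihedral (of order at least 4) or semidihedral; Z ∩ R has order 2 and is weakly closed in R with respect to H; or Z has order 4 and is exactly the subgroup generated by the involutions of R. -/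
theorem result {G : Type*} [Group G] [Finite G] (heven : Even (Nat.card G)) (hN : ∀ L : Subgroup G, Cfsg.IsTwoLocal L → Group.IsSolvable L) (hZ : ∀ S : Sylow 2 G, Subgroup.centralizer (Cfsg.omegaOne 2 ((S : Subgroup G) ⊓ Subgroup.centralizer ((S : Subgroup G) : Set G)) : Set G) ≤ Subgroup.normalizer ((S : Subgroup G) : Set G)) (hO' : Cfsg.pPrimeCore 2 G = ⊥) (hO : Cfsg.pCore 2 G = ⊥) (S : Sylow 2 G) : (∃ M : Subgroup ↥(Cfsg.pResidual 2 G), Cfsg.IsStronglyEmbedded M) ∨ ((∃ n : ℕ, 2 ≤ n ∧ Nonempty (↥((S : Subgroup G) ⊓ Cfsg.pResidual 2 G) ≃* DihedralGroup n)) ∨ Cfsg.IsQuasiDihedral ↥((S : Subgroup G) ⊓ Cfsg.pResidual 2 G)) ∨ (Nat.card ↥(Cfsg.omegaOne 2 ((S : Subgroup G) ⊓ Subgroup.centralizer ((S : Subgroup G) : Set G)) ⊓ Cfsg.pResidual 2 G) = 2 ∧ ∀ h ∈ Cfsg.pResidual 2 G, ∀ z ∈ Cfsg.omegaOne 2 ((S : Subgroup G) ⊓ Subgroup.centralizer ((S : Subgroup G) : Set G)) ⊓ Cfsg.pResidual 2 G, h * z * h⁻¹ ∈ (S : Subgroup G) → h * z * h⁻¹ ∈ Cfsg.omegaOne 2 ((S : Subgroup G) ⊓ Subgroup.centralizer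 ((S : Subgroup G) : Set G))) ∨ (Nat.card ↥(Cfsg.omegaOne 2 ((S : Subgroup G) ⊓ Subgroup.centralizer ((S : Subgroup G) : Set G))) = 4 ∧ Cfsg.omegaOne 2 ((S : Subgroup G) ⊓ Cfsg.pResidual 2 G) = Cfsg.omegaOne 2 ((S : Subgroup G) ⊓ Subgroup.centralizer ((S : Subgroup G) : Set G))) := by
  have : Fact (Nat.Prime 2) := ⟨Nat.prime_two⟩
  have h := sit_of heven hN hO' hO S (hZ S)
  set H := pResidual 2 G with hH
  have hHn : H.Normal := Cfsg.Agent.Transfer.Residual.pResidual_normal 2
  have hres : pResidual 2 H = ⊤ := residual_top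
  obtain ⟨z, hz, hzH, hz1⟩ := h.exists_z
  have hNH := sol_sub H hN
  have heH : Even (Nat.card H) := by
    have h1 : orderOf (⟨z, hzH⟩ : H) = 2 := by
      apply orderOf_eq_prime
      · rw [pow_two]
        exact Subtype.ext hz.2.1
      · intro h2
        exact hz1 (congrArg Subtype.val h2)
    rw [even_iff_two_dvd, ← h1]
    exact _root_.orderOf_dvd_natCard _
  have hoddH : oddCore H = ⊥ := by
    have h1 := Cfsg.Agent.Lib.Cores.map_subtype_pPrimeCore 2 hHn
    rw [hO', inf_bot_eq, Subgroup.map_eq_bot_iff, Subgroup.ker_subtype] at h1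
    exact le_bot_iff.1 h1
  have h2H : pCore 2 H = ⊥ := by
    have h1 := Cfsg.Agent.Lib.Cores.map_subtype_pCore 2 hHn
    rw [hO, inf_bot_eq, Subgroup.map_eq_bot_iff, Subgroup.ker_subtype] at h1
    exact le_bot_iff.1 h1
  rcases Cfsg.Agent.S1296.result heH (fun N hNn => no_index_two hres N hNn) hoddH with hr | hct | hch
  · -- 2-rank at most two
    by_cases h4 : ∃ y, InZ (S : Subgroup G) y ∧ y ∈ H ∧ y ≠ 1 ∧ y ≠ z
    · obtain ⟨y, hy, hyH, hy1, hyz⟩ := h4
      have hf : Four z y := ⟨hz.2.1, hy.2.1, hz.2.2 y hy.1, hz1, hy1, fun h => hyz h.symm⟩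
      obtain ⟨hT, hle⟩ := h.four_case hr hf hz hy hzH hyH
      have hVZ : ∀ x ∈ fourGroup hf, InZ (S : Subgroup G) x := by
        intro x hx
        rcases (mem_fourGroup hf).1 hx with rfl | rfl | rfl | rfl
        · exact InZ.one
        · exact hz
        · exact hy
        · exact hz.mul hy
      have hVH : ∀ x ∈ fourGroup hf, x ∈ H := by
        intro x hx
        rcases (mem_fourGroup hf).1 hx with rfl | rfl | rfl | rfl
        · exact one_mem _
        · exact hzH
        · exact hyH
        · exact mul_mem hzH hyH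
      have hZ4 : omegaOne 2 ((S : Subgroup G) ⊓ centralizer ((S : Subgroup G) : Set G)) = fourGroup hf := by
        ext x
        rw [mem_Z]
        exact ⟨fun hx => hT x (mem_inf.2 ⟨hx.1, hle x hx⟩) hx.2.1, hVZ x⟩
      have hR4 : omegaOne 2 ((S : Subgroup G) ⊓ H) = fourGroup hf := by
        apply le_antisymm
        · unfold omegaOne
          rw [Subgroup.closure_le]
          rintro x ⟨hx, hx2⟩
          exact hT x hx (by rw [← pow_two]; exact hx2)
        · intro x hx
          exact Subgroup.subset_closure ⟨mem_inf.2 ⟨(hVZ x hx).1, hVH x hx⟩, by rw [pow_two]; exact (hVZ x hx).2.1⟩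
      refine Or.inr (Or.inr (Or.inr ⟨?_, ?_⟩))
      · rw [hZ4]
        exact card_fourGroup hf
      · rw [hR4, hZ4]
    · push Not at h4
      have hu : ∀ x, InZ (S : Subgroup G) x → x ∈ H → x = 1 ∨ x = z := by
        intro x hx hxH
        by_cases hx1 : x = 1
        · exact Or.inl hx1
        · exact Or.inr (h4 x hx hxH hx1)
      have hZH : omegaOne 2 ((S : Subgroup G) ⊓ centralizer ((S : Subgroup G) : Set G)) ⊓ H = Subgroup.zpowers z := by
        apply le_antisymm
        · intro x hx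
          rw [mem_inf, mem_Z] at hx
          rcases hu x hx.1 hx.2 with h1 | h1
          · rw [h1]; exact one_mem _
          · rw [h1]; exact Subgroup.mem_zpowers z
        · rw [Subgroup.zpowers_le, mem_inf, mem_Z]
          exact ⟨hz, hzH⟩
      by_cases hw : ∀ k ∈ H, k * z * k⁻¹ ∈ (S : Subgroup G) → k * z * k⁻¹ = z
      · refine Or.inr (Or.inr (Or.inl ⟨?_, ?_⟩))
        · rw [hZH, Nat.card_zpowers]
          exact orderOf_eq_prime (by rw [pow_two]; exact hz.2.1) hz1
        · intro k hk x hx hkx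
          rw [mem_inf, mem_Z] at hx
          rw [mem_Z]
          rcases hu x hx.1 hx.2 with h1 | h1
          · rw [h1, mul_one, mul_inv_cancel]
            exact InZ.one
          · rw [h1] at hkx ⊢
            rw [hw k hk hkx]
            exact hz
      · push Not at hw
        obtain ⟨k, hk, hkS, hkz⟩ := hw
        by_cases huR : ∀ y ∈ (S : Subgroup G) ⊓ H, y * y = 1 → (∀ r ∈ (S : Subgroup G) ⊓ H, r * y = y * r) →
            y = 1 ∨ y = z
        · have h1 := h.case_B hr hres hz hz1 hzH hu huR hk hkS hkz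
          exact Or.inr (Or.inl (Cfsg.Agent.H444.ZNFour.congr (subgroupOfEquivOfLe inf_le_right) h1))
        · push Not at huR
          obtain ⟨y, hy, hy2, hyc, hy1, hyz⟩ := huR
          exact Or.inl (h.case_A hr hz hz1 hzH hu hy hy2 hy1 hyz hyc hkS hkz)
  · exact absurd hct (not_isComponentType hNH)
  · -- characteristic 2 type
    have hZH : ∀ T : Sylow 2 H, Subgroup.centralizer {z : H | z ∈ (T : Subgroup H) ∧ z ^ 2 = 1 ∧
        ∀ s ∈ (T : Subgroup H), s * z = z * s} ≤ Subgroup.normalizer ((T : Subgroup H) : Set H) := by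
      intro T
      obtain ⟨S', hS'⟩ := (T.isPGroup'.map H.subtype).exists_le_sylow
      have h' := sit_of heven hN hO' hO S' (hZ S')
      have hT : ∀ x : H, x ∈ (T : Subgroup H) ↔ (x : G) ∈ (S' : Subgroup G) := by
        have h1 : IsPGroup 2 ((S' : Subgroup G).subgroupOf H) := S'.isPGroup'.comap_subtype
        have h2 := T.is_maximal' h1 (fun x hx => mem_subgroupOf.2 (hS' ⟨x, hx, rfl⟩))
        intro x
        rw [← mem_subgroupOf, h2]
      intro c hc
      rw [mem_centralizer_iff] at hc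
      have h1 : (c : G) ∈ normalizer ((S' : Subgroup G) : Set G) := by
        apply h'.char_norm hch
        intro x hx
        have hxH : x ∈ H := (mem_inf.1 hx.1).2
        have h2 := hc ⟨x, hxH⟩ ⟨(hT _).2 (mem_inf.1 hx.1).1, by
          rw [pow_two]
          exact Subtype.ext hx.2.1, fun s hs => Subtype.ext (hx.2.2 s (mem_inf.2 ⟨(hT s).1 hs, s.2⟩))⟩
        exact (congrArg Subtype.val h2).symm
      apply mem_normalizer_of_conj_le
      intro x hx
      rw [hT] at hx ⊢
      exact conj_mem_of_mem_normalizer h1 hx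
    rcases Cfsg.Agent.S0518.result hch h2H hNH hZH _ rfl with hse | ⟨M₁, M₂, -, ⟨⟨T, hT, hT1, hM⟩, -⟩, -, ⟨e⟩, -, -⟩
    · exact Or.inl hse
    · right; left
      subst hM
      have htop : closure {g : H | Odd (orderOf g)} = ⊤ := by
        rw [← hres, Cfsg.Agent.Transfer.Residual.pResidual_def]
        congr 1
        ext g
        exact Nat.coprime_two_right.symm
      obtain ⟨P⟩ : Nonempty (Sylow 2 (closure {g : H | Odd (orderOf g)})) := inferInstance
      have h1 := Cfsg.Agent.H444.ZNFour.dihedral_of_norm hT hT1 e P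
      let f : closure {g : H | Odd (orderOf g)} ≃* H := (MulEquiv.subgroupCongr htop).trans Subgroup.topEquiv
      have h2 := Cfsg.Agent.H444.ZNFour.congr ((P : Subgroup _).equivMapOfInjective f.toMonoidHom f.injective) h1
      let P' : Sylow 2 H := P.mapSurjective (f := f.toMonoidHom) f.surjective
      have h3 := Cfsg.Agent.H444.ZNFour.congr (Sylow.equiv P' h.sylH.toSylow) h2
      exact Cfsg.Agent.H444.ZNFour.congr (subgroupOfEquivOfLe inf_le_right) h3

end Cfsg.Agent.S3758
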