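import Cfsg.Statements.S3759
import Cfsg.Agent.H444.ZCCaseB
import Cfsg.Agent.S1296
import Cfsg.Agent.Lib.ComponentSolvable
import Cfsg.Agent.Transfer.Residual

set_option autoImplicit false
open Cfsg

namespace Cfsg.Agent.S3759

open Subgroup Cfsg.Agent.StdEven.Syl Cfsg.Agent.H444.ZNSit
open Cfsg.Agent.H444.RankTwoMain.Hyp (fourGroup mem_fourGroup card_fourGroup)
open Cfsg.Agent.TwoFusion.RankTwoBasic (Four)

theorem mem_Z {G : Type*} [Group G] [Finite G] (S : Subgroup G) (x : G) :
    x ∈ omegaOne 2 (S ⊓ centralizer (S : Set G)) ↔ InZ S x := by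
  constructor
  · intro hx
    have h1 : omegaOne 2 (S ⊓ centralizer (S : Set G)) ≤ zSub S := by
      unfold omegaOne
      rw [Subgroup.closure_le]
      rintro y ⟨hy, hy2⟩
      obtain ⟨h1, h2⟩ := mem_inf.1 hy
      refine ⟨h1, by rw [← pow_two]; exact hy2, fun s hs => mem_centralizer_iff.1 h2 s hs⟩
    exact h1 hx
  · intro hx
    exact Subgroup.subset_closure ⟨mem_inf.2 ⟨hx.1, mem_centralizer_iff.2 hx.2.2⟩, by rw [pow_two]; exact hx.2.1⟩

theorem sit_of {G : Type*} [Group G] [Finite G] (heven : Even (Nat.card G))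
    (hC : ∀ t : G, orderOf t = 2 → Group.IsSolvable ↥(Subgroup.centralizer ({t} : Set G)))
    (hO' : Cfsg.pPrimeCore 2 G = ⊥) (hO : Cfsg.pCore 2 G = ⊥) (S : Sylow 2 G)
    (hZ : Subgroup.centralizer (Cfsg.omegaOne 2 ((S : Subgroup G) ⊓ Subgroup.centralizer ((S : Subgroup G) : Set G)) : Set G) ≤ Subgroup.normalizer ((S : Subgroup G) : Set G)) :
    Sit G (S : Subgroup G) (pResidual 2 G) := by
  have : Fact (Nat.Prime 2) := ⟨Nat.prime_two⟩
  have hHn : (pResidual 2 G).Normal := Cfsg.Agent.Transfer.Residual.pResidual_normal 2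
  refine
    { even := heven
      syl := isSyl_top_of_sylow S
      Hn := fun g x hx => hHn.conj_mem x hx g
      HS := ?_
      odd := fun g hg => Cfsg.Agent.Transfer.Residual.mem_pResidual_of_coprime (Nat.coprime_two_right.2 hg)
      solc := fun z hz2 hz1 => hC z (Sit.ev_of_invol hz2 hz1)
      hZ := ?_
      O1 := ?_
      O2 := ?_ }
  · intro g
    have h1 : g ∈ pResidual 2 G ⊔ (S : Subgroup G) := by
      rw [Cfsg.Agent.Transfer.Residual.pResidual_sup_sylow S]
      exact mem_top g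
    rw [← SetLike.mem_coe, Subgroup.normal_mul, Set.mem_mul] at h1
    obtain ⟨x, hx, y, hy, hxy⟩ := h1
    exact ⟨x, hx, y, hy, hxy.symm⟩
  · intro g hg
    apply hZ
    rw [mem_centralizer_iff]
    intro x hx
    obtain ⟨h1, h2, h3⟩ := (mem_Z _ _).1 hx
    exact (hg x h1 h2 h3).symm
  · intro N hNn hNo
    have h1 := Cfsg.Agent.Lib.Cores.le_pPrimeCore (p := 2) hNn (Nat.coprime_two_right.2 hNo)
    rw [hO'] at h1
    exact le_bot_iff.1 h1
  · intro N hNn hNp
    have h1 := Cfsg.Agent.Lib.Cores.le_pCore hNn hNp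
    rw [hO] at h1
    exact le_bot_iff.1 h1

theorem residual_top {G : Type*} [Group G] : pResidual 2 (pResidual 2 G) = ⊤ := by
  rw [eq_top_iff]
  intro x _
  have h1 : pResidual 2 G ≤ (pResidual 2 (pResidual 2 G)).map (pResidual 2 G).subtype := by
    conv_lhs => rw [Cfsg.Agent.Transfer.Residual.pResidual_def]
    rw [Subgroup.closure_le]
    intro g hg
    have hgH : g ∈ pResidual 2 G := Cfsg.Agent.Transfer.Residual.mem_pResidual_of_coprime hg
    refine ⟨⟨g, hgH⟩, Cfsg.Agent.Transfer.Residual.mem_pResidual_of_coprime ?_, rfl⟩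
    rw [Subgroup.orderOf_mk]
    exact hg
  obtain ⟨y, hy, hyx⟩ := h1 x.2
  have h2 : y = x := Subtype.ext hyx
  rwa [← h2]

theorem not_isComponentType {G : Type*} [Group G] [Finite G] (H : Subgroup G)
    (hC : ∀ t : G, orderOf t = 2 → Group.IsSolvable ↥(Subgroup.centralizer ({t} : Set G))) :
    ¬ IsComponentType H := by
  rintro ⟨t, ht, K, -, hK⟩
  have hs : Group.IsSolvable (Subgroup.centralizer ({(t : G)} : Set G)) := hC t (by
    rw [← ht]
    exact Subgroup.orderOf_coe t)
  let f : centralizer ({t} : Set H) →* centralizer ({(t : G)} : Set G) :=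
    { toFun := fun c => ⟨((c : H) : G), by
        rw [mem_centralizer_singleton_iff]
        exact congrArg Subtype.val (mem_centralizer_singleton_iff.1 c.2)⟩
      map_one' := rfl
      map_mul' := fun _ _ => rfl }
  have hs' : Group.IsSolvable (centralizer ({t} : Set H)) :=
    Group.isSolvable_of_isSolvable_injective (f := f) (fun x y hxy => by
      apply Subtype.ext
      apply Subtype.ext
      have h2 : ((f x : centralizer ({(t : G)} : Set G)) : G) = f y := by rw [hxy]
      exact h2)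
  have hq : Group.IsSolvable (↥(Subgroup.centralizer ({t} : Set H)) ⧸
      oddCore ↥(Subgroup.centralizer ({t} : Set H))) := inferInstance
  exact Cfsg.Agent.Lib.ComponentSolvable.quasisimple_not_solvable hK inferInstance


/-- Let G be a finite group of even order in which the centralizer of every involution is solvable and C_G(Ω₁(Z(S))) ≤ N_G(S) for every Sylow 2-subgroup S, with O_{2'}(G) = 1 = O₂(G). Fix a Sylow 2-subgroup S and put Z = Ω₁(Z(S)), H = O²(G), R = S ∩ H. Then H has a strongly embedded subgroup; or Z ∩ R has order 2 and is weakly closed in R with respect to H; or Z has order 4 and equals the subgroup generated by the involutions of R; or the subgroup HZ has local characteristic 2: it has even order and every 2-local subgroup L of HZ satisfies C_L(O₂(L)) ≤ O₂(L). -/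
theorem result {G : Type*} [Group G] [Finite G] (heven : Even (Nat.card G)) (hC : ∀ t : G, orderOf t = 2 → Group.IsSolvable ↥(Subgroup.centralizer ({t} : Set G))) (hZ : ∀ S : Sylow 2 G, Subgroup.centralizer (Cfsg.omegaOne 2 ((S : Subgroup G) ⊓ Subgroup.centralizer ((S : Subgroup G) : Set G)) : Set G) ≤ Subgroup.normalizer ((S : Subgroup G) : Set G)) (hO' : Cfsg.pPrimeCore 2 G = ⊥) (hO : Cfsg.pCore 2 G = ⊥) (S : Sylow 2 G) : (∃ M : Subgroup ↥(Cfsg.pResidual 2 G), Cfsg.IsStronglyEmbedded M) ∨ (Nat.card ↥(Cfsg.omegaOne 2 ((S : Subgroup G) ⊓ Subgroup.centralizer ((S : Subgroup G) : Set G)) ⊓ Cfsg.pResidual 2 G) = 2 ∧ ∀ h ∈ Cfsg.pResidual 2 G, ∀ z ∈ Cfsg.omegaOne 2 ((S : Subgroup G) ⊓ Subgroup.centralizer ((S : Subgroup G) : Set G)) ⊓ Cfsg.pResidual 2 G, h * z * h⁻¹ ∈ (S : Subgroup G) → h * z * h⁻¹ ∈ Cfsg.omegaOne 2 ((S : Subgroup G) ⊓ Subgroup.centralizer ((S : Subgroup G) : Set G))) ∨ (Nat.card ↥(Cfsg.omegaOne 2 ((S : Subgroup G) ⊓ Subgroup.centralizer ((S : Subgroup G)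 : Set G))) = 4 ∧ Cfsg.omegaOne 2 ((S : Subgroup G) ⊓ Cfsg.pResidual 2 G) = Cfsg.omegaOne 2 ((S : Subgroup G) ⊓ Subgroup.centralizer ((S : Subgroup G) : Set G))) ∨ Cfsg.IsCharacteristicTwoType ↥(Cfsg.pResidual 2 G ⊔ Cfsg.omegaOne 2 ((S : Subgroup G) ⊓ Subgroup.centralizer ((S : Subgroup G) : Set G))) := by
  have : Fact (Nat.Prime 2) := ⟨Nat.prime_two⟩
  have h := sit_of heven hC hO' hO S (hZ S)
  set H := pResidual 2 G with hH
  have hHn : H.Normal := Cfsg.Agent.Transfer.Residual.pResidual_normal 2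
  have hres : pResidual 2 H = ⊤ := residual_top
  obtain ⟨z, hz, hzH, hz1⟩ := h.exists_z
  have heH : Even (Nat.card H) := by
    have h1 : orderOf (⟨z, hzH⟩ : H) = 2 := by
      rw [Subgroup.orderOf_mk]
      exact Sit.ev_of_invol hz.2.1 hz1
    rw [even_iff_two_dvd, ← h1]
    exact _root_.orderOf_dvd_natCard _
  have hoddH : oddCore H = ⊥ := by
    have h1 := Cfsg.Agent.Lib.Cores.map_subtype_pPrimeCore 2 hHn
    rw [hO', inf_bot_eq, Subgroup.map_eq_bot_iff, Subgroup.ker_subtype] at h1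
    exact le_bot_iff.1 h1
  have hzS : omegaOne 2 ((S : Subgroup G) ⊓ centralizer ((S : Subgroup G) : Set G)) = zSub (S : Subgroup G) := by
    ext x
    rw [mem_Z, mem_zSub]
  -- the weakly closed case
  have hwc : (∀ x, InZ (S : Subgroup G) x → x ∈ H → x = 1 ∨ x = z) →
      (∀ k ∈ H, k * z * k⁻¹ ∈ (S : Subgroup G) → k * z * k⁻¹ = z) →
      (Nat.card ↥(Cfsg.omegaOne 2 ((S : Subgroup G) ⊓ Subgroup.centralizer ((S : Subgroup G) : Set G)) ⊓ H) = 2 ∧ ∀ h ∈ H, ∀ z ∈ Cfsg.omegaOne 2 ((S : Subgroup G) ⊓ Subgroup.centralizer ((S : Subgroup G) : Set G)) ⊓ H, h * z * h⁻¹ ∈ (S : Subgroup G) → h * z * h⁻¹ ∈ Cfsg.omegaOne 2 ((S : Subgroup G) ⊓ Subgroup.centralizer ((S : Subgroup G) : Set G))) := by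
    intro hu hw
    have hZH : omegaOne 2 ((S : Subgroup G) ⊓ centralizer ((S : Subgroup G) : Set G)) ⊓ H = Subgroup.zpowers z := by
      apply le_antisymm
      · intro x hx
        rw [mem_inf, mem_Z] at hx
        rcases hu x hx.1 hx.2 with h1 | h1
        · rw [h1]; exact one_mem _
        · rw [h1]; exact Subgroup.mem_zpowers z
      · rw [Subgroup.zpowers_le, mem_inf, mem_Z]
        exact ⟨hz, hzH⟩
    refine ⟨?_, ?_⟩
    · rw [hZH, Nat.card_zpowers]
      exact orderOf_eq_prime (by rw [pow_two]; exact hz.2.1) hz1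
    · intro k hk x hx hkx
      rw [mem_inf, mem_Z] at hx
      rw [mem_Z]
      rcases hu x hx.1 hx.2 with h1 | h1
      · rw [h1, mul_one, mul_inv_cancel]
        exact InZ.one
      · rw [h1] at hkx ⊢
        rw [hw k hk hkx]
        exact hz
  rcases Cfsg.Agent.S1296.result heH (fun N _ => Sit.index_ne_two hres N) hoddH with hr | hct | hch
  · -- 2-rank at most two
    by_cases h4 : ∃ y, InZ (S : Subgroup G) y ∧ y ∈ H ∧ y ≠ 1 ∧ y ≠ z
    · obtain ⟨y, hy, hyH, hy1, hyz⟩ := h4
      have hf : Four z y := ⟨hz.2.1, hy.2.1, hz.2.2 y hy.1, hz1, hy1, fun h => hyz h.symm⟩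
      obtain ⟨hT, hle⟩ := h.four_case hr hf hz hy hzH hyH
      have hVZ : ∀ x ∈ fourGroup hf, InZ (S : Subgroup G) x := by
        intro x hx
        rcases (mem_fourGroup hf).1 hx with rfl | rfl | rfl | rfl
        · exact InZ.one
        · exact hz
        · exact hy
        · exact hz.mul hy
      have hVH : ∀ x ∈ fourGroup hf, x ∈ H := by
        intro x hx
        rcases (mem_fourGroup hf).1 hx with rfl | rfl | rfl | rfl
        · exact one_mem _
        · exact hzH
        · exact hyH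
        · exact mul_mem hzH hyH
      have hZ4 : omegaOne 2 ((S : Subgroup G) ⊓ centralizer ((S : Subgroup G) : Set G)) = fourGroup hf := by
        ext x
        rw [mem_Z]
        exact ⟨fun hx => hT x (mem_inf.2 ⟨hx.1, hle x hx⟩) hx.2.1, hVZ x⟩
      have hR4 : omegaOne 2 ((S : Subgroup G) ⊓ H) = fourGroup hf := by
        apply le_antisymm
        · unfold omegaOne
          rw [Subgroup.closure_le]
          rintro x ⟨hx, hx2⟩
          exact hT x hx (by rw [← pow_two]; exact hx2)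
        · intro x hx
          exact Subgroup.subset_closure ⟨mem_inf.2 ⟨(hVZ x hx).1, hVH x hx⟩, by rw [pow_two]; exact (hVZ x hx).2.1⟩
      refine Or.inr (Or.inr (Or.inl ⟨?_, ?_⟩))
      · rw [hZ4]
        exact card_fourGroup hf
      · rw [hR4, hZ4]
    · push Not at h4
      have hu : ∀ x, InZ (S : Subgroup G) x → x ∈ H → x = 1 ∨ x = z := by
        intro x hx hxH
        by_cases hx1 : x = 1
        · exact Or.inl hx1
        · exact Or.inr (h4 x hx hxH hx1)
      by_cases hw : ∀ k ∈ H, k * z * k⁻¹ ∈ (S : Subgroup G) → k * z * k⁻¹ = z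
      · exact Or.inr (Or.inl (hwc hu hw))
      · push Not at hw
        obtain ⟨k, hk, hkS, hkz⟩ := hw
        by_cases huR : ∀ y ∈ (S : Subgroup G) ⊓ H, y * y = 1 → (∀ r ∈ (S : Subgroup G) ⊓ H, r * y = y * r) →
            y = 1 ∨ y = z
        · rcases h.case_B_core hr hres hz hz1 hzH hu huR hk hkS hkz with h1 | h1
          · exact Or.inl h1
          · right; right; right
            have hch := h.char_of_core hz hz1 hzH h1 (fun t htH ht2 ht1 =>
              h.one_class hr hres hz hz1 hzH hu huR hk hkS hkz htH ht2 ht1)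
            rw [hzS]
            exact h.char_join hch hz hz1 hzH (mem_inf.2 ⟨hkS, h.Hn k z hzH⟩) (conj_sq k hz.2.1)
              (conj_ne_one k hz1) hkz
        · push Not at huR
          obtain ⟨y, hy, hy2, hyc, hy1, hyz⟩ := huR
          exact Or.inl (h.case_A hr hz hz1 hzH hu hy hy2 hy1 hyz hyc hkS hkz)
  · exact absurd hct (not_isComponentType H hC)
  · -- characteristic 2 type
    by_cases hx : ∃ x ∈ (S : Subgroup G) ⊓ H, x * x = 1 ∧ x ≠ 1 ∧ x ≠ z
    · obtain ⟨x, hx, hx2, hx1, hxz⟩ := hx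
      right; right; right
      rw [hzS]
      exact h.char_join hch hz hz1 hzH hx hx2 hx1 hxz
    · push Not at hx
      right; left
      apply hwc
      · intro x hxZ hxH
        by_cases hx1 : x = 1
        · exact Or.inl hx1
        · exact Or.inr (hx x (mem_inf.2 ⟨hxZ.1, hxH⟩) hxZ.2.1 hx1)
      · intro k hk hkS
        exact hx _ (mem_inf.2 ⟨hkS, h.Hn k z hzH⟩) (conj_sq k hz.2.1) (conj_ne_one k hz1)

end Cfsg.Agent.S3759
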