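import Cfsg.Statements.S3811
import Cfsg.Agent.H455.Soft

set_option autoImplicit false
open Cfsg

namespace Cfsg.Agent.S3811

/-- Let P be a finite p-group and E an abelian subgroup of P that contains its centralizer, has index p in its normalizer, and has index at least p² in P. Then the subgroups of P containing E are totally ordered by inclusion, each proper one has index p in its normalizer (so they form the normalizer tower of E, with all steps of index p), and the i-th member of the tower above E has nilpotency class i + 1 whenever it is a proper subgroup of P. -/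
theorem result {P : Type*} [Group P] [Finite P] (p : ℕ) [Fact p.Prime] (hP : IsPGroup p P)
    (E : Subgroup P) (hEab : IsMulCommutative ↥E) (hC : Subgroup.centralizer (E : Set P) ≤ E)
    (hN : (E.subgroupOf (Subgroup.normalizer (E : Set P))).index = p) (hidx : p ^ 2 ≤ E.index) :
    (∀ K L : Subgroup P, E ≤ K → E ≤ L → K ≤ L ∨ L ≤ K) ∧
      (∀ K : Subgroup P, E ≤ K → K ≠ ⊤ → (K.subgroupOf (Subgroup.normalizer (K : Set P))).index = p) ∧
      ∀ (i : ℕ) (K : Subgroup P) [Group.IsNilpotent ↥K], E ≤ K → K ≠ ⊤ → K.index * p ^ i = E.index →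
        Group.nilpotencyClass ↥K = i + 1 := by
  have hE : H455.Soft.IsSoft p E := by
    refine ⟨?_, ?_, hN⟩
    · intro a ha b hb
      have h := (IsMulCommutative.is_comm (M := ↥E)).comm ⟨a, ha⟩ ⟨b, hb⟩
      exact congrArg Subtype.val h
    · intro g hg
      apply hC
      rw [Subgroup.mem_centralizer_iff]
      intro e he
      exact (hg e he).symm
  obtain ⟨h1, h2⟩ := H455.Soft.chain (Nat.card P) rfl hP E hE
  refine ⟨h1, h2, ?_⟩
  intro i K _ hEK hK hi
  refine H455.Soft.nilpotencyClass_eq hP hE hEK hK i ?_
  have h3 : E.relIndex K * K.index = E.index := Subgroup.relIndex_mul_index hEK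
  rw [← hi, mul_comm] at h3
  exact Nat.eq_of_mul_eq_mul_left (Nat.pos_of_ne_zero Subgroup.index_ne_zero_of_finite) h3

end Cfsg.Agent.S3811
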