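import Cfsg.Statements.S3990
import Cfsg.Agent.H493.PGMain
import Cfsg.Agent.S4008
import Cfsg.Agent.S0000

set_option autoImplicit false
open Cfsg

namespace Cfsg.Agent.S3990

/-- The prime graph of a finite group G (vertices the primes dividing the order of G, two distinct primes p, q joined when G has an element of order pq) has at most six connected components: among any seven distinct primes dividing the order of G, two lie in the same component. -/
theorem result {G : Type*} [Group G] [Finite G] (f : Fin 7 → ℕ) (hf : Function.Injective f)
    (hprime : ∀ i, (f i).Prime ∧ f i ∣ Nat.card G) :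
    ∃ i j : Fin 7, i ≠ j ∧ Relation.ReflTransGen (fun a b : ℕ => a.Prime ∧ b.Prime ∧ a ≠ b ∧ ∃ g : G, orderOf g = a * b) (f i) (f j) := by
  exact H493.PGMain.few_of (fun K _ _ _ => S0000.result)
    (fun G _ _ hns he r hr hr2 hrG hno R _ hRs hRmax => S4008.result hns he r hr hr2 hrG hno R hRs hRmax) G f hf hprime

end Cfsg.Agent.S3990
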