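import Cfsg.Statements.S3812
import Cfsg.Agent.S0000
import Cfsg.Agent.S3990
import Cfsg.Agent.OrdDiv.Table
import Cfsg.Agent.H455.Small
import Cfsg.Agent.H455.Large

set_option autoImplicit false
open Cfsg

namespace Cfsg.Agent.S3812

/-- If the set of orders of elements of a finite group is an initial segment {1, 2, …, n} of the positive integers, then n ≤ 8. -/
theorem result {G : Type*} [Group G] [Finite G] (n : ℕ)
    (h : Set.range (fun g : G => orderOf g) = {k : ℕ | 1 ≤ k ∧ k ≤ n}) : n ≤ 8 := by
  by_contra hn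
  push Not at hn
  by_cases h46 : n ≤ 46
  · refine Cfsg.Agent.H455.Small.main ?_ (by omega) h46 h
    intro M _ _ _ hM
    exact Cfsg.Agent.H436.exists_named Cfsg.Agent.OrdDiv.table (Cfsg.Agent.S0000.result (G := M)) fun h =>
      hM ⟨⟨h⟩⟩
  · exact Cfsg.Agent.H455.Large.main (fun f hf hp => Cfsg.Agent.S3990.result f hf hp) (by omega) h

end Cfsg.Agent.S3812
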