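import Cfsg.Statements.S3813
import Cfsg.Agent.H514.OrdMain
import Cfsg.Agent.S0000
import Cfsg.Agent.S4008

set_option autoImplicit false
open Cfsg

namespace Cfsg.Agent.S3813

/-- For every finite group G, the number of primes occurring as orders of elements of G is at most three more than the number of composite numbers occurring as orders of elements of G. -/
theorem result {G : Type*} [Group G] [Finite G] :
    {q ∈ Set.range (fun g : G => orderOf g) | q.Prime}.ncard ≤
      {m ∈ Set.range (fun g : G => orderOf g) | 1 < m ∧ ¬ m.Prime}.ncard + 3 := by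
  by_contra hcon
  obtain ⟨-, h⟩ := Cfsg.Agent.H514.OC.Main.main
    (fun _ _ _ _ => Cfsg.Agent.S0000.result) (fun _ _ _ h1 h2 r h3 h4 h5 h6 R _ h7 h8 =>
      Cfsg.Agent.S4008.result h1 h2 r h3 h4 h5 h6 R h7 h8) G (not_le.1 hcon).le
  exact hcon (le_of_eq h)

end Cfsg.Agent.S3813
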