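import Cfsg.Statements.S3853
import Cfsg.Agent.S0000
import Cfsg.Agent.H465.PEAll

set_option autoImplicit false
open Cfsg

namespace Cfsg.Agent.S3853

/-- An element x of a finite group G lies in the largest solvable normal subgroup of G if and only if ⟨x, y⟩ is solvable for every odd prime p and every p-element y of G. -/
theorem result {G : Type*} [Group G] [Finite G] (x : G) :
    x ∈ Cfsg.solvableRadical G ↔ ∀ p : ℕ, p.Prime → p ≠ 2 → ∀ y : G, (∃ k : ℕ, orderOf y = p ^ k) → Group.IsSolvable ↥(Subgroup.closure ({x, y} : Set G)) := by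
  exact H465.Red.reduction_ind (fun K _ _ _ hK IH => H465.PEAll.pe hK S0000.result IH) G x

end Cfsg.Agent.S3853
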