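import Cfsg.Statements.S3828
import Cfsg.Agent.S0000
import Cfsg.Agent.H162.CC.Assembly

set_option autoImplicit false
open Cfsg

namespace Cfsg.Agent.S3828

/-- Let G be a finite group, p a prime, and C a subset of G consisting of p-elements, closed under conjugation and closed under taking commutators (c⁻¹d⁻¹cd ∈ C for all c, d ∈ C). Then either the subgroup generated by C is a p-group, or p = 5 and C is not closed under squares. -/
theorem result {G : Type*} [Group G] [Finite G] {p : ℕ} [Fact p.Prime] (C : Set G) (hC : (∀ g : G, ∀ c ∈ C, g * c * g⁻¹ ∈ C)) (hp : ∀ c ∈ C, (∃ k : ℕ, orderOf c = p ^ k)) (hcomm : ∀ c ∈ C, ∀ d ∈ C, c⁻¹ * d⁻¹ * c * d ∈ C) : IsPGroup p ↥(Subgroup.closure C) ∨ (p = 5 ∧ ∃ c ∈ C, c ^ 2 ∉ C) := by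
  refine Cfsg.Agent.H162.CCR.s3828_of (fun K _ _ hs hab => ?_) C hC hp hcomm
  exact Cfsg.Agent.H162.CCR.Assembly.crow_of_known hab Cfsg.Agent.S0000.result p

end Cfsg.Agent.S3828
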