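import Cfsg.Statements.S3834
import Cfsg.Agent.H460.AADone

set_option autoImplicit false
open Cfsg

namespace Cfsg.Agent.S3834

/-- Let p be a prime and G a finite group with O_p(G) = 1 generated by the conjugacy class A of an element a of order p, such that every product of two conjugates of a is a p-element. Then p is odd, G is a Frobenius group with Frobenius complement the cyclic group generated by a, and every product of two conjugates of a has order p. -/
theorem result {G : Type*} [Group G] [Finite G] {p : ℕ} [Fact p.Prime] (a : G) (ha : orderOf a = p) (hgen : Subgroup.closure {x : G | ∃ g : G, x = g * a * g⁻¹} = ⊤) (hsq : ∀ g h : G, (∃ k : ℕ, orderOf ((g * a * g⁻¹) * (h * a * h⁻¹)) = p ^ k)) (hcore : Cfsg.pCore p G = ⊥) : p ≠ 2 ∧ Cfsg.IsFrobeniusComplement (Subgroup.zpowers a) ∧ ∀ g h : G, orderOf ((g * a * g⁻¹) * (h * a * h⁻¹)) = p := by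
  exact Cfsg.Agent.H14.AAFinal.s3834_of Cfsg.Agent.H460.AADone.allCore a ha hgen hsq hcore

end Cfsg.Agent.S3834
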