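import Cfsg.Statements.S3837
import Cfsg.Agent.H461.PStab.Main
import Cfsg.Agent.S5116
-- import your own Cfsg.Agent.* helpers here

set_option autoImplicit false
open Cfsg

namespace Cfsg.Agent.S3837

/-- Let p be an odd prime and G a finite simple group. Then G is p-stable in the normalizer form (for every p-subgroup Q and x ∈ N_G(Q) with [Q, x, x] = 1, the image of x lies in O_p(N_G(Q)/C_G(Q))) if and only if Qd(p) (the natural semidirect product of an elementary abelian group of order p² by SL₂(p)) is not involved in G. -/
theorem result {G : Type*} [Group G] [Finite G] {p : ℕ} [Fact p.Prime] (hp : p ≠ 2) [IsSimpleGroup G] : Cfsg.IsNormalizerPStable p G ↔ ¬ Cfsg.Involves ↥(Cfsg.qd p) G := by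
  constructor
  · intro hst hinv
    have hinv' := Cfsg.Agent.Lib.Involves.involves_iff.2 hinv
    by_cases hG : IsMulCommutative G
    · obtain ⟨S⟩ : Nonempty (Sylow p G) := inferInstance
      exact Cfsg.Agent.H461.PStab.not_involves_of_comm hp S
        ((Cfsg.Agent.PLocal.ThompsonJA.isMulCommutative_iff _).2 fun x _ y _ => hG.is_comm.comm x y) hinv'
    · exact Cfsg.Agent.H461.PStab.main hp hst
        (fun S T hT hTS hsc => Cfsg.Agent.S5116.result hG p S T hT hTS hsc) hinv'
  · exact Cfsg.Agent.H461.PStab.stable_of_not_involves hp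

end Cfsg.Agent.S3837
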