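import Cfsg.Statements.S3840
import Cfsg.Agent.H460.AADone

set_option autoImplicit false
open Cfsg

namespace Cfsg.Agent.S3840

/-- Let p be a prime, G a finite group with O_p(G) = 1, and A a nonempty subset of elements of order p closed under conjugation such that every product of two elements of A is a p-element. Then p is odd and every product of two elements of A has order p. -/
theorem result {G : Type*} [Group G] [Finite G] {p : ℕ} [Fact p.Prime] (A : Set G) (hAne : A.Nonempty) (hA : ∀ g : G, ∀ c ∈ A, g * c * g⁻¹ ∈ A) (hord : ∀ a ∈ A, orderOf a = p) (hsq : ∀ a ∈ A, ∀ b ∈ A, ∃ k : ℕ, orderOf (a * b) = p ^ k) (hcore : Cfsg.pCore p G = ⊥) : p ≠ 2 ∧ ∀ a ∈ A, ∀ b ∈ A, orderOf (a * b) = p := by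
  exact Cfsg.Agent.H14.AAFinal.s3840_of Cfsg.Agent.H460.AADone.allCore A hAne hA hord hsq hcore

end Cfsg.Agent.S3840
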