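import Cfsg.Statements.S3845
import Cfsg.Agent.H463.Red45
import Cfsg.Agent.H463.PairAll

set_option autoImplicit false
open Cfsg

namespace Cfsg.Agent.S3845

/-- Let G be a finite group such that for every nontrivial p-element x with p an odd prime and every nontrivial 2-element y, if ⟨x, y⟩ is solvable then x commutes with some conjugate g y g⁻¹ of y. Then every Sylow 2-subgroup of G is a direct factor of G: it is normal and has a normal complement. -/
theorem result {G : Type*} [Group G] [Finite G]
    (h : ∀ p : ℕ, p.Prime → p ≠ 2 → ∀ x y : G, x ≠ 1 → y ≠ 1 → (∃ k : ℕ, orderOf x = p ^ k) → (∃ k : ℕ, orderOf y = 2 ^ k) →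
      Group.IsSolvable ↥(Subgroup.closure ({x, y} : Set G)) → ∃ g : G, Commute x (g * y * g⁻¹))
    (P : Sylow 2 G) : (P : Subgroup G).Normal ∧ ∃ K : Subgroup G, K.Normal ∧ Subgroup.IsComplement' (P : Subgroup G) K :=
  Cfsg.Agent.H463.Red45.main (fun S _ _ hs hna => Cfsg.Agent.H463.PairAll.pair S hs hna) h P

end Cfsg.Agent.S3845
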