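import Cfsg.Statements.S3844
import Cfsg.Agent.S3845
import Cfsg.Agent.S0205
import Cfsg.Agent.OddOrderLocal.CNNil
import Cfsg.Agent.Solvable.Carter
import Cfsg.Agent.PLocal.ChiefReduction
import Cfsg.Agent.H478.CycConjQuot
import Cfsg.Agent.Lib.NormalAbelian

set_option autoImplicit false
open Cfsg

universe u

namespace Cfsg.Agent.S3844

/-- Every `p`-element commutes with a conjugate of every `q`-element. -/
def Pairs (G : Type u) [Group G] : Prop :=
  ∀ p q : ℕ, p.Prime → q.Prime → p ≠ q → ∀ x y : G, (∃ k : ℕ, orderOf x = p ^ k) →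
    (∃ k : ℕ, orderOf y = q ^ k) → ∃ g : G, Commute x (g * y * g⁻¹)

theorem Pairs.quotient {G : Type u} [Group G] [Finite G] (h : Pairs G) (N : Subgroup G) [N.Normal] :
    Pairs (G ⧸ N) := by
  rintro p q hp hq hpq x y ⟨k, hk⟩ ⟨l, hl⟩
  obtain ⟨x', rfl, hx'⟩ := H478.CycConjQuot.exists_lift (QuotientGroup.mk' N) hp
    (QuotientGroup.mk'_surjective N) hk
  obtain ⟨y', rfl, hy'⟩ := H478.CycConjQuot.exists_lift (QuotientGroup.mk' N) hq
    (QuotientGroup.mk'_surjective N) hl
  obtain ⟨g, hg⟩ := h p q hp hq hpq x' y' hx' hy'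
  refine ⟨QuotientGroup.mk' N g, ?_⟩
  have := hg.map (QuotientGroup.mk' N)
  simpa only [map_mul, map_inv] using this

/-- A finite solvable group with the pair property is nilpotent. -/
theorem nilpotent_of_pairs (n : ℕ) : ∀ (G : Type u) [Group G] [Finite G], Nat.card G = n →
    Group.IsSolvable G → Pairs G → Group.IsNilpotent G := by
  induction n using Nat.strong_induction_on with
  | _ n ih =>
  intro G _ _ hn hs h
  rcases subsingleton_or_nontrivial G with hsub | hnt
  · infer_instance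
  obtain ⟨r, N, hr, hN, hNr, hNc, hN1, hmin⟩ := Solvable.Carter.exists_min_normal G
  haveI := Fact.mk hr
  have hlt : Nat.card (G ⧸ N) < n := by
    have h1 := N.card_eq_card_quotient_mul_card_subgroup
    have h2 : 1 < Nat.card N := (Subgroup.one_lt_card_iff_ne_bot N).mpr hN1
    have h3 : 0 < Nat.card (G ⧸ N) := Nat.card_pos
    rw [← hn, h1]; nlinarith
  have hnil : Group.IsNilpotent (G ⧸ N) := ih _ hlt (G ⧸ N) rfl inferInstance (h.quotient N)
  by_cases hZ : N ≤ Subgroup.center G
  · exact Subgroup.isNilpotent_of_ker_le_center (QuotientGroup.mk' N) (by rwa [QuotientGroup.ker_mk'])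
  exfalso
  set C := Subgroup.centralizer (N : Set G) with hC
  have hCn : C.Normal := inferInstance
  have hNC : N ≤ C := by
    intro a ha
    rw [hC, Subgroup.mem_centralizer_iff]
    intro b hb
    exact congrArg Subtype.val (hNc.is_comm.comm (⟨b, hb⟩ : N) ⟨a, ha⟩)
  have hnilC : Group.IsNilpotent (G ⧸ C) := by
    have hsurj : Function.Surjective (QuotientGroup.map N C (MonoidHom.id G) hNC) := by
      intro x
      obtain ⟨g, rfl⟩ := QuotientGroup.mk_surjective x
      exact ⟨QuotientGroup.mk g, rfl⟩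
    exact Group.nilpotent_of_surjective _ hsurj
  -- not an r-group
  have hnr : ∃ p : ℕ, p.Prime ∧ p ≠ r ∧ p ∣ Nat.card (G ⧸ C) := by
    by_contra hcon
    push Not at hcon
    apply hZ
    have hrg : IsPGroup r (G ⧸ C) := by
      apply IsPGroup.iff_card.mpr
      exact ⟨_, Nat.eq_prime_pow_of_unique_prime_dvd Nat.card_pos.ne' (fun {d} hd hdv => by
        by_contra hne
        exact hcon d hd hne hdv)⟩
    have := PLocal.ChiefReduction.le_centralizer_of_minimal hN hNr hmin
      (R := ⊤) inferInstance (by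
        intro g _
        obtain ⟨k, hk⟩ := hrg (QuotientGroup.mk g)
        refine ⟨k, ?_⟩
        rw [← QuotientGroup.mk_pow, QuotientGroup.eq_one_iff] at hk
        exact hk)
    intro a ha
    rw [Subgroup.mem_center_iff]
    intro g
    have hg := this (Subgroup.mem_top g)
    rw [Subgroup.mem_centralizer_iff] at hg
    exact (hg a ha).symm
  obtain ⟨p, hp, hpr, hpd⟩ := hnr
  haveI := Fact.mk hp
  -- central p-element of the quotient
  obtain ⟨P⟩ : Nonempty (Sylow p (G ⧸ C)) := inferInstance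
  have hPn : (P : Subgroup (G ⧸ C)).Normal :=
    inferInstance
  have hP1 : (P : Subgroup (G ⧸ C)) ≠ ⊥ := P.ne_bot_of_dvd_card hpd
  have hmeet := Lib.NormalAbelian.normal_inf_center_ne_bot (P : Subgroup (G ⧸ C)) hP1
  obtain ⟨xb, hxb, hxb1⟩ := (Subgroup.bot_or_exists_ne_one _).resolve_left hmeet
  obtain ⟨hxP, hxZ⟩ := Subgroup.mem_inf.mp hxb
  obtain ⟨k, hk⟩ : ∃ k : ℕ, orderOf xb = p ^ k := by
    obtain ⟨k, hk⟩ := (IsPGroup.iff_orderOf.mp P.isPGroup') ⟨xb, hxP⟩
    exact ⟨k, by rw [← hk, Subgroup.orderOf_mk]⟩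
  obtain ⟨x, rfl, hx⟩ := H478.CycConjQuot.exists_lift (QuotientGroup.mk' C) hp
    (QuotientGroup.mk'_surjective C) hk
  have hxC : x ∉ C := fun h0 => hxb1 ((QuotientGroup.eq_one_iff x).mpr h0)
  have hcomm : ∀ g : G, x * g * x⁻¹ * g⁻¹ ∈ C := by
    intro g
    rw [← QuotientGroup.eq_one_iff]
    have h1 := (Subgroup.mem_center_iff.mp hxZ) (QuotientGroup.mk' C g)
    rw [QuotientGroup.mk'_apply, QuotientGroup.mk'_apply] at h1
    rw [QuotientGroup.mk_mul, QuotientGroup.mk_mul, QuotientGroup.mk_mul, ← h1,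
      QuotientGroup.mk_inv, QuotientGroup.mk_inv]
    group
  -- the fixed points of x on N
  set M : Subgroup G := N ⊓ Subgroup.centralizer {x} with hM
  have hMn : M.Normal := by
    constructor
    intro m hm g
    obtain ⟨hmN, hmx⟩ := Subgroup.mem_inf.mp hm
    refine Subgroup.mem_inf.mpr ⟨hN.conj_mem m hmN g, ?_⟩
    rw [Subgroup.mem_centralizer_singleton_iff] at hmx ⊢
    have hgm := hN.conj_mem m hmN g
    have h1 := hcomm g
    rw [hC, Subgroup.mem_centralizer_iff] at h1
    have h2 := h1 _ hgm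
    -- x (g m g⁻¹) = c g x m g⁻¹ , c = [x,g]
    calc g * m * g⁻¹ * x = (g * m * g⁻¹) * (x * g * x⁻¹ * g⁻¹) * (g * x * g⁻¹) := by group
      _ = (x * g * x⁻¹ * g⁻¹) * (g * m * g⁻¹) * (g * x * g⁻¹) := by rw [h2]
      _ = x * g * x⁻¹ * (m * x) * g⁻¹ := by group
      _ = x * g * x⁻¹ * (x * m) * g⁻¹ := by rw [hmx]
      _ = x * (g * m * g⁻¹) := by group
  rcases hmin M hMn inf_le_left with h0 | h0
  · obtain ⟨y, hy, hy1⟩ := (Subgroup.bot_or_exists_ne_one _).resolve_left hN1
    have hyk : ∃ k : ℕ, orderOf y = r ^ k := by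
      obtain ⟨k, hk⟩ := (IsPGroup.iff_orderOf.mp hNr) ⟨y, hy⟩
      exact ⟨k, by rw [← hk, Subgroup.orderOf_mk]⟩
    obtain ⟨g, hg⟩ := h p r hp hr hpr x y hx hyk
    have : g * y * g⁻¹ ∈ M := by
      refine Subgroup.mem_inf.mpr ⟨hN.conj_mem y hy g, ?_⟩
      rw [Subgroup.mem_centralizer_singleton_iff]
      exact hg.symm
    rw [h0, Subgroup.mem_bot] at this
    exact hy1 (by simpa using this)
  · apply hxC
    rw [hC, Subgroup.mem_centralizer_iff]
    intro a ha
    have : a ∈ M := by rw [h0]; exact ha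
    exact Subgroup.mem_centralizer_singleton_iff.mp (Subgroup.mem_inf.mp this).2

/-- A nilpotency criterion through pairs of elements of coprime prime power orders: a finite group G is nilpotent if and only if, for every pair of distinct primes p, q and every p-element x and q-element y of G, whenever ⟨x, y⟩ is solvable, x commutes with g y g⁻¹ for some g ∈ G. -/
theorem result {G : Type*} [Group G] [Finite G] :
    Group.IsNilpotent G ↔ ∀ p q : ℕ, p.Prime → q.Prime → p ≠ q → ∀ x y : G, (∃ k : ℕ, orderOf x = p ^ k) → (∃ k : ℕ, orderOf y = q ^ k) →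
      Group.IsSolvable ↥(Subgroup.closure ({x, y} : Set G)) → ∃ g : G, Commute x (g * y * g⁻¹) := by
  constructor
  · rintro h p q hp hq hpq x y ⟨k, hk⟩ ⟨l, hl⟩ -
    refine ⟨1, ?_⟩
    rw [one_mul, inv_one, mul_one]
    exact OddOrderLocal.CNNil.commute_of_ne h hp hq hpq hk hl
  · intro h
    obtain ⟨P⟩ : Nonempty (Sylow 2 G) := inferInstance
    obtain ⟨hPn, K, hKn, hK⟩ := S3845.result (G := G)
      (fun p hp hp2 x y _ _ hx hy hs => h p 2 hp Nat.prime_two hp2 x y hx hy hs) P
    have hQ : Group.IsSolvable (G ⧸ (P : Subgroup G)) := by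
      apply S0205.result
      rw [← Subgroup.index_eq_card, Nat.odd_iff, ← Nat.two_dvd_ne_zero]
      exact P.not_dvd_index
    have hP : Group.IsSolvable (P : Subgroup G) := by
      haveI := P.isPGroup'.isNilpotent
      infer_instance
    have hs : Group.IsSolvable G := Group.isSolvable_of_ker_le_range (P : Subgroup G).subtype
      (QuotientGroup.mk' (P : Subgroup G)) (by rw [QuotientGroup.ker_mk', Subgroup.range_subtype])
    refine nilpotent_of_pairs _ G rfl hs ?_
    intro p q hp hq hpq x y hx hy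
    exact h p q hp hq hpq x y hx hy inferInstance

end Cfsg.Agent.S3844
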