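import Cfsg.Statements.S3846
import Cfsg.Agent.H301.SY.Reduce
import Cfsg.Agent.H301.SY.Final

set_option autoImplicit false
open Cfsg

namespace Cfsg.Agent.S3846

/-- A membership criterion for the solvable radical: let p ≥ 5 be a prime and x an element of order p of the finite group G such that for every prime r ≠ p and every r-element y, whenever ⟨x, y⟩ is solvable so is ⟨x, g y g⁻¹⟩ for every g ∈ G. Then x lies in the largest solvable normal subgroup of G. -/
theorem result {G : Type*} [Group G] [Finite G] (p : ℕ) (hp : p.Prime) (hp5 : 5 ≤ p) (x : G) (hx : orderOf x = p)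
    (h : ∀ r : ℕ, r.Prime → r ≠ p → ∀ y : G, (∃ k : ℕ, orderOf y = r ^ k) → Group.IsSolvable ↥(Subgroup.closure ({x, y} : Set G)) →
      ∀ g : G, Group.IsSolvable ↥(Subgroup.closure ({x, g * y * g⁻¹} : Set G))) :
    x ∈ Cfsg.solvableRadical G := by
  have : Fact p.Prime := ⟨hp⟩
  exact Cfsg.Agent.H301.SY.reduction hp5 (fun K _ _ _ hna => Cfsg.Agent.H301.SY.noya hna hp5) G x hx h

end Cfsg.Agent.S3846
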