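import Cfsg.Statements.S3847
import Cfsg.Agent.H463.Main47
import Cfsg.Agent.H463.PairAll

set_option autoImplicit false
open Cfsg

namespace Cfsg.Agent.S3847

/-- Let G be a finite group that is not nilpotent. Then G is minimal non-nilpotent (every proper subgroup nilpotent) if and only if, for every pair of distinct primes p, q and every p-element x and q-element y that do not generate G, x commutes with g y g⁻¹ for some g ∈ G. -/
theorem result {G : Type*} [Group G] [Finite G] (hG : ¬ Group.IsNilpotent G) :
    Cfsg.IsMinimalNonNilpotent G ↔ ∀ p q : ℕ, p.Prime → q.Prime → p ≠ q → ∀ x y : G, (∃ k : ℕ, orderOf x = p ^ k) → (∃ k : ℕ, orderOf y = q ^ k) →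
      Subgroup.closure ({x, y} : Set G) ≠ ⊤ → ∃ g : G, Commute x (g * y * g⁻¹) :=
  Cfsg.Agent.H463.Main47.main (fun S _ _ hs hna => Cfsg.Agent.H463.PairAll.pair S hs hna) hG

end Cfsg.Agent.S3847
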