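import Cfsg.Statements.S3854
import Cfsg.Agent.S0000
import Cfsg.Agent.S0205
import Cfsg.Agent.H959.Rad3.Reduce
import Cfsg.Agent.H959.Rad3.Row3
import Cfsg.Agent.H959.T5.Asm

set_option autoImplicit false
open Cfsg

namespace Cfsg.Agent.S3854

universe u

open Subgroup Cfsg.Agent.H459.Rad Cfsg.Agent.H959.Rad3 in
/-- no non-abelian finite simple group has an automorphism of odd prime order satisfying the hypotheses -/
theorem core (p : ℕ) (hp : p.Prime) (hp2 : p ≠ 2) (K : Type u) [Group K] [Finite K] [IsSimpleGroup K]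
    (x : MulAut K) (hna : ¬ IsMulCommutative K) (hx : orderOf x = p) (hR : RC x) (hT : T2 x) : False := by
  have : Fact p.Prime := ⟨hp⟩
  have hK : IsKnownSimple' K := S0000.result
  have h2 := hp.two_le
  rcases Nat.lt_or_ge p 5 with h5 | h5
  · have h3 : p = 3 := by
      interval_cases p
      · exact absurd rfl hp2
      · rfl
      · exact absurd hp (by norm_num)
    subst h3
    exact Row3.row3 hna hK x hx hR (Or.inl hT)
  · have h2K : 2 ∣ Nat.card K := by
      by_contra h
      have hs : Group.IsSolvable K := S0205.result (Nat.odd_iff.2 (Nat.two_dvd_ne_zero.1 h))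
      exact hna ⟨⟨IsSimpleGroup.comm_iff_isSolvable.2 hs⟩⟩
    exact Cfsg.Agent.H959.T5.Asm.noT_known hna h2K h5 hK x hx hR hT

/-- An element x of odd order of a finite group G lies in the largest solvable normal subgroup of G if and only if ⟨x, y⟩ is solvable for every 2-element y of G. -/
theorem result {G : Type*} [Group G] [Finite G] (x : G) (hx : Odd (orderOf x)) :
    x ∈ Cfsg.solvableRadical G ↔ ∀ y : G, (∃ k : ℕ, orderOf y = 2 ^ k) → Group.IsSolvable ↥(Subgroup.closure ({x, y} : Set G)) := by
  constructor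
  · intro h y _
    have hn : (Cfsg.solvableRadical G).Normal := H459.Rad.rad_normal G
    have hs : Group.IsSolvable (Cfsg.solvableRadical G) := H459.Rad.rad_solvable G
    have h1 := H301.SY.isSolvable_pair hs (s := y) (y := x) (fun a ha => hn.conj_mem a ha y) h
    rwa [Set.pair_comm] at h1
  · intro h
    refine H959.Rad3.Red.reduction_odd (fun G _ _ hG => S0205.result hG) core G x hx ?_
    rintro y ⟨k, hk⟩
    obtain ⟨l, -, hl⟩ := (Nat.dvd_prime_pow Nat.prime_two).1 (orderOf_dvd_of_pow_eq_one hk)
    exact h y ⟨l, hl⟩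

end Cfsg.Agent.S3854
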