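import Cfsg.Statements.S3871
import Cfsg.Agent.S0000
import Cfsg.Agent.H468.RedClosed
import Cfsg.Agent.H469.Main

set_option autoImplicit false
open Cfsg

namespace Cfsg.Agent.S3871

/-- Let G be a finite group whose Sylow p-subgroups are not normal, but such that every proper subgroup and every proper quotient of G has a normal Sylow p-subgroup. Then the Sylow p-subgroups of G are cyclic and any two distinct ones intersect trivially. -/
theorem result {G : Type*} [Group G] [Finite G] {p : ℕ} [Fact p.Prime]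
    (hnc : ¬ Cfsg.IsPClosed p G) (hsub : ∀ H : Subgroup G, H ≠ ⊤ → Cfsg.IsPClosed p ↥H)
    (hquo : ∀ (N : Subgroup G) [N.Normal], N ≠ ⊥ → Cfsg.IsPClosed p (G ⧸ N)) :
    (∀ P : Sylow p G, IsCyclic ↥(P : Subgroup G)) ∧ ∀ P Q : Sylow p G, P ≠ Q → (P : Subgroup G) ⊓ (Q : Subgroup G) = ⊥ := by
  refine H468.closed_of (fun {_} hna hp2 hNB P => ?_) hnc hsub hquo
  have hna' : ∃ a b : G, a * b ≠ b * a := by
    by_contra h
    push Not at h
    exact hna h
  exact H469.isCyclic_of_known hna' (Cfsg.Agent.S0000.result) hp2 (H469.NB.ofH468 hNB) P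

end Cfsg.Agent.S3871
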