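import Cfsg.Statements.S3873
import Cfsg.Agent.H469.MinStruct

set_option autoImplicit false
open Cfsg

namespace Cfsg.Agent.S3873

open Subgroup Cfsg.Agent.H469

/-- In a finite group of order prime to `p` the only element with trivial `p`-th power is `1`. -/
theorem eq_one_of_pow {G : Type*} [Group G] [Finite G] {p : ℕ} [hp : Fact p.Prime]
    {N : Subgroup G} (hN : ¬ p ∣ Nat.card N) {g : G} (hg : g ∈ N) (hgp : g ^ p = 1) : g = 1 := by
  by_contra hne
  have h1 : orderOf g = p := orderOf_eq_prime hgp hne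
  apply hN
  have h2 : orderOf (⟨g, hg⟩ : N) ∣ Nat.card N := orderOf_dvd_natCard _
  rw [Subgroup.orderOf_mk, h1] at h2
  exact h2

/-- Say that a finite group is p-exponent closed when its elements of order dividing p form a subgroup. Let G be a finite group that is not p-exponent closed, but all of whose proper subgroups and proper quotients are, and suppose G is neither simple nor a p-group. Then there is a prime q ≠ p such that G has order p · q^e, where e is the multiplicative order of q modulo p, and G has a normal elementary abelian subgroup of order q^e that is a minimal normal subgroup of G. -/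
theorem result {G : Type*} [Group G] [Finite G] {p : ℕ} [Fact p.Prime]
    (hnc : ¬ (∃ H : Subgroup G, (H : Set G) = {g : G | g ^ p = 1})) (hsub : ∀ K : Subgroup G, K ≠ ⊤ → (∃ H : Subgroup ↥K, (H : Set ↥K) = {g : ↥K | g ^ p = 1}))
    (hquo : ∀ (N : Subgroup G) [N.Normal], N ≠ ⊥ → (∃ H : Subgroup (G ⧸ N), (H : Set (G ⧸ N)) = {g : (G ⧸ N) | g ^ p = 1}))
    (hns : ¬ IsSimpleGroup G) (hnp : ¬ IsPGroup p G) :
    ∃ q : ℕ, q.Prime ∧ q ≠ p ∧ Nat.card G = p * q ^ orderOf (q : ZMod p) ∧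
      ∃ A : Subgroup G, A.Normal ∧ Nat.card ↥A = q ^ orderOf (q : ZMod p) ∧ Cfsg.IsElementaryAbelian q A ∧
        ∀ B : Subgroup G, B.Normal → B ≤ A → B = ⊥ ∨ B = A := by
  have hp : p.Prime := Fact.out
  -- `G` is generated by its elements of order dividing `p`
  have hgen : closure {g : G | g ^ p = 1} = ⊤ := by
    by_contra hne
    obtain ⟨H, hH⟩ := hsub _ hne
    apply hnc
    refine ⟨H.map (closure {g : G | g ^ p = 1}).subtype, ?_⟩
    ext g
    constructor
    · rintro ⟨h, hh, rfl⟩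
      rw [hH] at hh
      exact congrArg Subtype.val hh
    · intro hg
      refine ⟨⟨g, subset_closure hg⟩, ?_, rfl⟩
      rw [hH]
      exact Subtype.ext hg
  -- the proper quotients have exponent `p`
  have hexp : ∀ (N : Subgroup G) [N.Normal], N ≠ ⊥ → ∀ g : G, g ^ p ∈ N := by
    intro N hN hNb g
    obtain ⟨H, hH⟩ := hquo N hNb
    have hle : closure {g : G | g ^ p = 1} ≤ H.comap (QuotientGroup.mk' N) := by
      rw [closure_le]
      intro x hx
      change QuotientGroup.mk' N x ∈ (H : Set (G ⧸ N))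
      rw [hH]
      change (QuotientGroup.mk' N x) ^ p = 1
      rw [← map_pow]
      have : x ^ p = 1 := hx
      rw [this, map_one]
    rw [hgen] at hle
    have h1 : QuotientGroup.mk' N g ∈ (H : Set (G ⧸ N)) := hle (mem_top g)
    rw [hH] at h1
    have h2 : (QuotientGroup.mk' N g) ^ p = 1 := h1
    rw [← map_pow] at h2
    exact (QuotientGroup.eq_one_iff _).mp h2
  have hnt : Nontrivial G := by
    by_contra hcon
    rw [not_nontrivial_iff_subsingleton] at hcon
    apply hnc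
    refine ⟨⊤, ?_⟩
    ext g
    simp only [coe_top, Set.mem_univ, Set.mem_ofPred_eq, true_iff]
    exact Subsingleton.elim _ _
  -- no normal `p`-subgroups
  have hOp : ∀ R : Subgroup G, R.Normal → IsPGroup p R → R = ⊥ := by
    intro R hR hRp
    by_contra hRb
    apply hnp
    intro g
    obtain ⟨k, hk⟩ := hRp ⟨g ^ p, hexp R hRb g⟩
    refine ⟨k + 1, ?_⟩
    have := congrArg Subtype.val hk
    rw [Subgroup.coe_pow, Subgroup.coe_one] at this
    rw [pow_succ', pow_mul]
    exact this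
  -- a minimal normal subgroup
  obtain ⟨M, hM, hMb, hMt⟩ : ∃ M : Subgroup G, M.Normal ∧ M ≠ ⊥ ∧ M ≠ ⊤ := by
    by_contra hcon
    push Not at hcon
    apply hns
    refine ⟨fun H hH => ?_⟩
    by_cases hb : H = ⊥
    · exact Or.inl hb
    · exact Or.inr (hcon H hH hb)
  obtain ⟨N, ⟨hN, hNb, hNM⟩, hNmin⟩ : ∃ N : Subgroup G, (N.Normal ∧ N ≠ ⊥ ∧ N ≤ M) ∧
      ∀ B : Subgroup G, (B.Normal ∧ B ≠ ⊥ ∧ B ≤ M) → ¬ B < N := by
    obtain ⟨N, hN⟩ := (Set.toFinite {B : Subgroup G | B.Normal ∧ B ≠ ⊥ ∧ B ≤ M}).exists_minimal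
      ⟨M, hM, hMb, le_rfl⟩
    exact ⟨N, hN.1, fun B hB hlt => hlt.not_ge (hN.2 hB hlt.le)⟩
  have hmin : ∀ B : Subgroup G, B.Normal → B ≤ N → B = ⊥ ∨ B = N := by
    intro B hB hBN
    by_cases hb : B = ⊥
    · exact Or.inl hb
    · right
      by_contra hne
      exact hNmin B ⟨hB, hb, hBN.trans hNM⟩ (lt_of_le_of_ne hBN hne)
  have hNt : N ≠ ⊤ := fun h => hMt (eq_top_iff.mpr (h ▸ hNM))
  -- it is a `p'`-group
  have hNp : ¬ p ∣ Nat.card N := by
    intro hdvd
    obtain ⟨H, hH⟩ := hsub N hNt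
    have hHmem : ∀ g : G, g ∈ H.map N.subtype ↔ g ∈ N ∧ g ^ p = 1 := by
      intro g
      constructor
      · rintro ⟨h, hh, rfl⟩
        rw [hH] at hh
        exact ⟨h.2, congrArg Subtype.val hh⟩
      · rintro ⟨hgN, hg⟩
        refine ⟨⟨g, hgN⟩, ?_, rfl⟩
        rw [hH]
        exact Subtype.ext hg
    have hHn : (H.map N.subtype).Normal := by
      refine ⟨?_⟩
      intro g hg x
      rw [hHmem] at hg ⊢
      refine ⟨hN.conj_mem g hg.1 x, ?_⟩
      rw [conj_pow, hg.2, mul_one, mul_inv_cancel]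
    have hHp : IsPGroup p (H.map N.subtype : Subgroup G) := by
      rintro ⟨g, hg⟩
      refine ⟨1, Subtype.ext ?_⟩
      rw [Subgroup.coe_pow, pow_one]
      exact ((hHmem g).mp hg).2
    obtain ⟨g, hg⟩ := exists_prime_orderOf_dvd_card' p hdvd
    have h1 : (g : G) ∈ H.map N.subtype := by
      rw [hHmem]
      refine ⟨g.2, ?_⟩
      have : g ^ p = 1 := by rw [← hg]; exact pow_orderOf_eq_one g
      exact congrArg Subtype.val this
    rw [hOp _ hHn hHp, mem_bot] at h1
    have h2 : g = 1 := Subtype.ext h1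
    rw [h2, orderOf_one] at hg
    exact hp.one_lt.ne hg
  obtain ⟨P⟩ : Nonempty (Sylow p G) := inferInstance
  have hPp : IsPGroup p (P : Subgroup G) := P.isPGroup'
  have hNP : N ⊔ (P : Subgroup G) = ⊤ := by
    rw [← index_eq_one]
    have h1 : (N ⊔ (P : Subgroup G)).index ∣ N.index := index_dvd_of_le le_sup_left
    have h2 : (N ⊔ (P : Subgroup G)).index ∣ (P : Subgroup G).index := index_dvd_of_le le_sup_right
    have h3 : ¬ p ∣ (P : Subgroup G).index := P.not_dvd_index
    have hq : IsPGroup p (G ⧸ N) := by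
      intro x
      obtain ⟨g, rfl⟩ := QuotientGroup.mk'_surjective N x
      refine ⟨1, ?_⟩
      rw [pow_one, ← map_pow]
      exact (QuotientGroup.eq_one_iff _).mpr (hexp N hNb g)
    obtain ⟨n, hn⟩ := IsPGroup.iff_card.mp hq
    have h4 : N.index = p ^ n := by rw [index_eq_card, hn]
    rw [h4] at h1
    obtain ⟨k, hk, hk'⟩ := (Nat.dvd_prime_pow hp).mp h1
    rcases Nat.eq_zero_or_pos k with h0 | h0
    · rw [hk', h0, pow_zero]
    · exfalso
      apply h3
      rw [hk'] at h2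
      exact (dvd_pow_self p h0.ne').trans h2
  have hPb : (P : Subgroup G) ≠ ⊥ := by
    intro h
    rw [h, sup_bot_eq] at hNP
    exact hNt hNP
  -- elements of order a power of `p` have order `p`
  have hpow : ∀ R : Subgroup G, IsPGroup p R → ∀ r ∈ R, r ^ p = 1 := by
    intro R hR r hr
    have h1 : r ^ p ∈ N := hexp N hNb r
    have hd := MinStruct.disjoint_of_isPGroup hNp hR
    rw [disjoint_iff] at hd
    have h2 : r ^ p ∈ (R ⊓ N : Subgroup G) := ⟨R.pow_mem hr p, h1⟩
    rw [hd, mem_bot] at h2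
    exact h2
  obtain ⟨q, hq, hqp, hcG, hcN, hel⟩ := MinStruct.structure_of_minimal N (P : Subgroup G) hNp hPp
    hNP hOp hPb hmin (by
      intro R Q hR hQN hRQ hne r hr u hu
      obtain ⟨H, hH⟩ := hsub _ hne
      have hrK : r ∈ R ⊔ Q := mem_sup_left hr
      have huK : u ∈ R ⊔ Q := mem_sup_right hu
      have h1 : (⟨r, hrK⟩ : (R ⊔ Q : Subgroup G)) ∈ (H : Set (R ⊔ Q : Subgroup G)) := by
        rw [hH]
        exact Subtype.ext (hpow R hR r hr)
      have h2 : (⟨u, huK⟩ : (R ⊔ Q : Subgroup G)) * ⟨r, hrK⟩⁻¹ * ⟨u, huK⟩⁻¹ ∈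
          (H : Set (R ⊔ Q : Subgroup G)) := by
        rw [hH] at h1 ⊢
        change _ ^ p = 1
        have h1' : (⟨r, hrK⟩ : (R ⊔ Q : Subgroup G)) ^ p = 1 := h1
        rw [conj_pow, inv_pow, h1', inv_one, mul_one, mul_inv_cancel]
      have h3 : (⟨r, hrK⟩ : (R ⊔ Q : Subgroup G)) * (⟨u, huK⟩ * ⟨r, hrK⟩⁻¹ * ⟨u, huK⟩⁻¹) ∈
          (H : Set (R ⊔ Q : Subgroup G)) := H.mul_mem h1 h2
      rw [hH] at h3
      have h4 : (r * (u * r⁻¹ * u⁻¹)) ^ p = 1 := congrArg Subtype.val h3
      have h5 : r * (u * r⁻¹ * u⁻¹) ∈ N := by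
        have : r * (u * r⁻¹ * u⁻¹) = (r * u * r⁻¹) * u⁻¹ := by group
        rw [this]
        exact N.mul_mem (hQN (hRQ r hr u hu)) (N.inv_mem (hQN hu))
      have h6 := eq_one_of_pow hNp h5 h4
      have h7 : (r * u * r⁻¹) * u⁻¹ = 1 := by rw [← h6]; group
      exact mul_inv_eq_one.mp h7)
  exact ⟨q, hq, hqp, hcG, N, hN, hcN, hel, hmin⟩

end Cfsg.Agent.S3873
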