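import Cfsg.Statements.S3874
import Cfsg.Agent.H469.Main
import Cfsg.Agent.S0000

set_option autoImplicit false
open Cfsg

namespace Cfsg.Agent.S3874

/-- Let G be a non-abelian finite simple group in which the elements of order dividing p do not form a subgroup, while in every proper subgroup of G they do. Then the Sylow p-subgroups of G are cyclic. -/
theorem result {G : Type*} [Group G] [Finite G] [IsSimpleGroup G] (hna : ¬ IsMulCommutative G) {p : ℕ} [Fact p.Prime]
    (hnc : ¬ (∃ H : Subgroup G, (H : Set G) = {g : G | g ^ p = 1})) (hsub : ∀ K : Subgroup G, K ≠ ⊤ → (∃ H : Subgroup ↥K, (H : Set ↥K) = {g : ↥K | g ^ p = 1})) (P : Sylow p G) :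
    IsCyclic ↥(P : Subgroup G) := by
  have hna' : ∃ a b : G, a * b ≠ b * a := by
    by_contra hcon
    push Not at hcon
    exact hna ⟨⟨hcon⟩⟩
  by_cases hp2 : p = 2
  · subst hp2
    exact absurd (Cfsg.Agent.H469.two_of_omega hna' hsub) hnc
  · exact Cfsg.Agent.H469.isCyclic_of_known hna' Cfsg.Agent.S0000.result hp2 (Cfsg.Agent.H469.NB.of_exponentClosed hsub) P

end Cfsg.Agent.S3874
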