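import Cfsg.Statements.S3890
-- import your own Cfsg.Agent.* helpers here
import Cfsg.Agent.H472.NilpCover

set_option autoImplicit false
open Cfsg

namespace Cfsg.Agent.S3890

/-- A cover of a group is a finite set of proper subgroups whose union is the whole group; it is minimal when no cover has fewer members, and nilpotent when all its members are nilpotent. Let G be a finite group with trivial center admitting a nilpotent minimal cover 𝓐, and let P be an abelian Sylow p-subgroup of G that is not normal. Then either P is elementary abelian of order greater than p, or P is a Sylow p-subgroup of some member A of 𝓐, the normalizer N of P is a maximal subgroup of G, N meets each of its conjugates by elements outside N in a subgroup of order prime to p, and the centralizer of P equals A. -/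
theorem result {G : Type*} [Group G] [Finite G] (hZ : Subgroup.center G = ⊥) (𝓐 : Finset (Subgroup G))
    (h𝓐 : ((∀ A ∈ 𝓐, A ≠ ⊤) ∧ (∀ g : G, ∃ A ∈ 𝓐, g ∈ A)) ∧ (∀ 𝓑 : Finset (Subgroup G), (∀ A ∈ 𝓑, A ≠ ⊤) ∧ (∀ g : G, ∃ A ∈ 𝓑, g ∈ A) → 𝓐.card ≤ 𝓑.card) ∧ (∀ A ∈ 𝓐, Group.IsNilpotent ↥A)) {p : ℕ} [Fact p.Prime] (P : Sylow p G) (hab : IsMulCommutative ↥(P : Subgroup G))
    (hnn : ¬ (P : Subgroup G).Normal) :
    (Cfsg.IsElementaryAbelian p (P : Subgroup G) ∧ p < Nat.card ↥(P : Subgroup G)) ∨
    (∃ A ∈ 𝓐, (P : Subgroup G) ≤ A ∧ ¬ p ∣ ((P : Subgroup G).subgroupOf A).index ∧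
      IsCoatom (Subgroup.normalizer ((P : Subgroup G) : Set G)) ∧
      (∀ g : G, g ∉ Subgroup.normalizer ((P : Subgroup G) : Set G) →
        ¬ p ∣ Nat.card ↥(Subgroup.normalizer ((P : Subgroup G) : Set G) ⊓
          (Subgroup.normalizer ((P : Subgroup G) : Set G)).map (MulAut.conj g).toMonoidHom)) ∧
      Subgroup.centralizer ((P : Subgroup G) : Set G) = A) := by
  obtain ⟨⟨hprop, hcov⟩, hmin, hnil⟩ := h𝓐
  have hP1 : ∀ Q : Sylow p G, (Q : Subgroup G) ≠ ⊥ := H472.NilpCover.ne_bot_of_not_normal P hnn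
  have hab' : ∀ Q : Sylow p G, IsMulCommutative ↥(Q : Subgroup G) :=
    H472.NilpCover.isMulCommutative_of_sylow P hab
  by_cases hE : Cfsg.IsElementaryAbelian p (P : Subgroup G) ∧ p < Nat.card ↥(P : Subgroup G)
  · exact Or.inl hE
  right
  have hex : ∀ Q : Sylow p G, ∃ A ∈ 𝓐, (Q : Subgroup G) ≤ A := by
    intro Q
    rcases H472.NilpCover.exists_le_or_elementary hZ hprop hcov hmin hnil Q (hab' Q) with h | h
    · exact h
    · have hcard : Nat.card ↥(Q : Subgroup G) ≤ p := by
        by_contra hlt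
        push Not at hlt
        exact hE ⟨H472.NilpCover.isElementaryAbelian_of_sylow Q h P, by
          rwa [H472.NilpCover.card_sylow_eq P Q]⟩
      exact H472.NilpCover.exists_le_of_isCyclic hcov Q
        (H472.NilpCover.isCyclic_of_card_le Q hcard)
  obtain ⟨A, hA, hPA⟩ := hex P
  exact ⟨A, hA, hPA, H472.NilpCover.not_dvd_index_subgroupOf P hPA,
    H472.NilpCover.isCoatom_normalizer hZ hprop hcov hmin hnil hab' hP1 hex P hnn,
    fun g hg => H472.NilpCover.not_dvd_card_inf hZ hprop hcov hmin hnil hab' hP1 hex P hg,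
    H472.NilpCover.centralizer_eq hZ hprop hcov hmin hnil P hab (hP1 P) hA hPA⟩

end Cfsg.Agent.S3890
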