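import Cfsg.Statements.S3891
-- import your own Cfsg.Agent.* helpers here
import Cfsg.Agent.H472.NilpCover

set_option autoImplicit false
open Cfsg

namespace Cfsg.Agent.S3891

/-- A cover of a group is a finite set of proper subgroups whose union is the whole group; it is minimal when no cover has fewer members, and nilpotent when all its members are nilpotent. Let G be a finite group with trivial center admitting a nilpotent minimal cover, and let P be a non-normal Sylow p-subgroup of G that is cyclic, or abelian but not elementary abelian. Then the centralizer of P is nilpotent and the normalizer of P is the unique maximal subgroup of G containing the centralizer of P. -/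
theorem result {G : Type*} [Group G] [Finite G] (hZ : Subgroup.center G = ⊥) (𝓐 : Finset (Subgroup G))
    (h𝓐 : ((∀ A ∈ 𝓐, A ≠ ⊤) ∧ (∀ g : G, ∃ A ∈ 𝓐, g ∈ A)) ∧ (∀ 𝓑 : Finset (Subgroup G), (∀ A ∈ 𝓑, A ≠ ⊤) ∧ (∀ g : G, ∃ A ∈ 𝓑, g ∈ A) → 𝓐.card ≤ 𝓑.card) ∧ (∀ A ∈ 𝓐, Group.IsNilpotent ↥A)) {p : ℕ} [Fact p.Prime] (P : Sylow p G)
    (hP : IsCyclic ↥(P : Subgroup G) ∨ (IsMulCommutative ↥(P : Subgroup G) ∧ ¬ Cfsg.IsElementaryAbelian p (P : Subgroup G)))
    (hnn : ¬ (P : Subgroup G).Normal) :
    Group.IsNilpotent ↥(Subgroup.centralizer ((P : Subgroup G) : Set G)) ∧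
      IsCoatom (Subgroup.normalizer ((P : Subgroup G) : Set G)) ∧
      ∀ M : Subgroup G, IsCoatom M → Subgroup.centralizer ((P : Subgroup G) : Set G) ≤ M →
        M = Subgroup.normalizer ((P : Subgroup G) : Set G) := by
  obtain ⟨⟨hprop, hcov⟩, hmin, hnil⟩ := h𝓐
  have hP1 : ∀ Q : Sylow p G, (Q : Subgroup G) ≠ ⊥ := H472.NilpCover.ne_bot_of_not_normal P hnn
  have hab : IsMulCommutative ↥(P : Subgroup G) := by
    rcases hP with h | h
    · infer_instance
    · exact h.1
  have hab' : ∀ Q : Sylow p G, IsMulCommutative ↥(Q : Subgroup G) :=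
    H472.NilpCover.isMulCommutative_of_sylow P hab
  have hex : ∀ Q : Sylow p G, ∃ A ∈ 𝓐, (Q : Subgroup G) ≤ A := by
    intro Q
    rcases hP with hc | hc
    · exact H472.NilpCover.exists_le_of_isCyclic hcov Q (H472.NilpCover.isCyclic_of_sylow P hc Q)
    · rcases H472.NilpCover.exists_le_or_elementary hZ hprop hcov hmin hnil Q (hab' Q) with h | h
      · exact h
      · exact absurd (H472.NilpCover.isElementaryAbelian_of_sylow Q h P) hc.2
  obtain ⟨A, hA, hPA⟩ := hex P
  have hco := H472.NilpCover.isCoatom_normalizer hZ hprop hcov hmin hnil hab' hP1 hex P hnn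
  refine ⟨?_, hco, ?_⟩
  · rw [H472.NilpCover.centralizer_eq hZ hprop hcov hmin hnil P hab (hP1 P) hA hPA]
    exact hnil A hA
  · intro M hM hCM
    have hle := H472.NilpCover.le_normalizer_of_centralizer_le hZ hprop hcov hmin hnil hab' hP1 hex
      P hM.1 hCM
    by_contra hne
    exact hco.1 (hM.2 _ (lt_of_le_of_ne hle hne))

end Cfsg.Agent.S3891
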