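import Cfsg.Statements.S3893
import Cfsg.Agent.H473.NilCover
import Cfsg.Agent.Lib.NilpotentCoprime
import Cfsg.Agent.LieRecognition.SzMatrix

set_option autoImplicit false
open Cfsg

namespace Cfsg.Agent.S3893

open Cfsg.Agent.H473 Cfsg.Agent.LieRecognition.SzMatrix

variable {F : Type*} [Field F] {θ : F →+* F} {e : ℕ}

/-- the centralizer of a nontrivial diagonal element -/
theorem eq_d_of_commute (H : Good F θ e) {k : Fˣ} (hk : k ≠ 1) {g : ↥(Cfsg.Lie.Sz F e)}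
    (hc : g * H.d k = H.d k * g) : ∃ l : Fˣ, g = H.d l := by
  have h0 := H.two
  have hk1 : (k : F) ≠ 1 := fun h => hk (Units.ext h)
  have hk0 := k.ne_zero
  -- the entry (3,0)
  have h30 : g.1.1 3 0 = 0 := by
    have h1 : (g.1 * H.D k).1 3 0 = (H.D k * g.1).1 3 0 := by
      have := congrArg (fun x : ↥(Cfsg.Lie.Sz F e) => x.1.1 3 0) hc
      exact this
    rw [Units.val_mul, Units.val_mul, H.D_val, Dmat_def] at h1
    simp [Matrix.mul_apply, Fin.sum_univ_four] at h1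
    by_contra hne
    have h2 : (k : F) = (k : F)⁻¹ := by
      apply mul_left_cancel₀ hne
      rw [h1, mul_comm]
    have h3 : (k : F) * k = 1 := by
      nth_rewrite 2 [h2]
      exact mul_inv_cancel₀ hk0
    have h4 : ((k : F) - 1) * ((k : F) - 1) = 0 := by
      linear_combination h3 - (k : F) * h0 + h0
    have h5 : (k : F) - 1 = 0 := by
      rcases mul_eq_zero.1 h4 with h | h <;> exact h
    exact hk1 (sub_eq_zero.1 h5)
  obtain ⟨a, b, l, hg⟩ := (H.mem_borel_iff' g).1 ((H.mem_borel g).2 h30)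
  -- `u a b` commutes with `d k`
  have hcu : H.u a b * H.d k = H.d k * H.u a b := by
    have h1 : H.u a b * H.d l * H.d k = H.d k * (H.u a b * H.d l) := by rw [← hg]; exact hc
    have h2 : H.d l * H.d k = H.d k * H.d l := by rw [H.d_mul, H.d_mul, mul_comm]
    have h3 : (H.u a b * H.d k) * H.d l = (H.d k * H.u a b) * H.d l := by
      rw [mul_assoc, ← h2, ← mul_assoc, h1, mul_assoc]
    exact mul_right_cancel h3
  rw [H.d_mul_u] at hcu
  obtain ⟨h1, h2⟩ := H.u_inj (mul_right_cancel hcu)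
  have hθ0 := theta_ne_zero θ k
  have hb : b = 0 := by
    by_contra hb
    have h3 : θ (k : F) = 1 := by
      have : b * 1 = b * θ k := by rw [mul_one]; exact h2
      exact (mul_left_cancel₀ hb this).symm
    apply hk1
    apply θ.injective
    rw [h3, map_one]
  have ha : a = 0 := by
    by_contra ha
    have h3 : θ (k : F) = (k : F) ^ 2 := by
      have h4 : a * 1 = a * ((k : F) ^ 2 * (θ k)⁻¹) := by rw [mul_one, ← mul_assoc]; exact h1
      have h5 := mul_left_cancel₀ ha h4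
      field_simp at h5
      exact h5
    have h4 : ((k : F) ^ 2) ^ 2 = (k : F) ^ 2 := by
      have h5 := H.sq (k : F)
      rw [h3, map_pow, h3] at h5
      exact h5
    have h5 : (k : F) ^ 2 = 1 := by
      have h6 : (k : F) ^ 2 * (k : F) ^ 2 = (k : F) ^ 2 * 1 := by rw [mul_one, ← pow_two]; exact h4
      exact mul_left_cancel₀ (pow_ne_zero 2 hk0) h6
    have h6 : ((k : F) - 1) * ((k : F) - 1) = 0 := by
      linear_combination h5 - (k : F) * h0 + h0
    have h7 : (k : F) - 1 = 0 := by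
      rcases mul_eq_zero.1 h6 with h | h <;> exact h
    exact hk1 (sub_eq_zero.1 h7)
  refine ⟨l, ?_⟩
  rw [hg, ha, hb, H.u_zero, one_mul]

/-- A cover of a group is a finite set of proper subgroups whose union is the whole group; it is minimal when no cover has fewer members, and nilpotent when all its members are nilpotent. The Suzuki groups Sz(q), q = 2^(2m+1) with m ≥ 1, have no nilpotent minimal cover. -/
theorem result {F : Type*} [Field F] [Fintype F] (m : ℕ) (hm : 1 ≤ m) (hF : Fintype.card F = 2 ^ (2 * m + 1)) :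
    ¬ ∃ 𝓐 : Finset (Subgroup ↥(Cfsg.Lie.Sz F (2 ^ (m + 1)))), ((∀ A ∈ 𝓐, A ≠ ⊤) ∧ (∀ g : ↥(Cfsg.Lie.Sz F (2 ^ (m + 1))), ∃ A ∈ 𝓐, g ∈ A)) ∧ (∀ 𝓑 : Finset (Subgroup ↥(Cfsg.Lie.Sz F (2 ^ (m + 1)))), (∀ A ∈ 𝓑, A ≠ ⊤) ∧ (∀ g : ↥(Cfsg.Lie.Sz F (2 ^ (m + 1))), ∃ A ∈ 𝓑, g ∈ A) → 𝓐.card ≤ 𝓑.card) ∧ (∀ A ∈ 𝓐, Group.IsNilpotent ↥A) := by
  rintro ⟨𝓐, h𝓐'⟩
  have h𝓐 : IsNilMinCover 𝓐 := h𝓐'
  have H := good hF
  have hq : 8 ≤ Fintype.card F := by
    rw [hF]
    calc 8 = 2 ^ 3 := by norm_num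
      _ ≤ 2 ^ (2 * m + 1) := Nat.pow_le_pow_right (by norm_num) (by omega)
  -- a nontrivial unit
  obtain ⟨k, hk⟩ : ∃ k : Fˣ, k ≠ 1 := by
    classical
    have h1 : 1 < Fintype.card Fˣ := by
      rw [Fintype.card_units]; omega
    have := Fintype.one_lt_card_iff_nontrivial.1 h1
    exact exists_ne 1
  have hM : H.borel ≠ ⊤ := by
    intro e
    exact H.w_not_mem_borel (by rw [e]; exact Subgroup.mem_top _)
  have key : ∀ N : Subgroup ↥(Cfsg.Lie.Sz F (2 ^ (m + 1))), Group.IsNilpotent ↥N → H.d k ∈ N →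
      N ≤ H.borel := by
    intro N hN hkN g hg
    have hd1 : H.d k ≠ 1 := by
      intro e
      rw [← H.d_one] at e
      exact hk (H.d_inj e)
    obtain ⟨z, hzN, hz1, hz⟩ := exists_central_of_nilpotent hN hkN hd1
    obtain ⟨l, hl⟩ := eq_d_of_commute H hk (hz _ hkN).symm
    have hl1 : l ≠ 1 := by
      rintro rfl
      exact hz1 (by rw [hl, H.d_one])
    obtain ⟨r, hr⟩ := eq_d_of_commute H hl1 (g := g) (by rw [← hl]; exact hz g hg)
    rw [hr]
    exact H.d_mem_borel r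
  obtain ⟨A, hA, hAM, hSA⟩ := h𝓐.exists_common hM {H.d k, H.u 1 0 * H.d k * (H.u 1 0)⁻¹} (by
    intro x hx N hN hxN
    rcases hx with rfl | hx
    · exact key N hN hxN
    · rw [Set.mem_singleton_iff] at hx
      subst hx
      intro g hg
      have hN' : Group.IsNilpotent ↥(N.map (MulAut.conj (H.u 1 0)⁻¹).toMonoidHom) :=
        (Group.isNilpotent_congr (N.equivMapOfInjective _ (MulAut.conj (H.u 1 0)⁻¹).injective)).1 hN
      have h1 : H.d k ∈ N.map (MulAut.conj (H.u 1 0)⁻¹).toMonoidHom := by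
        refine ⟨_, hxN, ?_⟩
        change (H.u 1 0)⁻¹ * (H.u 1 0 * H.d k * (H.u 1 0)⁻¹) * ((H.u 1 0)⁻¹)⁻¹ = H.d k
        group
      have h2 := key _ hN' h1
      have h3 : (H.u 1 0)⁻¹ * g * ((H.u 1 0)⁻¹)⁻¹ ∈ H.borel := h2 ⟨g, hg, rfl⟩
      have h4 : g = H.u 1 0 * ((H.u 1 0)⁻¹ * g * ((H.u 1 0)⁻¹)⁻¹) * (H.u 1 0)⁻¹ := by group
      rw [h4]
      exact mul_mem (mul_mem (H.u_mem_borel _ _) h3) (inv_mem (H.u_mem_borel _ _)))
  have hkA : H.d k ∈ A := hSA (Set.mem_insert _ _)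
  have hkA2 : H.u 1 0 * H.d k * (H.u 1 0)⁻¹ ∈ A := hSA (Set.mem_insert_of_mem _ rfl)
  set c := H.u 1 0 * H.d k * (H.u 1 0)⁻¹ * (H.d k)⁻¹ with hc
  have hcA : c ∈ A := mul_mem hkA2 (inv_mem hkA)
  have hcU : c ∈ H.unip := by
    have h1 : c = H.u 1 0 * (H.d k * (H.u 1 0)⁻¹ * (H.d k)⁻¹) := by rw [hc]; group
    rw [h1, H.u_inv, H.d_mul_u, mul_inv_cancel_right]
    exact mul_mem (H.u_mem_unip _ _) (H.u_mem_unip _ _)
  have hcpow : c ^ (Fintype.card F ^ 2) = 1 := by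
    have h1 : (⟨c, hcU⟩ : H.unip) ^ Nat.card H.unip = 1 := pow_card_eq_one'
    rw [H.card_unip, Nat.card_eq_fintype_card] at h1
    exact congrArg Subtype.val h1
  have hdpow' : ∀ n : ℕ, (H.d k) ^ n = H.d (k ^ n) := by
    intro n
    induction n with
    | zero => rw [pow_zero, pow_zero, H.d_one]
    | succ n ih => rw [pow_succ (H.d k) n, ih, H.d_mul, pow_succ k n]
  have hdpow : (H.d k) ^ (Fintype.card F - 1) = 1 := by
    rw [hdpow', ← H.d_one]
    congr 1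
    apply Units.ext
    rw [Units.val_pow_eq_pow_val, Units.val_one]
    exact FiniteField.pow_card_sub_one_eq_one _ k.ne_zero
  have hcop : Nat.Coprime (Fintype.card F ^ 2) (Fintype.card F - 1) := by
    apply Nat.Coprime.pow_left
    have h1 : Fintype.card F = (Fintype.card F - 1) + 1 := by omega
    rw [Nat.coprime_comm]
    nth_rewrite 2 [h1]
    simp
  have := hA
  have h2 : Commute (⟨c, hcA⟩ : ↥A) ⟨H.d k, hkA⟩ :=
    Cfsg.Agent.Lib.NilpotentCoprime.commute_of_pow_eq_one hcop (Subtype.ext hcpow) (Subtype.ext hdpow)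
  have h3 : c * H.d k = H.d k * c := congrArg Subtype.val h2.eq
  obtain ⟨l, hl⟩ := eq_d_of_commute H hk h3
  obtain ⟨a, b, hab⟩ := (H.mem_unip_iff c).1 hcU
  have h4 : H.u a b * H.d 1 = H.u 0 0 * H.d l := by
    rw [H.d_one, mul_one, H.u_zero, one_mul, ← hab, hl]
  obtain ⟨rfl, rfl, -⟩ := H.u_mul_d_inj h4
  rw [H.u_zero] at hab
  have h5 : H.u 1 0 * H.d k = H.d k * H.u 1 0 := by
    rw [hc, mul_inv_eq_one, mul_inv_eq_iff_eq_mul] at hab
    exact hab
  obtain ⟨r, hr⟩ := eq_d_of_commute H hk h5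
  have h6 : H.u 1 0 * H.d 1 = H.u 0 0 * H.d r := by
    rw [H.d_one, mul_one, H.u_zero, one_mul, hr]
  exact one_ne_zero (H.u_mul_d_inj h6).1

end Cfsg.Agent.S3893
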