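import Cfsg.Statements.S3894
import Cfsg.Agent.H473.GLNil

set_option autoImplicit false
open Cfsg

namespace Cfsg.Agent.S3894

open Cfsg.Agent.H473 Matrix

variable {F : Type*} [Field F]

/-- conjugation transfers the information on nilpotent overgroups -/
theorem conj_overgroups {Γ : Type*} [Group Γ] {K : Subgroup Γ} {x m : Γ} (hm : m ∈ K)
    (hx : ∀ N : Subgroup Γ, Group.IsNilpotent ↥N → x ∈ N → N ≤ K) (N : Subgroup Γ)
    (hN : Group.IsNilpotent ↥N) (hxN : m * x * m⁻¹ ∈ N) : N ≤ K := by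
  have hN' : Group.IsNilpotent ↥(N.map (MulAut.conj m⁻¹).toMonoidHom) :=
    (Group.isNilpotent_congr (N.equivMapOfInjective _ (MulAut.conj m⁻¹).injective)).1 hN
  have h1 : x ∈ N.map (MulAut.conj m⁻¹).toMonoidHom := by
    refine ⟨_, hxN, ?_⟩
    change m⁻¹ * (m * x * m⁻¹) * (m⁻¹)⁻¹ = x
    group
  have h2 := hx _ hN' h1
  intro g hg
  have h3 : m⁻¹ * g * (m⁻¹)⁻¹ ∈ K := h2 ⟨g, hg, rfl⟩
  have h4 : g = m * (m⁻¹ * g * (m⁻¹)⁻¹) * m⁻¹ := by group
  rw [h4]
  exact mul_mem (mul_mem hm h3) (inv_mem hm)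

/-- a lower transvection moving the first line -/
def tSL (F : Type*) [Field F] (n : ℕ) : Matrix.SpecialLinearGroup (Fin (n + 2)) F :=
  ⟨Matrix.transvection 1 0 1, Matrix.det_transvection_of_ne _ _ (by
      intro e
      have := congrArg Fin.val e
      simp at this) 1⟩

theorem tSL_notMem (n : ℕ) : (Matrix.SpecialLinearGroup.toGL (tSL F n) : GL (Fin (n + 2)) F) ∉ lineStab (e0 F (n + 2)) := by
  rintro ⟨c, hc⟩
  have h1 := congrFun hc 1
  have h2 : ((Matrix.SpecialLinearGroup.toGL (tSL F n) : GL (Fin (n + 2)) F) : Matrix (Fin (n + 2)) (Fin (n + 2)) F) =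
      Matrix.transvection 1 0 1 := rfl
  rw [h2, Matrix.transvection, Matrix.add_mulVec, Matrix.one_mulVec] at h1
  simp [e0, Matrix.mulVec, dotProduct, Matrix.single_apply] at h1

theorem range_mem {n : ℕ} {G : Subgroup (GL (Fin n) F ⧸ Subgroup.center (GL (Fin n) F))}
    (hG : ((Matrix.SpecialLinearGroup.toGL : Matrix.SpecialLinearGroup (Fin n) F →* GL (Fin n) F).range).map
      (QuotientGroup.mk' (Subgroup.center (GL (Fin n) F))) ≤ G) (s : Matrix.SpecialLinearGroup (Fin n) F) :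
    QuotientGroup.mk' (Subgroup.center (GL (Fin n) F)) (Matrix.SpecialLinearGroup.toGL s) ∈ G :=
  hG ⟨_, ⟨s, rfl⟩, rfl⟩

/-- the case `n ≥ 3` -/
theorem case_ge_three [Fintype F] (n : ℕ)
    (G : Subgroup (GL (Fin (n + 3)) F ⧸ Subgroup.center (GL (Fin (n + 3)) F)))
    (hG : ((Matrix.SpecialLinearGroup.toGL : Matrix.SpecialLinearGroup (Fin (n + 3)) F →* GL (Fin (n + 3)) F).range).map
      (QuotientGroup.mk' (Subgroup.center (GL (Fin (n + 3)) F))) ≤ G)
    {𝓐 : Finset (Subgroup ↥G)} (h𝓐 : IsNilMinCover 𝓐) : False := by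
  have hmK : mGL F (n + 1) ∈ lineStab (e0 F (n + 3)) := by
    refine ⟨1, ?_⟩
    rw [mGL_val, Matrix.transvection, Matrix.add_mulVec, Matrix.one_mulVec, Units.val_one, one_smul]
    have : (Matrix.single (Fin.last (n + 2)) (Fin.castSucc (Fin.last (n + 1))) (1 : F)) *ᵥ e0 F (n + 3) = 0 := by
      ext i
      rw [Matrix.mulVec, dotProduct]
      apply Finset.sum_eq_zero
      intro j _
      by_cases hj : Fin.castSucc (Fin.last (n + 1)) = j
      · rw [← hj]; simp [e0]
      · simp [hj]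
    rw [this, add_zero]
  have hu : ∀ N : Subgroup (GL (Fin (n + 3)) F), Group.IsNilpotent ↥N → uGL F (n + 3) ∈ N →
      N ≤ lineStab (e0 F (n + 3)) := fun N hN h => nilpotent_le_lineStab (by omega) hN h
  obtain ⟨N, hN, hS⟩ := criterion h𝓐 (lineStab (e0 F (n + 3))) (center_le_lineStab _)
    (t := Matrix.SpecialLinearGroup.toGL (tSL F (n + 1))) (range_mem hG _) (tSL_notMem (n + 1))
    {uGL F (n + 3), mGL F (n + 1) * uGL F (n + 3) * (mGL F (n + 1))⁻¹} (by
      rintro s (rfl | hs)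
      · exact range_mem hG _
      · rw [Set.mem_singleton_iff] at hs
        subst hs
        rw [map_mul, map_mul, map_inv]
        exact mul_mem (mul_mem (range_mem hG _) (range_mem hG _)) (inv_mem (range_mem hG _))) (by
      rintro s (rfl | hs) N hN hsN
      · exact hu N hN hsN
      · rw [Set.mem_singleton_iff] at hs
        subst hs
        exact conj_overgroups hmK hu N hN hsN)
  exact not_nilpotent_pair hN (hS (Set.mem_insert _ _)) (hS (Set.mem_insert_of_mem _ rfl))

/-! ### Dimension two -/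

theorem uMat_two : uMat F 2 = !![1, 1; 0, 1] := by
  ext i j
  fin_cases i <;> fin_cases j <;> simp [uMat]

theorem comm_u {h : GL (Fin 2) F} (hc : h * uGL F 2 = uGL F 2 * h) : h.1 1 0 = 0 ∧ h.1 0 0 = h.1 1 1 := by
  have h1 : h.1 * uMat F 2 = uMat F 2 * h.1 := congrArg Units.val hc
  rw [uMat_two] at h1
  have e1 := congrFun (congrFun h1 0) 0
  have e2 := congrFun (congrFun h1 0) 1
  simp [Matrix.mul_apply, Fin.sum_univ_two] at e1 e2
  constructor
  · exact e1
  · linear_combination e2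

theorem comm_u_iff {h : GL (Fin 2) F} : h * uGL F 2 = uGL F 2 * h ↔ h.1 1 0 = 0 ∧ h.1 0 0 = h.1 1 1 := by
  constructor
  · exact comm_u
  · rintro ⟨h1, h2⟩
    apply Units.ext
    change h.1 * uMat F 2 = uMat F 2 * h.1
    rw [uMat_two]
    ext i j
    fin_cases i <;> fin_cases j <;> simp [Matrix.mul_apply, Fin.sum_univ_two, h1, h2, add_comm]

/-- elements of a `p`-group have determinant one -/
theorem det_eq_one [Fintype F] {p : ℕ} [hp : Fact p.Prime] [CharP F p] {n : ℕ}
    {P : Subgroup (GL (Fin n) F)} (hP : IsPGroup p ↥P) {h : GL (Fin n) F} (hh : h ∈ P) : h.1.det = 1 := by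
  obtain ⟨j, hj⟩ := hP ⟨h, hh⟩
  have h1 : h ^ p ^ j = 1 := congrArg Subtype.val hj
  have h2 : (h.1.det) ^ p ^ j = 1 := by
    rw [← Matrix.det_pow, ← Units.val_pow_eq_pow_val, h1, Units.val_one, Matrix.det_one]
  have h3 : (h.1.det - 1) ^ p ^ j = 0 := by
    rw [sub_pow_char_pow, one_pow, h2, sub_self]
  have h4 := pow_eq_zero_iff (n := p ^ j) (by have := hp.out.pos; positivity) |>.1 h3
  exact sub_eq_zero.1 h4

/-- nilpotent subgroups containing `u` centralize `u` -/
theorem nilpotent_comm_u [Fintype F] {N : Subgroup (GL (Fin 2) F)} (hN : Group.IsNilpotent ↥N)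
    (hu : uGL F 2 ∈ N) {h : GL (Fin 2) F} (hh : h ∈ N) : h * uGL F 2 = uGL F 2 * h := by
  obtain ⟨p, hp⟩ := CharP.exists F
  have hpp : p.Prime := CharP.char_is_prime F p
  have : Fact p.Prime := ⟨hpp⟩
  have key : N ≤ Subgroup.centralizer ({uGL F 2} : Set (GL (Fin 2) F)) := by
    refine nilpotent_le (p := p) hN hu (uMat_pow (by norm_num)) _ ?_ ?_
    · intro h hc
      rw [Subgroup.mem_centralizer_singleton_iff]
      exact hc
    · intro P hP huP h hh
      have h1 := fix_e0_of_pGroup (by norm_num) hP huP hh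
      have h2 := det_eq_one hP hh
      have e1 : h.1 0 0 = 1 := by
        have := congrFun h1 0
        simpa [Matrix.mulVec, dotProduct, Fin.sum_univ_two, e0] using this
      have e2 : h.1 1 0 = 0 := by
        have := congrFun h1 1
        simpa [Matrix.mulVec, dotProduct, Fin.sum_univ_two, e0] using this
      have e3 : h.1 1 1 = 1 := by
        rw [Matrix.det_fin_two, e1, e2] at h2
        simpa using h2
      have h4 := comm_u_iff.2 ⟨e2, e1.trans e3.symm⟩
      rw [Subgroup.mem_centralizer_singleton_iff]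
      exact h4
  have h4 := key hh
  rw [Subgroup.mem_centralizer_singleton_iff] at h4
  exact h4

/-- commuting modulo scalars -/
theorem comm_mod {n : ℕ} {a b : GL (Fin n) F}
    (h : QuotientGroup.mk' (Subgroup.center (GL (Fin n) F)) a * QuotientGroup.mk' (Subgroup.center (GL (Fin n) F)) b =
      QuotientGroup.mk' (Subgroup.center (GL (Fin n) F)) b * QuotientGroup.mk' (Subgroup.center (GL (Fin n) F)) a) :
    ∃ l : F, a.1 * b.1 = l • (b.1 * a.1) := by
  rw [← map_mul, ← map_mul] at h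
  have h1 : (b * a)⁻¹ * (a * b) ∈ Subgroup.center (GL (Fin n) F) := QuotientGroup.eq.1 h.symm
  obtain ⟨l, hl⟩ := Matrix.GeneralLinearGroup.mem_center_iff_val_mem_range_scalar.1 h1
  refine ⟨l, ?_⟩
  have h2 : a * b = (b * a) * ((b * a)⁻¹ * (a * b)) := by group
  have h3 : a.1 * b.1 = (b.1 * a.1) * ((b * a)⁻¹ * (a * b) : GL (Fin n) F).1 := by
    have := congrArg Units.val h2
    simpa [mul_assoc] using this
  rw [h3, ← hl, Matrix.scalar_apply, ← Matrix.smul_one_eq_diagonal, Matrix.mul_smul, Matrix.mul_one]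

theorem det_ne_zero {n : ℕ} (h : GL (Fin n) F) : h.1.det ≠ 0 := by
  have := (Matrix.GeneralLinearGroup.det h).ne_zero
  simpa using this

/-- a matrix commuting modulo scalars with a diagonal matrix -/
theorem diag_or_anti {x1 x2 l : F} (h1 : x1 ≠ 0) (h2 : x2 ≠ 0) (hne : x1 ≠ x2) {h : GL (Fin 2) F}
    (hc : h.1 * !![x1, 0; 0, x2] = l • (!![x1, 0; 0, x2] * h.1)) :
    (h.1 0 1 = 0 ∧ h.1 1 0 = 0) ∨ (h.1 0 0 = 0 ∧ h.1 1 1 = 0 ∧ x1 ^ 2 = x2 ^ 2) := by
  have e00 := congrFun (congrFun hc 0) 0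
  have e01 := congrFun (congrFun hc 0) 1
  have e10 := congrFun (congrFun hc 1) 0
  have e11 := congrFun (congrFun hc 1) 1
  simp [Matrix.mul_apply, Matrix.vecMul, dotProduct, Fin.sum_univ_two] at e00 e01 e10 e11
  by_cases hl : l = 1
  · left
    subst hl
    constructor
    · have : h.1 0 1 * (x2 - x1) = 0 := by linear_combination e01
      rcases mul_eq_zero.1 this with h | h
      · exact h
      · exact absurd (sub_eq_zero.1 h).symm hne
    · have : h.1 1 0 * (x1 - x2) = 0 := by linear_combination e10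
      rcases mul_eq_zero.1 this with h | h
      · exact h
      · exact absurd (sub_eq_zero.1 h) hne
  · right
    have hl' : (1 - l) ≠ 0 := fun e => hl (sub_eq_zero.1 e).symm
    have a0 : h.1 0 0 = 0 := by
      have : h.1 0 0 * (x1 * (1 - l)) = 0 := by linear_combination e00
      rcases mul_eq_zero.1 this with h | h
      · exact h
      · exact absurd h (mul_ne_zero h1 hl')
    have a1 : h.1 1 1 = 0 := by
      have : h.1 1 1 * (x2 * (1 - l)) = 0 := by linear_combination e11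
      rcases mul_eq_zero.1 this with h | h
      · exact h
      · exact absurd h (mul_ne_zero h2 hl')
    refine ⟨a0, a1, ?_⟩
    have hd := det_ne_zero h
    rw [Matrix.det_fin_two, a0, a1, zero_mul, zero_sub, neg_ne_zero] at hd
    have b0 : h.1 0 1 ≠ 0 := left_ne_zero_of_mul hd
    have b1 : h.1 1 0 ≠ 0 := right_ne_zero_of_mul hd
    have c0 : x2 = l * x1 := by
      have : h.1 0 1 * x2 = h.1 0 1 * (l * x1) := by linear_combination e01
      exact mul_left_cancel₀ b0 this
    have c1 : x1 = l * x2 := by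
      have : h.1 1 0 * x1 = h.1 1 0 * (l * x2) := by linear_combination e10
      exact mul_left_cancel₀ b1 this
    calc x1 ^ 2 = x1 * x1 := pow_two _
      _ = (l * x2) * x1 := by rw [← c1]
      _ = x2 * (l * x1) := by ring
      _ = x2 ^ 2 := by rw [← c0, pow_two]

/-- the diagonal element of `SL_2` -/
def xSL (s : Fˣ) : Matrix.SpecialLinearGroup (Fin 2) F :=
  ⟨!![(s : F), 0; 0, ((s⁻¹ : Fˣ) : F)], by rw [Matrix.det_fin_two]; simp⟩

/-- the diagonal element of `SL_2` in `GL_2` -/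
def xGL (s : Fˣ) : GL (Fin 2) F := Matrix.SpecialLinearGroup.toGL (xSL s)

theorem xGL_val (s : Fˣ) : (xGL s).1 = !![(s : F), 0; 0, ((s⁻¹ : Fˣ) : F)] := rfl

theorem xGL_pow (s : Fˣ) (n : ℕ) : (xGL s) ^ n = xGL (s ^ n) := by
  induction n with
  | zero =>
    apply Units.ext
    rw [pow_zero, pow_zero, Units.val_one, xGL_val]
    ext i j
    fin_cases i <;> fin_cases j <;> simp
  | succ n ih =>
    rw [pow_succ, ih]
    apply Units.ext
    rw [Units.val_mul, xGL_val, xGL_val, xGL_val, pow_succ]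
    ext i j
    fin_cases i <;> fin_cases j <;> simp [Matrix.mul_apply, Fin.sum_univ_two, mul_comm]

/-- nonscalar -/
theorem nonscalar {h : GL (Fin 2) F} (h1 : QuotientGroup.mk' (Subgroup.center (GL (Fin 2) F)) h ≠ 1) :
    ¬ (h.1 0 1 = 0 ∧ h.1 1 0 = 0 ∧ h.1 0 0 = h.1 1 1) := by
  rintro ⟨a, b, c⟩
  apply h1
  have : h ∈ Subgroup.center (GL (Fin 2) F) := by
    rw [Matrix.GeneralLinearGroup.mem_center_iff_val_mem_range_scalar]
    refine ⟨h.1 0 0, ?_⟩
    ext i j
    fin_cases i <;> fin_cases j <;> simp [Matrix.scalar_apply, a, b, c]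
  exact (QuotientGroup.eq_one_iff _).2 this

/-- nilpotent subgroups containing a split element of odd prime order are diagonal -/
theorem diag_of_mem {s : Fˣ} {r : ℕ} (hr : Odd r) (hs1 : s ≠ 1) (hsr : s ^ r = 1)
    {N : Subgroup (GL (Fin 2) F)} (hN : Group.IsNilpotent ↥N) (hx : xGL s ∈ N) {h : GL (Fin 2) F}
    (hh : h ∈ N) : h.1 0 1 = 0 ∧ h.1 1 0 = 0 := by
  set π := QuotientGroup.mk' (Subgroup.center (GL (Fin 2) F)) with hπ
  -- s ^ 4 ≠ 1
  have hs4 : s ^ 4 ≠ 1 := by
    intro e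
    apply hs1
    have h1 : orderOf s ∣ 4 := orderOf_dvd_of_pow_eq_one e
    have h2 : orderOf s ∣ r := orderOf_dvd_of_pow_eq_one hsr
    have h3 : Nat.Coprime 4 r := by
      have : (4 : ℕ) = 2 ^ 2 := by norm_num
      rw [this]
      exact Nat.Coprime.pow_left 2 (Nat.coprime_two_left.2 hr)
    have h4 := Nat.dvd_gcd h1 h2
    rw [Nat.coprime_iff_gcd_eq_one.1 h3] at h4
    exact orderOf_eq_one_iff.1 (Nat.dvd_one.1 h4)
  have hsne : (s : F) ≠ ((s⁻¹ : Fˣ) : F) := by
    intro e
    apply hs4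
    have e' : s = s⁻¹ := Units.ext e
    have : s * s = 1 := by nth_rewrite 2 [e']; exact mul_inv_cancel s
    calc s ^ 4 = (s * s) * (s * s) := by rw [← pow_two, ← pow_two, ← pow_mul]
      _ = 1 := by rw [this, one_mul]
  have hs2 : ¬ ((s : F) ^ 2 = ((s⁻¹ : Fˣ) : F) ^ 2) := by
    intro e
    apply hs4
    have e' : s ^ 2 = (s⁻¹) ^ 2 := by
      apply Units.ext
      simpa using e
    calc s ^ 4 = s ^ 2 * s ^ 2 := by rw [← pow_add]
      _ = s ^ 2 * (s⁻¹) ^ 2 := by rw [← e']
      _ = 1 := by group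
  have hN' : Group.IsNilpotent ↥(N.map π) := by
    have := hN
    exact Group.nilpotent_of_surjective (π.subgroupMap N) (π.subgroupMap_surjective N)
  have hx' : π (xGL s) ∈ N.map π := ⟨_, hx, rfl⟩
  have hx1 : π (xGL s) ≠ 1 := by
    intro e
    have h1 : xGL s ∈ Subgroup.center (GL (Fin 2) F) := (QuotientGroup.eq_one_iff _).1 e
    obtain ⟨a, ha⟩ := Matrix.GeneralLinearGroup.mem_center_iff_val_mem_range_scalar.1 h1
    apply hsne
    have e0 := congrFun (congrFun ha 0) 0
    have e1 := congrFun (congrFun ha 1) 1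
    rw [xGL_val] at e0 e1
    simp [Matrix.scalar_apply] at e0 e1
    rw [← e0]
    simpa using e1
  obtain ⟨zb, hzN, hz1, hz⟩ := exists_central_of_nilpotent hN' hx' hx1
  obtain ⟨z, rfl⟩ := QuotientGroup.mk'_surjective (Subgroup.center (GL (Fin 2) F)) zb
  obtain ⟨l, hl⟩ := comm_mod (hz _ hx').symm
  rw [xGL_val] at hl
  have hzd : z.1 0 1 = 0 ∧ z.1 1 0 = 0 := by
    rcases diag_or_anti s.ne_zero (s⁻¹).ne_zero hsne hl with h | h
    · exact h
    · exact absurd h.2.2 hs2
  have hzne : z.1 0 0 ≠ z.1 1 1 := fun e => nonscalar hz1 ⟨hzd.1, hzd.2, e⟩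
  have hzdet := det_ne_zero z
  rw [Matrix.det_fin_two, hzd.1, zero_mul, sub_zero] at hzdet
  have hzeq : z.1 = !![z.1 0 0, 0; 0, z.1 1 1] := by
    ext i j
    fin_cases i <;> fin_cases j <;> simp [hzd.1, hzd.2]
  have hh' : π h ∈ N.map π := ⟨_, hh, rfl⟩
  obtain ⟨l', hl'⟩ := comm_mod (hz _ hh')
  rw [hzeq] at hl'
  rcases diag_or_anti (left_ne_zero_of_mul hzdet) (right_ne_zero_of_mul hzdet) hzne hl' with h1 | h1
  · exact h1
  · -- h is antidiagonal, so an involution modulo scalars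
    have hsq : (π h) ^ 2 = 1 := by
      rw [← map_pow]
      have : h ^ 2 ∈ Subgroup.center (GL (Fin 2) F) := by
        rw [Matrix.GeneralLinearGroup.mem_center_iff_val_mem_range_scalar]
        refine ⟨h.1 0 1 * h.1 1 0, ?_⟩
        rw [pow_two, Units.val_mul]
        ext i j
        fin_cases i <;> fin_cases j <;>
          simp [Matrix.scalar_apply, Matrix.mul_apply, Fin.sum_univ_two, h1.1, h1.2.1, mul_comm]
      exact (QuotientGroup.eq_one_iff _).2 this
    have hxr : (π (xGL s)) ^ r = 1 := by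
      rw [← map_pow, xGL_pow, hsr]
      have : xGL (1 : Fˣ) = 1 := by
        apply Units.ext
        rw [Units.val_one, xGL_val]
        ext i j
        fin_cases i <;> fin_cases j <;> simp
      rw [this, map_one]
    have := hN'
    have hcc : Commute (⟨π h, hh'⟩ : ↥(N.map π)) ⟨π (xGL s), hx'⟩ :=
      Cfsg.Agent.Lib.NilpotentCoprime.commute_of_pow_eq_one (m := 2) (n := r)
        (Nat.coprime_two_left.2 hr) (Subtype.ext hsq) (Subtype.ext hxr)
    obtain ⟨l2, hl2⟩ := comm_mod (congrArg Subtype.val hcc.eq)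
    rw [xGL_val] at hl2
    rcases diag_or_anti s.ne_zero (s⁻¹).ne_zero hsne hl2 with h | h
    · exact h
    · exact absurd h.2.2 hs2

/-- the case `n = 2` with a split element of odd order -/
theorem case_two_odd [Fintype F]
    (G : Subgroup (GL (Fin 2) F ⧸ Subgroup.center (GL (Fin 2) F)))
    (hG : ((Matrix.SpecialLinearGroup.toGL : Matrix.SpecialLinearGroup (Fin 2) F →* GL (Fin 2) F).range).map
      (QuotientGroup.mk' (Subgroup.center (GL (Fin 2) F))) ≤ G)
    {𝓐 : Finset (Subgroup ↥G)} (h𝓐 : IsNilMinCover 𝓐) {s : Fˣ} {r : ℕ} (hr : Odd r) (hs1 : s ≠ 1)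
    (hsr : s ^ r = 1) : False := by
  have hlow : ∀ h : GL (Fin 2) F, h.1 1 0 = 0 → h ∈ lineStab (e0 F 2) := by
    intro h h1
    rw [mem_lineStab' (e0_ne_zero (by norm_num))]
    refine ⟨h.1 0 0, ?_⟩
    ext i
    fin_cases i <;> simp [Matrix.mulVec, dotProduct, e0, h1]
  have hu : uGL F 2 ∈ lineStab (e0 F 2) := hlow _ (by
    have : (uGL F 2).1 = uMat F 2 := rfl
    rw [this, uMat_two]; simp)
  have hx : ∀ N : Subgroup (GL (Fin 2) F), Group.IsNilpotent ↥N → xGL s ∈ N →
      N ≤ lineStab (e0 F 2) := fun N hN hsN h hh => hlow h (diag_of_mem hr hs1 hsr hN hsN hh).2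
  obtain ⟨N, hN, hS⟩ := criterion h𝓐 (lineStab (e0 F 2)) (center_le_lineStab _)
    (t := Matrix.SpecialLinearGroup.toGL (tSL F 0)) (range_mem hG _) (tSL_notMem 0)
    {xGL s, uGL F 2 * xGL s * (uGL F 2)⁻¹} (by
      rintro s' (rfl | hs)
      · exact range_mem hG _
      · rw [Set.mem_singleton_iff] at hs
        subst hs
        rw [map_mul, map_mul, map_inv]
        exact mul_mem (mul_mem (range_mem hG _) (range_mem hG _)) (inv_mem (range_mem hG _))) (by
      rintro s' (rfl | hs) N hN hsN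
      · exact hx N hN hsN
      · rw [Set.mem_singleton_iff] at hs
        subst hs
        exact conj_overgroups hu hx N hN hsN)
  have h1 : xGL s ∈ N := hS (Set.mem_insert _ _)
  have h2 : uGL F 2 * xGL s * (uGL F 2)⁻¹ ∈ N := hS (Set.mem_insert_of_mem _ rfl)
  obtain ⟨h3, h4⟩ := diag_of_mem hr hs1 hsr hN h1 h2
  set y := uGL F 2 * xGL s * (uGL F 2)⁻¹ with hy
  have h5 : y * uGL F 2 = uGL F 2 * xGL s := by rw [hy]; group
  have h6 : y.1 * uMat F 2 = uMat F 2 * !![(s : F), 0; 0, ((s⁻¹ : Fˣ) : F)] := congrArg Units.val h5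
  rw [uMat_two] at h6
  have e0 := congrFun (congrFun h6 0) 0
  have e1 := congrFun (congrFun h6 0) 1
  simp [Matrix.mul_apply, Fin.sum_univ_two, h3] at e0 e1
  rw [e0] at e1
  have e1' : s = s⁻¹ := Units.ext (by simpa using e1)
  have e2 : s ^ 2 = 1 := by
    rw [pow_two]; nth_rewrite 2 [e1']; exact mul_inv_cancel s
  apply hs1
  have k1 : orderOf s ∣ 2 := orderOf_dvd_of_pow_eq_one e2
  have k2 : orderOf s ∣ r := orderOf_dvd_of_pow_eq_one hsr
  have k3 := Nat.dvd_gcd k1 k2
  rw [Nat.coprime_iff_gcd_eq_one.1 (Nat.coprime_two_left.2 hr)] at k3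
  exact orderOf_eq_one_iff.1 (Nat.dvd_one.1 k3)

/-- the subgroup of elements with square determinant -/
def sqSub (F : Type*) [Field F] : Subgroup (GL (Fin 2) F) where
  carrier := {h | IsSquare h.1.det}
  one_mem' := by
    change IsSquare ((1 : GL (Fin 2) F).1).det
    rw [Units.val_one, Matrix.det_one]
    exact IsSquare.one
  mul_mem' := by
    intro a b ha hb
    change IsSquare (a * b).1.det
    rw [Units.val_mul, Matrix.det_mul]
    exact IsSquare.mul ha hb
  inv_mem' := by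
    intro a ha
    obtain ⟨c, hc⟩ := ha
    change IsSquare (a⁻¹).1.det
    have h1 : a.1.det * (a⁻¹).1.det = 1 := by
      rw [← Matrix.det_mul, ← Units.val_mul, mul_inv_cancel, Units.val_one, Matrix.det_one]
    have hc0 : c ≠ 0 := by
      rintro rfl
      apply det_ne_zero a
      rw [hc, mul_zero]
    refine ⟨c⁻¹, ?_⟩
    rw [hc] at h1
    field_simp
    linear_combination h1

theorem mem_sqSub {h : GL (Fin 2) F} : h ∈ sqSub F ↔ IsSquare h.1.det := Iff.rfl

/-- the case `n = 2` with an element of nonsquare determinant -/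
theorem case_two_nonsquare [Fintype F]
    (G : Subgroup (GL (Fin 2) F ⧸ Subgroup.center (GL (Fin 2) F)))
    (hG : ((Matrix.SpecialLinearGroup.toGL : Matrix.SpecialLinearGroup (Fin 2) F →* GL (Fin 2) F).range).map
      (QuotientGroup.mk' (Subgroup.center (GL (Fin 2) F))) ≤ G)
    {𝓐 : Finset (Subgroup ↥G)} (h𝓐 : IsNilMinCover 𝓐) {t : GL (Fin 2) F}
    (ht : QuotientGroup.mk' (Subgroup.center (GL (Fin 2) F)) t ∈ G) (htd : ¬ IsSquare t.1.det) : False := by
  have hSL : ∀ x : Matrix.SpecialLinearGroup (Fin 2) F, Matrix.SpecialLinearGroup.toGL x ∈ sqSub F := by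
    intro x
    rw [mem_sqSub]
    have : (Matrix.SpecialLinearGroup.toGL x : GL (Fin 2) F).1 = x.1 := rfl
    rw [this, x.2]
    exact IsSquare.one
  have hu : ∀ N : Subgroup (GL (Fin 2) F), Group.IsNilpotent ↥N → uGL F 2 ∈ N → N ≤ sqSub F := by
    intro N hN huN h hh
    obtain ⟨h1, h2⟩ := comm_u (nilpotent_comm_u hN huN hh)
    rw [mem_sqSub, Matrix.det_fin_two, h1, mul_zero, sub_zero, h2]
    exact ⟨_, rfl⟩
  obtain ⟨N, hN, hS⟩ := criterion h𝓐 (sqSub F) (by
      intro g hg
      obtain ⟨a, ha⟩ := Matrix.GeneralLinearGroup.mem_center_iff_val_mem_range_scalar.1 hg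
      rw [mem_sqSub, ← ha, Matrix.scalar_apply, Matrix.det_diagonal, Fin.prod_univ_two]
      exact ⟨a, rfl⟩)
    ht htd
    {uGL F 2, mGL F 0 * uGL F 2 * (mGL F 0)⁻¹} (by
      rintro s (rfl | hs)
      · exact range_mem hG _
      · rw [Set.mem_singleton_iff] at hs
        subst hs
        rw [map_mul, map_mul, map_inv]
        exact mul_mem (mul_mem (range_mem hG _) (range_mem hG _)) (inv_mem (range_mem hG _))) (by
      rintro s (rfl | hs) N hN hsN
      · exact hu N hN hsN
      · rw [Set.mem_singleton_iff] at hs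
        subst hs
        exact conj_overgroups (hSL _) hu N hN hsN)
  exact not_nilpotent_pair hN (hS (Set.mem_insert _ _)) (hS (Set.mem_insert_of_mem _ rfl))

/-! ### The group `PSL_2(q)`, `q ≡ 1 mod 4`: counting -/

/-- a traceless matrix whose determinant is a square has an eigenvector when `-1` is a square -/
theorem traceless_eigen {i : F} (hi : i * i = -1) {h : Matrix (Fin 2) (Fin 2) F} (htr : h 0 0 + h 1 1 = 0)
    (hsq : IsSquare h.det) : ∃ v : Fin 2 → F, v ≠ 0 ∧ ∃ c : F, h *ᵥ v = c • v := by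
  obtain ⟨d, hd⟩ := hsq
  have h1 : (h - Matrix.scalar (Fin 2) (i * d)).det = 0 := by
    rw [Matrix.det_fin_two] at hd ⊢
    simp only [Matrix.sub_apply, Matrix.scalar_apply, Matrix.diagonal_apply_eq]
    rw [Matrix.diagonal_apply_ne _ (by decide), Matrix.diagonal_apply_ne _ (by decide)]
    linear_combination hd - (i * d) * htr + d * d * hi
  obtain ⟨v, hv, hv2⟩ := Matrix.exists_mulVec_eq_zero_iff.2 h1
  refine ⟨v, hv, i * d, ?_⟩
  rw [Matrix.sub_mulVec, sub_eq_zero] at hv2
  rw [hv2, Matrix.scalar_apply]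
  ext j
  simp [Matrix.mulVec_diagonal]

/-- if `D` has an eigenvector, is not scalar and `h` commutes with `D` modulo scalars, then `h` has an
eigenvector, when its determinant is a square -/
theorem good_eigen (h2 : (2 : F) ≠ 0) {i : F} (hi : i * i = -1) {D h : GL (Fin 2) F} {l : F}
    (hc : h.1 * D.1 = l • (D.1 * h.1)) (hD : ¬ (D.1 0 1 = 0 ∧ D.1 1 0 = 0 ∧ D.1 0 0 = D.1 1 1))
    {v : Fin 2 → F} (hv : v ≠ 0) {r : F} (hr : D.1 *ᵥ v = r • v) (hsq : IsSquare h.1.det) :
    ∃ v : Fin 2 → F, v ≠ 0 ∧ ∃ c : F, h.1 *ᵥ v = c • v := by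
  have hdet : l * l = 1 := by
    have e := congrArg Matrix.det hc
    rw [Matrix.det_smul, Matrix.det_mul, Matrix.det_mul, Fintype.card_fin] at e
    have e1 : (D.1.det * h.1.det) * 1 = (D.1.det * h.1.det) * (l * l) := by linear_combination e
    exact (mul_left_cancel₀ (mul_ne_zero (det_ne_zero D) (det_ne_zero h)) e1).symm
  have hl : l = 1 ∨ l = -1 := by
    have : (l - 1) * (l + 1) = 0 := by linear_combination hdet
    rcases mul_eq_zero.1 this with h | h
    · exact Or.inl (sub_eq_zero.1 h)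
    · exact Or.inr (eq_neg_of_add_eq_zero_left h)
  rcases hl with rfl | rfl
  · -- `h v` is again an eigenvector
    rw [one_smul] at hc
    have hw : D.1 *ᵥ (h.1 *ᵥ v) = r • (h.1 *ᵥ v) := by
      rw [Matrix.mulVec_mulVec, ← hc, ← Matrix.mulVec_mulVec, hr, Matrix.mulVec_smul]
    set w := h.1 *ᵥ v with hwdef
    have a0 := congrFun hr 0
    have a1 := congrFun hr 1
    have b0 := congrFun hw 0
    have b1 := congrFun hw 1
    simp only [Matrix.mulVec, dotProduct, Fin.sum_univ_two, Pi.smul_apply, smul_eq_mul] at a0 a1 b0 b1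
    have hprop : v 0 * w 1 - v 1 * w 0 = 0 := by
      by_contra hne
      apply hD
      have c0 : (D.1 0 0 - r) * (v 0 * w 1 - v 1 * w 0) = 0 := by linear_combination w 1 * a0 - v 1 * b0
      have c1 : D.1 0 1 * (v 0 * w 1 - v 1 * w 0) = 0 := by linear_combination v 0 * b0 - w 0 * a0
      have c2 : D.1 1 0 * (v 0 * w 1 - v 1 * w 0) = 0 := by linear_combination w 1 * a1 - v 1 * b1
      have c3 : (D.1 1 1 - r) * (v 0 * w 1 - v 1 * w 0) = 0 := by linear_combination v 0 * b1 - w 0 * a1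
      have d0 := (mul_eq_zero.1 c0).resolve_right hne
      have d1 := (mul_eq_zero.1 c1).resolve_right hne
      have d2 := (mul_eq_zero.1 c2).resolve_right hne
      have d3 := (mul_eq_zero.1 c3).resolve_right hne
      exact ⟨d1, d2, by linear_combination d0 - d3⟩
    refine ⟨v, hv, ?_⟩
    by_cases hv0 : v 0 = 0
    · have hv1 : v 1 ≠ 0 := by
        intro e
        apply hv
        ext j
        fin_cases j
        · exact hv0
        · exact e
      refine ⟨w 1 / v 1, ?_⟩
      rw [hv0, zero_mul, zero_sub, neg_eq_zero] at hprop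
      have hw0 : w 0 = 0 := (mul_eq_zero.1 hprop).resolve_left hv1
      rw [← hwdef]
      ext j
      fin_cases j
      · simp [hw0, hv0]
      · simp [hv1]
    · refine ⟨w 0 / v 0, ?_⟩
      rw [← hwdef]
      ext j
      fin_cases j
      · simp [hv0]
      · simp only [Fin.mk_one, Pi.smul_apply, smul_eq_mul]
        field_simp
        linear_combination hprop
  · -- the trace of `h` vanishes
    apply traceless_eigen hi _ hsq
    have e1 : h.1 = - (D.1 * h.1 * (D⁻¹).1) := by
      have e2 : h.1 * D.1 * (D⁻¹).1 = -(D.1 * h.1 * (D⁻¹).1) := by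
        rw [hc, neg_one_smul, Matrix.neg_mul]
      have e3 : h.1 * D.1 * (D⁻¹).1 = h.1 := by
        rw [Matrix.mul_assoc, ← Units.val_mul, mul_inv_cancel, Units.val_one, Matrix.mul_one]
      rw [← e2, e3]
    have e4 : Matrix.trace h.1 = - Matrix.trace h.1 := by
      have e5 := congrArg Matrix.trace e1
      rw [Matrix.trace_neg, Matrix.trace_mul_comm, ← Matrix.mul_assoc, ← Units.val_mul, inv_mul_cancel,
        Units.val_one, Matrix.one_mul] at e5
      exact e5
    have e6 : (2 : F) * Matrix.trace h.1 = 0 := by linear_combination e4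
    have e7 := (mul_eq_zero.1 e6).resolve_left h2
    rw [Matrix.trace_fin_two] at e7
    exact e7

/-- transitivity of `SL_2` on nonzero vectors -/
theorem exists_SL (v : Fin 2 → F) (hv : v ≠ 0) :
    ∃ k : Matrix.SpecialLinearGroup (Fin 2) F, k.1 *ᵥ e0 F 2 = v := by
  by_cases hv0 : v 0 = 0
  · have hv1 : v 1 ≠ 0 := by
      intro e
      apply hv
      ext j
      fin_cases j
      · exact hv0
      · exact e
    refine ⟨⟨!![0, -(v 1)⁻¹; v 1, 0], by rw [Matrix.det_fin_two]; simp [hv1]⟩, ?_⟩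
    ext j
    fin_cases j <;> simp [Matrix.mulVec, dotProduct, e0, hv0]
  · refine ⟨⟨!![v 0, 0; v 1, (v 0)⁻¹], by rw [Matrix.det_fin_two]; simp [hv0]⟩, ?_⟩
    ext j
    fin_cases j <;> simp [Matrix.mulVec, dotProduct, e0]

theorem toGL_val {n : ℕ} (k : Matrix.SpecialLinearGroup (Fin n) F) :
    (Matrix.SpecialLinearGroup.toGL k : GL (Fin n) F).1 = k.1 := rfl

/-- conjugation and line stabilizers -/
theorem conj_mem_lineStab {k h : GL (Fin 2) F} {v : Fin 2 → F} :
    h ∈ lineStab (k.1 *ᵥ v) ↔ k⁻¹ * h * k ∈ lineStab v := by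
  rw [mem_lineStab, mem_lineStab]
  have e : ∀ c : Fˣ, h.1 *ᵥ (k.1 *ᵥ v) = (c : F) • (k.1 *ᵥ v) ↔ (k⁻¹ * h * k).1 *ᵥ v = (c : F) • v := by
    intro c
    constructor
    · intro hh
      rw [Units.val_mul, Units.val_mul, ← Matrix.mulVec_mulVec, ← Matrix.mulVec_mulVec, hh, Matrix.mulVec_smul,
        Matrix.mulVec_mulVec, ← Units.val_mul, inv_mul_cancel, Units.val_one, Matrix.one_mulVec]
    · intro hh
      have : h.1 *ᵥ (k.1 *ᵥ v) = k.1 *ᵥ ((k⁻¹ * h * k).1 *ᵥ v) := by
        rw [Matrix.mulVec_mulVec, Matrix.mulVec_mulVec, ← Units.val_mul, ← Units.val_mul]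
        congr 2
        group
      rw [this, hh, Matrix.mulVec_smul]
  exact exists_congr e

theorem lineStab_smul {v w : Fin 2 → F} {c : F} (hc : c ≠ 0) (hw : w = c • v) : lineStab w = lineStab v := by
  ext h
  rw [mem_lineStab, mem_lineStab, hw]
  apply exists_congr
  intro d
  rw [Matrix.mulVec_smul, smul_comm (d : F) c v]
  exact (smul_right_injective _ hc).eq_iff

/-- the case `n = 2`, all determinants squares, `-1` a square -/
theorem case_two_count [Fintype F] (h2 : (2 : F) ≠ 0) {i : F} (hi : i * i = -1) {s : Fˣ} (hs : s ^ 2 ≠ 1)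
    (G : Subgroup (GL (Fin 2) F ⧸ Subgroup.center (GL (Fin 2) F)))
    (hG : ((Matrix.SpecialLinearGroup.toGL : Matrix.SpecialLinearGroup (Fin 2) F →* GL (Fin 2) F).range).map
      (QuotientGroup.mk' (Subgroup.center (GL (Fin 2) F))) ≤ G)
    (hsq : ∀ h : GL (Fin 2) F, QuotientGroup.mk' (Subgroup.center (GL (Fin 2) F)) h ∈ G → IsSquare h.1.det)
    {𝓐 : Finset (Subgroup ↥G)} (h𝓐 : IsNilMinCover 𝓐) : False := by
  classical
  set π := QuotientGroup.mk' (Subgroup.center (GL (Fin 2) F)) with hπ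
  have hfinG : Finite (GL (Fin 2) F ⧸ Subgroup.center (GL (Fin 2) F)) := inferInstance
  let τ : Matrix.SpecialLinearGroup (Fin 2) F → GL (Fin 2) F := fun k => Matrix.SpecialLinearGroup.toGL k
  have hτG : ∀ k, π (τ k) ∈ G := fun k => range_mem hG k
  -- Borel subgroups
  let B : (Fin 2 → F) → Subgroup ↥G := fun v => ((lineStab v).map π).comap G.subtype
  have hB : ∀ (v : Fin 2 → F) (g : ↥G) (h : GL (Fin 2) F), π h = g → (g ∈ B v ↔ h ∈ lineStab v) := by
    intro v g h hg
    constructor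
    · rintro ⟨k, hk, hk2⟩
      have h1 : k⁻¹ * h ∈ Subgroup.center (GL (Fin 2) F) := QuotientGroup.eq.1 (hk2.trans hg.symm)
      have h3 : h = k * (k⁻¹ * h) := by group
      rw [h3]
      exact mul_mem hk (center_le_lineStab v h1)
    · intro hh
      exact ⟨h, hh, hg⟩
  let Bk : Matrix.SpecialLinearGroup (Fin 2) F → Subgroup ↥G := fun k => B ((τ k).1 *ᵥ e0 F 2)
  let 𝓜 : Finset (Subgroup ↥G) := Finset.univ.image Bk
  have hlift : ∀ N : Subgroup ↥G, Group.IsNilpotent ↥N → Group.IsNilpotent ↥((N.map G.subtype).comap π) := by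
    intro N hN
    apply comap_center_nilpotent
    exact (Group.isNilpotent_congr (N.equivMapOfInjective _ G.subtype_injective)).1 hN
  have hmemlift : ∀ (N : Subgroup ↥G) (g : ↥G) (h : GL (Fin 2) F), π h = g → g ∈ N →
      h ∈ (N.map G.subtype).comap π := by
    intro N g h hg hgN
    change π h ∈ N.map G.subtype
    rw [hg]
    exact Subgroup.mem_map_of_mem _ hgN
  -- the unipotent elements
  let U : Matrix.SpecialLinearGroup (Fin 2) F → GL (Fin 2) F := fun k => τ k * uGL F 2 * (τ k)⁻¹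
  have hUG : ∀ k, π (U k) ∈ G := by
    intro k
    change π (τ k * uGL F 2 * (τ k)⁻¹) ∈ G
    rw [map_mul, map_mul, map_inv]
    exact mul_mem (mul_mem (hτG k) (range_mem hG _)) (inv_mem (hτG k))
  have hUcomm : ∀ k (N : Subgroup (GL (Fin 2) F)), Group.IsNilpotent ↥N → U k ∈ N → ∀ h ∈ N,
      h * U k = U k * h := by
    intro k N hN hUN h hh
    have hN' : Group.IsNilpotent ↥(N.map (MulAut.conj (τ k)⁻¹).toMonoidHom) :=
      (Group.isNilpotent_congr (N.equivMapOfInjective _ (MulAut.conj (τ k)⁻¹).injective)).1 hN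
    have h1 : uGL F 2 ∈ N.map (MulAut.conj (τ k)⁻¹).toMonoidHom := by
      refine ⟨_, hUN, ?_⟩
      change (τ k)⁻¹ * (τ k * uGL F 2 * (τ k)⁻¹) * ((τ k)⁻¹)⁻¹ = uGL F 2
      group
    have h3 : (τ k)⁻¹ * h * ((τ k)⁻¹)⁻¹ ∈ N.map (MulAut.conj (τ k)⁻¹).toMonoidHom := ⟨h, hh, rfl⟩
    have h4 := nilpotent_comm_u hN' h1 h3
    have h5 : h * U k = τ k * (((τ k)⁻¹ * h * ((τ k)⁻¹)⁻¹) * uGL F 2) * (τ k)⁻¹ := by
      change h * (τ k * uGL F 2 * (τ k)⁻¹) = _
      group
    rw [h5, h4]
    change _ = (τ k * uGL F 2 * (τ k)⁻¹) * h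
    group
  have hUline : ∀ k (h : GL (Fin 2) F), h * U k = U k * h → h ∈ lineStab ((τ k).1 *ᵥ e0 F 2) := by
    intro k h hc
    rw [conj_mem_lineStab]
    apply mem_lineStab_of_commute (by norm_num)
    have h1 : (τ k)⁻¹ * h * τ k * uGL F 2 = (τ k)⁻¹ * (h * U k) * τ k := by
      change _ = (τ k)⁻¹ * (h * (τ k * uGL F 2 * (τ k)⁻¹)) * τ k
      group
    rw [h1, hc]
    change (τ k)⁻¹ * ((τ k * uGL F 2 * (τ k)⁻¹) * h) * τ k = _
    group
  -- members of the cover containing the unipotent elements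
  have hA : ∀ k, ∃ A ∈ 𝓐, (⟨π (U k), hUG k⟩ : ↥G) ∈ A := fun k => h𝓐.1.2 _
  choose A hA𝓐 hUA using hA
  have hAle : ∀ k, ∀ g ∈ A k, g ∈ Bk k := by
    intro k g hg
    obtain ⟨h, hh⟩ := QuotientGroup.mk'_surjective (Subgroup.center (GL (Fin 2) F)) (g : GL (Fin 2) F ⧸ Subgroup.center (GL (Fin 2) F))
    refine (hB _ g h hh).2 (hUline k h ?_)
    exact hUcomm k _ (hlift _ (h𝓐.2.2 _ (hA𝓐 k))) (hmemlift _ _ _ rfl (hUA k)) h (hmemlift _ _ _ hh hg)
  -- choose representatives
  have hM : ∀ M ∈ 𝓜, ∃ k, Bk k = M := by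
    intro M hM
    obtain ⟨k, -, hk⟩ := Finset.mem_image.1 hM
    exact ⟨k, hk⟩
  choose! κ hκ using hM
  have hinj : Set.InjOn (fun M => A (κ M)) (𝓜 : Set (Subgroup ↥G)) := by
    intro M hM M' hM' hMM'
    simp only at hMM'
    rw [← hκ M hM, ← hκ M' hM']
    set k := κ M
    set k' := κ M'
    -- the two unipotent elements commute
    have hnil := hlift _ (h𝓐.2.2 _ (hA𝓐 k))
    have h1 : U k' ∈ ((A k).map G.subtype).comap π := hmemlift _ _ _ rfl (by rw [hMM']; exact hUA k')
    have h3 := hUcomm k _ hnil (hmemlift _ _ _ rfl (hUA k)) _ h1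
    have h4 := hUline k _ h3
    -- so the line of `k` is fixed by `U k'`
    have h5 : (τ k').1 *ᵥ (((τ k')⁻¹).1 *ᵥ ((τ k).1 *ᵥ e0 F 2)) = (τ k).1 *ᵥ e0 F 2 := by
      rw [Matrix.mulVec_mulVec, ← Units.val_mul, mul_inv_cancel, Units.val_one, Matrix.one_mulVec]
    set w := ((τ k')⁻¹).1 *ᵥ ((τ k).1 *ᵥ e0 F 2) with hw
    have h6 : uGL F 2 ∈ lineStab w := by
      rw [← h5, conj_mem_lineStab] at h4
      have h7 : (τ k')⁻¹ * U k' * τ k' = uGL F 2 := by
        change (τ k')⁻¹ * (τ k' * uGL F 2 * (τ k')⁻¹) * τ k' = uGL F 2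
        group
      rw [h7] at h4
      exact h4
    have hw0 : w ≠ 0 := by
      intro e
      rw [e, Matrix.mulVec_zero] at h5
      have h8 : ((τ k)⁻¹).1 *ᵥ ((τ k).1 *ᵥ e0 F 2) = e0 F 2 := by
        rw [Matrix.mulVec_mulVec, ← Units.val_mul, inv_mul_cancel, Units.val_one, Matrix.one_mulVec]
      rw [← h5, Matrix.mulVec_zero] at h8
      exact e0_ne_zero (by norm_num) h8.symm
    obtain ⟨c, hc⟩ := h6
    have hc0 := congrFun hc 0
    have hc1 := congrFun hc 1
    rw [uGL_val, uMat_two] at hc0 hc1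
    simp [Matrix.mulVec, dotProduct, Fin.sum_univ_two] at hc0 hc1
    have hw1 : w 1 = 0 := by
      by_contra hne
      have hc2 : (c : F) = 1 := by
        have : (c : F) * w 1 = 1 * w 1 := by rw [one_mul]; exact hc1.symm
        exact mul_right_cancel₀ hne this
      rw [hc2, one_mul] at hc0
      exact hne (by linear_combination hc0)
    have hw2 : w = w 0 • e0 F 2 := by
      ext j
      fin_cases j <;> simp [e0, hw1]
    have hw3 : w 0 ≠ 0 := by
      intro e
      rw [e, zero_smul] at hw2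
      exact hw0 hw2
    change B _ = B _
    have h9 : lineStab ((τ k).1 *ᵥ e0 F 2) = lineStab ((τ k').1 *ᵥ e0 F 2) := by
      apply lineStab_smul hw3
      rw [← h5]
      nth_rewrite 1 [hw2]
      rw [Matrix.mulVec_smul]
    change ((lineStab ((τ k).1 *ᵥ e0 F 2)).map π).comap G.subtype = ((lineStab ((τ k').1 *ᵥ e0 F 2)).map π).comap G.subtype
    rw [h9]
  -- the split element
  have hsne : (s : F) ≠ ((s⁻¹ : Fˣ) : F) := by
    intro e
    apply hs
    have e' : s = s⁻¹ := Units.ext e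
    rw [pow_two]; nth_rewrite 2 [e']; exact mul_inv_cancel s
  obtain ⟨Ax, hAx, hxAx⟩ := h𝓐.1.2 (⟨π (xGL s), range_mem hG _⟩ : ↥G)
  have hAxn := h𝓐.2.2 _ hAx
  have hAxne : ∀ k, A k ≠ Ax := by
    intro k e
    have h1 : xGL s ∈ ((A k).map G.subtype).comap π := hmemlift _ _ _ rfl (by rw [e]; exact hxAx)
    have h3 := hUcomm k _ (hlift _ (h𝓐.2.2 _ (hA𝓐 k))) (hmemlift _ _ _ rfl (hUA k)) _ h1
    have h4 : (U k).1 * !![(s : F), 0; 0, ((s⁻¹ : Fˣ) : F)] = (1 : F) • (!![(s : F), 0; 0, ((s⁻¹ : Fˣ) : F)] * (U k).1) := by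
      rw [one_smul]
      exact (congrArg Units.val h3).symm
    have htr : (U k).1 0 0 + (U k).1 1 1 = 2 := by
      rw [← Matrix.trace_fin_two]
      change Matrix.trace ((τ k).1 * (uGL F 2).1 * ((τ k)⁻¹).1) = 2
      rw [Matrix.trace_mul_comm, ← Matrix.mul_assoc, ← Units.val_mul, inv_mul_cancel, Units.val_one,
        Matrix.one_mul, uGL_val, uMat_two, Matrix.trace_fin_two]
      simp
      norm_num
    have hdet : (U k).1.det = 1 := by
      change ((τ k).1 * (uGL F 2).1 * ((τ k)⁻¹).1).det = 1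
      rw [Matrix.det_mul, Matrix.det_mul, uGL_val, uMat_det, mul_one, ← Matrix.det_mul, ← Units.val_mul,
        mul_inv_cancel, Units.val_one, Matrix.det_one]
    rcases diag_or_anti s.ne_zero (s⁻¹).ne_zero hsne h4 with h5 | h5
    · rw [Matrix.det_fin_two, h5.1, zero_mul, sub_zero] at hdet
      have h6 : ((U k).1 0 0 - 1) * ((U k).1 0 0 - 1) = 0 := by
        linear_combination (U k).1 0 0 * htr - hdet
      have h7 : (U k).1 0 0 = 1 := by
        rcases mul_eq_zero.1 h6 with h | h <;> exact sub_eq_zero.1 h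
      have h8 : (U k).1 1 1 = 1 := by linear_combination htr - h7
      have h9 : U k = 1 := by
        apply Units.ext
        ext a b
        fin_cases a <;> fin_cases b <;> simp [h5.1, h5.2, h7, h8]
      have h10 : uGL F 2 = 1 := by
        have : uGL F 2 = (τ k)⁻¹ * U k * τ k := by
          change _ = (τ k)⁻¹ * (τ k * uGL F 2 * (τ k)⁻¹) * τ k
          group
        rw [this, h9]; group
      have h11' : uMat F 2 = 1 := congrArg Units.val h10
      have h11 := congrFun (congrFun h11' 0) 1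
      rw [uMat_two] at h11
      simp at h11
    · rw [h5.1, h5.2.1, add_zero] at htr
      exact h2 htr.symm
  -- all elements of `Ax` have eigenvectors
  have hAxe : ∀ g ∈ Ax, ∃ M ∈ 𝓜, g ∈ M := by
    intro g hg
    have hx1 : (⟨π (xGL s), range_mem hG _⟩ : ↥G) ≠ 1 := by
      intro e
      have e1 : π (xGL s) = 1 := congrArg Subtype.val e
      have h1 : xGL s ∈ Subgroup.center (GL (Fin 2) F) := (QuotientGroup.eq_one_iff _).1 e1
      obtain ⟨a, ha⟩ := Matrix.GeneralLinearGroup.mem_center_iff_val_mem_range_scalar.1 h1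
      apply hsne
      have e0 := congrFun (congrFun ha 0) 0
      have e1 := congrFun (congrFun ha 1) 1
      rw [xGL_val] at e0 e1
      simp [Matrix.scalar_apply] at e0 e1
      rw [← e0]
      simpa using e1
    obtain ⟨z, hzA, hz1, hz⟩ := exists_central_of_nilpotent hAxn hxAx hx1
    obtain ⟨zt, hzt⟩ := QuotientGroup.mk'_surjective (Subgroup.center (GL (Fin 2) F)) (z : GL (Fin 2) F ⧸ Subgroup.center (GL (Fin 2) F))
    obtain ⟨h, hh⟩ := QuotientGroup.mk'_surjective (Subgroup.center (GL (Fin 2) F)) (g : GL (Fin 2) F ⧸ Subgroup.center (GL (Fin 2) F))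
    have hcz : π zt * π (xGL s) = π (xGL s) * π zt := by
      have := congrArg Subtype.val (hz _ hxAx)
      have h3 : π (xGL s) * (z : GL (Fin 2) F ⧸ Subgroup.center (GL (Fin 2) F)) = z * π (xGL s) := this
      rw [hzt]
      exact h3.symm
    have hch : π h * π zt = π zt * π h := by
      have h3 : (g : GL (Fin 2) F ⧸ Subgroup.center (GL (Fin 2) F)) * z = z * g := congrArg Subtype.val (hz _ hg)
      rw [hzt, hh]
      exact h3
    obtain ⟨l1, hl1⟩ := comm_mod hcz
    obtain ⟨l2, hl2⟩ := comm_mod hch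
    have hzsq : IsSquare zt.1.det := hsq zt (by rw [hzt]; exact z.2)
    have hhsq : IsSquare h.1.det := hsq h (by rw [hh]; exact g.2)
    have hxe : (xGL s).1 *ᵥ e0 F 2 = (s : F) • e0 F 2 := by
      rw [xGL_val]
      ext j
      fin_cases j <;> simp [Matrix.mulVec, dotProduct, e0]
    obtain ⟨v, hv, r, hr⟩ := good_eigen h2 hi hl1 (by
      rintro ⟨-, -, e⟩
      rw [xGL_val] at e
      exact hsne (by simpa using e)) (e0_ne_zero (by norm_num)) hxe hzsq
    obtain ⟨v', hv', r', hr'⟩ := good_eigen h2 hi hl2 (nonscalar (h := zt) (by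
      intro e
      apply hz1
      apply Subtype.ext
      rw [← hzt]
      exact e)) hv hr hhsq
    obtain ⟨k, hk⟩ := exists_SL v' hv'
    refine ⟨Bk k, Finset.mem_image_of_mem _ (Finset.mem_univ _), ?_⟩
    refine (hB _ g h hh).2 ?_
    have : (τ k).1 *ᵥ e0 F 2 = v' := hk
    rw [this, mem_lineStab' hv']
    exact ⟨r', hr'⟩
  -- counting
  have hMtop : ∀ M ∈ 𝓜, M ≠ ⊤ := by
    intro M hM e
    rw [← hκ M hM] at e
    set k := κ M
    have h1 : π (τ k * Matrix.SpecialLinearGroup.toGL (tSL F 0) * (τ k)⁻¹) ∈ G := by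
      rw [map_mul, map_mul, map_inv]
      exact mul_mem (mul_mem (hτG k) (range_mem hG _)) (inv_mem (hτG k))
    have h3 : (⟨_, h1⟩ : ↥G) ∈ Bk k := by rw [e]; exact Subgroup.mem_top _
    have h4 := (hB _ _ _ rfl).1 h3
    rw [conj_mem_lineStab] at h4
    have h5 : (τ k)⁻¹ * (τ k * Matrix.SpecialLinearGroup.toGL (tSL F 0) * (τ k)⁻¹) * τ k =
        Matrix.SpecialLinearGroup.toGL (tSL F 0) := by group
    rw [h5] at h4
    exact tSL_notMem 0 h4
  have hcard := h𝓐.card_le_of_replace (insert Ax (𝓜.image (fun M => A (κ M)))) 𝓜 (by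
      intro C hC
      rcases Finset.mem_insert.1 hC with rfl | hC
      · exact hAx
      · obtain ⟨M, -, rfl⟩ := Finset.mem_image.1 hC
        exact hA𝓐 _) hMtop (by
      intro C hC g hg
      left
      rcases Finset.mem_insert.1 hC with rfl | hC
      · exact hAxe g hg
      · obtain ⟨M, hM, rfl⟩ := Finset.mem_image.1 hC
        exact ⟨Bk (κ M), Finset.mem_image_of_mem _ (Finset.mem_univ _), hAle _ g hg⟩)
  rw [Finset.card_insert_of_notMem, Finset.card_image_of_injOn hinj] at hcard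
  · omega
  · intro h
    obtain ⟨M, -, hM⟩ := Finset.mem_image.1 h
    exact hAxne _ hM

/-- A cover of a group is a finite set of proper subgroups whose union is the whole group; it is minimal when no cover has fewer members, and nilpotent when all its members are nilpotent. Let F be a finite field with q elements and n ≥ 3, or n = 2 and q ≥ 4. Then no subgroup of PGL_n(F) = GL_n(F)/Z(GL_n(F)) containing the image of SL_n(F) has a nilpotent minimal cover. -/
theorem result {F : Type*} [Field F] [Fintype F] (n : ℕ) (hn : 3 ≤ n ∨ (n = 2 ∧ 4 ≤ Fintype.card F))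
    (G : Subgroup (GL (Fin n) F ⧸ Subgroup.center (GL (Fin n) F)))
    (hG : ((Matrix.SpecialLinearGroup.toGL : Matrix.SpecialLinearGroup (Fin n) F →* GL (Fin n) F).range).map
      (QuotientGroup.mk' (Subgroup.center (GL (Fin n) F))) ≤ G) :
    ¬ ∃ 𝓐 : Finset (Subgroup ↥G), ((∀ A ∈ 𝓐, A ≠ ⊤) ∧ (∀ g : ↥G, ∃ A ∈ 𝓐, g ∈ A)) ∧ (∀ 𝓑 : Finset (Subgroup ↥G), (∀ A ∈ 𝓑, A ≠ ⊤) ∧ (∀ g : ↥G, ∃ A ∈ 𝓑, g ∈ A) → 𝓐.card ≤ 𝓑.card) ∧ (∀ A ∈ 𝓐, Group.IsNilpotent ↥A) := by
  classical
  rintro ⟨𝓐, h𝓐'⟩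
  have h𝓐 : IsNilMinCover 𝓐 := h𝓐'
  rcases hn with hn | ⟨rfl, hq⟩
  · obtain ⟨m, rfl⟩ := Nat.exists_eq_add_of_le hn
    have : 3 + m = m + 3 := by ring
    revert 𝓐 G
    rw [this]
    intro G hG 𝓐 _ h𝓐
    exact case_ge_three m G hG h𝓐
  · rcases Nat.eq_two_pow_or_exists_odd_prime_and_dvd (Fintype.card F - 1) with ⟨k, hk⟩ | ⟨r, hr, hrd, hro⟩
    · -- q - 1 is a power of two
      have hk2 : 2 ≤ k := by
        by_contra hlt
        have : k = 0 ∨ k = 1 := by omega
        rcases this with rfl | rfl <;> simp at hk <;> omega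
      obtain ⟨j, rfl⟩ := Nat.exists_eq_add_of_le hk2
      have hcardq : Fintype.card F = 4 * 2 ^ j + 1 := by
        have : 2 ^ (2 + j) = 4 * 2 ^ j := by rw [pow_add]; norm_num
        omega
      have hodd : ringChar F ≠ 2 := by
        intro e
        have := FiniteField.even_card_of_char_two e
        omega
      have h2 : (2 : F) ≠ 0 := Ring.two_ne_zero hodd
      have hm1 : IsSquare (-1 : F) := by
        rw [FiniteField.isSquare_neg_one_iff]
        omega
      obtain ⟨i, hi⟩ := hm1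
      by_cases hsq : ∀ h : GL (Fin 2) F, QuotientGroup.mk' (Subgroup.center (GL (Fin 2) F)) h ∈ G → IsSquare h.1.det
      · -- an element of order larger than two
        obtain ⟨s, hs⟩ : ∃ s : Fˣ, s ^ 2 ≠ 1 := by
          by_contra hcon
          push Not at hcon
          have h3 := hcon ⟨i, -i, by linear_combination hi, by linear_combination hi⟩
          have h4 : i ^ 2 = 1 := by
            have := congrArg Units.val h3
            simpa using this
          apply h2
          linear_combination -h4 + (pow_two i).trans hi.symm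
        exact case_two_count h2 hi.symm hs G hG hsq h𝓐
      · push Not at hsq
        obtain ⟨t, ht, htd⟩ := hsq
        exact case_two_nonsquare G hG h𝓐 ht htd
    · -- an element of odd prime order
      have : Fact r.Prime := ⟨hr⟩
      have h1 : r ∣ Fintype.card Fˣ := by rw [Fintype.card_units]; exact hrd
      obtain ⟨s, hs⟩ := exists_prime_orderOf_dvd_card r h1
      refine case_two_odd G hG h𝓐 (s := s) hro ?_ ?_
      · intro e
        rw [e, orderOf_one] at hs
        exact hr.one_lt.ne hs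
      · rw [← hs]
        exact pow_orderOf_eq_one s

end Cfsg.Agent.S3894
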