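import Cfsg.Statements.S3902
import Cfsg.Agent.S0000
import Cfsg.Agent.H214.CosetMain
import Cfsg.Agent.H69.CosetLie

set_option autoImplicit false
open Cfsg

namespace Cfsg.Agent.S3902

/-- Let N be a non-abelian finite simple group and u an automorphism of N of prime power order that is not inner, such that every element of the coset (Inn N)·u in Aut(N) has prime power order. Then N is isomorphic to PSL₂(F) for a field F with 3^f elements, f a power of 2. -/
theorem result {N : Type*} [Group N] [Finite N] [IsSimpleGroup N] (hna : ¬ IsMulCommutative N) (u : MulAut N)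
    (hu : u ∉ (MulAut.conj : N →* MulAut N).range) (hord : IsPrimePow (orderOf u))
    (hcoset : ∀ n : N, IsPrimePow (orderOf (MulAut.conj n * u))) :
    ∃ (F : Type) (_ : Field F) (_ : Fintype F) (l : ℕ), Fintype.card F = 3 ^ 2 ^ l ∧
      Nonempty (N ≃* Matrix.ProjectiveSpecialLinearGroup (Fin 2) F) := by
  obtain ⟨r, h⟩ := Cfsg.Agent.H214.Coset.exists_allR hu hcoset
  obtain ⟨p, hp, hL⟩ := Cfsg.Agent.H214.CosetMain.isLie hna (Cfsg.Agent.S0000.result (G := N)) h
  have hna' : ∃ a b : N, a * b ≠ b * a := by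
    by_contra hcon
    push Not at hcon
    exact hna ⟨⟨hcon⟩⟩
  obtain ⟨-, F, i1, i2, l, -, hF, e⟩ := Cfsg.Agent.H69.CosetP.lie_core hna' hp hL h.outer h.prime fun n => by
    obtain ⟨k, hk⟩ := h.pow n
    exact ⟨k, by rw [← hk]; exact pow_orderOf_eq_one _⟩
  exact ⟨F, i1, i2, l, hF, e⟩

end Cfsg.Agent.S3902
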