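import Cfsg.Statements.S3914
import Cfsg.Agent.S0204
import Cfsg.Agent.H478.WalterAll
import Cfsg.Agent.H478.BGroup

set_option autoImplicit false
open Cfsg

namespace Cfsg.Agent.S3914

open Subgroup

/-- Let G be a finite group in which any two abelian subgroups of the same order are conjugate. If M is a non-abelian simple normal subgroup of G, then M is isomorphic to SL₂(2^f) with f ∈ {2, 3, 5}, or to PSL₂(q) for a prime power q ≥ 5 with q ≡ 3 or 5 (mod 8), or to the first Janko group J₁. -/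
theorem result {G : Type*} [Group G] [Finite G] (hB : ∀ A B : Subgroup G, IsMulCommutative ↥A → IsMulCommutative ↥B → Nat.card ↥A = Nat.card ↥B → ∃ g : G, B = A.map (MulAut.conj g).toMonoidHom) (M : Subgroup G) [M.Normal] (hs : IsSimpleGroup ↥M) (hna : ¬ IsMulCommutative ↥M) :
    (∃ (F : Type) (_ : Field F) (_ : Fintype F), (Fintype.card F = 2 ^ 2 ∨ Fintype.card F = 2 ^ 3 ∨ Fintype.card F = 2 ^ 5) ∧
        Nonempty (↥M ≃* Matrix.SpecialLinearGroup (Fin 2) F)) ∨
    (∃ (F : Type) (_ : Field F) (_ : Fintype F), 5 ≤ Fintype.card F ∧ (Fintype.card F % 8 = 3 ∨ Fintype.card F % 8 = 5) ∧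
        Nonempty (↥M ≃* Matrix.ProjectiveSpecialLinearGroup (Fin 2) F)) ∨
    Cfsg.Spor.IsoJ1 ↥M := by
  -- a four-group in `M`
  have hnc : ¬ IsCyclic ↥M := fun h => hna ⟨⟨fun a b => by
    let _ : CommGroup ↥M := IsCyclic.commGroup
    exact mul_comm a b⟩⟩
  obtain ⟨E, hE⟩ := Cfsg.Agent.S0204.result (G := ↥M) hnc
  have hEc := hE.card_four
  have hEe := hE.exponent_two
  have hEcomm : IsMulCommutative ↥E := ⟨⟨fun a b => mul_comm_of_exponent_two hEe a b⟩⟩
  have eE : E ≃* E.map M.subtype := E.equivMapOfInjective M.subtype M.subtype_injective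
  have hV : IsKleinFour (E.map M.subtype) :=
    ⟨by rw [← Nat.card_congr eE.toEquiv, hEc], by rw [← Monoid.exponent_eq_of_mulEquiv eE, hEe]⟩
  have hVcomm : IsMulCommutative ↥(E.map M.subtype) := inferInstance
  have hVM : E.map M.subtype ≤ M := Subgroup.map_subtype_le E
  -- no element of order four
  have h4 : ∀ x : ↥M, orderOf x ≠ 4 := by
    intro x hx
    refine Cfsg.Agent.H478.BGroup.false_of_both hB Nat.prime_two (x := (x : G))
      (by rw [Subgroup.orderOf_coe, hx]; norm_num) hVcomm (by rw [hV.card_four]; norm_num) ?_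
    intro y hy
    have h1 : (⟨y, hy⟩ : ↥(E.map M.subtype)) ^ 2 = 1 := by
      rw [← hV.exponent_two]; exact Monoid.pow_exponent_eq_one _
    exact congrArg Subtype.val h1
  rcases Cfsg.Agent.H478.WalterAll.iso_of_exponent hna h4 with ⟨F, i1, i2, n, hn, hF, ⟨e⟩⟩ |
    ⟨F, i1, i2, hF, h5, he⟩ | hR | hJ
  · left
    have h2 : Fact (Nat.Prime 2) := ⟨Nat.prime_two⟩
    have hchar : CharP F 2 := charP_of_card_eq_prime_pow hF
    have hall : ∀ W : Subgroup G, IsKleinFour W → ∃ a : G, W = (E.map M.subtype).map (MulAut.conj a).toMonoidHom := by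
      intro W hW
      refine hB _ _ hVcomm ⟨⟨fun a b => mul_comm_of_exponent_two hW.exponent_two a b⟩⟩ ?_
      rw [hV.card_four, hW.card_four]
    have hn' := Cfsg.Agent.H478.BGroup.even_case M hn hF e hV hVM hall
    refine ⟨F, i1, i2, ?_, ⟨e.trans Cfsg.Agent.H478.KleinEven.pslEquiv⟩⟩
    rw [hF]
    rcases hn' with rfl | rfl | rfl
    · exact Or.inl rfl
    · exact Or.inr (Or.inl rfl)
    · exact Or.inr (Or.inr rfl)
  · right; left
    exact ⟨F, i1, i2, h5, hF, he⟩
  · exfalso
    obtain ⟨⟨x, hx⟩, A, hA1, hA2, hA3⟩ := Cfsg.Agent.H478.BGroup.ree_facts hR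
    refine Cfsg.Agent.H478.BGroup.false_of_both hB Nat.prime_three (x := (x : G))
      (by rw [Subgroup.orderOf_coe, hx]; norm_num) (E := A.map M.subtype) inferInstance ?_ ?_
    · rw [← Nat.card_congr (A.equivMapOfInjective M.subtype M.subtype_injective).toEquiv, hA2]; norm_num
    · rintro _ ⟨y, hy, rfl⟩
      rw [← map_pow, hA3 y hy, map_one]
  · right; right
    exact hJ

end Cfsg.Agent.S3914
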