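import Cfsg.Statements.S3923
import Cfsg.Agent.S0000
import Cfsg.Agent.Schreier.Assembly
import Cfsg.Agent.Schreier.CentExt
import Cfsg.Agent.H486.HgTwo
import Cfsg.Agent.H486.HgSLB
import Cfsg.Agent.LieClassical.Order72
import Cfsg.Agent.H555.HgQ.Final
import Cfsg.Agent.H183.Hg2
import Cfsg.Agent.H183.Hg3

set_option autoImplicit false
open Cfsg

namespace Cfsg.Agent.S3923

open Cfsg.Agent.H486.Hg Cfsg.Agent.Schreier.Basic

theorem not_comm_of_perfect {G : Type*} [Group G] (h : commutator G = ⊤) (hn : Nontrivial G) :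
    ¬ IsMulCommutative G := by
  intro hc
  have h1 : commutator G = ⊥ := by
    rw [commutator_eq_bot_iff_center_eq_top]
    exact Subgroup.center_eq_top_iff.2 hc
  rw [h1] at h
  exact bot_ne_top h

theorem sch_simple {G : Type*} [Group G] [Finite G] [IsSimpleGroup G] (h : ¬ IsMulCommutative G) : Sch G :=
  Cfsg.Agent.Schreier.Assembly.known G h (Cfsg.Agent.S0000.result (G := G))

theorem psl {G : Type*} [Group G] [Finite G] [IsSimpleGroup G] (hna : ¬ IsMulCommutative G) (hS : Sch G)
    (hH : Homog G) (F : Type) [Field F] [Fintype F] (hodd : Odd (Fintype.card F))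
    (e : Nonempty (G ≃* Matrix.ProjectiveSpecialLinearGroup (Fin 2) F)) :
    Fintype.card F = 5 ∨ Fintype.card F = 7 := by
  obtain ⟨e⟩ := e
  have h3 : 3 < Fintype.card F := by
    by_contra h
    have h1 := Fintype.one_lt_card (α := F)
    have h4 : Fintype.card F = 3 := by
      have : Fintype.card F ≠ 2 := by rintro h2; rw [h2] at hodd; exact absurd hodd (by decide)
      omega
    have h5 : Nat.card G * 2 = 24 := by
      rw [Nat.card_congr e.toEquiv, Cfsg.Agent.ClassicalGeometry.PSL2Basic.card_PSL2_odd F hodd, h4]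
      norm_num
    have h6 : Group.IsSolvable G := Cfsg.Agent.LieClassical.Order72.isSolvable_of_card_dvd (by
      have : Nat.card G = 12 := by omega
      rw [this]; norm_num)
    exact hna ⟨⟨fun a b => IsSimpleGroup.comm_iff_isSolvable.2 h6 a b⟩⟩
  refine SLT.card_five_seven (e.symm.toMonoidHom.comp (QuotientGroup.mk' _))
    (e.symm.surjective.comp (QuotientGroup.mk'_surjective _)) ?_ hS hH hodd h3
  intro x hx
  rw [MonoidHom.mem_ker, MonoidHom.comp_apply] at hx
  have h1 : (QuotientGroup.mk' (Subgroup.center (Matrix.SpecialLinearGroup (Fin 2) F))) x = 1 :=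
    e.symm.injective (hx.trans (map_one e.symm).symm)
  exact (QuotientGroup.eq_one_iff x).1 h1

/-- Call a finite group homogeneous when every isomorphism between two of its subgroups is the restriction of an automorphism of the whole group. A homogeneous quasisimple finite group (perfect with simple central quotient) is isomorphic to SL₂(5) if it is not simple, and to PSL₂(5) or PSL₂(7) if it is simple. -/
theorem result {G : Type*} [Group G] [Finite G] (hhom : ∀ (A B : Subgroup G) (e : ↥A ≃* ↥B), ∃ φ : G ≃* G, ∀ a : ↥A, φ (a : G) = (e a : G)) (hq : Cfsg.IsQuasisimple G) :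
    (¬ IsSimpleGroup G → ∃ (F : Type) (_ : Field F) (_ : Fintype F), Fintype.card F = 5 ∧ Nonempty (G ≃* Matrix.SpecialLinearGroup (Fin 2) F)) ∧
    (IsSimpleGroup G → ∃ (F : Type) (_ : Field F) (_ : Fintype F), (Fintype.card F = 5 ∨ Fintype.card F = 7) ∧
      Nonempty (G ≃* Matrix.ProjectiveSpecialLinearGroup (Fin 2) F)) := by
  have hH : Homog G := hhom
  have hperf : commutator G = ⊤ := hq.1.commutator_eq_top
  constructor
  · intro hs
    have := hq.2
    have hna : ¬ IsMulCommutative (G ⧸ Subgroup.center G) := by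
      refine not_comm_of_perfect ?_ inferInstance
      have h1 := congrArg (Subgroup.map (QuotientGroup.mk' (Subgroup.center G))) hperf
      rw [commutator_def, Subgroup.map_commutator, ← MonoidHom.range_eq_map,
        MonoidHom.range_eq_top.2 (QuotientGroup.mk'_surjective _)] at h1
      exact h1
    have hS : Sch G := Cfsg.Agent.Schreier.CentExt.sch_of_quotient (Subgroup.center G)
      (fun φ => Subgroup.characteristic_iff_map_eq.1 inferInstance φ) le_rfl hperf (sch_simple hna)
    have hL := loc hS hH
    refine Cfsg.Agent.H555.HgQ.nonsimple hS hH hL hq hs ?_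
    rintro F _ _ hodd h3 ⟨e⟩
    rcases SLT.card_five_seven e.symm.toMonoidHom e.symm.surjective
      (by rw [(MonoidHom.ker_eq_bot_iff _).2 e.symm.injective]; exact bot_le) hS hH hodd h3 with h | h
    · exact h
    · exact absurd h (SLT.sl_ne_seven e.symm hH)
  · intro hs
    have hna : ¬ IsMulCommutative G := not_comm_of_perfect hperf inferInstance
    have hS : Sch G := sch_simple hna
    have hL := loc hS hH
    refine Cfsg.Agent.H183.Hg2.simple_rank2 hna hH hL ?_ (fun F _ _ hodd e => psl hna hS hH F hodd e)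
    intro A hA hA2
    have hAc : ∀ x ∈ A, ∀ y ∈ A, x * y = y * x := comm_of hA
    have h8 := hL.two A hAc hA2
    by_contra hcon
    push Not at hcon
    have : Fact (Nat.Prime 2) := ⟨Nat.prime_two⟩
    have hAP : IsPGroup 2 A := fun x => ⟨1, Subtype.ext (by simpa using hA2 x x.2)⟩
    obtain ⟨n, hn⟩ := IsPGroup.iff_card.1 hAP
    have hn3 : n = 3 := by
      rw [hn] at h8 hcon
      have h1 : 2 < n := (Nat.pow_lt_pow_iff_right (by norm_num)).1 hcon
      have h2 : n ≤ 3 := (Nat.pow_le_pow_iff_right (by norm_num)).1 (h8.trans (by norm_num : 8 ≤ 2 ^ 3))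
      omega
    exact Cfsg.Agent.H183.Hg3.simple_rank3 hL A hAc hA2 (by rw [hn, hn3]; norm_num)

end Cfsg.Agent.S3923
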