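import Cfsg.Statements.S3924
import Cfsg.Agent.S3923
import Cfsg.Agent.S0205
import Cfsg.Agent.H486.HgSolv
import Cfsg.Agent.H868.HgLayer
import Cfsg.Agent.H999.HgSplit

set_option autoImplicit false
open Cfsg

namespace Cfsg.Agent.S3924

open Cfsg.Agent.H486.Hg

/-- Call a finite group homogeneous when every isomorphism between two of its subgroups is the restriction of an automorphism of the whole group. A homogeneous finite group is an internal direct product H × K of normal subgroups of coprime orders, each homogeneous, with H solvable and K quasisimple (perfect with simple central quotient) or trivial. -/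
theorem result {G : Type*} [Group G] [Finite G] (hhom : ∀ (A B : Subgroup G) (e : ↥A ≃* ↥B), ∃ φ : G ≃* G, ∀ a : ↥A, φ (a : G) = (e a : G)) :
    ∃ H K : Subgroup G, H.Normal ∧ K.Normal ∧ H ⊓ K = ⊥ ∧ H ⊔ K = ⊤ ∧ (Nat.card ↥H).Coprime (Nat.card ↥K) ∧
      Group.IsSolvable ↥H ∧ (K = ⊥ ∨ Cfsg.IsQuasisimple ↥K) ∧
      (∀ (A B : Subgroup ↥H) (e : ↥A ≃* ↥B), ∃ φ : ↥H ≃* ↥H, ∀ a : ↥A, φ (a : ↥H) = (e a : ↥H)) ∧
      (∀ (A B : Subgroup ↥K) (e : ↥A ≃* ↥B), ∃ φ : ↥K ≃* ↥K, ∀ a : ↥A, φ (a : ↥K) = (e a : ↥K)) := by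
  have hH : Homog G := hhom
  rcases Cfsg.Agent.H868.HgLayer.layer_cases hH with hl | hl
  · have hs := Rad.isSolvable_of_layer_eq_bot hH hl
    refine ⟨⊤, ⊥, inferInstance, inferInstance, inf_bot_eq _, sup_bot_eq _, ?_, ?_, Or.inl rfl,
      Rad.homog_of_char hH ⊤, Rad.homog_of_char hH ⊥⟩
    · rw [Subgroup.card_bot]; exact Nat.coprime_one_right _
    · infer_instance
  · have hc : (Cfsg.layer G).Characteristic := Cfsg.Agent.SignalizersComponents.Components.layer_characteristic G
    have hK : Homog (Cfsg.layer G) := Rad.homog_of_char hH _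
    have h1 := Cfsg.Agent.S3923.result (G := Cfsg.layer G) hK hl
    obtain ⟨H, hHc, h2, h3, h4, h5⟩ := Cfsg.Agent.H999.HgSplit.split hH (Cfsg.layer G) hc (by
      by_cases hs : IsSimpleGroup (Cfsg.layer G)
      · exact Or.inr (h1.2 hs)
      · exact Or.inl (h1.1 hs))
    exact ⟨H, Cfsg.layer G, inferInstance, inferInstance, h2, h3, h4, Cfsg.Agent.S0205.result h5, Or.inr hl,
      Rad.homog_of_char hH H, hK⟩

end Cfsg.Agent.S3924
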