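import Cfsg.Statements.S3926
import Cfsg.Agent.S0000
import Cfsg.Agent.H480.RowAll

set_option autoImplicit false
open Cfsg

namespace Cfsg.Agent.S3926

/-- A cover of a group is a finite set of proper subgroups whose union is the whole group; it is minimal when no cover has fewer members, and nilpotent when all its members are nilpotent. Every finite group with a nilpotent minimal cover is solvable. -/
theorem result {G : Type*} [Group G] [Finite G] (𝓐 : Finset (Subgroup G)) (h𝓐 : ((∀ A ∈ 𝓐, A ≠ ⊤) ∧ (∀ g : G, ∃ A ∈ 𝓐, g ∈ A)) ∧ (∀ 𝓑 : Finset (Subgroup G), (∀ A ∈ 𝓑, A ≠ ⊤) ∧ (∀ g : G, ∃ A ∈ 𝓑, g ∈ A) → 𝓐.card ≤ 𝓑.card) ∧ (∀ A ∈ 𝓐, Group.IsNilpotent ↥A)) : Group.IsSolvable G := by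
  have hA : Cfsg.Agent.H480.NMC 𝓐 := ⟨h𝓐.1, h𝓐.2.1, h𝓐.2.2⟩
  refine Cfsg.Agent.H480.solvable_of_rows ?_ hA
  intro S _ _ hs hna
  have : IsSimpleGroup S := hs
  exact Cfsg.Agent.H480.row_known hna Cfsg.Agent.S0000.result

end Cfsg.Agent.S3926
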