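import Cfsg.Statements.S3925
import Cfsg.Agent.S3926

set_option autoImplicit false
open Cfsg

namespace Cfsg.Agent.S3925

/-- A cover of a group is a finite set of proper subgroups whose union is the whole group; it is minimal when no cover has fewer members, and nilpotent when all its members are nilpotent. No finite almost simple group (a group with a non-abelian simple normal subgroup having trivial centralizer) has a nilpotent minimal cover. -/
theorem result {G : Type*} [Group G] [Finite G] (S : Subgroup G) [S.Normal] (hs : IsSimpleGroup ↥S) (hna : ¬ IsMulCommutative ↥S)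
    (hc : Subgroup.centralizer (S : Set G) = ⊥) : ¬ ∃ 𝓐 : Finset (Subgroup G), ((∀ A ∈ 𝓐, A ≠ ⊤) ∧ (∀ g : G, ∃ A ∈ 𝓐, g ∈ A)) ∧ (∀ 𝓑 : Finset (Subgroup G), (∀ A ∈ 𝓑, A ≠ ⊤) ∧ (∀ g : G, ∃ A ∈ 𝓑, g ∈ A) → 𝓐.card ≤ 𝓑.card) ∧ (∀ A ∈ 𝓐, Group.IsNilpotent ↥A) := by
  rintro ⟨𝓐, h𝓐⟩
  have hsol : Group.IsSolvable G := Cfsg.Agent.S3926.result 𝓐 h𝓐
  have hS : Group.IsSolvable ↥S := inferInstance
  apply hna
  have h1 := (IsSimpleGroup.comm_iff_isSolvable (G := ↥S)).2 hS
  exact ⟨⟨h1⟩⟩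

end Cfsg.Agent.S3925
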