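import Cfsg.Statements.S3929
import Cfsg.Agent.S0000
import Cfsg.Agent.H383.Cube.Main
import Cfsg.Agent.H934.OutAll
import Cfsg.Agent.H481.Final

set_option autoImplicit false
open Cfsg

namespace Cfsg.Agent.S3929

/-- Let G be a non-trivial finite group and α an automorphism of G of order 2 with [G, α] = G (the elements g·α(g)⁻¹ generate G), and let m be the number of elements of odd order inverted by α. Then the index of the Fitting subgroup of G is less than (m!)⁴. -/
theorem result {G : Type*} [Group G] [Finite G] [Nontrivial G] (α : MulAut G) (hα : orderOf α = 2)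
    (hG : Subgroup.closure (Set.range (fun c : G => c * (α c)⁻¹)) = ⊤) :
    (Cfsg.fittingSubgroup G).index < (Nat.card {g : G // Odd (orderOf g) ∧ α g = g⁻¹}).factorial ^ 4 :=
  Cfsg.Agent.H481.Final.fitting_index_lt
    (fun _ _ _ _ hna β hβ => Cfsg.Agent.H383.Cube.cube_simple hna β hβ)
    (fun _ _ _ _ hna => Cfsg.Agent.H934.OutAll.bd hna Cfsg.Agent.S0000.result) α hα hG

end Cfsg.Agent.S3929
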