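import Cfsg.Statements.S3931
import Cfsg.Agent.S0000
import Cfsg.Agent.H489.OutAll

set_option autoImplicit false
open Cfsg

namespace Cfsg.Agent.S3931

/-- Let G be a non-trivial finite group with trivial Fitting subgroup, and let R be its solvable residual (the smallest normal subgroup with solvable quotient, equivalently the last term of the derived series). Then |R| > |G|^γ with γ = log 60 / log(120 · 24^(1/3)) ≈ 0.70. -/
theorem result {G : Type*} [Group G] [Finite G] [Nontrivial G] (hF : Cfsg.fittingSubgroup G = ⊥) :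
    (Nat.card G : ℝ) ^ (Real.log 60 / Real.log (120 * (24 : ℝ) ^ ((1 : ℝ) / 3))) < (Nat.card ↥(⨅ n : ℕ, derivedSeries G n) : ℝ) := by
  have hS : ∀ (X : Type _) [Group X] [Finite X] [IsSimpleGroup X], IsKnownSimple' X := fun X _ _ _ =>
    Cfsg.Agent.S0000.result
  obtain ⟨N, hN⟩ := Cfsg.Agent.H489.exists_derivedSeries G
  rw [hN]
  exact Cfsg.Agent.H489.residual_bound (Cfsg.Agent.H489.outBound hS) hF (derivedSeries G N)
    (Cfsg.Agent.H489.solvable_quotient_derivedSeries G N)

end Cfsg.Agent.S3931
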