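import Cfsg.Statements.S3932
import Cfsg.Agent.S0000
import Cfsg.Agent.H482.PNilpRed
import Cfsg.Agent.H512.SylMain
import Cfsg.Agent.H592.SylRowTwo

set_option autoImplicit false
open Cfsg

namespace Cfsg.Agent.S3932

/-- Let p be a prime other than 3. A finite group G has a normal p-complement if and only if, for every prime r, p does not divide the number of Sylow r-subgroups of G. -/
theorem result {G : Type*} [Group G] [Finite G] (p : ℕ) [Fact p.Prime] (hp3 : p ≠ 3) :
    Cfsg.HasNormalPComplement p G ↔ ∀ (r : ℕ) [Fact r.Prime], ¬ p ∣ Nat.card (Sylow r G) := by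
  refine Cfsg.Agent.H482.PNilpRed.of_simple p fun S _ _ _ hna hd => ?_
  have hp : p.Prime := Fact.out
  have hk : Cfsg.IsKnownSimple' S := Cfsg.Agent.S0000.result
  by_cases hp2 : p = 2
  · subst hp2
    exact Cfsg.Agent.H592.SylRow.row_two hna hk
  · have hp5 : 5 ≤ p := by
      have h1 := hp.two_le
      rcases Nat.lt_or_ge p 5 with h | h
      · interval_cases p
        · exact absurd rfl hp2
        · exact absurd rfl hp3
        · exact absurd hp (by norm_num)
      · exact h
    exact Cfsg.Agent.H512.SylNum.row_known hna hp5 hd hk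

end Cfsg.Agent.S3932
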