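import Cfsg.Statements.S3942
import Cfsg.Agent.S0000
import Cfsg.Agent.S1991
import Cfsg.Agent.OrdDiv.Table
import Cfsg.Agent.H484.CritFinal

set_option autoImplicit false
open Cfsg

namespace Cfsg.Agent.S3942

universe u

/-- the property `PCen p` for all primes `p` implies nilpotence -/
theorem main {G : Type u} [Group G] [Finite G]
    (h : ∀ (p : ℕ) [Fact p.Prime], H484.SylNorm.PCen p G) : Group.IsNilpotent G := by
  refine H484.SylNorm.nilpotent_of_crit (fun G _ _ p _ hp S hS hN => S1991.result hp S hS hN) ?_ G h
  intro K _ _ hK hna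
  have := hK
  exact H484.SylNorm.crit_known OrdDiv.table H484.SylNorm.outTable S0000.result hK hna

/-- If for every prime p dividing the order of the finite group G the normalizer of a Sylow p-subgroup of G is nilpotent, then G is nilpotent. More generally, if for every prime p the normalizer of a Sylow p-subgroup has a normal p-complement, then G is nilpotent. -/
theorem result {G : Type*} [Group G] [Finite G] :
    ((∀ (p : ℕ) [Fact p.Prime], p ∣ Nat.card G → ∀ P : Sylow p G, Group.IsNilpotent ↥(Subgroup.normalizer ((P : Subgroup G) : Set G))) → Group.IsNilpotent G) ∧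
    ((∀ (p : ℕ) [Fact p.Prime], ∀ P : Sylow p G, Cfsg.HasNormalPComplement p ↥(Subgroup.normalizer ((P : Subgroup G) : Set G))) → Group.IsNilpotent G) := by
  constructor
  · intro h
    refine main fun p hp => ?_
    by_cases hpG : p ∣ Nat.card G
    · exact H484.SylNorm.pCen_of_isNilpotent (h p hpG)
    · intro P g _ _
      rw [Subgroup.mem_centralizer_iff]
      intro q hq
      obtain ⟨n, hn⟩ := P.2 ⟨q, hq⟩
      have hn' : q ^ p ^ n = 1 := congrArg Subtype.val hn
      have h1 : orderOf q ∣ p ^ n := orderOf_dvd_of_pow_eq_one hn'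
      have h2 : orderOf q ∣ Nat.card G := orderOf_dvd_natCard q
      have h3 : (p ^ n).Coprime (Nat.card G) :=
        Nat.Coprime.pow_left n ((Nat.Prime.coprime_iff_not_dvd hp.out).mpr hpG)
      have h4 : orderOf q = 1 := Nat.dvd_one.mp (h3.gcd_eq_one ▸ Nat.dvd_gcd h1 h2)
      rw [orderOf_eq_one_iff] at h4
      rw [h4, one_mul, mul_one]
  · intro h
    exact main fun p _ => H484.SylNorm.pCen_of_complement (h p)

end Cfsg.Agent.S3942
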