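import Cfsg.Statements.S3943
import Cfsg.Agent.S0000
import Cfsg.Agent.H965.ASTable
import Cfsg.Agent.H99.O8.Row

set_option autoImplicit false
open Cfsg

namespace Cfsg.Agent.S3943

/-- Let G be a finite group and x, y elements outside its solvable radical (the largest solvable normal subgroup). Then there is an element s such that neither ⟨x, s⟩ nor ⟨y, s⟩ is solvable. -/
theorem result {G : Type*} [Group G] [Finite G] (x y : G) (hx : x ∉ Cfsg.solvableRadical G) (hy : y ∉ Cfsg.solvableRadical G) :
    ∃ s : G, ¬ Group.IsSolvable ↥(Subgroup.closure ({x, s} : Set G)) ∧ ¬ Group.IsSolvable ↥(Subgroup.closure ({y, s} : Set G)) := by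
  exact Cfsg.Agent.H965.AS.reduction (fun K _ _ _ hK =>
    Cfsg.Agent.H965.AS.as2_all (fun S _ _ _ => Cfsg.Agent.S0000.result) hK
      (fun {F} _ _ hF {K} _ _ _ _ e => Cfsg.Agent.H99.O8.row hF e)) G x y hx hy

end Cfsg.Agent.S3943
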