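import Cfsg.Statements.S3991
import Cfsg.Agent.S0000
import Cfsg.Agent.OddHalf.Known
import Cfsg.Agent.H494.NoTwoP
import Cfsg.Agent.H494.AltRow
import Cfsg.Agent.H494.LieRow
import Cfsg.Agent.H490.NoTwoPSpor

set_option autoImplicit false
open Cfsg

namespace Cfsg.Agent.S3991

/-- Let G be a finite group of even order and p an odd prime such that G has no element of order 2p. Then the Sylow p-subgroups of G are abelian. -/
theorem result {G : Type*} [Group G] [Finite G] (heven : Even (Nat.card G)) (p : ℕ) [Fact p.Prime] (hodd : p ≠ 2)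
    (hno : ∀ g : G, orderOf g ≠ 2 * p) (P : Sylow p G) : IsMulCommutative ↥(P : Subgroup G) := by
  have hp : p.Prime := Fact.out
  refine Cfsg.Agent.H494.NoTwoP.reduction p hp hodd (Cfsg.Agent.H494.Good.as_of_rows hp hodd ?_) _ G rfl heven hno
    (P : Subgroup G) P.isPGroup'
  intro K _ _ hS hna hd
  rcases Cfsg.Agent.OddHalf.Known.classify hna (Cfsg.Agent.S0000.result (G := K)) with
    ⟨n, hn, ⟨e⟩⟩ | ⟨l, hl, -, h⟩ | (h | h) | h
  · exact Cfsg.Agent.H494.AltRow.alt hn hp hodd hd e
  · exact Cfsg.Agent.H494.LieRow.lie hl hp hodd h hd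
  · exact Cfsg.Agent.H494.LieRow.lie Nat.prime_two hp hodd h hd
  · exact Cfsg.Agent.H490.NoTwoPSpor.tits h hp hodd hd
  · exact Cfsg.Agent.H490.NoTwoPSpor.sporadic h hp hodd hd

end Cfsg.Agent.S3991
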