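import Cfsg.Statements.S4012
import Cfsg.Agent.S0000
import Cfsg.Agent.H498.KnownFree
import Cfsg.Agent.H498.CosetSolv
import Cfsg.Agent.H498.CosetC

set_option autoImplicit false
open Cfsg

namespace Cfsg.Agent.S4012

open Cfsg.Agent.H498

/-- Let N < M be normal subgroups of the finite group G and g ∈ M ∖ N whose conjugacy class is exactly M ∖ N. Then for some prime p the element g has p-power order (so every element of M ∖ N does), and M is solvable and has a normal p-complement (a normal subgroup of M of order prime to p and p-power index in M). -/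
theorem result {G : Type*} [Group G] [Finite G] (N M : Subgroup G) [N.Normal] [M.Normal] (hNM : N < M) (g : G) (hgM : g ∈ M) (hgN : g ∉ N) (hcl : {h : G | IsConj g h} = (M : Set G) \ (N : Set G)) : ∃ p : ℕ, p.Prime ∧ (∃ k : ℕ, orderOf g = p ^ k) ∧ Group.IsSolvable ↥M ∧ ∃ K : Subgroup ↥M, K.Normal ∧ (Nat.card K).Coprime p ∧ ∃ k : ℕ, K.index = p ^ k := by
  classical
  have hcl' : ∀ h : G, h ∈ M → h ∉ N → IsConj g h := by
    intro h h1 h2
    have h3 : h ∈ (M : Set G) \ (N : Set G) := ⟨h1, h2⟩
    rw [← hcl] at h3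
    exact h3
  have hg1 : g ≠ 1 := by
    rintro rfl
    exact hgN (one_mem _)
  have hord : ∀ h : G, IsConj g h → orderOf h = orderOf g := by
    intro h hh
    obtain ⟨c, hc⟩ := isConj_iff.1 hh
    rw [← hc]
    exact (orderOf_injective (MulAut.conj c).toMonoidHom (MulAut.conj c).injective g)
  have hpos : 0 < orderOf g := orderOf_pos g
  -- the powers with exponent a prime divisor of the order are in `N`
  have hq : ∀ q : ℕ, q.Prime → q ∣ orderOf g → g ^ q ∈ N := by
    intro q hq hd
    by_contra hcon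
    have h1 := hord _ (hcl' (g ^ q) (pow_mem hgM q) hcon)
    rw [orderOf_pow_of_dvd hq.ne_zero hd] at h1
    have h2 := Nat.div_lt_self hpos hq.one_lt
    omega
  obtain ⟨p, hp, hpd⟩ := Nat.exists_prime_and_dvd (n := orderOf g) (by rwa [Ne, orderOf_eq_one_iff])
  have hpF : Fact p.Prime := ⟨hp⟩
  have huniq : ∀ q : ℕ, q.Prime → q ∣ orderOf g → q = p := by
    intro q hq' hd
    by_contra hne
    apply hgN
    have h1 := hq q hq' hd
    have h2 := hq p hp hpd
    have h3 : IsCoprime (q : ℤ) (p : ℤ) := Nat.isCoprime_iff_coprime.2 ((Nat.coprime_primes hq' hp).2 hne)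
    obtain ⟨a, b, hab⟩ := h3
    have h4 : g = (g ^ q) ^ a * (g ^ p) ^ b := by
      rw [← zpow_natCast, ← zpow_natCast, ← zpow_mul, ← zpow_mul, ← zpow_add, mul_comm, mul_comm (p : ℤ), hab,
        zpow_one]
    rw [h4]
    exact mul_mem (zpow_mem h1 a) (zpow_mem h2 b)
  obtain ⟨k, hk⟩ : ∃ k : ℕ, orderOf g = p ^ k :=
    ⟨_, Nat.eq_prime_pow_of_unique_prime_dvd hpos.ne' fun {d} hd hdd => huniq d hd hdd⟩
  have hgp : g ^ p ^ k = 1 := by rw [← hk, pow_orderOf_eq_one]
  have hcoset : ∀ n ∈ N, IsConj g (g * n) := by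
    intro n hn
    refine hcl' _ (mul_mem hgM (hNM.le hn)) fun h => hgN ?_
    have h1 := mul_mem h (inv_mem hn)
    rwa [mul_inv_cancel_right] at h1
  -- `N` is solvable
  have hNs : Group.IsSolvable N :=
    CosetSolv.solvable_of_coset (fun S _ _ _ hna => KnownFree.free_of_known hna (S0000.result (G := S))) N g hcoset
  -- the complement
  obtain ⟨L, hLn, hLN, hLp, j, hj⟩ := CosetC.exists_complement (p := p) N hNs ⟨k, hgp⟩ hcoset
  -- `M / N` is a `p`-group
  have hMN : IsPGroup p (M ⧸ N.subgroupOf M) := by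
    intro y
    induction y using QuotientGroup.induction_on with
    | _ m =>
    refine ⟨k, ?_⟩
    by_cases hm : (m : G) ∈ N
    · have h1 : (QuotientGroup.mk m : M ⧸ N.subgroupOf M) = 1 := (QuotientGroup.eq_one_iff m).2 hm
      rw [h1, one_pow]
    · have h1 : (m : G) ^ p ^ k = 1 := by
        rw [← hk, ← hord _ (hcl' _ m.2 hm), pow_orderOf_eq_one]
      have h2 : m ^ p ^ k = 1 := Subtype.ext h1
      rw [← QuotientGroup.mk_pow, h2]
      rfl
  obtain ⟨i, hi⟩ := IsPGroup.iff_card.1 hMN
  refine ⟨p, hp, ⟨k, hk⟩, ?_, L.subgroupOf M, ?_, ?_, j + i, ?_⟩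
  · have h1 : Group.IsNilpotent (M ⧸ N.subgroupOf M) := hMN.isNilpotent
    have h2 : Group.IsSolvable (M ⧸ N.subgroupOf M) := inferInstance
    have h3 : Group.IsSolvable (N.subgroupOf M) :=
      Group.isSolvable_of_isSolvable_injective (f := (Subgroup.subgroupOfEquivOfLe hNM.le).toMonoidHom)
        (Subgroup.subgroupOfEquivOfLe hNM.le).injective
    exact Group.isSolvable_of_ker_le_range (N.subgroupOf M).subtype (QuotientGroup.mk' (N.subgroupOf M))
      (by rw [QuotientGroup.ker_mk', Subgroup.range_subtype])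
  · infer_instance
  · rw [Nat.card_congr (Subgroup.subgroupOfEquivOfLe (hLN.trans hNM.le)).toEquiv]
    exact hLp
  · have h1 : L.relIndex N * N.relIndex M = L.relIndex M := Subgroup.relIndex_mul_relIndex L N M hLN hNM.le
    have h2 : N.relIndex M = p ^ i := hi
    show L.relIndex M = _
    rw [← h1, hj, h2, pow_add]

end Cfsg.Agent.S4012
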