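import Cfsg.Statements.S4015
import Cfsg.Agent.H499.WreathDl
import Cfsg.Agent.H499.LinLogP
import Cfsg.Agent.H499.GLLower

set_option autoImplicit false
open Cfsg

namespace Cfsg.Agent.S4015

open Cfsg.Agent.H499.WreathDl

/-- Let p be an odd prime, F a finite field with q elements where p does not divide q, and e the multiplicative order of q modulo p. Let n ≥ e and write w = ⌊n/e⌋ and k = ⌊log_p w⌋. Then a Sylow p-subgroup of GL(n, F) has derived length exactly k + 1: its (k+1)-st derived subgroup is trivial and its k-th is not. -/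
theorem result (p : ℕ) [Fact p.Prime] (hp : p ≠ 2) (F : Type*) [Field F] [Fintype F] (q : ℕ) (hq : Fintype.card F = q) (hpq : ¬ p ∣ q) (n : ℕ) (hn : orderOf (q : ZMod p) ≤ n) (P : Sylow p (Matrix.GeneralLinearGroup (Fin n) F)) : derivedSeries ↥(P : Subgroup (Matrix.GeneralLinearGroup (Fin n) F)) (Nat.log p (n / orderOf (q : ZMod p)) + 1) = ⊥ ∧ derivedSeries ↥(P : Subgroup (Matrix.GeneralLinearGroup (Fin n) F)) (Nat.log p (n / orderOf (q : ZMod p))) ≠ ⊥ := by
  have _ := hp
  constructor
  · exact Cfsg.Agent.H499.LinLogP.gl_case (by rw [Nat.card_eq_fintype_card, hq]) hpq rfl _ P.2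
  · intro h
    obtain ⟨he0, -⟩ := Cfsg.Agent.H499.GLLower.exists_order (F := F) (p := p) hq hpq rfl
    have hw : n / orderOf (q : ZMod p) ≠ 0 := by
      have := Nat.div_pos hn he0
      omega
    have h1 : orderOf (q : ZMod p) * p ^ Nat.log p (n / orderOf (q : ZMod p)) ≤ n := by
      calc orderOf (q : ZMod p) * p ^ Nat.log p (n / orderOf (q : ZMod p))
          ≤ orderOf (q : ZMod p) * (n / orderOf (q : ZMod p)) :=
            Nat.mul_le_mul_left _ (Nat.pow_log_le_self p hw)
        _ ≤ n := Nat.mul_div_le n _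
    obtain ⟨f, hf⟩ := Cfsg.Agent.H499.GLLower.exists_iwp_hom (F := F) (p := p) hq hpq rfl h1
    obtain ⟨g, hg⟩ := exists_hom_sylow (iwp_isPGroup _) f hf P
    exact iwp_lower _ (derivedSeries_eq_bot_of_injective g hg h)

end Cfsg.Agent.S4015
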