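import Cfsg.Statements.S4016
import Cfsg.Agent.S0082
import Cfsg.Agent.S0044
import Cfsg.Agent.Solvable.Hall
import Cfsg.Agent.Lib.SolvableMinNormal
import Cfsg.Agent.Lib.HallHigman
import Cfsg.Agent.Transfer.NormalPComplement
import Cfsg.Agent.H499.MinSimp

set_option autoImplicit false
open Cfsg

namespace Cfsg.Agent.S4016

universe u

/-- Hypothesis for all Sylow subgroups. -/
def Hyp (p : ℕ) (G : Type u) [Group G] : Prop :=
  (∀ P : Sylow p G, IsCyclic P) ∧ ∀ H : Subgroup G, ¬ p ∣ Nat.card H → IsMulCommutative H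

theorem comm_of_equiv {A B : Type*} [Group A] [Group B] (e : A ≃* B) (h : IsMulCommutative A) :
    IsMulCommutative B := by
  refine ⟨⟨fun a b => ?_⟩⟩
  apply e.symm.injective
  rw [map_mul, map_mul]
  exact h.is_comm.comm _ _

theorem Hyp.subgroup {p : ℕ} [Fact p.Prime] {G : Type u} [Group G] [Finite G] (h : Hyp p G)
    (H : Subgroup G) : Hyp p H := by
  constructor
  · intro P
    have hP : IsPGroup p ((P : Subgroup H).map H.subtype) := P.2.map _
    obtain ⟨Q, hQ⟩ := hP.exists_le_sylow
    have hc := h.1 Q
    have h1 : IsCyclic ((P : Subgroup H).map H.subtype) :=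
      isCyclic_of_injective (Subgroup.inclusion hQ) (Subgroup.inclusion_injective hQ)
    exact (((P : Subgroup H).equivMapOfInjective H.subtype H.subtype_injective).isCyclic).mpr h1
  · intro K hK
    have h1 : Nat.card (K.map H.subtype) = Nat.card K :=
      Nat.card_congr (K.equivMapOfInjective H.subtype H.subtype_injective).symm.toEquiv
    exact comm_of_equiv (K.equivMapOfInjective H.subtype H.subtype_injective).symm
      (h.2 (K.map H.subtype) (by rwa [h1]))

theorem Hyp.quotient {p : ℕ} [hp : Fact p.Prime] {G : Type u} [Group G] [Finite G] (h : Hyp p G)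
    (N : Subgroup G) [N.Normal] (hN : IsPGroup p N ∨ ¬ p ∣ Nat.card N) : Hyp p (G ⧸ N) := by
  constructor
  · intro P
    obtain ⟨Q, rfl⟩ := Sylow.mapSurjective_surjective (QuotientGroup.mk'_surjective N) p P
    have := h.1 Q
    exact isCyclic_of_surjective ((QuotientGroup.mk' N).subgroupMap (Q : Subgroup G))
      ((QuotientGroup.mk' N).subgroupMap_surjective _)
  · intro K hK
    set H := K.comap (QuotientGroup.mk' N) with hH
    have hNH : N ≤ H := by
      intro x hx
      rw [hH, Subgroup.mem_comap, QuotientGroup.mk'_apply, (QuotientGroup.eq_one_iff x).mpr hx]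
      exact K.one_mem
    have hmap : H.map (QuotientGroup.mk' N) = K :=
      Subgroup.map_comap_eq_self_of_surjective (QuotientGroup.mk'_surjective N) K
    -- a subgroup `L ≤ H` of order prime to `p` with `L.map = K`
    obtain ⟨L, hL, hLK⟩ : ∃ L : Subgroup G, ¬ p ∣ Nat.card L ∧ L.map (QuotientGroup.mk' N) = K := by
      rcases hN with hN | hN
      · obtain ⟨k, hk⟩ := IsPGroup.iff_card.mp hN
        have hidx : (N.subgroupOf H).index = Nat.card K := by
          have h1 := Subgroup.relIndex_comap (H := (⊥ : Subgroup (G ⧸ N))) (QuotientGroup.mk' N) H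
          rw [hmap, MonoidHom.comap_bot, QuotientGroup.ker_mk', Subgroup.relIndex_bot_left] at h1
          exact h1
        have hcop : (Nat.card (N.subgroupOf H)).Coprime (N.subgroupOf H).index := by
          rw [hidx, Nat.card_congr (Subgroup.subgroupOfEquivOfLe hNH).toEquiv, hk]
          exact Nat.Coprime.pow_left _ ((Nat.Prime.coprime_iff_not_dvd hp.out).mpr hK)
        obtain ⟨C, hC⟩ := Subgroup.exists_right_complement'_of_coprime hcop
        refine ⟨C.map H.subtype, ?_, ?_⟩
        · rw [Nat.card_congr (C.equivMapOfInjective H.subtype H.subtype_injective).symm.toEquiv,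
            ← hC.symm.index_eq_card, hidx]
          exact hK
        · apply le_antisymm
          · rw [← hmap]
            exact Subgroup.map_mono (Subgroup.map_subtype_le C)
          · intro x hx
            obtain ⟨g, rfl⟩ := QuotientGroup.mk'_surjective N x
            have hg : g ∈ H := hx
            obtain ⟨⟨a, b⟩, hab⟩ := hC.2 ⟨g, hg⟩
            have hab' : ((a : H) : G) * ((b : H) : G) = g := congrArg Subtype.val hab
            refine ⟨((b : H) : G), ⟨(b : H), b.2, rfl⟩, ?_⟩
            rw [← hab', map_mul]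
            have : (QuotientGroup.mk' N) ((a : H) : G) = 1 :=
              (QuotientGroup.eq_one_iff _).mpr (Subgroup.mem_subgroupOf.mp a.2)
            rw [this, one_mul]
      · refine ⟨H, ?_, hmap⟩
        have h1 := Subgroup.relIndex_comap (H := (⊥ : Subgroup (G ⧸ N))) (QuotientGroup.mk' N) H
        rw [hmap, MonoidHom.comap_bot, QuotientGroup.ker_mk', Subgroup.relIndex_bot_left] at h1
        have h2 := Lib.HallHigman.card_mul_relIndex' hNH
        rw [← h2, h1, hp.out.dvd_mul, not_or]
        exact ⟨hN, hK⟩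
    have hc := h.2 L hL
    refine ⟨⟨fun a b => ?_⟩⟩
    have ha : (a : G ⧸ N) ∈ L.map (QuotientGroup.mk' N) := by rw [hLK]; exact a.2
    have hb : (b : G ⧸ N) ∈ L.map (QuotientGroup.mk' N) := by rw [hLK]; exact b.2
    obtain ⟨x, hx, hxa⟩ := ha
    obtain ⟨y, hy, hyb⟩ := hb
    apply Subtype.ext
    change (a : G ⧸ N) * b = b * a
    rw [← hxa, ← hyb, ← map_mul, ← map_mul]
    have : x * y = y * x := congrArg Subtype.val (hc.is_comm.comm (⟨x, hx⟩ : L) ⟨y, hy⟩)
    rw [this]

/-- A nontrivial solvable normal subgroup gives a nontrivial normal `r`-subgroup. -/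
theorem exists_normal_pgroup {G : Type*} [Group G] [Finite G] (K : Subgroup G) [K.Normal]
    (hK : K ≠ ⊥) (hs : Group.IsSolvable K) :
    ∃ (r : ℕ) (V : Subgroup G), r.Prime ∧ V.Normal ∧ V ≠ ⊥ ∧ IsPGroup r V := by
  have : Nontrivial K := (Subgroup.nontrivial_iff_ne_bot K).mpr hK
  obtain ⟨r, hr, N, hNc, -, hNp, hN⟩ := Lib.SolvableMinNormal.exists_characteristic_pgroup (G := K)
  refine ⟨r, N.map K.subtype, hr, ConjAct.normal_of_characteristic_of_normal, ?_, hNp.map _⟩
  intro h
  apply hN
  rwa [Subgroup.map_eq_bot_iff_of_injective _ K.subtype_injective] at h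

/-- Groups satisfying the hypothesis are solvable. -/
theorem solvable_aux (p : ℕ) [hp : Fact p.Prime] (n : ℕ) : ∀ (G : Type u) [Group G] [Finite G],
    Nat.card G = n → Hyp p G → Group.IsSolvable G := by
  induction n using Nat.strong_induction_on with
  | _ n ih =>
  intro G _ _ hn h
  have hsub : ∀ H : Subgroup G, H ≠ ⊤ → Group.IsSolvable H := by
    intro H hH
    refine ih (Nat.card H) ?_ H rfl (h.subgroup H)
    rw [← hn, ← H.card_mul_index]
    exact lt_mul_of_one_lt_right Nat.card_pos (Subgroup.one_lt_index_of_ne_top hH)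
  by_cases hex : ∃ N : Subgroup G, N.Normal ∧ N ≠ ⊥ ∧ N ≠ ⊤
  · obtain ⟨N, hN, hN1, hN2⟩ := hex
    obtain ⟨r, V, hr, hV, hV1, hVr⟩ := exists_normal_pgroup N hN1 (hsub N hN2)
    have hVs : Group.IsSolvable V := by
      have : Fact r.Prime := ⟨hr⟩
      have := hVr.isNilpotent
      infer_instance
    have hq : Hyp p (G ⧸ V) := by
      apply h.quotient
      by_cases hpr : r = p
      · left; rw [← hpr]; exact hVr
      · right
        have : Fact r.Prime := ⟨hr⟩
        obtain ⟨k, hk⟩ := IsPGroup.iff_card.mp hVr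
        rw [hk]
        intro hd
        exact hpr ((Nat.prime_dvd_prime_iff_eq hp.out hr).mp (hp.out.dvd_of_dvd_pow hd)).symm
    have hlt : Nat.card (G ⧸ V) < n := by
      rw [← hn, ← V.card_mul_index]
      exact lt_mul_of_one_lt_left (Nat.pos_of_ne_zero Subgroup.index_ne_zero_of_finite)
        (Subgroup.one_lt_card_iff_ne_bot V |>.mpr hV1)
    have hqs := ih _ hlt (G ⧸ V) rfl hq
    exact (Group.isSolvable_iff_subgroup_quotient V).mpr ⟨hVs, hqs⟩
  · by_cases hns : Group.IsSolvable G
    · exact hns
    exfalso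
    push Not at hex
    have hnt : Nontrivial G := by
      by_contra hcon
      rw [not_nontrivial_iff_subsingleton] at hcon
      exact hns inferInstance
    have hsimple : IsSimpleGroup G := ⟨fun N hN => by
      by_cases h1 : N = ⊥
      · exact Or.inl h1
      · exact Or.inr (hex N hN h1)⟩
    have hnc : ¬ IsMulCommutative G := fun hc => hns (by
      have := hc
      exact IsSimpleGroup.comm_iff_isSolvable.mp hc.is_comm.comm)
    have hmin : Cfsg.IsMinimalSimple G := ⟨hsimple, hnc, hsub⟩
    obtain ⟨P⟩ := (inferInstance : Nonempty (Sylow p G))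
    have hPc := h.1 P
    by_cases hp2 : p = 2
    · subst hp2
      by_cases h2 : 2 ∣ Nat.card G
      · have hmf : (Nat.card G).minFac = 2 := (Nat.minFac_eq_two_iff _).mpr h2
        have hcomp := IsCyclic.isComplement' hmf hPc
        rcases hsimple.eq_bot_or_eq_top_of_normal _ (MonoidHom.normal_ker
          (MonoidHom.transferSylow P (hPc.normalizer_le_centralizer hmf))) with hk | hk
        · rw [hk] at hcomp
          have h3 := Subgroup.isComplement'_bot_left.mp hcomp
          apply hnc
          have h4 : IsCyclic (⊤ : Subgroup G) := by rw [← h3]; exact hPc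
          have h5 : IsCyclic G := (Subgroup.topEquiv.isCyclic).mp h4
          exact ⟨⟨fun a b => by
            let _ := h5.commGroup
            exact mul_comm a b⟩⟩
        · rw [hk] at hcomp
          have h3 := Subgroup.isComplement'_top_left.mp hcomp
          have h4 := P.ne_bot_of_dvd_card h2
          exact h4 h3
      · apply hnc
        exact comm_of_equiv Subgroup.topEquiv (h.2 ⊤ (by rwa [Subgroup.card_top]))
    · obtain ⟨S⟩ := (inferInstance : Nonempty (Sylow 2 G))
      have hS : IsMulCommutative (S : Subgroup G) := by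
        apply h.2
        obtain ⟨k, hk⟩ := IsPGroup.iff_card.mp S.2
        rw [hk]
        intro hd
        exact hp2 ((Nat.prime_dvd_prime_iff_eq hp.out Nat.prime_two).mp (hp.out.dvd_of_dvd_pow hd))
      obtain ⟨H, hH1, hH2, -, -⟩ := H499.MinSimp.exists_bad hmin S hS hp.out hp2
      exact hH2 (h.2 H hH1)

/-- Let G be a finite group and p a prime such that a Sylow p-subgroup P of G is cyclic and every subgroup of G of order prime to p is abelian. Then G has a normal p-complement or P is normal in G. -/
theorem result {G : Type*} [Group G] [Finite G] {p : ℕ}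
    [Fact p.Prime] (P : Sylow p G) (hcyc : IsCyclic P)
    (hab : ∀ H : Subgroup G, ¬ p ∣ Nat.card H → IsMulCommutative H) :
    Cfsg.HasNormalPComplement p G ∨ (P : Subgroup G).Normal := by
  rename_i hp
  have hyp : Hyp p G := by
    refine ⟨fun Q => ?_, hab⟩
    obtain ⟨g, hg⟩ := MulAction.exists_smul_eq G P Q
    rw [← hg]
    exact (Sylow.equivSMul P g).isCyclic.mp hcyc
  have hsol : Group.IsSolvable G := solvable_aux p _ G rfl hyp
  rcases S0082.result P hcyc with h | h
  · exact Or.inl h
  right
  set V := Cfsg.pPrimeCore p G with hV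
  have hVn : V.Normal := Lib.HallHigman.pPrimeCore_normal p
  have hVc : (Nat.card V).Coprime p := Lib.HallHigman.pPrimeCore_coprime p
  -- a Hall `p'`-subgroup `H`, abelian, containing `V = O_{p'}(G)`
  obtain ⟨k, hk⟩ := IsPGroup.iff_card.mp P.2
  obtain ⟨H, hH, hVH⟩ := Solvable.Hall.hall_dominance (G := G) (P : Subgroup G).index (Nat.card P)
    (by rw [mul_comm]; exact ((P : Subgroup G).card_mul_index).symm)
    (P.card_coprime_index.symm) V (by rw [hk]; exact hVc.pow_right k)
  have hHab : IsMulCommutative H := hab H (by rw [hH]; exact P.not_dvd_index)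
  have hHC : H ≤ Subgroup.centralizer (V : Set G) := by
    intro x hx
    rw [Subgroup.mem_centralizer_iff]
    intro v hv
    exact congrArg Subtype.val (hHab.is_comm.comm (⟨v, hVH hv⟩ : H) ⟨x, hx⟩)
  have hCn : (Subgroup.centralizer (V : Set G)).Normal := inferInstance
  have hCtop : Subgroup.centralizer (V : Set G) = ⊤ := by
    rw [eq_top_iff, ← h]
    have hq : IsPGroup p (G ⧸ Subgroup.centralizer (V : Set G)) := by
      have h1 : H.index = Nat.card P := by
        have h2 := H.card_mul_index
        rw [hH, ← (P : Subgroup G).card_mul_index, mul_comm] at h2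
        exact Nat.eq_of_mul_eq_mul_right (Nat.pos_of_ne_zero Subgroup.index_ne_zero_of_finite) h2
      have h2 : (Subgroup.centralizer (V : Set G)).index ∣ p ^ k := by
        rw [← hk, ← h1]
        exact Subgroup.index_dvd_of_le hHC
      obtain ⟨j, -, hj⟩ := (Nat.dvd_prime_pow hp.out).mp h2
      exact IsPGroup.of_card (n := j) hj
    have h3 := Transfer.NormalPComplement.pResidual_le_ker hq
      (QuotientGroup.mk' (Subgroup.centralizer (V : Set G)))
    rwa [QuotientGroup.ker_mk'] at h3
  have hcen : ∀ v ∈ V, ∀ g : G, v * g = g * v := by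
    intro v hv g
    have : g ∈ Subgroup.centralizer (V : Set G) := by rw [hCtop]; trivial
    exact Subgroup.mem_centralizer_iff.mp this v hv
  have hPab : IsMulCommutative (P : Subgroup G) := by
    refine ⟨⟨fun a b => ?_⟩⟩
    let _ := hcyc.commGroup
    exact mul_comm a b
  have hPV := Lib.HallHigman.sylow_sup_normal_of_centralizer_le p P hPab V
    (Lib.HallHigman.centralizer_pCore_le_of_solvable p
      (Lib.HallHigman.pPrimeCore_quotient_eq_bot p V hV))
  refine ⟨fun x hx g => ?_⟩
  have hgx : g * x * g⁻¹ ∈ (P : Subgroup G) ⊔ V :=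
    hPV.conj_mem x (Subgroup.mem_sup_left hx) g
  obtain ⟨a, ha, v, hv, hav⟩ := Subgroup.mem_sup_of_normal_right.mp hgx
  have hpow : ∀ y ∈ (P : Subgroup G), y ^ p ^ k = 1 := by
    intro y hy
    rw [← hk]
    exact Lib.HallHigman.pow_card_of_mem hy
  have h1 : (g * x * g⁻¹) ^ p ^ k = 1 := by
    rw [conj_pow, hpow x hx]; group
  rw [← hav, (show Commute a v from (hcen v hv a).symm).mul_pow, hpow a ha, one_mul] at h1
  have h2 : v = 1 := by
    rw [← orderOf_eq_one_iff]
    have h3 : orderOf v ∣ p ^ k := orderOf_dvd_of_pow_eq_one h1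
    have h4 : orderOf v ∣ Nat.card V := Subgroup.orderOf_dvd_natCard V hv
    exact Nat.Coprime.eq_one_of_dvd ((hVc.pow_right k).coprime_dvd_left h4) h3
  rw [← hav, h2, mul_one]
  exact ha

end Cfsg.Agent.S4016
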