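import Cfsg.Statements.S4017
import Cfsg.Agent.S0071
import Cfsg.Agent.S0023
import Cfsg.Agent.OddOrderLocal.DecompBasic
import Cfsg.Agent.S4016
import Cfsg.Agent.S0205
import Cfsg.Agent.S0144

set_option autoImplicit false
open Cfsg

namespace Cfsg.Agent.S4017

open Subgroup

/-- A `p'`-subgroup of order divisible by `q` is a `q`-group. -/
def Mix (p q : ℕ) (G : Type*) [Group G] : Prop :=
  ∀ H : Subgroup G, ¬ p ∣ Nat.card H → q ∣ Nat.card H → IsPGroup q H

theorem Mix.subgroup {p q : ℕ} {G : Type*} [Group G] [Finite G] (h : Mix p q G)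
    (H : Subgroup G) : Mix p q H := by
  intro K hK hq
  have h1 : Nat.card (K.map H.subtype) = Nat.card K :=
    Nat.card_congr (K.equivMapOfInjective H.subtype H.subtype_injective).symm.toEquiv
  exact (h (K.map H.subtype) (by rwa [h1]) (by rwa [h1])).of_equiv
    (K.equivMapOfInjective H.subtype H.subtype_injective).symm

/-- Two subgroups of coprime orders, one a nontrivial `q`-group normalized by the other `p'`-group. -/
theorem Mix.false_of {p q : ℕ} (hp : p.Prime) (hq : q.Prime) {G : Type*} [Group G] [Finite G]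
    (h : Mix p q G) {R Q : Subgroup G} (hRQ : R ≤ normalizer (Q : Set G) ∨ Q ≤ normalizer (R : Set G))
    (hqQ : q ∣ Nat.card Q) (hpQ : ¬ p ∣ Nat.card Q) (hpR : ¬ p ∣ Nat.card R)
    (hqR : ¬ q ∣ Nat.card R) : R = ⊥ := by
  have hd : Nat.card (R ⊔ Q : Subgroup G) ∣ Nat.card R * Nat.card Q := by
    rcases hRQ with h1 | h1
    · exact OddOrderLocal.DecompBasic.card_sup_dvd h1
    · rw [sup_comm, mul_comm]
      exact OddOrderLocal.DecompBasic.card_sup_dvd h1
  have h2 : ¬ p ∣ Nat.card (R ⊔ Q : Subgroup G) := by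
    intro h3
    rcases (hp.dvd_mul).mp (h3.trans hd) with h4 | h4
    · exact hpR h4
    · exact hpQ h4
  have h3 : q ∣ Nat.card (R ⊔ Q : Subgroup G) := hqQ.trans (Subgroup.card_dvd_of_le le_sup_right)
  have h4 : IsPGroup q (R ⊔ Q : Subgroup G) := h _ h2 h3
  have h5 : IsPGroup q R := h4.to_le le_sup_left
  have : Fact q.Prime := ⟨hq⟩
  obtain ⟨k, hk⟩ := IsPGroup.iff_card.mp h5
  rcases k with _ | k
  · rw [pow_zero] at hk
    exact Subgroup.card_eq_one.mp hk
  · exact absurd (hk ▸ dvd_pow_self q (Nat.succ_ne_zero k)) hqR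

/-- In the `q`-nilpotent case `G` is a `{p,q}`-group. -/
theorem nilpotent_case {p q : ℕ} (hp : p.Prime) (hq : q.Prime) {G : Type*} [Group G] [Finite G]
    (h : Mix p q G) (hpq : p ≠ q) (hqG : q ∣ Nat.card G) (Q : Sylow q G)
    (hN : ∃ N : Subgroup G, N.Normal ∧ N.IsComplement' (Q : Subgroup G)) :
    ∀ r : ℕ, r.Prime → r ∣ Nat.card G → r = p ∨ r = q := by
  have : Fact q.Prime := ⟨hq⟩
  obtain ⟨N, hNn, hNc⟩ := hN
  intro r hr hrG
  by_contra hcon
  rw [not_or] at hcon
  obtain ⟨hrp, hrq⟩ := hcon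
  have hcard : Nat.card N * Nat.card (Q : Subgroup G) = Nat.card G := hNc.card_mul_card
  obtain ⟨k, hk⟩ := IsPGroup.iff_card.mp Q.2
  have hk' : Nat.card (Q : Subgroup G) = q ^ k := hk
  have hqQ : q ∣ Nat.card (Q : Subgroup G) := by
    have h1 : (Q : Subgroup G) ≠ ⊥ := Q.ne_bot_of_dvd_card hqG
    rcases k with _ | k
    · rw [pow_zero] at hk'
      exact absurd (Subgroup.card_eq_one.mp hk') h1
    · rw [hk']; exact dvd_pow_self q (Nat.succ_ne_zero k)
  have hqN : ¬ q ∣ Nat.card N := by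
    have h1 : Nat.card N = (Q : Subgroup G).index := hNc.index_eq_card.symm
    rw [h1]
    exact Q.not_dvd_index
  have hrN : r ∣ Nat.card N := by
    rw [← hcard, hr.dvd_mul] at hrG
    rcases hrG with h1 | h1
    · exact h1
    · rw [hk'] at h1
      exact absurd ((Nat.prime_dvd_prime_iff_eq hr hq).mp (hr.dvd_of_dvd_pow h1)) hrq
  have hcop : (Nat.card (Q : Subgroup G)).Coprime (Nat.card N) := by
    rw [hk']
    exact Nat.Coprime.pow_left _ ((Nat.Prime.coprime_iff_not_dvd hq).mpr hqN)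
  have : Fact r.Prime := ⟨hr⟩
  have hQsol : Group.IsSolvable (Q : Subgroup G) := by
    have := Q.2.isNilpotent
    infer_instance
  obtain ⟨R, hR⟩ := S0023.result (Q : Subgroup G) N (by rw [Subgroup.normalizer_eq_top]; exact le_top)
    hcop (Or.inl hQsol) r
  have hRcard : Nat.card ((R : Subgroup N).map N.subtype) = Nat.card R :=
    Nat.card_congr ((R : Subgroup N).equivMapOfInjective N.subtype N.subtype_injective).symm.toEquiv
  obtain ⟨j, hj⟩ := IsPGroup.iff_card.mp R.2
  have hj' : Nat.card R = r ^ j := hj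
  have hbot := h.false_of hp hq (R := (R : Subgroup N).map N.subtype) (Q := Q) (Or.inr hR) hqQ
    (by rw [hk']; exact fun h1 => hpq ((Nat.prime_dvd_prime_iff_eq hp hq).mp (hp.dvd_of_dvd_pow h1)))
    (by rw [hRcard, hj']
        exact fun h1 => hrp ((Nat.prime_dvd_prime_iff_eq hp hr).mp (hp.dvd_of_dvd_pow h1)).symm)
    (by rw [hRcard, hj']
        exact fun h1 => hrq ((Nat.prime_dvd_prime_iff_eq hq hr).mp (hq.dvd_of_dvd_pow h1)).symm)
  rw [Subgroup.map_eq_bot_iff_of_injective _ N.subtype_injective] at hbot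
  exact R.ne_bot_of_dvd_card hrN hbot

/-- The order of a `q'`-element normalizing a nontrivial `q`-group is a power of `p`. -/
theorem order_step {p q : ℕ} (hp : p.Prime) (hq : q.Prime) {G : Type*} [Group G] [Finite G]
    (h : Mix p q G) (hpq : p ≠ q) {Q : Subgroup G} (hQ : IsPGroup q Q) (hQ1 : Q ≠ ⊥) {g : G}
    (hg : g ∈ normalizer (Q : Set G)) (hgq : (orderOf g).Coprime q) :
    ∃ k : ℕ, orderOf g = p ^ k := by
  have : Fact q.Prime := ⟨hq⟩
  have h0 : orderOf g ≠ 0 := (orderOf_pos g).ne'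
  refine ⟨(orderOf g).primeFactorsList.length, Nat.eq_prime_pow_of_unique_prime_dvd h0 ?_⟩
  intro r hr hrg
  by_contra hrp
  set x := g ^ (orderOf g / r) with hx
  have hxr : orderOf x = r := orderOf_pow_orderOf_div h0 hrg
  have hrq : r ≠ q := by
    rintro rfl
    have := Nat.Coprime.eq_one_of_dvd (hgq.coprime_dvd_left hrg) dvd_rfl
    exact hr.one_lt.ne' this
  obtain ⟨k, hk⟩ := IsPGroup.iff_card.mp hQ
  have hqQ : q ∣ Nat.card Q := by
    rcases k with _ | k
    · rw [pow_zero] at hk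
      exact absurd (Subgroup.card_eq_one.mp hk) hQ1
    · rw [hk]; exact dvd_pow_self q (Nat.succ_ne_zero k)
  have hbot := h.false_of hp hq (R := zpowers x) (Q := Q)
    (Or.inl (by rw [zpowers_le]; exact pow_mem hg _)) hqQ
    (by rw [hk]; exact fun h1 => hpq ((Nat.prime_dvd_prime_iff_eq hp hq).mp (hp.dvd_of_dvd_pow h1)))
    (by rw [Nat.card_zpowers, hxr]
        exact fun h1 => hrp ((Nat.prime_dvd_prime_iff_eq hp hr).mp h1).symm)
    (by rw [Nat.card_zpowers, hxr]
        exact fun h1 => hrq ((Nat.prime_dvd_prime_iff_eq hq hr).mp h1).symm)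
  rw [zpowers_eq_bot] at hbot
  rw [hbot, orderOf_one] at hxr
  exact hr.one_lt.ne hxr

/-- The orbit of a moved element. -/
theorem orbit_step {p : ℕ} (hp : p.Prime) {G : Type*} [Group G] [Finite G] {Q : Subgroup G}
    {g y : G} (hg : g ∈ normalizer (Q : Set G)) {k : ℕ} (hk : orderOf g = p ^ k) (hy : y ∈ Q)
    (hgy : g * y ≠ y * g) :
    p + 1 ≤ Nat.card Q ∧ (Nat.card Q = p + 1 → ∀ z ∈ Q, z ≠ 1 → ∃ c : G, c * y * c⁻¹ = z) := by
  have : Fact p.Prime := ⟨hp⟩
  set H := zpowers (MulAut.conj g) with hH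
  have hHp : IsPGroup p H := by
    have h1 : orderOf (MulAut.conj g) ∣ p ^ k := by
      rw [← hk]
      exact orderOf_map_dvd (MulAut.conj (G := G)) g
    obtain ⟨j, -, hj⟩ := (Nat.dvd_prime_pow hp).mp h1
    exact IsPGroup.of_card (n := j) (by rw [Nat.card_zpowers, hj])
  have horb : ∀ z ∈ MulAction.orbit H y, z ∈ Q ∧ z ≠ 1 ∧ ∃ c : G, c * y * c⁻¹ = z := by
    rintro z ⟨⟨a, ha⟩, rfl⟩
    obtain ⟨i, rfl⟩ := ha
    have h1 : (⟨(MulAut.conj g) ^ i, ⟨i, rfl⟩⟩ : H) • y = g ^ i * y * (g ^ i)⁻¹ := by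
      change ((MulAut.conj g) ^ i) y = _
      rw [← map_zpow, MulAut.conj_apply]
    change (⟨(MulAut.conj g) ^ i, ⟨i, rfl⟩⟩ : H) • y ∈ Q ∧ (⟨(MulAut.conj g) ^ i, ⟨i, rfl⟩⟩ : H) • y ≠ 1 ∧
      ∃ c : G, c * y * c⁻¹ = (⟨(MulAut.conj g) ^ i, ⟨i, rfl⟩⟩ : H) • y
    rw [h1]
    refine ⟨?_, ?_, ⟨g ^ i, rfl⟩⟩
    · exact (Subgroup.mem_normalizer_iff.mp (zpow_mem hg i) y).mp hy
    · intro h2
      apply hgy
      have h3 : y = 1 := by
        have : g ^ i * y * (g ^ i)⁻¹ = 1 := h2
        rwa [mul_inv_eq_one, mul_eq_left] at this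
      rw [h3, mul_one, one_mul]
  obtain ⟨j, hj⟩ := hHp.card_orbit y
  have hj0 : j ≠ 0 := by
    rintro rfl
    rw [pow_zero, Nat.card_eq_one_iff_unique] at hj
    have h1 : (⟨MulAut.conj g, mem_zpowers _⟩ : H) • y ∈ MulAction.orbit H y :=
      MulAction.mem_orbit _ _
    have h2 : y ∈ MulAction.orbit H y := MulAction.mem_orbit_self y
    have h3 := hj.1.elim ⟨_, h1⟩ ⟨_, h2⟩
    have h4 : (⟨MulAut.conj g, mem_zpowers _⟩ : H) • y = y := congrArg Subtype.val h3
    have h5 : g * y * g⁻¹ = y := h4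
    apply hgy
    rwa [mul_inv_eq_iff_eq_mul] at h5
  have hple : p ≤ p ^ j := Nat.le_self_pow hj0 p
  -- count
  have hsub : MulAction.orbit H y ⊆ (Q : Set G) \ {1} := fun z hz => ⟨(horb z hz).1, (horb z hz).2.1⟩
  have hQcard : ((Q : Set G) \ {1}).ncard + 1 = Nat.card Q := by
    rw [Set.ncard_sdiff_singleton_add_one (one_mem Q) (Set.toFinite _)]
    rfl
  have hle : (MulAction.orbit H y).ncard ≤ ((Q : Set G) \ {1}).ncard :=
    Set.ncard_le_ncard hsub (Set.toFinite _)
  have hncard : (MulAction.orbit H y).ncard = p ^ j := hj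
  refine ⟨by omega, fun hQp z hz hz1 => ?_⟩
  have heq : MulAction.orbit H y = (Q : Set G) \ {1} :=
    Set.eq_of_subset_of_ncard_le hsub (by omega) (Set.toFinite _)
  have hz' : z ∈ MulAction.orbit H y := by
    rw [heq]; exact ⟨hz, hz1⟩
  exact (horb z hz').2.2

/-- Lifting a `p'`-subgroup of a quotient by a normal `p`-subgroup. -/
theorem exists_lift {p : ℕ} [hp : Fact p.Prime] {G : Type*} [Group G] [Finite G] (N : Subgroup G)
    [N.Normal] (hN : IsPGroup p N) (K : Subgroup (G ⧸ N)) (hK : ¬ p ∣ Nat.card K) :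
    ∃ L : Subgroup G, Nat.card L = Nat.card K ∧ L.map (QuotientGroup.mk' N) = K := by
  set H := K.comap (QuotientGroup.mk' N) with hH
  have hNH : N ≤ H := by
    intro x hx
    rw [hH, Subgroup.mem_comap, QuotientGroup.mk'_apply, (QuotientGroup.eq_one_iff x).mpr hx]
    exact K.one_mem
  have hmap : H.map (QuotientGroup.mk' N) = K :=
    Subgroup.map_comap_eq_self_of_surjective (QuotientGroup.mk'_surjective N) K
  obtain ⟨k, hk⟩ := IsPGroup.iff_card.mp hN
  have hidx : (N.subgroupOf H).index = Nat.card K := by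
    have h1 := Subgroup.relIndex_comap (H := (⊥ : Subgroup (G ⧸ N))) (QuotientGroup.mk' N) H
    rw [hmap, MonoidHom.comap_bot, QuotientGroup.ker_mk', Subgroup.relIndex_bot_left] at h1
    exact h1
  have hcop : (Nat.card (N.subgroupOf H)).Coprime (N.subgroupOf H).index := by
    rw [hidx, Nat.card_congr (Subgroup.subgroupOfEquivOfLe hNH).toEquiv, hk]
    exact Nat.Coprime.pow_left _ ((Nat.Prime.coprime_iff_not_dvd hp.out).mpr hK)
  obtain ⟨C, hC⟩ := Subgroup.exists_right_complement'_of_coprime hcop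
  refine ⟨C.map H.subtype, ?_, ?_⟩
  · rw [Nat.card_congr (C.equivMapOfInjective H.subtype H.subtype_injective).symm.toEquiv,
      ← hC.symm.index_eq_card, hidx]
  · apply le_antisymm
    · rw [← hmap]
      exact Subgroup.map_mono (Subgroup.map_subtype_le C)
    · intro x hx
      obtain ⟨g, rfl⟩ := QuotientGroup.mk'_surjective N x
      have hg : g ∈ H := hx
      obtain ⟨⟨a, b⟩, hab⟩ := hC.2 ⟨g, hg⟩
      have hab' : ((a : H) : G) * ((b : H) : G) = g := congrArg Subtype.val hab
      refine ⟨((b : H) : G), ⟨(b : H), b.2, rfl⟩, ?_⟩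
      rw [← hab', map_mul]
      have : (QuotientGroup.mk' N) ((a : H) : G) = 1 :=
        (QuotientGroup.eq_one_iff _).mpr (Subgroup.mem_subgroupOf.mp a.2)
      rw [this, one_mul]

theorem Mix.quotient {p q : ℕ} [hp : Fact p.Prime] {G : Type*} [Group G] [Finite G] (h : Mix p q G)
    (V : Subgroup G) [V.Normal] (hV : IsPGroup p V) : Mix p q (G ⧸ V) := by
  intro K hK hq
  obtain ⟨L, hL, hLK⟩ := exists_lift V hV K hK
  rw [← hLK]
  exact (h L (by rwa [hL]) (by rwa [hL])).map _

/-- Numbers with at most two prime divisors. -/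
theorem eq_pow_mul_pow {p q n : ℕ} (hp : p.Prime) (hn : n ≠ 0)
    (h : ∀ r : ℕ, r.Prime → r ∣ n → r = p ∨ r = q) : ∃ a b : ℕ, n = p ^ a * q ^ b := by
  refine ⟨n.factorization p, (n / p ^ n.factorization p).primeFactorsList.length, ?_⟩
  rw [← Nat.eq_prime_pow_of_unique_prime_dvd (n := n / p ^ n.factorization p) (p := q)
    (Nat.ordCompl_pos p hn).ne' ?_]
  · exact (Nat.ordProj_mul_ordCompl_eq_self n p).symm
  · intro r hr hrd
    rcases h r hr (hrd.trans (Nat.ordCompl_dvd n p)) with rfl | rfl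
    · exact absurd hrd (Nat.not_dvd_ordCompl hr hn)
    · rfl

universe u

/-- The main induction. -/
theorem main {p q : ℕ} (hp : p.Prime) (hq : q.Prime) (hpq : p ≠ q) (hp2 : p ≠ 2) (n : ℕ) :
    ∀ (G : Type u) [Group G] [Finite G], Nat.card G = n → Mix p q G → p ∣ Nat.card G →
      q ∣ Nat.card G → (q ^ (Nat.card G).factorization q - 1 < p ∨
        (p = q ^ (Nat.card G).factorization q - 1 ∧ ∀ P : Sylow p G, IsMulCommutative P)) →
      ∀ r : ℕ, r.Prime → r ∣ Nat.card G → r = p ∨ r = q := by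
  have hpf : Fact p.Prime := ⟨hp⟩
  have hqf : Fact q.Prime := ⟨hq⟩
  induction n using Nat.strong_induction_on with
  | _ n ih =>
  intro G _ _ hn hM hpG hqG hlarge
  obtain ⟨Q⟩ := (inferInstance : Nonempty (Sylow q G))
  by_cases hc : ∀ R : Subgroup G, R ≤ (Q : Subgroup G) → ∀ g ∈ Subgroup.normalizer (R : Set G),
      Nat.Coprime (orderOf g) q → g ∈ Subgroup.centralizer (R : Set G)
  · exact nilpotent_case hp hq hM hpq hqG Q ((S0071.result Q).mpr hc)
  push Not at hc
  obtain ⟨R, hRQ, g, hg, hgq, hgC⟩ := hc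
  have hR1 : R ≠ ⊥ := by
    rintro rfl
    apply hgC
    rw [Subgroup.mem_centralizer_iff]
    intro y hy
    rw [SetLike.mem_coe, Subgroup.mem_bot] at hy
    rw [hy, one_mul, mul_one]
  obtain ⟨k, hk⟩ := order_step hp hq hM hpq (Q.2.to_le hRQ) hR1 hg hgq
  obtain ⟨y, hy, hgy⟩ : ∃ y ∈ R, g * y ≠ y * g := by
    by_contra hcon
    push Not at hcon
    exact hgC (Subgroup.mem_centralizer_iff.mpr fun y hy => (hcon y hy).symm)
  obtain ⟨ho1, ho2⟩ := orbit_step hp hg hk hy hgy
  have hQcard : Nat.card (Q : Subgroup G) = q ^ (Nat.card G).factorization q := Q.card_eq_multiplicity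
  have hRle : Nat.card R ≤ Nat.card (Q : Subgroup G) := Subgroup.card_le_of_le hRQ
  rcases hlarge with hlt | ⟨hpe, hPab⟩
  · omega
  have hRQe : R = (Q : Subgroup G) := Subgroup.eq_of_le_of_card_ge hRQ (by omega)
  subst hRQe
  have ho3 := ho2 (by omega)
  -- `q = 2`
  have hq2 : q = 2 := by
    have hodd : Odd p := hp.odd_of_ne_two hp2
    have h1 : Even (q ^ (Nat.card G).factorization q) := by
      have : q ^ (Nat.card G).factorization q = p + 1 := by omega
      rw [this]
      exact hodd.add_one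
    have h2 := (Nat.even_pow.mp h1).1
    exact (hq.even_iff).mp h2
  subst hq2
  have hQ1 : 2 ∣ Nat.card (Q : Subgroup G) := by
    have h1 : (Q : Subgroup G) ≠ ⊥ := Q.ne_bot_of_dvd_card hqG
    rcases hf : (Nat.card G).factorization 2 with _ | k
    · rw [hf, pow_zero] at hQcard
      exact absurd (Subgroup.card_eq_one.mp hQcard) h1
    · rw [hQcard, hf]; exact dvd_pow_self 2 (Nat.succ_ne_zero k)
  obtain ⟨⟨t, htQ⟩, ht⟩ := exists_prime_orderOf_dvd_card' 2 hQ1
  have hto : orderOf t = 2 := by rwa [Subgroup.orderOf_mk] at ht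
  have ht1 : t ≠ 1 := by
    rintro rfl
    rw [orderOf_one] at hto
    omega
  have hsq : ∀ z ∈ (Q : Subgroup G), z * z = 1 := by
    intro z hz
    by_cases hz1 : z = 1
    · rw [hz1, one_mul]
    obtain ⟨c, hc⟩ := ho3 z hz hz1
    obtain ⟨d, hd⟩ := ho3 t htQ ht1
    have h1 : y * y = 1 := by
      have h2 : t * t = 1 := by rw [← sq, ← hto]; exact pow_orderOf_eq_one t
      have h3 : y = d⁻¹ * t * d := by rw [← hd]; group
      rw [h3]
      calc d⁻¹ * t * d * (d⁻¹ * t * d) = d⁻¹ * (t * t) * d := by group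
        _ = 1 := by rw [h2]; group
    rw [← hc]
    calc c * y * c⁻¹ * (c * y * c⁻¹) = c * (y * y) * c⁻¹ := by group
      _ = 1 := by rw [h1]; group
  have hQab : IsMulCommutative (Q : Subgroup G) := by
    refine ⟨⟨fun a b => Subtype.ext ?_⟩⟩
    change (a : G) * b = b * a
    have h1 := hsq _ a.2
    have h2 := hsq _ b.2
    have h3 := hsq _ (mul_mem a.2 b.2)
    have h4 : (a : G) = (a : G)⁻¹ := eq_inv_of_mul_eq_one_left h1
    have h5 : (b : G) = (b : G)⁻¹ := eq_inv_of_mul_eq_one_left h2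
    have h6 : (a : G) * b = ((a : G) * b)⁻¹ := eq_inv_of_mul_eq_one_left h3
    rw [h6, mul_inv_rev, ← h4, ← h5]
  intro r hr hrG
  by_contra hcon
  rw [not_or] at hcon
  obtain ⟨hrp, hr2⟩ := hcon
  have hrf : Fact r.Prime := ⟨hr⟩
  -- all proper subgroups are solvable
  have hsub : ∀ H : Subgroup G, H ≠ ⊤ → Group.IsSolvable H := by
    intro H hH
    have hlt : Nat.card H < n := by
      rw [← hn, ← H.card_mul_index]
      exact lt_mul_of_one_lt_right Nat.card_pos (Subgroup.one_lt_index_of_ne_top hH)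
    by_cases h2 : 2 ∣ Nat.card H
    · by_cases h3 : p ∣ Nat.card H
      · have hfac : (Nat.card H).factorization 2 ≤ (Nat.card G).factorization 2 :=
          (Nat.factorization_le_iff_dvd Nat.card_pos.ne' Nat.card_pos.ne').mpr
            (Subgroup.card_subgroup_dvd_card H) 2
        have hl : 2 ^ (Nat.card H).factorization 2 - 1 < p ∨
            (p = 2 ^ (Nat.card H).factorization 2 - 1 ∧ ∀ P : Sylow p H, IsMulCommutative P) := by
          rcases lt_or_eq_of_le hfac with h4 | h4
          · left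
            have h5 : 2 ^ (Nat.card H).factorization 2 < 2 ^ (Nat.card G).factorization 2 :=
              Nat.pow_lt_pow_right (by norm_num) h4
            have h6 : 1 ≤ 2 ^ (Nat.card H).factorization 2 := Nat.one_le_two_pow
            omega
          · right
            refine ⟨by rw [h4]; exact hpe, fun P => ?_⟩
            obtain ⟨S⟩ := (inferInstance : Nonempty (Sylow p G))
            have h5 := H499.DihSub.comm_of_isPGroup S (hPab S) ((P : Subgroup H).map H.subtype)
              (P.2.map _)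
            refine ⟨⟨fun a b => Subtype.ext (Subtype.ext ?_)⟩⟩
            exact h5 _ ⟨a, a.2, rfl⟩ _ ⟨b, b.2, rfl⟩
        have h7 := ih _ hlt H rfl (hM.subgroup H) h3 h2 hl
        obtain ⟨a, b, hab⟩ := eq_pow_mul_pow hp Nat.card_pos.ne' h7
        exact S0144.result p 2 a b hp Nat.prime_two hab
      · have h4 := hM H h3 h2
        have := h4.isNilpotent
        infer_instance
    · exact S0205.result (Nat.odd_iff.mpr (by omega))
  by_cases hex : ∃ N : Subgroup G, N.Normal ∧ N ≠ ⊥ ∧ N ≠ ⊤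
  · obtain ⟨N, hN, hN1, hN2⟩ := hex
    obtain ⟨s, V, hs, hV, hV1, hVs⟩ := S4016.exists_normal_pgroup N hN1 (hsub N hN2)
    have hsf : Fact s.Prime := ⟨hs⟩
    obtain ⟨j, hj⟩ := IsPGroup.iff_card.mp hVs
    by_cases hsp : s = p
    · subst hsp
      have hlt : Nat.card (G ⧸ V) < n := by
        rw [← hn, ← V.card_mul_index]
        exact lt_mul_of_one_lt_left (Nat.pos_of_ne_zero Subgroup.index_ne_zero_of_finite)
          (Subgroup.one_lt_card_iff_ne_bot V |>.mpr hV1)
      have hMq := hM.quotient V hVs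
      have hcq : Nat.card (G ⧸ V) * s ^ j = Nat.card G := by
        rw [← hj, mul_comm]; exact V.card_mul_index
      have hdiv : ∀ t : ℕ, t.Prime → t ≠ s → t ∣ Nat.card G → t ∣ Nat.card (G ⧸ V) := by
        intro t ht' hts htG
        rw [← hcq, ht'.dvd_mul] at htG
        rcases htG with h1 | h1
        · exact h1
        · exact absurd ((Nat.prime_dvd_prime_iff_eq ht' hs).mp (ht'.dvd_of_dvd_pow h1)) hts
      have h2q : 2 ∣ Nat.card (G ⧸ V) := hdiv 2 Nat.prime_two (Ne.symm hpq) hqG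
      have hrq : r ∣ Nat.card (G ⧸ V) := hdiv r hr hrp hrG
      by_cases hsq' : s ∣ Nat.card (G ⧸ V)
      · have hfac : (Nat.card (G ⧸ V)).factorization 2 = (Nat.card G).factorization 2 := by
          rw [← hcq, Nat.factorization_mul (Nat.card_pos.ne') (pow_ne_zero _ hs.ne_zero),
            Nat.Prime.factorization_pow hs]
          simp [hpq]
        have hab2 : ∀ P : Sylow s (G ⧸ V), IsMulCommutative P := by
          intro P
          obtain ⟨S, rfl⟩ := Sylow.mapSurjective_surjective (QuotientGroup.mk'_surjective V) s P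
          have := hPab S
          refine ⟨⟨?_⟩⟩
          rintro ⟨_, a, ha, rfl⟩ ⟨_, b, hb, rfl⟩
          apply Subtype.ext
          change (QuotientGroup.mk' V) a * (QuotientGroup.mk' V) b =
            (QuotientGroup.mk' V) b * (QuotientGroup.mk' V) a
          rw [← map_mul, ← map_mul]
          have : a * b = b * a := congrArg Subtype.val ((hPab S).is_comm.comm ⟨a, ha⟩ ⟨b, hb⟩)
          rw [this]
        rcases ih _ hlt (G ⧸ V) rfl hMq hsq' h2q (Or.inr ⟨by rw [hfac]; exact hpe, hab2⟩) r hr hrq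
          with h1 | h1
        · exact hrp h1
        · exact hr2 h1
      · have h3 := hMq ⊤ (by rwa [Subgroup.card_top]) (by rwa [Subgroup.card_top])
        obtain ⟨i, hi⟩ := IsPGroup.iff_card.mp h3
        rw [Subgroup.card_top] at hi
        rw [hi] at hrq
        exact hr2 ((Nat.prime_dvd_prime_iff_eq hr Nat.prime_two).mp (hr.dvd_of_dvd_pow hrq))
    · by_cases hs2 : s = 2
      · subst hs2
        obtain ⟨x, hx⟩ := exists_prime_orderOf_dvd_card' r hrG
        have hbot := hM.false_of hp Nat.prime_two (R := zpowers x) (Q := V)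
          (Or.inl (by rw [Subgroup.normalizer_eq_top]; exact le_top))
          (by
            rcases j with _ | j
            · rw [pow_zero] at hj
              exact absurd (Subgroup.card_eq_one.mp hj) hV1
            · rw [hj]; exact dvd_pow_self 2 (Nat.succ_ne_zero j))
          (by rw [hj]; exact fun h1 => hpq ((Nat.prime_dvd_prime_iff_eq hp hs).mp
                (hp.dvd_of_dvd_pow h1)))
          (by rw [Nat.card_zpowers, hx]
              exact fun h1 => hrp ((Nat.prime_dvd_prime_iff_eq hp hr).mp h1).symm)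
          (by rw [Nat.card_zpowers, hx]
              exact fun h1 => hr2 ((Nat.prime_dvd_prime_iff_eq hq hr).mp h1).symm)
        rw [zpowers_eq_bot] at hbot
        rw [hbot, orderOf_one] at hx
        exact hr.one_lt.ne hx
      · exact hV1 (hM.false_of hp Nat.prime_two (R := V) (Q := Q)
          (Or.inr (by rw [Subgroup.normalizer_eq_top]; exact le_top)) hQ1
          (by rw [hQcard]; exact fun h1 => hpq ((Nat.prime_dvd_prime_iff_eq hp hq).mp
                (hp.dvd_of_dvd_pow h1)))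
          (by rw [hj]
              exact fun h1 => hsp ((Nat.prime_dvd_prime_iff_eq hp hs).mp (hp.dvd_of_dvd_pow h1)).symm)
          (by rw [hj]
              exact fun h1 => hs2 ((Nat.prime_dvd_prime_iff_eq hq hs).mp (hq.dvd_of_dvd_pow h1)).symm))
  · push Not at hex
    have hnt : Nontrivial G := ⟨⟨t, 1, ht1⟩⟩
    have hsimple : IsSimpleGroup G := ⟨fun N hN => by
      by_cases h1 : N = ⊥
      · exact Or.inl h1
      · exact Or.inr (hex N hN h1)⟩
    have hnc : ¬ IsMulCommutative G := fun hc => hgy (hc.is_comm.comm g y)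
    obtain ⟨H, hH1, -, hH2, hH3⟩ :=
      H499.MinSimp.exists_bad ⟨hsimple, hnc, hsub⟩ Q hQab hp hp2
    exact hH3 (hM H hH1 hH2)

/-- Let G be a finite group and let p and q be distinct primes dividing the order of G, with p odd. Suppose that p divides the order of every proper subgroup of G that is neither a q-group nor of order prime to q. Let q^a be the q-part of the order of G. If p > q^a − 1, or if p = q^a − 1 and the Sylow p-subgroups of G are abelian, then p and q are the only primes dividing the order of G. -/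
theorem result {G : Type*} [Group G] [Finite G]
    {p q : ℕ} (hp : p.Prime) (hq : q.Prime) (hpq : p ≠ q) (hp2 : p ≠ 2)
    (hpG : p ∣ Nat.card G) (hqG : q ∣ Nat.card G)
    (hmix : ∀ H : Subgroup G, H ≠ ⊤ → ¬ IsPGroup q H → q ∣ Nat.card H → p ∣ Nat.card H)
    (hlarge : q ^ (Nat.card G).factorization q - 1 < p ∨
      (p = q ^ (Nat.card G).factorization q - 1 ∧ ∀ P : Sylow p G, IsMulCommutative P)) :
    ∀ r : ℕ, r.Prime → r ∣ Nat.card G → r = p ∨ r = q := by
  refine main hp hq hpq hp2 _ G rfl ?_ hpG hqG hlarge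
  intro H hH1 hH2
  by_contra hH3
  exact hH1 (hmix H (fun h => hH1 (by rw [h, Subgroup.card_top]; exact hpG)) hH3 hH2)

end Cfsg.Agent.S4017
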