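import Cfsg.Statements.S4018
import Cfsg.Agent.H483.SylFour
import Cfsg.Agent.SmallSimple.PSLTwoPart

set_option autoImplicit false
open Cfsg

namespace Cfsg.Agent.S4018

/-- Let G be a finite group with an abelian Sylow 3-subgroup P such that the normalizer of P has order 4·#P, the centralizer C of P has order 2·#P, C meets each of its conjugates by elements outside its normalizer trivially, and every proper subgroup of G of even order has order dividing 4·#P. Then G is not simple. -/
theorem result {G : Type*} [Group G] [Finite G]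
    (P : Sylow 3 G) (hab : IsMulCommutative P)
    (hN : Nat.card (Subgroup.normalizer ((P : Subgroup G) : Set G)) = 4 * Nat.card P)
    (hC : Nat.card (Subgroup.centralizer (P : Set G)) = 2 * Nat.card P)
    (hTI : Cfsg.IsTISubset (Subgroup.centralizer (P : Set G) : Set G))
    (heven : ∀ H : Subgroup G, H ≠ ⊤ → 2 ∣ Nat.card H → Nat.card H ∣ 4 * Nat.card P) :
    ¬ IsSimpleGroup G := by
  intro hsimple
  obtain ⟨a, ha⟩ := P.isPGroup'.exists_card_eq
  have hP0 : 0 < Nat.card P := Nat.card_pos
  have hNdvd : 4 * Nat.card P ∣ Nat.card G := hN ▸ Subgroup.card_subgroup_dvd_card _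
  have h2G : Even (Nat.card G) := by
    rw [even_iff_two_dvd]
    exact (Dvd.intro (2 * Nat.card P) (by ring)).trans hNdvd
  have hna : ¬ IsMulCommutative G := by
    intro hc
    have hcomm : ∀ x y : G, x * y = y * x := fun x y => hc.is_comm.comm x y
    have hprime : (Nat.card G).Prime := by
      let _ : CommGroup G := { (inferInstance : Group G) with mul_comm := hcomm }
      exact IsSimpleGroup.prime_card
    have h4 : 4 ∣ Nat.card G := (Dvd.intro _ rfl).trans hNdvd
    have h22 : (2 : ℕ) ∣ Nat.card G := h2G.two_dvd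
    have := (Nat.prime_dvd_prime_iff_eq Nat.prime_two hprime).1 h22
    rw [← this] at h4
    omega
  -- `8` does not divide the order of `G`
  have h8 : ¬ 8 ∣ Nat.card G := by
    intro h8
    obtain ⟨T⟩ := (inferInstance : Nonempty (Sylow 2 G))
    have hT8 : 8 ∣ Nat.card T :=
      T.pow_dvd_card_of_pow_dvd_card (n := 3) h8
    have hTtop : (T : Subgroup G) ≠ ⊤ := by
      intro h
      apply hna
      have hpG : IsPGroup 2 G := by
        have h1 := T.isPGroup'
        rw [h] at h1
        exact h1.of_equiv Subgroup.topEquiv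
      have hnil : Group.IsNilpotent G := hpG.isNilpotent
      have hs : Group.IsSolvable G := inferInstance
      exact ⟨⟨IsSimpleGroup.comm_iff_isSolvable.mpr hs⟩⟩
    have h1 := heven T hTtop ((by norm_num : (2 : ℕ) ∣ 8).trans hT8)
    have h2 : 8 ∣ 4 * 3 ^ a := by
      rw [← ha]
      exact hT8.trans h1
    have h3 : 2 ∣ 3 ^ a := by
      have h4 : 4 * 2 ∣ 4 * 3 ^ a := by simpa using h2
      exact Nat.dvd_of_mul_dvd_mul_left (by norm_num) h4
    have h5 : 2 ∣ 3 := Nat.Prime.dvd_of_dvd_pow Nat.prime_two h3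
    omega
  obtain ⟨F, i1, i2, hodd, h3, ⟨e⟩⟩ := Cfsg.Agent.H483.SylFour.exists_psl hna h2G h8
  obtain ⟨K, hK⟩ := Cfsg.Agent.H483.SylFour.exists_card_sub_one hodd h3 e
  have hcard : 2 * Nat.card G = Fintype.card F * (Fintype.card F ^ 2 - 1) := by
    rw [Nat.card_congr e.toEquiv]
    exact Cfsg.Agent.SmallSimple.PSLTwoPart.card_psl_two_odd hodd
  generalize hq : Fintype.card F = q at *
  obtain ⟨k, rfl⟩ := hodd
  have hk2 : 2 ≤ k := by omega
  have hcard2 : Nat.card G = (2 * k + 1) * (2 * (k * (k + 1))) := by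
    have h1 : (2 * k + 1) ^ 2 - 1 = 4 * (k * (k + 1)) := by
      have : (2 * k + 1) ^ 2 = 4 * (k * (k + 1)) + 1 := by ring
      omega
    rw [h1] at hcard
    have h2 : 2 * Nat.card G = 2 * ((2 * k + 1) * (2 * (k * (k + 1)))) := by
      rw [hcard]; ring
    omega
  have h7 : 2 * k + 1 ≠ 7 := by
    intro h
    have hk3 : k = 3 := by omega
    subst hk3
    apply h8
    rw [hcard2]
    norm_num
  have h9 : 2 * k + 1 ≠ 9 := by
    intro h
    have hk4 : k = 4 := by omega
    subst hk4
    apply h8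
    rw [hcard2]
    norm_num
  obtain ⟨L, hL⟩ := Cfsg.Agent.H483.SylFour.exists_card_add_one (F := F) (by rw [hq]; exact ⟨k, rfl⟩)
    (by rw [hq]; exact h3) (by rw [hq]; exact h7) (by rw [hq]; exact h9) e
  rw [hq] at hL
  have hbig : 2 * k + 2 < Nat.card G := by
    rw [hcard2]
    nlinarith [Nat.mul_le_mul hk2 hk2]
  have hKtop : K ≠ ⊤ := by
    rintro rfl
    rw [Subgroup.card_top] at hK
    omega
  have hLtop : L ≠ ⊤ := by
    rintro rfl
    rw [Subgroup.card_top] at hL
    omega
  have hK4 := heven K hKtop (by rw [hK]; exact ⟨k, by omega⟩)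
  have hL4 := heven L hLtop (by rw [hL]; exact ⟨k + 1, by omega⟩)
  rw [hK, ha] at hK4
  rw [hL, ha] at hL4
  have hcop : ∀ n : ℕ, ¬ 3 ∣ n → n ∣ 4 * 3 ^ a → n ∣ 4 := by
    intro n hn hd
    refine Nat.Coprime.dvd_of_dvd_mul_right ?_ hd
    exact (Nat.Coprime.pow_left a ((Nat.Prime.coprime_iff_not_dvd Nat.prime_three).2 hn)).symm
  have hk5 : k = 2 := by
    by_cases h3k : 3 ∣ 2 * k + 1 - 1
    · have h1 : ¬ 3 ∣ 2 * k + 1 + 1 := by omega
      have h2 := Nat.le_of_dvd (by norm_num) (hcop _ h1 hL4)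
      omega
    · have h2 := Nat.le_of_dvd (by norm_num) (hcop _ h3k hK4)
      omega
  subst hk5
  have h60 : Nat.card G = 60 := by rw [hcard2]
  haveI : Fact (Nat.Prime 3) := ⟨Nat.prime_three⟩
  have hP3 : Nat.card P = 3 := by
    have h1 : 3 ∣ Nat.card P := P.dvd_card_of_dvd_card (by rw [h60]; norm_num)
    have h2 : 4 * Nat.card P ∣ 60 := h60 ▸ hNdvd
    rw [ha] at h1 h2 ⊢
    have h3' : 3 ^ a ∣ 15 := by
      have : 4 * 3 ^ a ∣ 4 * 15 := h2
      exact Nat.dvd_of_mul_dvd_mul_left (by norm_num) this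
    rcases a with _ | _ | a
    · norm_num at h1
    · norm_num
    · exfalso
      have : 9 ∣ 15 := by
        refine Dvd.dvd.trans ?_ h3'
        exact ⟨3 ^ a, by ring⟩
      norm_num at this
  have hidx : Nat.card (Sylow 3 G) = 5 := by
    have h1 := P.card_eq_index_normalizer
    have h2 := (Subgroup.normalizer ((P : Subgroup G) : Set G)).card_mul_index
    rw [hN, hP3, h60] at h2
    have h4 : Nat.card (Sylow 3 G) = (Subgroup.normalizer ((P : Subgroup G) : Set G)).index := h1
    omega
  have hmod := card_sylow_modEq_one 3 G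
  rw [hidx] at hmod
  exact absurd hmod (by decide)

end Cfsg.Agent.S4018
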