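import Cfsg.Statements.S4021
import Cfsg.Agent.H500.AllList
import Cfsg.Agent.Walter.StepAll

set_option autoImplicit false
open Cfsg

namespace Cfsg.Agent.S4021

/-- The order of the field in the linear case. -/
theorem field_cases {X F : Type*} [Group X] [Finite X] [Field F] [Fintype F] (hC : H500.AllConj X)
    (hF : Fintype.card F % 8 = 3 ∨ Fintype.card F % 8 = 5)
    (h : Nonempty (X ≃* Matrix.ProjectiveSpecialLinearGroup (Fin 2) F) ∨
      Nonempty (X ≃* Matrix.SpecialLinearGroup (Fin 2) F)) : Fintype.card F = 3 ∨ Fintype.card F = 5 := by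
  have h1 : H500.AllConj (Matrix.ProjectiveSpecialLinearGroup (Fin 2) F) := by
    rcases h with ⟨⟨e⟩⟩ | ⟨⟨e⟩⟩
    · exact hC.congr e
    · exact (hC.congr e).of_surjective
        (QuotientGroup.mk' (Subgroup.center (Matrix.SpecialLinearGroup (Fin 2) F))) (QuotientGroup.mk'_surjective _)
  have h2 := H500.AllConj.psl hF h1
  omega

/-- The power `p ^ 3` is congruent to `p` modulo eight. -/
theorem cube_mod {p : ℕ} (hp : p % 8 = 3 ∨ p % 8 = 5) : p ^ 3 % 8 = 3 ∨ p ^ 3 % 8 = 5 := by
  rw [Nat.pow_mod]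
  rcases hp with h | h <;> rw [h]
  · left; rfl
  · right; rfl

/-- Let G be a finite group in which any two subgroups of the same order are conjugate. Then G/O(G), O(G) the largest normal subgroup of odd order, is one of: a cyclic 2-group; the one-dimensional affine group over the field with 8 elements; the one-dimensional semi-affine group over the field with 8 or with 32 elements; PSL₂(8); the full automorphism group of PSL₂(32); the alternating group of degree 4 or 5; SL₂(3); or SL₂(5). -/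
theorem result {G : Type*} [Group G] [Finite G]
    (hC : ∀ H K : Subgroup G, Nat.card H = Nat.card K → ∃ g : G, K = H.map (MulAut.conj g).toMonoidHom) :
    (IsCyclic (G ⧸ Cfsg.oddCore G) ∧ IsPGroup 2 (G ⧸ Cfsg.oddCore G)) ∨
    Nonempty (G ⧸ Cfsg.oddCore G ≃* Cfsg.affineGroup (GaloisField 2 3)) ∨
    Nonempty (G ⧸ Cfsg.oddCore G ≃* Cfsg.semiaffineGroup (GaloisField 2 3)) ∨
    Nonempty (G ⧸ Cfsg.oddCore G ≃* Cfsg.semiaffineGroup (GaloisField 2 5)) ∨
    Nonempty (G ⧸ Cfsg.oddCore G ≃* Matrix.ProjectiveSpecialLinearGroup (Fin 2) (GaloisField 2 3)) ∨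
    Nonempty (G ⧸ Cfsg.oddCore G ≃* MulAut (Matrix.ProjectiveSpecialLinearGroup (Fin 2) (GaloisField 2 5))) ∨
    Nonempty (G ⧸ Cfsg.oddCore G ≃* alternatingGroup (Fin 4)) ∨
    Nonempty (G ⧸ Cfsg.oddCore G ≃* alternatingGroup (Fin 5)) ∨
    Nonempty (G ⧸ Cfsg.oddCore G ≃* Matrix.SpecialLinearGroup (Fin 2) (ZMod 3)) ∨
    Nonempty (G ⧸ Cfsg.oddCore G ≃* Matrix.SpecialLinearGroup (Fin 2) (ZMod 5)) := by
  have hn : (Cfsg.oddCore G).Normal := Lib.Cores.pPrimeCore_normal 2
  have hCG : H500.AllConj G := hC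
  have hCX : H500.AllConj (G ⧸ Cfsg.oddCore G) :=
    hCG.of_surjective (QuotientGroup.mk' (Cfsg.oddCore G)) (QuotientGroup.mk'_surjective _)
  have hO : Cfsg.oddCore (G ⧸ Cfsg.oddCore G) = ⊥ := Lib.Cores.pPrimeCore_quotient_pPrimeCore 2
  rcases H500.main_oddFree Walter.Final.centThm Walter.Final.reeThm Walter.StepAll.step
    (fun p _ => hCX.eqConj p) hO with h | h | h | h | h | h | h | ⟨p, hp, hp8, h⟩
  · exact Or.inl h
  · exact Or.inr (Or.inl h)
  · exact Or.inr (Or.inr (Or.inl h))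
  · exact Or.inr (Or.inr (Or.inr (Or.inl h)))
  · exact (hCX.not_isJR h.2).elim
  · exact Or.inr (Or.inr (Or.inr (Or.inr (Or.inl h))))
  · exact Or.inr (Or.inr (Or.inr (Or.inr (Or.inr (Or.inl h)))))
  · have hfin : Fintype (GaloisField p 3) := Fintype.ofFinite _
    have hcard3 : Fintype.card (GaloisField p 3) = p ^ 3 := by
      rw [← Nat.card_eq_fintype_card, GaloisField.card p 3 (by norm_num)]
    have hno : ¬ (p ^ 3 = 3 ∨ p ^ 3 = 5) := by
      have h3 : 3 ≤ p := by omega
      have h4 : 3 ^ 3 ≤ p ^ 3 := Nat.pow_le_pow_left h3 3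
      omega
    have hcard1 : Fintype.card (ZMod p) = p := ZMod.card p
    rcases h with h | h | h | h
    · have h5 := field_cases (F := ZMod p) hCX (by rw [hcard1]; exact hp8) (Or.inl h)
      rw [hcard1] at h5
      obtain ⟨e⟩ := h
      rcases h5 with rfl | rfl
      · obtain ⟨e1⟩ := S0251.result (F := ZMod 3) hcard1
        exact Or.inr (Or.inr (Or.inr (Or.inr (Or.inr (Or.inr (Or.inl ⟨e.trans e1⟩))))))
      · obtain ⟨e1⟩ := S0253.result (F := ZMod 5) hcard1
        exact Or.inr (Or.inr (Or.inr (Or.inr (Or.inr (Or.inr (Or.inr (Or.inl ⟨e.trans e1⟩)))))))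
    · have h5 := field_cases (F := GaloisField p 3) hCX (by rw [hcard3]; exact cube_mod hp8) (Or.inl h)
      rw [hcard3] at h5
      exact (hno h5).elim
    · have h5 := field_cases (F := ZMod p) hCX (by rw [hcard1]; exact hp8) (Or.inr h)
      rw [hcard1] at h5
      obtain ⟨e⟩ := h
      rcases h5 with rfl | rfl
      · exact Or.inr (Or.inr (Or.inr (Or.inr (Or.inr (Or.inr (Or.inr (Or.inr (Or.inl ⟨e⟩))))))))
      · exact Or.inr (Or.inr (Or.inr (Or.inr (Or.inr (Or.inr (Or.inr (Or.inr (Or.inr ⟨e⟩))))))))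
    · have h5 := field_cases (F := GaloisField p 3) hCX (by rw [hcard3]; exact cube_mod hp8) (Or.inr h)
      rw [hcard3] at h5
      exact (hno h5).elim

end Cfsg.Agent.S4021
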