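import Cfsg.Statements.S4030
import Cfsg.Agent.H502.PiIrr
import Cfsg.Agent.S4028
import Cfsg.Agent.S4029
import Cfsg.Agent.S0013
import Cfsg.Agent.S1137
import Cfsg.Agent.S1138
import Cfsg.Agent.S1141
import Cfsg.Agent.S0222
import Cfsg.Agent.S0506
import Cfsg.Agent.S1169
import Cfsg.Agent.S0252
import Cfsg.Agent.S0253
import Cfsg.Agent.ClassicalGeometry.PSL2Basic
import Cfsg.Agent.LieClassical.Order72

set_option autoImplicit false
open Cfsg

namespace Cfsg.Agent.S4030

open Subgroup

/-- `PSL₂(F)` is not simple non-abelian for `#F = 3`. -/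
theorem ne_three {G : Type*} [Group G] [Finite G] [IsSimpleGroup G] (hna : ¬ IsMulCommutative G)
    {F : Type} [Field F] [Fintype F] (hF : Fintype.card F = 3)
    (e : G ≃* Matrix.ProjectiveSpecialLinearGroup (Fin 2) F) : False := by
  have hodd : Odd (Fintype.card F) := by rw [hF]; decide
  have h1 := Cfsg.Agent.ClassicalGeometry.PSL2Basic.card_PSL2_odd (F := F) hodd
  rw [hF] at h1
  have h2 : Nat.card G = 12 := by
    rw [Nat.card_congr e.toEquiv]
    omega
  have hsol : Group.IsSolvable G :=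
    Cfsg.Agent.LieClassical.Order72.isSolvable_of_card_dvd (by rw [h2]; norm_num)
  exact hna ⟨⟨IsSimpleGroup.comm_iff_isSolvable.mpr hsol⟩⟩

/-- `PSU₃(2^n)`, `n ≥ 2`, does not have the property. -/
theorem psu_false {F : Type} [Field F] [Fintype F] {q : ℕ} (hF : Fintype.card F = q ^ 2)
    (hq : Even q) (h4 : 4 ≤ q) [Finite (Cfsg.PSU 3 F q)]
    (hirr : ∀ x : Cfsg.PSU 3 F q, (∀ r : ℕ, r.Prime → r ∣ orderOf x → r = 2) →
      normalizer ((zpowers x : Subgroup (Cfsg.PSU 3 F q)) : Set (Cfsg.PSU 3 F q)) ≤ centralizer {x}) :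
    False := by
  have : Fact (Nat.Prime 2) := ⟨Nat.prime_two⟩
  -- `q` is a power of two
  obtain ⟨n, hn⟩ : ∃ n : ℕ, q = 2 ^ n := by
    obtain ⟨p, hp⟩ := CharP.exists F
    obtain ⟨m, hpp, hm⟩ := FiniteField.card F p
    have h2 : 2 ∣ p ^ (m : ℕ) := by
      rw [← hm, hF]
      exact (hq.two_dvd).trans (dvd_pow_self q two_ne_zero)
    have hp2 : p = 2 := ((Nat.prime_dvd_prime_iff_eq Nat.prime_two hpp).mp
      (Nat.prime_two.dvd_of_dvd_pow h2)).symm
    have h3 : q ∣ 2 ^ (m : ℕ) := by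
      rw [← hp2, ← hm, hF]
      exact dvd_pow_self q two_ne_zero
    obtain ⟨k, -, hk⟩ := (Nat.dvd_prime_pow Nat.prime_two).mp h3
    exact ⟨k, hk⟩
  subst hn
  have hn2 : 2 ≤ n := by
    by_contra hcon
    have : n = 0 ∨ n = 1 := by omega
    rcases this with rfl | rfl <;> norm_num at h4
  obtain ⟨S⟩ : Nonempty (Sylow 2 (Cfsg.PSU 3 F (2 ^ n))) := inferInstance
  obtain ⟨hc1, hc2, hS⟩ := Cfsg.Agent.S1141.result hn2 hF S
  obtain ⟨hsq, hcomm, -, -⟩ := Cfsg.Agent.S1138.result hS
  obtain ⟨hinv, -⟩ := Cfsg.Agent.S1137.result hS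
  have hPS : IsPGroup 2 (S : Subgroup (Cfsg.PSU 3 F (2 ^ n))) := S.isPGroup'
  have hirrS := (Cfsg.Agent.S4028.result S).mp hirr
  obtain ⟨hb, -⟩ := Cfsg.Agent.S4029.result hPS hirrS
  set T := ↥(S : Subgroup (Cfsg.PSU 3 F (2 ^ n))) with hT
  have : Finite (ConjClasses T) := Quotient.finite _
  -- the Frattini subgroup lies in the centre
  have hfr : frattini T ≤ center T := by
    refine Cfsg.Agent.S0013.result 2 hPS (center T) ?_ ?_
    · rw [commutator_def, commutator_le]
      intro x _ y _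
      have := hcomm x⁻¹ y⁻¹
      simpa [commutatorElement_def] using this
    · intro x
      rw [pow_two]
      exact hsq x
  -- lower bound
  have h1 : (2 ^ n) ^ 2 ≤ Nat.card (T ⧸ frattini T) := by
    have h2 : (center T).index ∣ (frattini T).index := index_dvd_of_le hfr
    have h3 : (center T).index * Nat.card (center T) = Nat.card T := by
      rw [mul_comm]; exact Subgroup.card_mul_index _
    have h4 : (center T).index = (2 ^ n) ^ 2 := by
      rw [hc2] at h3
      have h5 : Nat.card T = (2 ^ n) ^ 3 := hc1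
      rw [h5] at h3
      have h6 : 0 < 2 ^ n := by positivity
      exact Nat.eq_of_mul_eq_mul_right h6 (by rw [h3]; ring)
    rw [h4] at h2
    exact Nat.le_of_dvd Nat.card_pos h2
  -- upper bound
  have h2 : Nat.card {c : ConjClasses T // ∃ y : T, ConjClasses.mk y = c ∧ orderOf y = 2} + 1 ≤
      2 ^ n := by
    refine le_trans ?_ hc2.le
    rw [← Finite.card_option]
    let f : Option {c : ConjClasses T // ∃ y : T, ConjClasses.mk y = c ∧ orderOf y = 2} →
        center T := fun c =>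
      match c with
      | none => 1
      | some c => ⟨c.2.choose, by
          have h3 := c.2.choose_spec.2
          have h4 := (orderOf_eq_prime_iff.mp h3)
          refine ((hinv _).mp ⟨h4.2, ?_⟩).1
          rw [← pow_two]; exact h4.1⟩
    refine Nat.card_le_card_of_injective f ?_
    intro c d hcd
    match c, d, hcd with
    | none, none, _ => rfl
    | none, some d, hcd =>
      exfalso
      have h4 : (1 : T) = d.2.choose := congrArg Subtype.val hcd
      have h5 := d.2.choose_spec.2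
      rw [← h4, orderOf_one] at h5
      exact absurd h5 (by norm_num)
    | some c, none, hcd =>
      exfalso
      have h4 : c.2.choose = (1 : T) := congrArg Subtype.val hcd
      have h5 := c.2.choose_spec.2
      rw [h4, orderOf_one] at h5
      exact absurd h5 (by norm_num)
    | some c, some d, hcd =>
      have h4 : c.2.choose = d.2.choose := congrArg Subtype.val hcd
      have h5 := c.2.choose_spec.1
      rw [h4, d.2.choose_spec.1] at h5
      exact congrArg some (Subtype.ext h5.symm)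
  have h3 : (2 ^ n) ^ 2 ≤ 2 ^ n := h1.trans (hb.trans h2)
  have h5 : (2 ^ n) * (2 ^ n) ≤ 2 ^ n := by rw [← pow_two]; exact h3
  nlinarith

/-- Let G be a finite non-abelian simple group in which N_G(⟨x⟩) = C_G(x) for every 2-element x. Then G is isomorphic to PSL₂(q) for a prime power q ≥ 4 with q ≡ 0, 3 or 5 (mod 8), or G is simple of the order of a Suzuki group, of a Ree group in characteristic 3, or of order 175560. -/
theorem result {G : Type*} [Group G] [Finite G] [IsSimpleGroup G] (hna : ¬ IsMulCommutative G)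
    (hirr : ∀ x : G, (∀ r : ℕ, r.Prime → r ∣ orderOf x → r = 2) →
      Subgroup.normalizer ((Subgroup.zpowers x : Subgroup G) : Set G) ≤ Subgroup.centralizer {x}) :
    (∃ (F : Type) (_ : Field F) (_ : Fintype F), 4 ≤ Fintype.card F ∧
        (Fintype.card F % 8 = 0 ∨ Fintype.card F % 8 = 3 ∨ Fintype.card F % 8 = 5) ∧
        Nonempty (G ≃* Matrix.ProjectiveSpecialLinearGroup (Fin 2) F)) ∨
    Cfsg.IsSuzuki G ∨ Cfsg.IsRee G ∨ Cfsg.IsJ1 G := by
  have : Fact (Nat.Prime 2) := ⟨Nat.prime_two⟩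
  obtain ⟨S⟩ : Nonempty (Sylow 2 G) := inferInstance
  have hSp : IsPGroup 2 (S : Subgroup G) := S.isPGroup'
  -- PSL₂(2^a)
  have key2 : ∀ a : ℕ, 2 ≤ a → ∀ (F : Type) (_ : Field F) (_ : Fintype F), Fintype.card F = 2 ^ a →
      Nonempty (G ≃* Matrix.ProjectiveSpecialLinearGroup (Fin 2) F) →
      (∃ (F : Type) (_ : Field F) (_ : Fintype F), 4 ≤ Fintype.card F ∧
        (Fintype.card F % 8 = 0 ∨ Fintype.card F % 8 = 3 ∨ Fintype.card F % 8 = 5) ∧
        Nonempty (G ≃* Matrix.ProjectiveSpecialLinearGroup (Fin 2) F)) := by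
    intro a ha F i1 i2 hF ⟨e⟩
    rcases Nat.lt_or_ge 2 a with h | h
    · refine ⟨F, i1, i2, ?_, Or.inl ?_, ⟨e⟩⟩
      · rw [hF]
        calc 4 = 2 ^ 2 := by norm_num
          _ ≤ 2 ^ a := Nat.pow_le_pow_right (by norm_num) ha
      · rw [hF]
        obtain ⟨k, rfl⟩ := Nat.exists_eq_add_of_le (show 3 ≤ a from h)
        rw [pow_add]
        omega
    · have h2 : a = 2 := le_antisymm h ha
      subst h2
      obtain ⟨e1⟩ := Cfsg.Agent.S0252.result (F := F) (by rw [hF]; norm_num)
      obtain ⟨e2⟩ := Cfsg.Agent.S0253.psl_zmod5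
      have : Fact (Nat.Prime 5) := ⟨by norm_num⟩
      refine ⟨ZMod 5, inferInstance, inferInstance, ?_, Or.inr (Or.inr ?_), ⟨(e.trans e1).trans e2.symm⟩⟩
      · rw [ZMod.card]; norm_num
      · rw [ZMod.card]
  -- the abelian case
  have hab : IsMulCommutative (S : Subgroup G) →
      (∃ (F : Type) (_ : Field F) (_ : Fintype F), 4 ≤ Fintype.card F ∧
        (Fintype.card F % 8 = 0 ∨ Fintype.card F % 8 = 3 ∨ Fintype.card F % 8 = 5) ∧
        Nonempty (G ≃* Matrix.ProjectiveSpecialLinearGroup (Fin 2) F)) ∨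
      Cfsg.IsSuzuki G ∨ Cfsg.IsRee G ∨ Cfsg.IsJ1 G := by
    intro hS
    rcases Cfsg.Agent.S0506.result hna S hS with ⟨a, ha, F, i1, i2, hF, he⟩ | ⟨F, i1, i2, hF, ⟨e⟩⟩ | h | h
    · exact Or.inl (key2 a ha F i1 i2 hF he)
    · left
      refine ⟨F, i1, i2, ?_, Or.inr hF, ⟨e⟩⟩
      by_contra hcon
      have h3 : Fintype.card F = 3 := by
        rcases hF with h | h <;> omega
      exact ne_three hna h3 e
    · exact Or.inr (Or.inr (Or.inl h))
    · exact Or.inr (Or.inr (Or.inr h))
  by_cases hSbot : (S : Subgroup G) = ⊥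
  · refine hab ?_
    rw [hSbot]
    infer_instance
  -- the subgroup of elements of order at most two
  let A : Subgroup G :=
    { carrier := {x | x ∈ S ∧ x * x = 1}
      one_mem' := ⟨one_mem _, one_mul 1⟩
      mul_mem' := by
        rintro a b ⟨ha, ha2⟩ ⟨hb, hb2⟩
        refine ⟨mul_mem ha hb, ?_⟩
        have h1 := H502.comm_of_involutions hirr hSp ha hb ha2 hb2
        calc a * b * (a * b) = a * (b * a) * b := by group
          _ = a * (a * b) * b := by rw [h1]
          _ = (a * a) * (b * b) := by group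
          _ = 1 := by rw [ha2, hb2, one_mul]
      inv_mem' := by
        rintro a ⟨ha, ha2⟩
        refine ⟨inv_mem ha, ?_⟩
        rw [← mul_inv_rev, ha2, inv_one] }
  have hA : A ≠ ⊥ := by
    have hnt : Nontrivial (S : Subgroup G) := (Subgroup.nontrivial_iff_ne_bot _).mpr hSbot
    have h2 : 2 ∣ Nat.card (S : Subgroup G) := by
      obtain ⟨k, hk⟩ := hSp.exists_card_eq
      rw [hk]
      refine dvd_pow_self 2 ?_
      rintro rfl
      rw [pow_zero] at hk
      exact hSbot (Subgroup.eq_bot_of_card_eq _ hk)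
    obtain ⟨x, hx⟩ := exists_prime_orderOf_dvd_card' 2 h2
    intro hbot
    have hxA : (x : G) ∈ A := by
      refine ⟨x.2, ?_⟩
      have h3 := (orderOf_eq_prime_iff.mp hx).1
      rw [pow_two] at h3
      exact congrArg Subtype.val h3
    rw [hbot, mem_bot] at hxA
    exact (orderOf_eq_prime_iff.mp hx).2 (Subtype.ext hxA)
  have hAc : IsMulCommutative A := ⟨⟨fun a b => Subtype.ext
    (H502.comm_of_involutions hirr hSp a.2.1 b.2.1 a.2.2 b.2.2)⟩⟩
  have hsc : Cfsg.IsStronglyClosed A (S : Subgroup G) := by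
    refine ⟨fun x hx => hx.1, fun x hx g hg => ⟨hg, ?_⟩⟩
    have h1 : x * x = 1 := hx.2
    calc g * x * g⁻¹ * (g * x * g⁻¹) = g * (x * x) * g⁻¹ := by group
      _ = 1 := by rw [h1]; group
  rcases Cfsg.Agent.S1169.result S A hA hAc hsc with h | ⟨H, hH⟩
  · exact hab h
  · have hnc : ∃ a b : G, a * b ≠ b * a := by
      by_contra hcon
      push Not at hcon
      exact hna ⟨⟨hcon⟩⟩
    rcases Cfsg.Agent.S0222.result hnc H hH with ⟨F, i1, i2, hc, h4, he⟩ | h | ⟨F, i1, i2, q, hF, hq, h4, ⟨e⟩⟩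
    · left
      obtain ⟨m, -, hm⟩ := FiniteField.card F 2
      have hm2 : 2 ≤ (m : ℕ) := by
        by_contra hcon
        have h1 : (m : ℕ) = 0 ∨ (m : ℕ) = 1 := by omega
        rw [hm] at h4
        rcases h1 with h1 | h1 <;> rw [h1] at h4 <;> norm_num at h4
      exact key2 m hm2 F i1 i2 hm he
    · exact Or.inr (Or.inl h)
    · exfalso
      have : Finite (Cfsg.PSU 3 F q) := Finite.of_equiv G e.toEquiv
      exact psu_false hF hq h4 (fun x hx => H502.irr_of_mulEquiv e (π := fun r => r = 2) hirr x hx)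

end Cfsg.Agent.S4030
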