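import Cfsg.Statements.S4102
import Cfsg.Agent.S0000
import Cfsg.Agent.H728.DghpKnown

set_option autoImplicit false
open Cfsg

namespace Cfsg.Agent.S4102

/-- Let G be a finite non-abelian simple group. Then there are element orders a and b of G (not necessarily distinct) such that every pair of elements x, y ∈ G with x of order a and y of order b generates a non-solvable subgroup. -/
theorem result {G : Type*} [Group G] [Finite G] [IsSimpleGroup G]
    (hna : ¬ IsMulCommutative G) :
    ∃ a b : ℕ, (∃ x : G, orderOf x = a) ∧ (∃ y : G, orderOf y = b) ∧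
      ∀ x y : G, orderOf x = a → orderOf y = b → ¬ Group.IsSolvable (Subgroup.closure ({x, y} : Set G)) := by
  obtain ⟨r, s, a, b, -, -, -, -, -, hx, hy, h⟩ := Cfsg.Agent.H728.DghpKnown.core_of_known hna Cfsg.Agent.S0000.result
  exact ⟨r ^ a, s ^ b, hx, hy, h⟩

end Cfsg.Agent.S4102
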