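import Cfsg.Statements.S4101
import Cfsg.Agent.S4102
import Cfsg.Agent.H517.Red4101

set_option autoImplicit false
open Cfsg

namespace Cfsg.Agent.S4101

/-- Let G be a finite group such that for all x, y ∈ G there is g ∈ G for which the subgroup generated by x and gyg⁻¹ is solvable. Then G is solvable. -/
theorem result {G : Type*} [Group G] [Finite G]
    (h : ∀ x y : G, ∃ g : G, Group.IsSolvable (Subgroup.closure ({x, g * y * g⁻¹} : Set G))) : Group.IsSolvable G := by
  exact Cfsg.Agent.H517.Red4101.main (fun T _ _ _ hna => Cfsg.Agent.S4102.result hna) (Nat.card G) G le_rfl h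

end Cfsg.Agent.S4101
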