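import Cfsg.Statements.S4109
import Cfsg.Agent.S0000
import Cfsg.Agent.H214.CosetMain
import Cfsg.Agent.H69.CosetLie
import Cfsg.Agent.H69.EqMain

set_option autoImplicit false
open Cfsg

namespace Cfsg.Agent.S4109

open Cfsg.Agent.H69.CosetP Cfsg.Agent.H69.EqMain Cfsg.Agent.H69.EqChief

/-- the automorphism groups of the simple groups -/
theorem core {K : Type*} [Group K] [Finite K] [IsSimpleGroup K] (hna : ∃ x y : K, x * y ≠ y * x) {p : ℕ}
    (hp : p.Prime) {u : MulAut K} (hout : u ∉ (MulAut.conj : K →* MulAut K).range) (hu : PCos p u) :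
    p = 2 ∧ ∃ (F : Type) (_ : Field F) (_ : Fintype F) (l : ℕ), 1 ≤ l ∧ Fintype.card F = 3 ^ 2 ^ l ∧
      Nonempty (K ≃* Matrix.ProjectiveSpecialLinearGroup (Fin 2) F) := by
  have hK : Cfsg.IsKnownSimple' K := Cfsg.Agent.S0000.result
  have hna' : ¬ IsMulCommutative K := by
    intro h
    obtain ⟨x, y, hxy⟩ := hna
    exact hxy (h.is_comm.comm x y)
  have hA : Cfsg.Agent.H214.Coset.AllR p u := by
    refine ⟨hp, hout, fun n => ?_⟩
    obtain ⟨k, hk⟩ := hu n
    obtain ⟨j, -, hj⟩ := (Nat.dvd_prime_pow hp).1 (orderOf_dvd_of_pow_eq_one hk)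
    exact ⟨j, hj⟩
  obtain ⟨r, hr, hL⟩ := Cfsg.Agent.H214.CosetMain.isLie hna' hK hA
  exact lie_core hna hr hL hout hp hu

/-- Let G be a finite group and N a proper non-trivial normal subgroup that is not nilpotent, such that for every x outside N all elements of the coset xN have the same order as x. Then there is a prime p such that every element of G outside N has p-power order (so G/N is a p-group) and, for a Sylow p-subgroup P of G, P ∩ gPg⁻¹ ≤ N for every g outside P; and if N is not solvable then p = 2 and every minimal normal subgroup of a non-solvable chief factor U/V of G with U ≤ N (that is, every simple direct factor of it) is isomorphic to PSL₂(9^m) for some m ≥ 1, m a power of 2. -/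
theorem result {G : Type*} [Group G] [Finite G] (N : Subgroup G) [N.Normal] (hN1 : N ≠ ⊥) (hN2 : N ≠ ⊤)
    (heq : ∀ x : G, x ∉ N → ∀ n ∈ N, orderOf (x * n) = orderOf x)
    (hnil : ¬ Group.IsNilpotent N) :
    ∃ p : ℕ, p.Prime ∧ (∀ x : G, x ∉ N → ∃ k : ℕ, orderOf x = p ^ k) ∧
      (∀ (P : Sylow p G) (g : G), g ∉ (P : Subgroup G) →
        (P : Subgroup G) ⊓ (P : Subgroup G).map (MulAut.conj g).toMonoidHom ≤ N) ∧
      (¬ Group.IsSolvable N → p = 2 ∧
        ∀ (U V : Subgroup G) [U.Normal] [V.Normal], V < U → U ≤ N →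
          (∀ W : Subgroup G, W.Normal → V ≤ W → W ≤ U → W = V ∨ W = U) →
          ¬ Group.IsSolvable (U ⧸ V.subgroupOf U) →
          ∀ L : Subgroup (U ⧸ V.subgroupOf U), L.Normal → L ≠ ⊥ →
            (∀ L' : Subgroup (U ⧸ V.subgroupOf U), L'.Normal → L' ≤ L → L' = ⊥ ∨ L' = L) →
            ∃ (r : ℕ) (F : Type) (_ : Field F) (_ : Fintype F), 0 < r ∧ Fintype.card F = 3 ^ (2 ^ r) ∧
              Nonempty (L ≃* Matrix.ProjectiveSpecialLinearGroup (Fin 2) F)) := by
  obtain ⟨p, hp, hpow⟩ := Cfsg.Agent.H69.EqOrd.exists_prime heq hnil hN2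
  have hpf : Fact p.Prime := ⟨hp⟩
  refine ⟨p, hp, hpow, fun P g hg => Cfsg.Agent.H69.EqOrd.inf_le heq hnil P hg, fun hns => ?_⟩
  have key : ∀ (U V : Subgroup G) [U.Normal] [V.Normal], V < U → U ≤ N →
      (∀ W : Subgroup G, W.Normal → V ≤ W → W ≤ U → W = V ∨ W = U) →
      ¬ Group.IsSolvable (U ⧸ V.subgroupOf U) → ∀ L : Subgroup (U ⧸ V.subgroupOf U), MinN L →
      p = 2 ∧ ∃ (F : Type) (_ : Field F) (_ : Fintype F) (l : ℕ), 1 ≤ l ∧ Fintype.card F = 3 ^ 2 ^ l ∧
        Nonempty (L ≃* Matrix.ProjectiveSpecialLinearGroup (Fin 2) F) := by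
    intro U V _ _ hVU hUN hch hs L hL
    obtain ⟨h1, h2, u, h3, h4⟩ := chief_core hN2 hp hpow U V hVU hUN hch hs hL
    exact core h2 hp h3 h4
  constructor
  · obtain ⟨U, V, hU, hV, hVU, hUN, hch, hs⟩ := exists_chief hns
    obtain ⟨L, hL⟩ := exists_minN hs
    exact (key U V hVU hUN hch hs L hL).1
  · intro U V _ _ hVU hUN hch hs L hLn hL0 hLmin
    obtain ⟨-, F, i1, i2, l, hl, hF, e⟩ := key U V hVU hUN hch hs L ⟨hLn, hL0, hLmin⟩
    exact ⟨l, F, i1, i2, hl, hF, e⟩

end Cfsg.Agent.S4109
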