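import Cfsg.Statements.S4111
import Cfsg.Agent.H520.Solv
import Cfsg.Agent.H520.Nilp

set_option autoImplicit false
open Cfsg

namespace Cfsg.Agent.S4111

/-- Let G be a finite group and α an automorphism of G of order coprime to the order of G, and let I be the set of elements g⁻¹α(g), g ∈ G. If every pair of elements of I generates a solvable subgroup, then the subgroup [G, α] generated by I is solvable; if every pair of elements of I generates a nilpotent subgroup, then [G, α] is nilpotent. -/
theorem result {G : Type*} [Group G] [Finite G] (α : MulAut G) (hα : (orderOf α).Coprime (Nat.card G)) :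
    ((∀ g h : G, Group.IsSolvable (Subgroup.closure ({g⁻¹ * α g, h⁻¹ * α h} : Set G))) →
      Group.IsSolvable (Subgroup.closure {y : G | ∃ g : G, y = g⁻¹ * α g})) ∧
    ((∀ g h : G, Group.IsNilpotent (Subgroup.closure ({g⁻¹ * α g, h⁻¹ * α h} : Set G))) →
      Group.IsNilpotent (Subgroup.closure {y : G | ∃ g : G, y = g⁻¹ * α g})) := by
  refine ⟨fun h => Cfsg.Agent.H520.solv α hα h, fun h => ?_⟩
  refine Cfsg.Agent.H520.nilp_of_solv (fun G _ _ α hα hP => Cfsg.Agent.H520.solv α hα fun g h => ?_) G α hα h
  have h1 := hP g h
  exact inferInstance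

end Cfsg.Agent.S4111
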