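import Cfsg.Statements.S4113

set_option autoImplicit false
open Cfsg

namespace Cfsg.Agent.S4113

/-- Decomposition `g = m * h` from `H ⊔ M = ⊤` with `M` normal. -/
theorem exists_mul {G : Type*} [Group G] (M : Subgroup G) [M.Normal] (H : Subgroup G)
    (hHM : H ⊔ M = ⊤) (g : G) : ∃ m ∈ M, ∃ h ∈ H, g = m * h := by
  have hg : g ∈ M ⊔ H := by rw [sup_comm, hHM]; trivial
  rw [← SetLike.mem_coe, Subgroup.normal_mul] at hg
  obtain ⟨m, hm, h, hh, rfl⟩ := hg
  exact ⟨m, hm, h, hh, rfl⟩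

/-- Let G be a finite group, M ≤ N non-trivial proper normal subgroups, and H a subgroup with HM = G and H ∩ M = 1. Then every element of G outside N acts fixed-point-freely on M (C_G(x) ≤ N for every x ∈ M, x ≠ 1) if and only if H ∩ gHg⁻¹ ≤ H ∩ N for every g outside H, with H proper and non-trivial and H ∩ N proper in H. -/
theorem result {G : Type*} [Group G] [Finite G] (N M : Subgroup G) [N.Normal] [M.Normal] (hMN : M ≤ N) (hM1 : M ≠ ⊥) (hN2 : N ≠ ⊤)
    (H : Subgroup G) (hHM : H ⊔ M = ⊤) (hHM' : H ⊓ M = ⊥) :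
    (∀ x ∈ M, x ≠ 1 → Subgroup.centralizer ({x} : Set G) ≤ N) ↔
      (H ≠ ⊥ ∧ H ≠ ⊤ ∧ H ⊓ N < H ∧ ∀ g : G, g ∉ H → H ⊓ H.map (MulAut.conj g).toMonoidHom ≤ N) := by
  constructor
  · intro hc
    refine ⟨?_, ?_, ?_, ?_⟩
    · rintro rfl
      rw [bot_sup_eq] at hHM
      exact hN2 (top_le_iff.mp (hHM ▸ hMN))
    · rintro rfl
      rw [top_inf_eq] at hHM'
      exact hM1 hHM'
    · refine lt_of_le_of_ne inf_le_left ?_
      intro h
      have hHN : H ≤ N := inf_eq_left.mp h
      exact hN2 (top_le_iff.mp (hHM ▸ sup_le hHN hMN))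
    · intro g hg x hx
      obtain ⟨hxH, hxg⟩ := Subgroup.mem_inf.mp hx
      obtain ⟨m, hm, h, hh, rfl⟩ := exists_mul M H hHM g
      obtain ⟨y, hy, hyx⟩ := Subgroup.mem_map.mp hxg
      have hm1 : m ≠ 1 := by
        rintro rfl
        exact hg (by simpa using hh)
      -- x = m (h y h⁻¹) m⁻¹
      have hyx' : m * (h * y * h⁻¹) * m⁻¹ = x := by
        rw [← hyx]
        simp [mul_assoc]
      set z := h * y * h⁻¹ with hz
      have hzH : z ∈ H := H.mul_mem (H.mul_mem hh hy) (H.inv_mem hh)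
      have h1 : x * z⁻¹ ∈ M := by
        rw [← hyx']
        have : m * z * m⁻¹ * z⁻¹ = m * (z * m⁻¹ * z⁻¹) := by group
        rw [this]
        exact M.mul_mem hm (‹M.Normal›.conj_mem _ (M.inv_mem hm) z)
      have h2 : x * z⁻¹ ∈ H := H.mul_mem hxH (H.inv_mem hzH)
      have h3 : x * z⁻¹ = 1 := by
        have : x * z⁻¹ ∈ H ⊓ M := ⟨h2, h1⟩
        rw [hHM'] at this
        exact Subgroup.mem_bot.mp this
      have h4 : x = z := mul_inv_eq_one.mp h3
      refine hc m hm hm1 ?_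
      rw [Subgroup.mem_centralizer_singleton_iff]
      have h5 : m * x * m⁻¹ = x := by
        conv_lhs => rw [h4]
        exact hyx'
      have h6 : m * x = x * m := by
        calc m * x = (m * x * m⁻¹) * m := by group
          _ = x * m := by rw [h5]
      exact h6.symm
  · rintro ⟨-, -, -, hconj⟩
    -- elements of `H` outside `N` act fixed point freely on `M`
    have key : ∀ h ∈ H, h ∉ N → ∀ m ∈ M, h * m = m * h → m = 1 := by
      intro h hh hN m hm hcomm
      by_contra hm1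
      have hmH : m ∉ H := by
        intro hmH
        have : m ∈ H ⊓ M := ⟨hmH, hm⟩
        rw [hHM'] at this
        exact hm1 (Subgroup.mem_bot.mp this)
      refine hN (hconj m hmH ⟨hh, ?_⟩)
      refine Subgroup.mem_map.mpr ⟨h, hh, ?_⟩
      simp only [MulEquiv.coe_toMonoidHom, MulAut.conj_apply]
      rw [← hcomm]; group
    intro x hxM hx1 c hc
    rw [Subgroup.mem_centralizer_singleton_iff] at hc
    obtain ⟨m, hm, h, hh, rfl⟩ := exists_mul M H hHM c
    by_contra hcN
    have hhN : h ∉ N := fun hhN => hcN (N.mul_mem (hMN hm) hhN)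
    -- the map `a ↦ a⁻¹ * (h * a * h⁻¹)` is injective on `M`
    let f : M → M := fun a => ⟨(a : G)⁻¹ * (h * a * h⁻¹), M.mul_mem (M.inv_mem a.2) (‹M.Normal›.conj_mem _ a.2 h)⟩
    have hf : Function.Injective f := by
      intro a b hab
      have hab' : (a : G)⁻¹ * (h * a * h⁻¹) = (b : G)⁻¹ * (h * b * h⁻¹) := congrArg Subtype.val hab
      have h1 : h * ((b : G) * (a : G)⁻¹) = ((b : G) * (a : G)⁻¹) * h := by
        have : (b : G) * (a : G)⁻¹ * h = h * b * h⁻¹ * (h * (a : G)⁻¹) := by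
          have h2 : (b : G) * ((a : G)⁻¹ * (h * a * h⁻¹)) = h * b * h⁻¹ := by
            rw [hab']; group
          calc (b : G) * (a : G)⁻¹ * h = ((b : G) * ((a : G)⁻¹ * (h * a * h⁻¹))) * (h * (a : G)⁻¹) := by group
            _ = h * b * h⁻¹ * (h * (a : G)⁻¹) := by rw [h2]
        rw [this]; group
      have h3 : (b : G) * (a : G)⁻¹ = 1 :=
        key h hh hhN _ (M.mul_mem b.2 (M.inv_mem a.2)) h1
      exact Subtype.ext (mul_inv_eq_one.mp h3).symm
    obtain ⟨a, ha⟩ := (Finite.injective_iff_surjective.mp hf) ⟨m, hm⟩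
    have ha' : (a : G)⁻¹ * (h * a * h⁻¹) = m := congrArg Subtype.val ha
    -- m * h = a⁻¹ h a commutes with x, so h commutes with a x a⁻¹
    have h5 : m * h = (a : G)⁻¹ * h * a := by rw [← ha']; group
    have h6 : h * ((a : G) * x * (a : G)⁻¹) = ((a : G) * x * (a : G)⁻¹) * h := by
      rw [h5] at hc
      calc h * ((a : G) * x * (a : G)⁻¹) = a * ((a : G)⁻¹ * h * a * x) * (a : G)⁻¹ := by group
        _ = a * (x * ((a : G)⁻¹ * h * a)) * (a : G)⁻¹ := by rw [hc]
        _ = ((a : G) * x * (a : G)⁻¹) * h := by group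
    have h7 := key h hh hhN _ (‹M.Normal›.conj_mem _ hxM (a : G)) h6
    apply hx1
    have h8 : x = (a : G)⁻¹ * ((a : G) * x * (a : G)⁻¹) * a := by group
    rw [h8, h7]; group

end Cfsg.Agent.S4113
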