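import Cfsg.Statements.S4114
import Cfsg.Agent.H285.Ccp.Asm
import Cfsg.Agent.H285.Ccp.Tits
import Cfsg.Agent.H520.CcpLie
import Cfsg.Agent.H520.CcpSporAll
import Cfsg.Agent.S0000
import Cfsg.Agent.S1938

set_option autoImplicit false
open Cfsg

namespace Cfsg.Agent.S4114

/-- Let G be a finite group and α an automorphism of G such that every element of G is the product of an element fixed by α and an element of the form g⁻¹α(g) (so the elements g⁻¹α(g) form a transversal to the fixed-point subgroup), and such that G is generated by the elements g⁻¹α(g). Then G is solvable. -/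
theorem result {G : Type*} [Group G] [Finite G] (α : MulAut G)
    (hccp : ∀ x : G, ∃ c g : G, α c = c ∧ x = c * (g⁻¹ * α g))
    (hgen : Subgroup.closure {y : G | ∃ g : G, y = g⁻¹ * α g} = ⊤) : Group.IsSolvable G :=
  H285.Ccp.solvable_of (fun K _ _ _ => S0000.result) (fun K _ _ _ _ S x hx hiso => S1938.result S x hx hiso)
    H520.Lie.row_lie (fun K _ _ h => H285.Ccp.Tits.row_tits h) H520.Spor.row_spor_all α hccp hgen

end Cfsg.Agent.S4114
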