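import Cfsg.Statements.S4125
import Cfsg.Agent.H541.QBaer
import Cfsg.Agent.H541.TwoPowerSolv
import Cfsg.Agent.S0205

set_option autoImplicit false
open Cfsg

namespace Cfsg.Agent.S4125

open Cfsg.Agent.H541.QBaer

/-- The commutative group structure on a subgroup with commuting elements. -/
abbrev commGroupOf {X : Type*} [Group X] (O : Subgroup X)
    (h : ∀ x ∈ O, ∀ y ∈ O, x * y = y * x) : CommGroup O :=
  { (inferInstance : Group O) with
    mul_comm := fun x y => Subtype.ext (h x x.2 y y.2) }

/-- A group with a self-centralizing normal commutative Sylow `q`-subgroup `O` such that the class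
sizes of the elements of `O` are `p`-powers, `p ≠ q`, is solvable. -/
theorem solvable_of_class {X : Type*} [Group X] [Finite X] {p q : ℕ} [Fact p.Prime]
    [Fact q.Prime] (hpq : p ≠ q) (O : Sylow q X) [hO : (O : Subgroup X).Normal]
    (hcomm : ∀ x ∈ (O : Subgroup X), ∀ y ∈ (O : Subgroup X), x * y = y * x)
    (hbot : pPrimeCore q X = ⊥)
    (h : ∀ x ∈ (O : Subgroup X), ∃ a : ℕ, (Subgroup.centralizer ({x} : Set X)).index = p ^ a) :
    Group.IsSolvable X := by
  have hcen := centralizer_eq O hcomm hbot
  let _ : CommGroup (O : Subgroup X) := commGroupOf (O : Subgroup X) hcomm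
  let f : X →* MulAut (O : Subgroup X) := MulAut.conjNormal
  have hker : f.ker = (O : Subgroup X) := by
    refine Eq.trans ?_ hcen
    ext x
    rw [MonoidHom.mem_ker, Subgroup.mem_centralizer_iff]
    constructor
    · intro hx y hy
      have h1 : ((f x) ⟨y, hy⟩ : X) = y := by rw [hx]; rfl
      have h2 : x * y * x⁻¹ = y := h1
      rw [mul_inv_eq_iff_eq_mul] at h2
      exact h2.symm
    · intro hx
      apply MulEquiv.ext
      intro y
      apply Subtype.ext
      change x * (y : X) * x⁻¹ = y
      rw [← hx y y.2, mul_inv_cancel_right]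
  have hcop : ¬ q ∣ Nat.card f.range := by
    rw [← Subgroup.index_ker, hker]
    exact O.not_dvd_index
  have hst : ∀ v : (O : Subgroup X), ∃ a : ℕ, (MulAction.stabilizer f.range v).index = p ^ a := by
    intro v
    obtain ⟨a, ha⟩ := h v v.2
    refine ⟨a, ?_⟩
    rw [← ha, ← Subgroup.index_comap_of_surjective _ (MonoidHom.rangeRestrict_surjective f)]
    congr 1
    ext x
    rw [Subgroup.mem_comap, MulAction.mem_stabilizer_iff, Subgroup.mem_centralizer_singleton_iff]
    constructor
    · intro hx
      have h1 : x * (v : X) * x⁻¹ = v := congrArg Subtype.val hx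
      rwa [mul_inv_eq_iff_eq_mul] at h1
    · intro hx
      apply Subtype.ext
      change x * (v : X) * x⁻¹ = v
      rw [hx, mul_inv_cancel_right]
  have hsol : Group.IsSolvable f.range := by
    by_cases hp2 : p = 2
    · subst hp2
      have h2 : IsPGroup 2 f.range := Cfsg.Agent.H541.TwoPowerSolv.isPGroup_two
        (V := (O : Subgroup X)) (Ne.symm hpq) O.isPGroup' hcop hst
      have : Group.IsNilpotent f.range := h2.isNilpotent
      infer_instance
    · exact Cfsg.Agent.S0205.result (Cfsg.Agent.H541.TwoPowerSolv.odd_card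
        (V := (O : Subgroup X)) hp2 O.isPGroup' hcop hst)
  have hsolO : Group.IsSolvable (O : Subgroup X) := Group.isSolvable_of_comm fun a b => mul_comm a b
  exact Group.isSolvable_of_ker_le_range (O : Subgroup X).subtype f.rangeRestrict (by
    rw [MonoidHom.ker_rangeRestrict, hker, Subgroup.range_subtype])

/-- Let G be a finite group and q a prime dividing its order such that every element of q-power order has a conjugacy class of prime-power size. Then G is q-solvable of q-length 1: there are normal subgroups K ≤ L of G with K of order prime to q, L/K a q-group and L of index prime to q. Moreover there is a prime p such that every element of q-power order has a class of p-power size (one prime serving for all of them), and for a Sylow q-subgroup Q: if p = q then Q is normal with a normal complement (a direct factor), while if p ≠ q then Q is abelian, the product of Q with the largest normal p-subgroup O_p(G) is normal in G, and G/O_{q'}(G) is solvable, where O_{q'}(G) is the largest normal subgroup of order prime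 to q. -/
theorem result {G : Type*} [Group G] [Finite G] (q : ℕ) [Fact q.Prime] (hq : q ∣ Nat.card G)
    (hBaer : ∀ x : G, (∃ k : ℕ, orderOf x = q ^ k) → ∃ (r : ℕ) (a : ℕ), r.Prime ∧ (Subgroup.centralizer ({x} : Set G)).index = r ^ a) (Q : Sylow q G) :
    (∃ K L : Subgroup G, K.Normal ∧ L.Normal ∧ K ≤ L ∧ (Nat.card K).Coprime q ∧ (∃ m : ℕ, K.relIndex L = q ^ m) ∧ L.index.Coprime q) ∧
    ∃ p : ℕ, p.Prime ∧ (∀ x : G, (∃ k : ℕ, orderOf x = q ^ k) → ∃ a : ℕ, (Subgroup.centralizer ({x} : Set G)).index = p ^ a) ∧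
      (p = q → (Q : Subgroup G).Normal ∧ ∃ N : Subgroup G, N.Normal ∧ N.IsComplement' (Q : Subgroup G)) ∧
      (p ≠ q → IsMulCommutative (Q : Subgroup G) ∧ (Cfsg.pCore p G ⊔ (Q : Subgroup G)).Normal ∧
        ∀ _h : (Cfsg.pPrimeCore q G).Normal, Group.IsSolvable (G ⧸ Cfsg.pPrimeCore q G)) := by
  have hB : IsQBaer q G := hBaer
  refine ⟨qlength_one hB Q, ?_⟩
  -- the case `G = Q C(Q)`
  have key : (Q : Subgroup G) ⊔ Subgroup.centralizer ((Q : Subgroup G) : Set G) = ⊤ →
      ∃ p : ℕ, p.Prime ∧ (∀ x : G, (∃ k : ℕ, orderOf x = q ^ k) → ∃ a : ℕ, (Subgroup.centralizer ({x} : Set G)).index = p ^ a) ∧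
      (p = q → (Q : Subgroup G).Normal ∧ ∃ N : Subgroup G, N.Normal ∧ N.IsComplement' (Q : Subgroup G)) ∧
      (p ≠ q → IsMulCommutative (Q : Subgroup G) ∧ (Cfsg.pCore p G ⊔ (Q : Subgroup G)).Normal ∧
        ∀ _h : (Cfsg.pPrimeCore q G).Normal, Group.IsSolvable (G ⧸ Cfsg.pPrimeCore q G)) := by
    intro htop
    obtain ⟨hQn, N, hN, hNc, -⟩ := Cfsg.Agent.H524.ClassSize.normal_and_complement Q htop
    exact ⟨q, Fact.out, index_of_sup Q htop, fun _ => ⟨hQn, N, hN, hNc⟩, fun h => absurd rfl h⟩
  by_cases hcomm : ∀ x ∈ (Q : Subgroup G), ∀ y ∈ (Q : Subgroup G), x * y = y * x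
  swap
  · exact key (sup_centralizer_eq_top hB Q hcomm)
  rcases single_prime hB Q hcomm with hcen | ⟨p, hp, hpq, hind⟩
  · apply key
    rw [eq_top_iff]
    refine le_trans ?_ le_sup_right
    intro g _
    rw [Subgroup.mem_centralizer_iff]
    intro x hx
    exact (hcen x hx g).symm
  · have hp' : Fact p.Prime := ⟨hp⟩
    refine ⟨p, hp, forall_of_sylow Q hind, fun h => absurd h hpq, fun _ => ⟨?_, ?_, ?_⟩⟩
    · exact isMulCommutative_iff.2 fun x y => Subtype.ext (hcomm x x.2 y y.2)
    · exact sup_normal Q hind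
    · intro _h
      set π := QuotientGroup.mk' (pPrimeCore q G) with hπ
      have hπs : Function.Surjective π := QuotientGroup.mk'_surjective _
      let O : Sylow q (G ⧸ pPrimeCore q G) := Q.mapSurjective hπs
      have hOe : (O : Subgroup (G ⧸ pPrimeCore q G)) = (Q : Subgroup G).map π := rfl
      have hOc : (O : Subgroup (G ⧸ pPrimeCore q G)) = pCore q (G ⧸ pPrimeCore q G) := by
        rw [hOe]
        exact map_eq_pCore q _ Q fun x hx => mk_mem_pCore' q hB x (orderOf_mem Q hx)
      have hOn : (O : Subgroup (G ⧸ pPrimeCore q G)).Normal := by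
        rw [hOc]; exact Cfsg.Agent.Lib.Cores.pCore_normal q
      refine solvable_of_class (p := p) (q := q) hpq O ?_
        (Cfsg.Agent.Lib.Cores.pPrimeCore_quotient_pPrimeCore q) ?_
      · rw [hOe]
        rintro _ ⟨x, hx, rfl⟩ _ ⟨y, hy, rfl⟩
        rw [← map_mul, ← map_mul, hcomm x hx y hy]
      · rw [hOe]
        rintro _ ⟨x, hx, rfl⟩
        obtain ⟨a, ha⟩ := hind x hx
        have h1 := Cfsg.Agent.H576.Kazarin.index_centralizer_map_dvd π hπs x
        rw [ha] at h1
        obtain ⟨b, -, hb⟩ := (Nat.dvd_prime_pow hp).1 h1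
        exact ⟨b, hb⟩

end Cfsg.Agent.S4125
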