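import Cfsg.Statements.S4128
import Cfsg.Agent.S0000
import Cfsg.Agent.H524.PrimAll
import Cfsg.Agent.H524.DirMain

set_option autoImplicit false
open Cfsg

namespace Cfsg.Agent.S4128

/-- Let G be a finite group and p a prime such that p does not divide the conjugacy class size of any element whose order is a power of a prime other than p. Then a Sylow p-subgroup of G is normal and has a normal complement, so it is a direct factor of G. -/
theorem result {G : Type*} [Group G] [Finite G] (p : ℕ) [Fact p.Prime]
    (h : ∀ x : G, (∃ (r : ℕ) (k : ℕ), r.Prime ∧ r ≠ p ∧ orderOf x = r ^ k) → ¬ p ∣ (Subgroup.centralizer ({x} : Set G)).index) (P : Sylow p G) :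
    (P : Subgroup G).Normal ∧ ∃ N : Subgroup G, N.Normal ∧ N.IsComplement' (P : Subgroup G) := by
  have hd : Cfsg.Agent.H524.DirRed.Dir G p := by
    refine Cfsg.Agent.H524.DirRed.dir_main ?_ ?_ (Nat.card G) G rfl h
    · intro S _ _ _ hna hd
      exact Cfsg.Agent.H524.PrimAll.primB_known hna Cfsg.Agent.S0000.result p Fact.out hd
    · intro S _ _ _ hna
      exact Cfsg.Agent.H524.CopAll.copMove_known (fun h => hna h.is_comm.comm) Cfsg.Agent.S0000.result
  obtain ⟨h1, N, h2, h3, -⟩ := Cfsg.Agent.H524.ClassSize.normal_and_complement P (hd.sup_eq P)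
  exact ⟨h1, N, h2, h3⟩

end Cfsg.Agent.S4128
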