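import Cfsg.Statements.S4129
import Cfsg.Agent.S0000
import Cfsg.Agent.H524.RegKnown
import Cfsg.Agent.H524.RegRed
import Cfsg.Agent.H458.RegPsl
import Cfsg.Agent.H96.Reg.Ly
import Cfsg.Agent.H96.Reg.ON

set_option autoImplicit false
open Cfsg

namespace Cfsg.Agent.S4129

/-- Let G be a finite group and p ≠ q primes such that every element of order prime to p has a conjugacy class of size prime to q. Then O^p(G), the smallest normal subgroup with quotient a p-group, has a normal q-complement, and the Sylow q-subgroups of G are abelian. -/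
theorem result {G : Type*} [Group G] [Finite G] (p q : ℕ) [Fact p.Prime] [Fact q.Prime] (hpq : p ≠ q)
    (h : ∀ x : G, ¬ p ∣ orderOf x → ¬ q ∣ (Subgroup.centralizer ({x} : Set G)).index) :
    Cfsg.HasNormalPComplement q ↥(Cfsg.pResidual p G) ∧ ∀ Q : Sylow q G, IsMulCommutative (Q : Subgroup G) := by
  refine Cfsg.Agent.H524.DirRed.reg_main hpq (fun S _ _ _ hna hd => ?_) G h
  exact Cfsg.Agent.H524.RegKnown.regAll_known_of hna Cfsg.Agent.S0000.result
    (fun l hl q hq hql hd => Cfsg.Agent.H458.RegPsl.regB_psl hl hq hql hd)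
    (Cfsg.Agent.H96.Reg.regAll_on_of (fun S _ _ _ => Cfsg.Agent.S0000.result))
    (Cfsg.Agent.H96.Reg.regAll_ly_of (fun S _ _ _ => Cfsg.Agent.S0000.result)) p q Fact.out Fact.out hpq hd

end Cfsg.Agent.S4129
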