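import Cfsg.Statements.S4133
-- import your own Cfsg.Agent.* helpers here
import Cfsg.Agent.H178.AGroupPerfect
import Cfsg.Agent.Lib.GoldschmidtFusion

set_option autoImplicit false
open Cfsg

namespace Cfsg.Agent.S4133

open Subgroup

/-- abelian Sylow subgroups pass to subgroups -/
theorem sylow_comm_subgroup {G : Type*} [Group G] [Finite G] (D : Subgroup G) (p : ℕ) [Fact p.Prime]
    (h : ∀ P : Sylow p G, IsMulCommutative (P : Subgroup G)) (Q : Sylow p D) :
    IsMulCommutative (Q : Subgroup D) := by
  have hQ : IsPGroup p ((Q : Subgroup D).map D.subtype) := Q.isPGroup'.map _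
  obtain ⟨P, hP⟩ := hQ.exists_le_sylow
  have hc := isMulCommutative_iff.mp (h P)
  apply IsMulCommutative.of_comm
  rintro ⟨a, ha⟩ ⟨b, hb⟩
  have h1 := hc ⟨(a : G), hP ⟨a, ha, rfl⟩⟩ ⟨(b : G), hP ⟨b, hb, rfl⟩⟩
  have h2 : (a : G) * b = b * a := congrArg Subtype.val h1
  apply Subtype.ext
  apply Subtype.ext
  exact h2

/-- Let G be a finite group all of whose Sylow subgroups are abelian, and let 2^a be the largest power of 2 dividing the size of any conjugacy class of G. If some element has a conjugacy class of size exactly 2^a, then G is solvable. -/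
theorem result {G : Type*} [Group G] [Finite G]
    (hA : ∀ (p : ℕ) [Fact p.Prime] (P : Sylow p G), IsMulCommutative (P : Subgroup G))
    (a : ℕ) (hmax : ∀ y : G, ¬ 2 ^ (a + 1) ∣ (Subgroup.centralizer ({y} : Set G)).index) (hx : ∃ x : G, (Subgroup.centralizer ({x} : Set G)).index = 2 ^ a) :
    Group.IsSolvable G := by
  obtain ⟨x, hx⟩ := hx
  by_contra hns
  -- the perfect residual
  have hfin : ∃ n, derivedSeries G (n + 1) = derivedSeries G n := by
    by_contra hcon
    push Not at hcon
    have hlt : ∀ n, derivedSeries G (n + 1) < derivedSeries G n := fun n =>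
      lt_of_le_of_ne (derivedSeries_antitone G (Nat.le_succ n)) (hcon n)
    have hinj : StrictAnti (derivedSeries G) := strictAnti_nat_of_succ_lt hlt
    exact not_injective_infinite_finite _ hinj.injective
  obtain ⟨m, hm⟩ := hfin
  set D := derivedSeries G m with hD
  have hDn : D.Normal := by rw [hD]; infer_instance
  have hDD : ⁅D, D⁆ = D := hm
  have hD1 : D ≠ ⊥ := fun h => hns ⟨⟨m, h⟩⟩
  have hperf : commutator D = ⊤ := by
    have h1 : (commutator D).map D.subtype = D := by
      rw [commutator_def, Subgroup.map_commutator, ← MonoidHom.range_eq_map, D.range_subtype, hDD]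
    apply Subgroup.map_injective D.subtype_injective
    rw [h1, ← MonoidHom.range_eq_map, D.range_subtype]
  have hab : ∀ (p : ℕ) [Fact p.Prime] (Q : Sylow p D), IsMulCommutative (Q : Subgroup D) :=
    fun p _ Q => sylow_comm_subgroup D p (fun P => hA p P) Q
  have hZ : center D = ⊥ := by
    have := Cfsg.Agent.S0089.result (G := D) (fun p hp P => by
      have : Fact p.Prime := ⟨hp⟩
      exact hab p P)
    rw [hperf, top_inf_eq] at this
    exact this
  -- `D` centralizes `x`
  set C := Subgroup.centralizer ({x} : Set G) with hC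
  have hDC : D ≤ C := by
    have hdvd : (C.subgroupOf D).index ∣ 2 ^ a := by
      rw [← hx]
      exact Cfsg.Agent.Lib.GoldschmidtFusion.relIndex_dvd_index_of_normal_right C D
    obtain ⟨k, _, hk⟩ := (Nat.dvd_prime_pow Nat.prime_two).mp hdvd
    have := Cfsg.Agent.H178.AGroupPerfect.eq_top_of_perfect _ rfl hperf (fun P => hab 2 P)
      (C.subgroupOf D) k hk
    exact Subgroup.subgroupOf_eq_top.mp this
  -- an element of `D` with an even number of conjugates in `C`
  have hy : ∃ y : D, 2 ∣ (centralizer ({y} : Set D)).index := by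
    by_contra hcon
    push Not at hcon
    obtain ⟨P⟩ : Nonempty (Sylow 2 D) := inferInstance
    have h1 := Cfsg.Agent.H178.AGroupIndex.sylow_le_center 2 P hcon
    rw [hZ, le_bot_iff] at h1
    have h2 : ¬ 2 ∣ Nat.card D := by
      intro h
      have h3 := P.not_dvd_index
      rw [h1, index_bot] at h3
      exact h3 h
    have h3 : Odd (Nat.card D) := by
      rw [← Nat.not_even_iff_odd, even_iff_two_dvd]; exact h2
    have h4 := Cfsg.Agent.S0205.result (G := D) h3
    have h5 : commutator D < ⊤ := by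
      have : Nontrivial D := (Subgroup.nontrivial_iff_ne_bot D).mpr hD1
      exact Group.IsSolvable.commutator_lt_top_of_nontrivial D
    exact h5.ne hperf
  obtain ⟨y, hy⟩ := hy
  -- the element `y x`
  apply hmax ((y : G) * x)
  have hcent : Subgroup.centralizer ({(y : G) * x} : Set G) = C ⊓ Subgroup.centralizer ({(y : G)} : Set G) := by
    apply le_antisymm
    · intro g hg
      rw [mem_centralizer_singleton_iff] at hg
      have hw1 : (y : G)⁻¹ * (g * y * g⁻¹) = x * (g * x * g⁻¹)⁻¹ := by
        have : g * (y : G) * g⁻¹ * (g * x * g⁻¹) = y * x := by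
          calc g * (y : G) * g⁻¹ * (g * x * g⁻¹) = (g * (y * x)) * g⁻¹ := by group
            _ = y * x := by rw [hg]; group
        calc (y : G)⁻¹ * (g * y * g⁻¹) = (y : G)⁻¹ * (g * (y : G) * g⁻¹ * (g * x * g⁻¹)) * (g * x * g⁻¹)⁻¹ := by group
          _ = x * (g * x * g⁻¹)⁻¹ := by rw [this]; group
      have hwD : (y : G)⁻¹ * (g * y * g⁻¹) ∈ D :=
        D.mul_mem (D.inv_mem y.2) (hDn.conj_mem _ y.2 g)
      have hxD : ∀ d ∈ D, d * x = x * d := fun d hd => mem_centralizer_singleton_iff.mp (hDC hd)
      have hxD' : ∀ d ∈ D, d * (g * x * g⁻¹) = (g * x * g⁻¹) * d := by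
        intro d hd
        have h1 : g⁻¹ * d * g ∈ D := by
          have := hDn.conj_mem d hd g⁻¹
          rwa [inv_inv] at this
        have h2 := hxD _ h1
        calc d * (g * x * g⁻¹) = g * (g⁻¹ * d * g * x) * g⁻¹ := by group
          _ = g * (x * (g⁻¹ * d * g)) * g⁻¹ := by rw [h2]
          _ = (g * x * g⁻¹) * d := by group
      have hwc : (⟨_, hwD⟩ : D) ∈ center D := by
        rw [mem_center_iff]
        rintro ⟨d, hd⟩
        apply Subtype.ext
        show d * ((y : G)⁻¹ * (g * y * g⁻¹)) = ((y : G)⁻¹ * (g * y * g⁻¹)) * d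
        rw [hw1]
        have h1 := hxD d hd
        have h2 := hxD' d hd
        have h3 : d * (g * x * g⁻¹)⁻¹ = (g * x * g⁻¹)⁻¹ * d := by
          calc d * (g * x * g⁻¹)⁻¹ = (g * x * g⁻¹)⁻¹ * ((g * x * g⁻¹) * d) * (g * x * g⁻¹)⁻¹ := by group
            _ = (g * x * g⁻¹)⁻¹ * (d * (g * x * g⁻¹)) * (g * x * g⁻¹)⁻¹ := by rw [h2]
            _ = (g * x * g⁻¹)⁻¹ * d := by group
        rw [← mul_assoc, h1, mul_assoc, h3, ← mul_assoc]
      rw [hZ, mem_bot] at hwc
      have hw : (y : G)⁻¹ * (g * y * g⁻¹) = 1 := congrArg Subtype.val hwc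
      have hgy : g * y * g⁻¹ = (y : G) := by
        rw [inv_mul_eq_one] at hw
        exact hw.symm
      have hgx : g * x * g⁻¹ = x := by
        rw [hw] at hw1
        have := mul_eq_one_iff_eq_inv.mp hw1.symm
        rw [inv_inv] at this
        exact this.symm
      refine mem_inf.mpr ⟨?_, ?_⟩
      · rw [hC, mem_centralizer_singleton_iff]
        exact mul_inv_eq_iff_eq_mul.mp hgx
      · rw [mem_centralizer_singleton_iff]
        exact mul_inv_eq_iff_eq_mul.mp hgy
    · intro g hg
      obtain ⟨h1, h2⟩ := mem_inf.mp hg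
      rw [hC, mem_centralizer_singleton_iff] at h1
      rw [mem_centralizer_singleton_iff] at h2
      rw [mem_centralizer_singleton_iff, ← mul_assoc, h2, mul_assoc, h1, mul_assoc]
  rw [hcent, ← Subgroup.relIndex_mul_index (inf_le_left : C ⊓ Subgroup.centralizer ({(y : G)} : Set G) ≤ C), hx,
    pow_succ, mul_comm (2 ^ a) 2]
  apply Nat.mul_dvd_mul_right
  rw [Subgroup.inf_relIndex_left]
  refine hy.trans ?_
  -- `|D : C_D(y)|` divides `|C : C_C(y)|`
  have h1 : (centralizer ({y} : Set D)).index = (Subgroup.centralizer ({(y : G)} : Set G)).relIndex D := by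
    rw [Subgroup.relIndex]
    congr 1
    ext d
    rw [mem_centralizer_singleton_iff, Subgroup.mem_subgroupOf, mem_centralizer_singleton_iff]
    exact ⟨fun h => congrArg Subtype.val h, fun h => Subtype.ext h⟩
  rw [h1]
  have hDCn : (D.subgroupOf C).Normal := hDn.subgroupOf C
  have h2 := Cfsg.Agent.Lib.GoldschmidtFusion.relIndex_dvd_index_of_normal_right
    ((Subgroup.centralizer ({(y : G)} : Set G)).subgroupOf C) (D.subgroupOf C)
  rwa [Subgroup.relIndex_subgroupOf hDC] at h2

end Cfsg.Agent.S4133
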