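import Cfsg.Statements.S4135
import Cfsg.Agent.H683.TwoNormalD

set_option autoImplicit false
open Cfsg

namespace Cfsg.Agent.S4135

open Subgroup Cfsg.Agent.H683.TwoSize Cfsg.Agent.H683.TwoNormal

/-- Let G be a finite group, r a prime and R a Sylow r-subgroup of G that is not central, N a normal subgroup of G containing R, and m a natural number such that every element of N has a conjugacy class in G of size 1 or m. Then N is nilpotent. -/
theorem result {G : Type*} [Group G] [Finite G] (r : ℕ) [Fact r.Prime]
    (R : Sylow r G) (hR : ¬ (R : Subgroup G) ≤ Subgroup.center G) (N : Subgroup G) [N.Normal] (hRN : (R : Subgroup G) ≤ N)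
    (m : ℕ) (h : ∀ x ∈ N, (Subgroup.centralizer ({x} : Set G)).index = 1 ∨ (Subgroup.centralizer ({x} : Set G)).index = m) : Group.IsNilpotent N := by
  have hN : N.Normal := inferInstance
  have h' : TwoG N m := h
  have hS : ∀ R' : Sylow r G, (R' : Subgroup G) ≤ N := by
    intro R' t ht
    obtain ⟨g, hg⟩ := MulAction.exists_smul_eq G R R'
    rw [← hg, mem_smul] at ht
    have h1 := hN.conj_mem _ (hRN ht) g
    have e : g * (g⁻¹ * t * g) * g⁻¹ = t := by group
    rwa [e] at h1
  obtain ⟨z, hzR, hzZ⟩ : ∃ z ∈ (R : Subgroup G), z ∉ center G := by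
    by_contra hcon
    push Not at hcon
    exact hR hcon
  have hzr : REl r z := REl.of_mem R.isPGroup' hzR
  by_cases hno : ∀ x ∈ N, x ∉ center G → REl r x → ¬ Good N r x
  · exact isNilpotent_of_central (r := r) fun w hw hwr =>
      central_of_no_good h' hS hzr hzZ hno hw hwr
  · push Not at hno
    obtain ⟨x, hxN, hxZ, hxr, hxg⟩ := hno
    by_cases hrm : r ∣ m
    · exfalso
      by_cases hsq : r * r ∣ (center G).relIndex (cz x)
      · exact sq_contra h' hrm hS (fun v hv hvZ => by
          rw [relIndex_cz_eq h' hv hvZ hxN hxZ]; exact hsq) hxN hxZ hxr hxg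
      · exact false_of_not_sq h' hrm hS (fun v hv hvZ => by
          rw [relIndex_cz_eq h' hv hvZ hxN hxZ]; exact hsq) hxN hxZ hxr hxg
    · have hc := comm_of_not_dvd h' hrm hS hxN hxZ hxr hxg
      have : IsMulCommutative N := ⟨⟨fun a b => Subtype.ext (hc a a.2 b b.2)⟩⟩
      letI : CommGroup N := { (inferInstance : Group N) with
        mul_comm := fun a b => Subtype.ext (hc a a.2 b b.2) }
      exact CommGroup.isNilpotent

end Cfsg.Agent.S4135
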