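import Cfsg.Statements.S4148
import Cfsg.Agent.H822.Cls.Parts
import Cfsg.Agent.H877.ClsNonabFin

set_option autoImplicit false
open Cfsg

namespace Cfsg.Agent.S4148

/-- Let G be a finite group, and let σ be a natural number such that every conjugacy class size of G has at most σ distinct prime divisors. Then the number of primes dividing at least one conjugacy class size of G is at most 5σ. -/
theorem result {G : Type*} [Group G] [Finite G] (σ : ℕ)
    (hσ : ∀ x : G, ((Subgroup.centralizer ({x} : Set G)).index).primeFactors.card ≤ σ) :
    Nat.card {p : ℕ | p.Prime ∧ ∃ x : G, p ∣ (Subgroup.centralizer ({x} : Set G)).index} ≤ 5 * σ := by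
  exact Cfsg.Agent.H822.Cls.main_of_nonab (Cfsg.Agent.H877.Cls.nonab_object Cfsg.Agent.H877.Cls.exists_base) σ hσ

end Cfsg.Agent.S4148
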