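import Cfsg.Statements.S4161
import Cfsg.Agent.S0000
import Cfsg.Agent.H531.AdjTwo
import Cfsg.Agent.H531.RMAll

set_option autoImplicit false
open Cfsg

namespace Cfsg.Agent.S4161

/-- Let G be a finite non-solvable group and p ≠ q primes each dividing the size of some conjugacy class of G. Then either some class size is divisible by pq, or there is a prime r, different from p and q, such that some class size is divisible by pr and some class size is divisible by rq. -/
theorem result {G : Type*} [Group G] [Finite G] (hG : ¬ Group.IsSolvable G)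
    (p q : ℕ) (hp : p.Prime) (hq : q.Prime) (hpq : p ≠ q) (hp' : ∃ x : G, p ∣ (Subgroup.centralizer ({x} : Set G)).index) (hq' : ∃ x : G, q ∣ (Subgroup.centralizer ({x} : Set G)).index) :
    (∃ x : G, p * q ∣ (Subgroup.centralizer ({x} : Set G)).index) ∨ ∃ r : ℕ, r.Prime ∧ r ≠ p ∧ r ≠ q ∧ (∃ x : G, p * r ∣ (Subgroup.centralizer ({x} : Set G)).index) ∧ (∃ y : G, r * q ∣ (Subgroup.centralizer ({y} : Set G)).index) := by
  have hRM := Cfsg.Agent.H531.RMAll.realMoveAll
  have hpf : Fact p.Prime := ⟨hp⟩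
  have hqf : Fact q.Prime := ⟨hq⟩
  by_cases hp2 : p = 2
  · subst hp2
    exact Or.inl (Cfsg.Agent.H531.Red.exists_two_mul_dvd hRM hG hpq.symm hq')
  · by_cases hq2 : q = 2
    · subst hq2
      obtain ⟨x, hx⟩ := Cfsg.Agent.H531.Red.exists_two_mul_dvd hRM hG hp2 hp'
      exact Or.inl ⟨x, by rw [mul_comm]; exact hx⟩
    · right
      obtain ⟨x, hx⟩ := Cfsg.Agent.H531.Red.exists_two_mul_dvd hRM hG hp2 hp'
      obtain ⟨y, hy⟩ := Cfsg.Agent.H531.Red.exists_two_mul_dvd hRM hG hq2 hq'
      exact ⟨2, Nat.prime_two, fun h => hp2 h.symm, fun h => hq2 h.symm, ⟨x, by rw [mul_comm]; exact hx⟩, ⟨y, hy⟩⟩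

end Cfsg.Agent.S4161
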