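import Cfsg.Statements.S4174
import Cfsg.Agent.H505.Cop.Final

set_option autoImplicit false
open Cfsg

namespace Cfsg.Agent.S4174

/-- Let k be a field, H a finite group and ρ a completely reducible k-linear representation of H on V (every ρ-invariant subspace has a ρ-invariant complement). If the H-orbits of a and b in V have coprime sizes m and n, then the stabilizer of a + b is the intersection of the stabilizers of a and b, and the H-orbit of a + b has size m·n. -/
theorem result {k V H : Type*} [Field k] [AddCommGroup V] [Module k V] [Group H] [Finite H]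
    (ρ : Representation k H V)
    (hcr : ∀ W : Submodule k V, (∀ h : H, ∀ w ∈ W, ρ h w ∈ W) →
      ∃ W' : Submodule k V, (∀ h : H, ∀ w ∈ W', ρ h w ∈ W') ∧ IsCompl W W')
    (a b : V) (hcop : (Nat.card {u : V | ∃ h : H, ρ h a = u}).Coprime (Nat.card {u : V | ∃ h : H, ρ h b = u})) :
    {h : H | ρ h (a + b) = a + b} = {h : H | ρ h a = a} ∩ {h : H | ρ h b = b} ∧
    Nat.card {u : V | ∃ h : H, ρ h (a + b) = u} = Nat.card {u : V | ∃ h : H, ρ h a = u} * Nat.card {u : V | ∃ h : H, ρ h b = u} := by
  exact Cfsg.Agent.H505.Cop.orbit_add (Cfsg.Agent.H505.Cop.copRow H) ρ hcr a b hcop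

end Cfsg.Agent.S4174
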