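import Cfsg.Statements.S4175
import Cfsg.Agent.H505.Cop.Final

set_option autoImplicit false
open Cfsg

namespace Cfsg.Agent.S4175

/-- Let k be a field, H a finite group and ρ an irreducible k-linear representation of H on V (the only ρ-invariant subspaces are 0 and V) in which H does not act trivially. Then for any two non-zero vectors a and b of V the sizes of the H-orbits of a and b have a common prime factor. -/
theorem result {k V H : Type*} [Field k] [AddCommGroup V] [Module k V] [Group H] [Finite H]
    (ρ : Representation k H V)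
    (hirr : ∀ W : Submodule k V, (∀ h : H, ∀ w ∈ W, ρ h w ∈ W) → W = ⊥ ∨ W = ⊤)
    (hnt : ∃ (h : H) (v : V), ρ h v ≠ v) (a b : V) (ha : a ≠ 0) (hb : b ≠ 0) :
    ¬ (Nat.card {u : V | ∃ h : H, ρ h a = u}).Coprime (Nat.card {u : V | ∃ h : H, ρ h b = u}) := by
  exact Cfsg.Agent.H505.Cop.orbit_not_coprime (Cfsg.Agent.H505.Cop.copRow H) ρ hirr hnt a b ha hb

end Cfsg.Agent.S4175
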