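import Cfsg.Statements.S4180
import Cfsg.Agent.S0000
import Cfsg.Agent.H891.DG.Final
import Cfsg.Agent.H891.DG.RowsCoh
import Cfsg.Agent.H891.DG.RowsCos
import Cfsg.Agent.H891.DG.WrGen
import Cfsg.Agent.H849.DG.AG
import Cfsg.Agent.H849.DG.WrEx
import Cfsg.Agent.H529.AbCase
import Cfsg.Agent.H58.DG.OutNum
import Cfsg.Agent.H481.TBound

set_option autoImplicit false
open Cfsg

namespace Cfsg.Agent.S4180

/-- Let G be a finite non-cyclic group with a unique minimal normal subgroup M (M is a non-trivial normal subgroup contained in every non-trivial normal subgroup). Then the minimal number of generators of G is the maximum of 2 and the minimal number of generators of G/M. -/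
theorem result {G : Type*} [Group G] [Finite G] (hnc : ¬ IsCyclic G) (M : Subgroup G) [hM : M.Normal] (hM1 : M ≠ ⊥)
    (huniq : ∀ N : Subgroup G, N.Normal → N ≠ ⊥ → M ≤ N) :
    Group.rank G = max 2 (Group.rank (G ⧸ M)) := by
  refine Cfsg.Agent.H891.DG.final ?_ ?_ hnc M hM1 huniq
  · exact Cfsg.Agent.H529.AbC.abCase_of (Cfsg.Agent.H849.DG.AG.ag_of
      (Cfsg.Agent.H891.DG.RC.rowsCoh.all fun _ _ _ _ => Cfsg.Agent.S0000.result))
  · exact Cfsg.Agent.H891.DG.nonabCase_of Cfsg.Agent.H849.DG.WrEx.wrEx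
      (Cfsg.Agent.H891.DG.WrB.wrGen fun _ _ _ _ hna => Cfsg.Agent.H481.TBound.sixty_le hna)
      (Cfsg.Agent.H891.DG.RCos.rowsCos.all fun _ _ _ _ => Cfsg.Agent.S0000.result)
      (Cfsg.Agent.H58.DG.outNum_of fun _ _ _ _ => Cfsg.Agent.S0000.result)

end Cfsg.Agent.S4180
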