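import Cfsg.Statements.S4183
import Cfsg.Agent.H398.FPR.Fin78
import Cfsg.Agent.H444.FprSporFin
import Cfsg.Agent.S0000

set_option autoImplicit false
open Cfsg

namespace Cfsg.Agent.S4183

/-- Let p be a prime and G a finite group generated by its elements of p-power order. Suppose G has no quotient isomorphic to an alternating group of degree m with p + 1 < m < p² − p and, when p + 1 is a power of 2, no quotient isomorphic to SL(2, p + 1). If H is a proper subgroup of G containing a Sylow p-subgroup of G, then p + 1 times the number of Sylow p-subgroups of H is at most the number of Sylow p-subgroups of G. -/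
theorem result {G : Type*} [Group G] [Finite G] (p : ℕ) [Fact p.Prime] (hgen : Subgroup.closure {g : G | ∃ k : ℕ, orderOf g = p ^ k} = ⊤)
    (hA : ∀ (N : Subgroup G) [N.Normal] (m : ℕ), p + 1 < m → m < p ^ 2 - p →
      ¬ Nonempty (G ⧸ N ≃* ↥(alternatingGroup (Fin m))))
    (hS : ∀ (N : Subgroup G) [N.Normal] (k : ℕ), p + 1 = 2 ^ k →
      ¬ Nonempty (G ⧸ N ≃* Matrix.SpecialLinearGroup (Fin 2) (GaloisField 2 k)))
    (H : Subgroup G) (hH : H ≠ ⊤) (P : Sylow p G) (hP : (P : Subgroup G) ≤ H) :
    (p + 1) * Nat.card (Sylow p ↥H) ≤ Nat.card (Sylow p G) := by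
  have B : Cfsg.Agent.H940.Eng.Base := ⟨Cfsg.Agent.OrdDiv.table, fun _ _ _ _ => Cfsg.Agent.S0000.result⟩
  exact Cfsg.Agent.H398.FPR.fin4183 B (fun _ _ _ _ => Cfsg.Agent.S0000.result)
    (fun S _ _ _ h p hp hd => Cfsg.Agent.H444.FprSporFin.spor B h hp hd) hgen hA hS H hH P hP

end Cfsg.Agent.S4183
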