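import Cfsg.Statements.S4187
import Cfsg.Agent.H537.RealSize
import Cfsg.Agent.S3863

set_option autoImplicit false
open Cfsg

namespace Cfsg.Agent.S4187

open Cfsg.Agent.H537.RealSize in
/-- The version with `2 ∉ π₂`. -/
theorem aux {G : Type*} [Group G] [Finite G] (π₁ π₂ : Set ℕ) (h₂ : π₂.Nonempty)
    (hcover : ∀ q : ℕ, q.Prime → (∃ x : G, IsConj x x⁻¹ ∧ q ∣ cs x) → q ∈ π₁ ∨ q ∈ π₂)
    (hsub : ∀ q ∈ π₂, q.Prime ∧ ∃ x : G, IsConj x x⁻¹ ∧ q ∣ cs x)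
    (hnoedge : ∀ a ∈ π₁, ∀ b ∈ π₂, ∀ x : G, IsConj x x⁻¹ → ¬ (a ∣ cs x ∧ b ∣ cs x)) (h2 : 2 ∉ π₂) :
    Group.IsSolvable G := by
  obtain ⟨q, hq⟩ := h₂
  obtain ⟨hqp, i, hi, hqi⟩ := hsub q hq
  have hodd : Odd (cs i) := by
    rw [← Nat.not_even_iff_odd, even_iff_two_dvd]
    intro h
    rcases hcover 2 Nat.prime_two ⟨i, hi, h⟩ with h3 | h3
    · exact hnoedge 2 h3 q hq i hi ⟨h, hqi⟩
    · exact h2 h3
  have hH : Hyp i := by
    refine ⟨?_, hodd, ?_⟩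
    · rw [← pow_two]
      exact (Cfsg.Agent.S3863.result i hi).2.1 hodd
    · intro y hy hyy
      have h2y : 2 ∣ cs y := by
        rw [← even_iff_two_dvd, ← Nat.not_odd_iff_even]
        intro h
        exact hyy (by rw [← pow_two]; exact (Cfsg.Agent.S3863.result y hy).2.1 h)
      have h2π : 2 ∈ π₁ := (hcover 2 Nat.prime_two ⟨y, hy, h2y⟩).resolve_right h2
      by_contra hcop
      obtain ⟨p, hp, hpy, hpi⟩ := Nat.Prime.not_coprime_iff_dvd.1 hcop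
      rcases hcover p hp ⟨i, hi, hpi⟩ with h3 | h3
      · exact hnoedge p h3 q hq i hi ⟨hpi, hqi⟩
      · exact hnoedge 2 h2π p h3 y hy ⟨h2y, hpy⟩
  apply hH.isSolvable
  by_contra hc
  push Not at hc
  have h1 : cs i = 1 := by
    rw [cs, Subgroup.index_eq_one, eq_top_iff]
    intro g _
    rw [Subgroup.mem_centralizer_singleton_iff]
    exact mul_inv_eq_iff_eq_mul.1 (hc g)
  rw [h1, Nat.dvd_one] at hqi
  exact hqp.one_lt.ne' hqi

/-- Let G be a finite group. Call an element real when it is conjugate to its inverse, and consider the graph whose vertices are the primes dividing the size of some conjugacy class of real elements, two distinct primes being adjacent when their product divides such a class size. If this graph is disconnected — its vertex set splits into two non-empty parts such that no real class size is divisible by a prime from each part — then G is solvable. -/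
theorem result {G : Type*} [Group G] [Finite G] (π₁ π₂ : Set ℕ) (h₁ : π₁.Nonempty) (h₂ : π₂.Nonempty) (hcover : ∀ q : ℕ, q.Prime → (∃ n ∈ {n : ℕ | ∃ x : G, IsConj x x⁻¹ ∧ (Subgroup.centralizer ({x} : Set G)).index = n}, q ∣ n) → q ∈ π₁ ∨ q ∈ π₂) (hsub : ∀ q ∈ π₁ ∪ π₂, q.Prime ∧ ∃ n ∈ {n : ℕ | ∃ x : G, IsConj x x⁻¹ ∧ (Subgroup.centralizer ({x} : Set G)).index = n}, q ∣ n) (hdisj : Disjoint π₁ π₂) (hnoedge : ∀ a ∈ π₁, ∀ b ∈ π₂, ∀ n ∈ {n : ℕ | ∃ x : G, IsConj x x⁻¹ ∧ (Subgroup.centralizer ({x} : Set G)).index = n}, ¬ (a ∣ n ∧ b ∣ n)) : Group.IsSolvable G := by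
  by_cases h2 : 2 ∈ π₂
  · refine aux π₂ π₁ h₁ ?_ ?_ ?_ (fun h => Set.disjoint_left.1 hdisj h h2)
    · rintro q hq ⟨x, hx, hqx⟩
      exact (hcover q hq ⟨_, ⟨x, hx, rfl⟩, hqx⟩).symm
    · intro q hq
      obtain ⟨hqp, n, ⟨x, hx, rfl⟩, hqx⟩ := hsub q (Or.inl hq)
      exact ⟨hqp, x, hx, hqx⟩
    · rintro a ha b hb x hx ⟨h3, h4⟩
      exact hnoedge b hb a ha _ ⟨x, hx, rfl⟩ ⟨h4, h3⟩
  · refine aux π₁ π₂ h₂ ?_ ?_ ?_ h2
    · rintro q hq ⟨x, hx, hqx⟩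
      exact hcover q hq ⟨_, ⟨x, hx, rfl⟩, hqx⟩
    · intro q hq
      obtain ⟨hqp, n, ⟨x, hx, rfl⟩, hqx⟩ := hsub q (Or.inr hq)
      exact ⟨hqp, x, hx, hqx⟩
    · rintro a ha b hb x hx ⟨h3, h4⟩
      exact hnoedge a ha b hb _ ⟨x, hx, rfl⟩ ⟨h3, h4⟩

end Cfsg.Agent.S4187
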