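import Cfsg.Statements.S4192
import Cfsg.Agent.S4187
import Cfsg.Agent.H538.RealGraphC

set_option autoImplicit false
open Cfsg

namespace Cfsg.Agent.S4192

open Cfsg.Agent.H538.RealGraph Cfsg.Agent.H538.NoRealP

/-- Let G be a finite group; call an element real when it is conjugate to its inverse, and say that the real-class-size graph of a group is disconnected when the primes dividing its real class sizes split into two non-empty disjoint parts with no real class size divisible by a prime from each part. If the real-class-size graph of G is disconnected, then some real class size of G is even, and either the Sylow 2-subgroups of G are normal, or the subgroup K generated by the 2-elements of G (the smallest normal subgroup of odd index) again has a disconnected real-class-size graph and every real class size of K is odd or a power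 of 2. -/
theorem result {G : Type*} [Group G] [Finite G] (h : (∃ π₁ π₂ : Set ℕ, π₁.Nonempty ∧ π₂.Nonempty ∧ Disjoint π₁ π₂ ∧ (∀ q ∈ π₁ ∪ π₂, q.Prime ∧ ∃ n ∈ {n : ℕ | ∃ x : G, IsConj x x⁻¹ ∧ (Subgroup.centralizer ({x} : Set G)).index = n}, q ∣ n) ∧ (∀ q : ℕ, q.Prime → (∃ n ∈ {n : ℕ | ∃ x : G, IsConj x x⁻¹ ∧ (Subgroup.centralizer ({x} : Set G)).index = n}, q ∣ n) → q ∈ π₁ ∨ q ∈ π₂) ∧ ∀ a ∈ π₁, ∀ b ∈ π₂, ∀ n ∈ {n : ℕ | ∃ x : G, IsConj x x⁻¹ ∧ (Subgroup.centralizer ({x} : Set G)).index = n}, ¬ (a ∣ n ∧ b ∣ n))) : (∃ n ∈ {n : ℕ | ∃ x : G, IsConj x x⁻¹ ∧ (Subgroup.centralizer ({x} : Set G)).index = n}, 2 ∣ n) ∧ ((∀ P : Sylow 2 G, (P : Subgroup G).Normal) ∨ ((∃ π₁ π₂ : Set ℕ, π₁.Nonempty ∧ π₂.Nonempty ∧ Disjoint π₁ π₂ ∧ (∀ q ∈ π₁ ∪ π₂, q.Prime ∧ ∃ n ∈ {n : ℕ | ∃ x : ↥(Subgroup.closure {g : G | ∃ k : ℕ, orderOf g = 2 ^ k}), IsConj x x⁻¹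 ∧ (Subgroup.centralizer ({x} : Set ↥(Subgroup.closure {g : G | ∃ k : ℕ, orderOf g = 2 ^ k}))).index = n}, q ∣ n) ∧ (∀ q : ℕ, q.Prime → (∃ n ∈ {n : ℕ | ∃ x : ↥(Subgroup.closure {g : G | ∃ k : ℕ, orderOf g = 2 ^ k}), IsConj x x⁻¹ ∧ (Subgroup.centralizer ({x} : Set ↥(Subgroup.closure {g : G | ∃ k : ℕ, orderOf g = 2 ^ k}))).index = n}, q ∣ n) → q ∈ π₁ ∨ q ∈ π₂) ∧ ∀ a ∈ π₁, ∀ b ∈ π₂, ∀ n ∈ {n : ℕ | ∃ x : ↥(Subgroup.closure {g : G | ∃ k : ℕ, orderOf g = 2 ^ k}), IsConj x x⁻¹ ∧ (Subgroup.centralizer ({x} : Set ↥(Subgroup.closure {g : G | ∃ k : ℕ, orderOf g = 2 ^ k}))).index = n}, ¬ (a ∣ n ∧ b ∣ n)) ∧ ∀ n ∈ {n : ℕ | ∃ x : ↥(Subgroup.closure {g : G | ∃ k : ℕ, orderOf g = 2 ^ k}), IsConj x x⁻¹ ∧ (Subgroup.centralizer ({x} : Set ↥(Subgroup.closure {g : G | ∃ k : ℕ, orderOf g = 2 ^ k}))).index = n}, Odd n ∨ ∃ j : ℕ, n = 2 ^ j)) := by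
  obtain ⟨π₁, π₂, h1, h2, hd, hv, hc, hn⟩ := h
  have hD : Disc G π₁ π₂ := ⟨h1, h2, hd, hv, hc, hn⟩
  have hsol : Group.IsSolvable G :=
    Cfsg.Agent.S4187.result π₁ π₂ h1 h2 hc hv hd hn
  have key : ∀ ρ₁ ρ₂ : Set ℕ, Disc G ρ₁ ρ₂ → 2 ∈ ρ₁ →
      (∀ P : Sylow 2 G, (P : Subgroup G).Normal) ∨
        ((∃ σ₁ σ₂ : Set ℕ, Disc (twoGen G) σ₁ σ₂) ∧
          ∀ n ∈ RealSizes (twoGen G), Odd n ∨ ∃ j : ℕ, n = 2 ^ j) := by
    intro ρ₁ ρ₂ hρ hρ2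
    by_cases hP : ∀ P : Sylow 2 G, (P : Subgroup G).Normal
    · exact Or.inl hP
    · push Not at hP
      exact Or.inr (hρ.conclusion hρ2 hsol hP)
  have h2v : (∃ n ∈ RealSizes G, 2 ∣ n) ∧ ((∀ P : Sylow 2 G, (P : Subgroup G).Normal) ∨
        ((∃ σ₁ σ₂ : Set ℕ, Disc (twoGen G) σ₁ σ₂) ∧
          ∀ n ∈ RealSizes (twoGen G), Odd n ∨ ∃ j : ℕ, n = 2 ^ j)) := by
    rcases hD.two_mem with h3 | h3
    · exact ⟨(hD.vert 2 (Or.inl h3)).2, key π₁ π₂ hD h3⟩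
    · exact ⟨(hD.vert 2 (Or.inr h3)).2, key π₂ π₁ hD.symm h3⟩
  obtain ⟨h3, h4⟩ := h2v
  refine ⟨h3, ?_⟩
  rcases h4 with h4 | ⟨⟨σ₁, σ₂, hσ⟩, h5⟩
  · exact Or.inl h4
  · exact Or.inr ⟨⟨σ₁, σ₂, hσ.ne₁, hσ.ne₂, hσ.disj, hσ.vert, hσ.cover, hσ.noedge⟩, h5⟩

end Cfsg.Agent.S4192
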