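import Cfsg.Statements.S4193
import Cfsg.Agent.S3861
import Cfsg.Agent.S3862
import Cfsg.Agent.S3863
import Cfsg.Agent.S0205
import Cfsg.Agent.H538.RealBasics

set_option autoImplicit false
open Cfsg

namespace Cfsg.Agent.S4193

open Cfsg.Agent.H538.RealBasics

/-- a finite 2-group has a normal 2-complement -/
theorem npc_of_isPGroup {K : Type*} [Group K] [Finite K] (hK : IsPGroup 2 K) :
    Cfsg.HasNormalPComplement 2 K := by
  obtain ⟨P⟩ : Nonempty (Sylow 2 K) := inferInstance
  have hP : (P : Subgroup K) = ⊤ := by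
    have h1 : IsPGroup 2 (⊤ : Subgroup K) := hK.to_subgroup ⊤
    exact (P.3 h1 le_top).symm
  refine ⟨P, ⊥, inferInstance, ?_⟩
  rw [hP]
  exact Subgroup.isComplement'_bot_top

/-- a group with an odd-order normal subgroup and a 2-group quotient is solvable -/
theorem solvable_of_npc {K : Type*} [Group K] [Finite K] (h : Cfsg.HasNormalPComplement 2 K) :
    Group.IsSolvable K := by
  obtain ⟨P, N, hN, hc⟩ := h
  have hodd : Odd (Nat.card N) := by
    rw [← Nat.not_even_iff_odd, even_iff_two_dvd]
    have h1 : N.index = Nat.card (P : Subgroup K) := hc.symm.index_eq_card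
    have h2 := P.card_eq_multiplicity
    have h3 : Nat.card N * Nat.card (P : Subgroup K) = Nat.card K := hc.card_mul_card
    intro h4
    have h5 : 2 ^ ((Nat.card K).factorization 2 + 1) ∣ Nat.card K := by
      rw [pow_succ, mul_comm, ← h2]
      calc 2 * Nat.card (P : Subgroup K) ∣ Nat.card N * Nat.card (P : Subgroup K) :=
            Nat.mul_dvd_mul h4 dvd_rfl
        _ = Nat.card K := h3
    exact Nat.pow_succ_factorization_not_dvd (Nat.card_pos.ne') Nat.prime_two h5
  have hNs : Group.IsSolvable N := Cfsg.Agent.S0205.result hodd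
  have hQ : Group.IsSolvable (K ⧸ N) := by
    have h1 : IsPGroup 2 (K ⧸ N) := by
      have h2 : IsPGroup 2 (P : Subgroup K) := P.2
      rw [IsPGroup.iff_card] at h2 ⊢
      obtain ⟨n, hn⟩ := h2
      exact ⟨n, by rw [← hn, ← hc.symm.index_eq_card]; rfl⟩
    have := h1.isNilpotent
    infer_instance
  exact Group.isSolvable_iff_subgroup_quotient N |>.2 ⟨hNs, hQ⟩

/-- Let G be a finite group in which the conjugacy classes of all non-central real elements (elements conjugate to their inverses) have sizes with the same 2-part, and suppose G has a Sylow 2-subgroup S such that every element of S that is conjugate in S to its inverse lies in the centre of S. Then G is solvable and the subgroup generated by the 2-elements of G (the smallest normal subgroup of odd index) has a normal 2-complement. -/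
theorem result {G : Type*} [Group G] [Finite G] (a : ℕ) (h : ∀ x : G, IsConj x x⁻¹ → x ∉ Subgroup.center G → ((Subgroup.centralizer ({x} : Set G)).index).factorization 2 = a) (S : Sylow 2 G) (hS : ∀ s : ↥(S : Subgroup G), IsConj s s⁻¹ → s ∈ Subgroup.center ↥(S : Subgroup G)) : Group.IsSolvable G ∧ Cfsg.HasNormalPComplement 2 ↥(Subgroup.closure {g : G | ∃ k : ℕ, orderOf g = 2 ^ k}) := by
  have hne : ∀ x : G, (Subgroup.centralizer ({x} : Set G)).index ≠ 0 := fun x =>
    Subgroup.index_ne_zero_of_finite
  have hreal2 : ∀ x : G, (∃ j : ℕ, orderOf x = 2 ^ j) → IsConj x x⁻¹ →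
      ((Subgroup.centralizer ({x} : Set G)).index).factorization 2 = 0 := by
    rintro x ⟨j, hj⟩ hx
    obtain ⟨⟨t, ⟨k, hk⟩, ht⟩, -, -⟩ := Cfsg.Agent.S3863.result x hx
    obtain ⟨Q, hxQ, htQ⟩ := exists_sylow_of_inverts hj hk ht
    obtain ⟨g, hg⟩ := MulAction.exists_smul_eq G Q S
    have hmem : ∀ y ∈ (Q : Subgroup G), g * y * g⁻¹ ∈ (S : Subgroup G) := by
      intro y hy
      have : g • Q = S := hg
      rw [← this, Sylow.coe_subgroup_smul]
      exact Subgroup.smul_mem_pointwise_smul y (MulAut.conj g) _ hy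
    have hx' := hmem x hxQ
    have ht' := hmem t htQ
    have hc : (⟨g * x * g⁻¹, hx'⟩ : (S : Subgroup G)) ∈ Subgroup.center (S : Subgroup G) := by
      apply hS
      rw [isConj_iff]
      refine ⟨⟨g * t * g⁻¹, ht'⟩, ?_⟩
      apply Subtype.ext
      change (g * t * g⁻¹) * (g * x * g⁻¹) * (g * t * g⁻¹)⁻¹ = (g * x * g⁻¹)⁻¹
      calc (g * t * g⁻¹) * (g * x * g⁻¹) * (g * t * g⁻¹)⁻¹ = g * (t * x * t⁻¹) * g⁻¹ := by group
        _ = _ := by rw [ht]; group
    have hle : (S : Subgroup G) ≤ Subgroup.centralizer ({g * x * g⁻¹} : Set G) := by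
      intro y hy
      rw [Subgroup.mem_centralizer_singleton_iff]
      have := Subgroup.mem_center_iff.1 hc ⟨y, hy⟩
      exact congrArg Subtype.val this
    have hdvd : (Subgroup.centralizer ({x} : Set G)).index ∣ (S : Subgroup G).index := by
      rw [← index_centralizer_conj x g]
      exact Subgroup.index_dvd_of_le hle
    apply Nat.factorization_eq_zero_of_not_dvd
    intro h2
    exact S.not_dvd_index (h2.trans hdvd)
  by_cases hcase : ∀ x : G, (∃ j : ℕ, orderOf x = 2 ^ j) → IsConj x x⁻¹ → x ∈ Subgroup.center G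
  · have hG := Cfsg.Agent.S3862.result hcase
    refine ⟨solvable_of_npc hG, ?_⟩
    apply Cfsg.Agent.S3862.result
    rintro ⟨x, hxK⟩ ⟨j, hj⟩ hx
    have h1 : orderOf x = 2 ^ j := by rw [← hj, Subgroup.orderOf_mk]
    obtain ⟨c, hc⟩ := isConj_iff.1 hx
    have h2 : IsConj x x⁻¹ := isConj_iff.2 ⟨c, congrArg Subtype.val hc⟩
    have h3 := Subgroup.mem_center_iff.1 (hcase x ⟨j, h1⟩ h2)
    rw [Subgroup.mem_center_iff]
    rintro ⟨y, hy⟩
    exact Subtype.ext (h3 y)
  · push Not at hcase
    obtain ⟨x, hx2, hxr, hxc⟩ := hcase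
    have ha : a = 0 := (h x hxr hxc).symm.trans (hreal2 x hx2 hxr)
    have hall : ∀ y : G, IsConj y y⁻¹ → Odd (Subgroup.centralizer ({y} : Set G)).index := by
      intro y hy
      rw [← Nat.not_even_iff_odd, even_iff_two_dvd]
      by_cases hyc : y ∈ Subgroup.center G
      · have : Subgroup.centralizer ({y} : Set G) = ⊤ := by
          rw [Subgroup.centralizer_eq_top_iff_subset]
          simpa using hyc
        rw [this, Subgroup.index_top]
        norm_num
      · have h1 := h y hy hyc
        rw [ha] at h1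
        intro h2
        have := (Nat.prime_two.dvd_iff_one_le_factorization (hne y)).1 h2
        omega
    have hSn : (S : Subgroup G).Normal := by
      rw [← Cfsg.Agent.S3861.result S]
      intro y hy1 hyo hyr
      obtain ⟨-, h2, -⟩ := Cfsg.Agent.S3863.result y hyr
      have h3 : orderOf y ∣ 2 := orderOf_dvd_of_pow_eq_one (h2 (hall y hyr))
      rcases (Nat.dvd_prime Nat.prime_two).1 h3 with h4 | h4
      · exact hy1 (orderOf_eq_one_iff.1 h4)
      · rw [h4] at hyo
        exact absurd hyo (by decide)
    have hKS : Subgroup.closure {g : G | ∃ k : ℕ, orderOf g = 2 ^ k} ≤ (S : Subgroup G) := by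
      rw [Subgroup.closure_le]
      rintro g ⟨k, hk⟩
      have hp : IsPGroup 2 (Subgroup.zpowers g) := IsPGroup.of_card (n := k) (by
        rw [Nat.card_zpowers, hk])
      obtain ⟨Q, hQ⟩ := hp.exists_le_sylow
      haveI : (S : Subgroup G).Normal := hSn
      have := Sylow.unique_of_normal S hSn
      have hQS : Q = S := Subsingleton.elim _ _
      rw [← hQS]
      exact hQ (Subgroup.mem_zpowers g)
    refine ⟨?_, ?_⟩
    · haveI : (S : Subgroup G).Normal := hSn
      have h1 : Group.IsSolvable (S : Subgroup G) := by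
        have := S.2.isNilpotent
        infer_instance
      have h2 : Group.IsSolvable (G ⧸ (S : Subgroup G)) := by
        apply Cfsg.Agent.S0205.result
        rw [← Nat.not_even_iff_odd, even_iff_two_dvd]
        exact S.not_dvd_index
      exact Group.isSolvable_iff_subgroup_quotient (S : Subgroup G) |>.2 ⟨h1, h2⟩
    · apply npc_of_isPGroup
      exact S.2.to_le hKS

end Cfsg.Agent.S4193
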