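import Cfsg.Statements.S4228
import Cfsg.Agent.S0000
import Cfsg.Agent.H80.Fpf.Reduce
import Cfsg.Agent.H80.Fpf.Final
import Cfsg.Agent.H49.Fpf.MonRow

set_option autoImplicit false
open Cfsg

namespace Cfsg.Agent.S4228

/-- Let G be a finite quasisimple group (perfect, with G modulo its centre simple) acting by automorphisms on a non-trivial finite p-group V for a prime p not dividing the order of G. Let σ be a set of odd prime divisors of the order of G such that for every r ∈ σ the Sylow r-subgroups of G act fixed-point-freely on V (every non-identity element of a Sylow r-subgroup fixes only the identity of V). Then σ has at most two elements. -/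
theorem result {G : Type*} [Group G] [Finite G] (hperf : commutator G = ⊤) (hqs : IsSimpleGroup (G ⧸ Subgroup.center G))
    {V : Type*} [Group V] [Finite V] [Nontrivial V] (p : ℕ) (hp : p.Prime) (hV : IsPGroup p V) (hcop : ¬ p ∣ Nat.card G)
    (φ : G →* MulAut V) (σ : Finset ℕ)
    (hσ : ∀ r ∈ σ, r.Prime ∧ r ≠ 2 ∧ r ∣ Nat.card G ∧ ∀ (R : Sylow r G) (g : G), g ∈ (R : Subgroup G) → g ≠ 1 → ∀ v : V, φ g v = v → v = 1) :
    σ.card ≤ 2 :=
  Cfsg.Agent.H80.Fpf.reduce (fun _ _ _ _ => Cfsg.Agent.H80.Fpf.all_rows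
    (Cfsg.Agent.H49.Fpf.Mon.row_m fun _ _ _ _ => Cfsg.Agent.S0000.result) Cfsg.Agent.S0000.result)
    hperf hqs p hp hV hcop φ σ hσ

end Cfsg.Agent.S4228
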