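import Cfsg.Statements.S4229
import Cfsg.Agent.S0000
import Cfsg.Agent.H545.LT.Final

set_option autoImplicit false
open Cfsg

namespace Cfsg.Agent.S4229

/-- Let G be a finite group and p ≠ q primes such that G has no element of order pq. Then every Sylow p-subgroup of G is abelian, or every Sylow q-subgroup of G is abelian, or {p, q} is {5, 13} or {7, 13} and the quotient of G by its largest normal subgroup of order divisible by neither p nor q is isomorphic to the Monster. -/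
theorem result {G : Type*} [Group G] [Finite G] (p q : ℕ) [Fact p.Prime] [Fact q.Prime] (hpq : p ≠ q)
    (h : ∀ g : G, orderOf g ≠ p * q) :
    (∀ P : Sylow p G, IsMulCommutative (P : Subgroup G)) ∨ (∀ Q : Sylow q G, IsMulCommutative (Q : Subgroup G)) ∨
      ((({p, q} : Finset ℕ) = {5, 13} ∨ ({p, q} : Finset ℕ) = {7, 13}) ∧
        Cfsg.Spor.IsoM (G ⧸ Cfsg.piCore {r : ℕ | r.Prime ∧ r ≠ p ∧ r ≠ q} G)) := by
  have hp : p.Prime := Fact.out
  have hq : q.Prime := Fact.out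
  have hKp : ¬ p ∣ Nat.card (piCore {r : ℕ | r.Prime ∧ r ≠ p ∧ r ≠ q} G) := fun hd =>
    (OddOrderLocal.PiCore.piCore_isPi {r : ℕ | r.Prime ∧ r ≠ p ∧ r ≠ q} p hp hd).2.1 rfl
  have hKq : ¬ q ∣ Nat.card (piCore {r : ℕ | r.Prime ∧ r ≠ p ∧ r ≠ q} G) := fun hd =>
    (OddOrderLocal.PiCore.piCore_isPi {r : ℕ | r.Prime ∧ r ≠ p ∧ r ≠ q} q hq hd).2.2 rfl
  rcases H545.NoPQReduce.reduce hpq h with h1 | h1 | ⟨hX, N, hN, hs, hc, hpN, hqN⟩
  · exact Or.inl h1
  · exact Or.inr (Or.inl h1)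
  · rcases H545.LT.almost hc hs Cfsg.Agent.S0000.result hp hq hpq hpN hqN hX with (h1 | h1) | ⟨h1, h2⟩
    · exact Or.inl (H545.NoPQReduce.lift_sylow _ hKp h1)
    · exact Or.inr (Or.inl (H545.NoPQReduce.lift_sylow _ hKq h1))
    · refine Or.inr (Or.inr ⟨?_, h2⟩)
      rcases h1 with (⟨rfl, rfl⟩ | ⟨rfl, rfl⟩) | (⟨rfl, rfl⟩ | ⟨rfl, rfl⟩)
      · exact Or.inl rfl
      · exact Or.inr rfl
      · exact Or.inl (Finset.pair_comm _ _)
      · exact Or.inr (Finset.pair_comm _ _)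

end Cfsg.Agent.S4229
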