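import Cfsg.Statements.S4237
import Cfsg.Agent.S3975
import Cfsg.Agent.S4157
import Cfsg.Agent.H547.SubCount

set_option autoImplicit false
open Cfsg

namespace Cfsg.Agent.S4237

/-- In a finite cyclic group there is exactly one subgroup of each order dividing the order. -/
theorem card_cyclic {C : Type*} [Group C] [Finite C] [hC : IsCyclic C] {m : ℕ}
    (hm : m ∣ Nat.card C) : Nat.card {H : Subgroup C // Nat.card H = m} = 1 := by
  rw [Nat.card_eq_one_iff_exists]
  obtain ⟨g, hg⟩ := hC.exists_generator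
  have hg' : orderOf g = Nat.card C := orderOf_eq_card_of_forall_mem_zpowers hg
  obtain ⟨k, hk⟩ := hm
  have hk0 : k ≠ 0 := by
    rintro rfl
    rw [mul_zero] at hk
    exact Nat.card_pos.ne' hk
  have hm0 : m ≠ 0 := by
    rintro rfl
    rw [zero_mul] at hk
    exact Nat.card_pos.ne' hk
  refine ⟨⟨Subgroup.zpowers (g ^ k), ?_⟩, ?_⟩
  · rw [Nat.card_zpowers, orderOf_pow_of_dvd hk0 (by rw [hg', hk]; exact dvd_mul_left k m), hg', hk,
      Nat.mul_div_cancel _ (Nat.pos_of_ne_zero hk0)]
  · rintro ⟨H, hH⟩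
    apply Subtype.ext
    apply Subgroup.eq_of_le_of_card_ge
    · intro x hx
      -- `x ^ m = 1`
      have hxm : x ^ m = 1 := by
        rw [← hH]
        exact orderOf_dvd_iff_pow_eq_one.mp (Subgroup.orderOf_dvd_natCard H hx)
      obtain ⟨j, hj⟩ := Subgroup.mem_zpowers_iff.mp (hg x)
      rw [← hj] at hxm ⊢
      rw [← zpow_natCast, ← zpow_mul] at hxm
      have h1 : ((orderOf g : ℕ) : ℤ) ∣ j * m := orderOf_dvd_iff_zpow_eq_one.mpr hxm
      rw [hg', hk] at h1
      push_cast at h1
      rw [mul_comm (m : ℤ) k] at h1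
      obtain ⟨i, hi⟩ := (mul_dvd_mul_iff_right (by exact_mod_cast hm0 : (m : ℤ) ≠ 0)).mp h1
      refine Subgroup.mem_zpowers_iff.mpr ⟨i, ?_⟩
      rw [hi, ← zpow_natCast, ← zpow_mul]
    · rw [hH, Nat.card_zpowers, orderOf_pow_of_dvd hk0 (by rw [hg', hk]; exact dvd_mul_left k m),
        hg', hk, Nat.mul_div_cancel _ (Nat.pos_of_ne_zero hk0)]

/-- Let G be a finite group, p a prime and a a natural number such that p^(a+1) divides the order of G. Then the number of subgroups of G of order p^a is congruent to 1 or to 1 + p modulo p². -/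
theorem result {G : Type*} [Group G] [Finite G] (p a : ℕ) (hp : p.Prime) (hdvd : p ^ (a + 1) ∣ Nat.card G) :
    Nat.card {H : Subgroup G // Nat.card H = p ^ a} ≡ 1 [MOD p ^ 2] ∨
      Nat.card {H : Subgroup G // Nat.card H = p ^ a} ≡ 1 + p [MOD p ^ 2] := by
  have := Fact.mk hp
  by_cases hp2 : p = 2
  · subst hp2
    have h1 := Cfsg.Agent.S3975.result (G := G) 2 a hp ((pow_dvd_pow 2 (Nat.le_succ a)).trans hdvd)
    set N := Nat.card {H : Subgroup G // Nat.card H = 2 ^ a} with hN
    unfold Nat.ModEq at *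
    omega
  · obtain ⟨P⟩ : Nonempty (Sylow p G) := inferInstance
    obtain ⟨n, hn⟩ := IsPGroup.iff_card.mp P.2
    have han : a < n := by
      have h1 : p ^ (a + 1) ∣ Nat.card (P : Subgroup G) := P.pow_dvd_card_of_pow_dvd_card hdvd
      rw [hn] at h1
      exact (Nat.pow_dvd_pow_iff_le_right hp.one_lt).mp h1
    have h1 := Cfsg.Agent.H547.SubCount.card_modEq_sylow P hn han
    by_cases hcyc : IsCyclic (P : Subgroup G)
    · left
      rw [card_cyclic (C := (P : Subgroup G)) (by rw [hn]; exact pow_dvd_pow p han.le)] at h1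
      exact h1
    · rcases Nat.eq_zero_or_pos a with ha | ha
      · left
        have h2 : Nat.card {H : Subgroup (P : Subgroup G) // Nat.card H = p ^ a} = 1 := by
          rw [Nat.card_eq_one_iff_exists]
          refine ⟨⟨⊥, by rw [ha, pow_zero, Subgroup.card_bot]⟩, ?_⟩
          rintro ⟨H, hH⟩
          apply Subtype.ext
          rw [ha, pow_zero] at hH
          exact Subgroup.eq_bot_of_card_eq H hH
        rw [h2] at h1
        exact h1
      · right
        exact h1.trans (Cfsg.Agent.S4157.result n hn hcyc (fun h => absurd h hp2) a ha han)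

end Cfsg.Agent.S4237
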