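import Cfsg.Statements.S4239
import Cfsg.Agent.S0000
import Cfsg.Agent.H548.Strict
import Cfsg.Agent.H548.Rows

set_option autoImplicit false
open Cfsg

namespace Cfsg.Agent.S4239

/-- Let G be a finite non-abelian group, p a prime and P a Sylow p-subgroup of G. Then the order of P divided by the order of the largest normal p-subgroup O_p(G) is strictly less than the largest conjugacy class size of G: there is an element g with #P < #O_p(G) · [G : C_G(g)]. -/
theorem result {G : Type*} [Group G] [Finite G] (hG : ¬ IsMulCommutative G) (p : ℕ) [Fact p.Prime] (P : Sylow p G) :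
    ∃ g : G, Nat.card (P : Subgroup G) < Nat.card (Cfsg.pCore p G) * (Subgroup.centralizer ({g} : Set G)).index := by
  refine H548.Strict.final ?_ hG P
  intro S _ _ hs hna
  exact H548.Rows.crit_of_known hs hna (S0000.result (G := S))

end Cfsg.Agent.S4239
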