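import Cfsg.Statements.S4244

set_option autoImplicit false
open Cfsg

namespace Cfsg.Agent.S4244

theorem relIndex_dvd_of_normal {G : Type*} [Group G] [Finite G] (H K : Subgroup G) [H.Normal] :
    K.relIndex H ∣ K.index := by
  have h1 : K.relIndex (H ⊔ K) = K.relIndex H := by
    have a1 : H.relIndex (H ⊔ K) * Nat.card H = Nat.card (H ⊔ K : Subgroup G) := by
      have := (Subgroup.relIndex_mul_relIndex (⊥ : Subgroup G) H (H ⊔ K) bot_le le_sup_left)
      simp only [Subgroup.relIndex_bot_left] at this
      rw [mul_comm]; exact this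
    have a2 : K.relIndex (H ⊔ K) * Nat.card K = Nat.card (H ⊔ K : Subgroup G) := by
      have := (Subgroup.relIndex_mul_relIndex (⊥ : Subgroup G) K (H ⊔ K) bot_le le_sup_right)
      simp only [Subgroup.relIndex_bot_left] at this
      rw [mul_comm]; exact this
    have a3 : H.relIndex K * Nat.card (H ⊓ K : Subgroup G) = Nat.card K := by
      have := (Subgroup.relIndex_mul_relIndex (⊥ : Subgroup G) (H ⊓ K) K bot_le inf_le_right)
      simp only [Subgroup.relIndex_bot_left, Subgroup.inf_relIndex_right] at this
      rw [mul_comm]; exact this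
    have a4 : K.relIndex H * Nat.card (H ⊓ K : Subgroup G) = Nat.card H := by
      have := (Subgroup.relIndex_mul_relIndex (⊥ : Subgroup G) (H ⊓ K) H bot_le inf_le_left)
      simp only [Subgroup.relIndex_bot_left, Subgroup.inf_relIndex_left] at this
      rw [mul_comm]; exact this
    have a5 : H.relIndex (H ⊔ K) = H.relIndex K := Subgroup.relIndex_sup_left ..
    rw [a5] at a1
    have hK : 0 < Nat.card K := Nat.card_pos
    have hI : 0 < Nat.card (H ⊓ K : Subgroup G) := Nat.card_pos
    apply Nat.eq_of_mul_eq_mul_right hK
    rw [a2, ← a1, ← a4, ← a3]; ring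
  rw [← h1]
  exact Subgroup.relIndex_dvd_index_of_le le_sup_right

/-- Let H be a subnormal subgroup of a finite group G. Then for every subgroup K of G the index of H ∩ K in H divides the index of K in G. -/
theorem result {G : Type*} [Group G] [Finite G] (H : Subgroup G) (hH : H.IsSubnormal) (K : Subgroup G) :
    (H ⊓ K).relIndex H ∣ K.index := by
  rw [Subgroup.inf_relIndex_left]
  induction hH with
  | top => rw [Subgroup.relIndex_top_right]
  | step H L h_le hSubn hN ih =>
    refine dvd_trans ?_ ih
    have h := relIndex_dvd_of_normal (H.subgroupOf L) (K.subgroupOf L)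
    have h2 : (K.subgroupOf L).relIndex (H.subgroupOf L) = K.relIndex H := by
      rw [Subgroup.relIndex_subgroupOf h_le]
    rw [h2] at h
    exact h

end Cfsg.Agent.S4244
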