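import Cfsg.Statements.S4245
import Cfsg.Agent.S4244
import Cfsg.Agent.S0143

set_option autoImplicit false
open Cfsg

namespace Cfsg.Agent.S4245

universe u

/-- the hypothesis, packaged for induction -/
def Hyp (p : ℕ) (G : Type u) [Group G] : Prop :=
  ∃ (A : Subgroup G) (B : Subgroup A) (_ : B.Normal) (s r : ℕ), A.index = p ^ s ∧ IsCyclic B ∧
    IsCyclic (A ⧸ B) ∧ Nat.card (A ⧸ B) = 2 ^ r

theorem hyp_quot {p : ℕ} (hp : p.Prime) {G : Type u} [Group G] [Finite G] {G' : Type u} [Group G'] (f : G →* G')
    (hf : Function.Surjective f) (h : Hyp p G) : Hyp p G' := by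
  obtain ⟨A, B, hBn, s, r, hA, hB, hAB, hr⟩ := h
  obtain ⟨s', -, hs'⟩ := (Nat.dvd_prime_pow hp).1 (hA ▸ Subgroup.index_map_dvd A hf)
  let φ : A →* A.map f := f.subgroupMap A
  have hφ : Function.Surjective φ := f.subgroupMap_surjective A
  haveI : (B.map φ).Normal := Subgroup.Normal.map hBn φ hφ
  let ψ : A ⧸ B →* (A.map f) ⧸ (B.map φ) := QuotientGroup.map B (B.map φ) φ (Subgroup.le_comap_map φ B)
  have hψ : Function.Surjective ψ := by
    intro y
    obtain ⟨y, rfl⟩ := QuotientGroup.mk_surjective y
    obtain ⟨x, rfl⟩ := hφ y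
    exact ⟨(x : A ⧸ B), rfl⟩
  have hd := Subgroup.card_dvd_of_surjective ψ hψ
  rw [hr] at hd
  obtain ⟨r', -, hr'⟩ := (Nat.dvd_prime_pow Nat.prime_two).1 hd
  refine ⟨A.map f, B.map φ, inferInstance, s', r', hs', ?_, isCyclic_of_surjective ψ hψ, hr'⟩
  exact isCyclic_of_surjective (φ.subgroupMap B) (φ.subgroupMap_surjective B)

theorem hyp_sub {p : ℕ} (hp : p.Prime) {G : Type u} [Group G] [Finite G] (N : Subgroup G) [N.Normal]
    (h : Hyp p G) : Hyp p N := by
  obtain ⟨A, B, hBn, s, r, hA, hB, hAB, hr⟩ := h
  have h1 : (A.subgroupOf N).index ∣ p ^ s := hA ▸ S4244.relIndex_dvd_of_normal N A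
  obtain ⟨s', -, hs'⟩ := (Nat.dvd_prime_pow hp).1 h1
  let φ : A.subgroupOf N →* A := (N.subtype.domRestrict (A.subgroupOf N)).codRestrict A (fun x => x.2)
  have hφ : Function.Injective φ := by
    intro x y hxy
    have : ((φ x : A) : G) = ((φ y : A) : G) := by rw [hxy]
    exact Subtype.ext (Subtype.ext this)
  haveI : (B.comap φ).Normal := Subgroup.Normal.comap hBn φ
  let ψ : (A.subgroupOf N) ⧸ (B.comap φ) →* A ⧸ B := QuotientGroup.map (B.comap φ) B φ le_rfl
  have hψ : Function.Injective ψ := by
    rw [injective_iff_map_eq_one]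
    intro y hy
    obtain ⟨y, rfl⟩ := QuotientGroup.mk_surjective y
    rw [QuotientGroup.eq_one_iff]
    have : ((φ y : A) : A ⧸ B) = 1 := hy
    rwa [QuotientGroup.eq_one_iff] at this
  have hd := Subgroup.card_dvd_of_injective ψ hψ
  rw [hr] at hd
  obtain ⟨r', -, hr'⟩ := (Nat.dvd_prime_pow Nat.prime_two).1 hd
  refine ⟨A.subgroupOf N, B.comap φ, inferInstance, s', r', hs', ?_, isCyclic_of_injective ψ hψ, hr'⟩
  let χ : (B.comap φ) →* B := (φ.domRestrict (B.comap φ)).codRestrict B (fun x => x.2)
  have hχ : Function.Injective χ := by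
    intro x y hxy
    have : ((χ x : B) : A) = ((χ y : B) : A) := by rw [hxy]
    exact Subtype.ext (hφ this)
  exact isCyclic_of_injective χ hχ

theorem solvable_of_prime_card {G : Type u} [Group G] [Finite G] (h : (Nat.card G).Prime) :
    Group.IsSolvable G := by
  haveI := Fact.mk h
  haveI : IsCyclic G := isCyclic_of_prime_card (p := Nat.card G) rfl
  letI : CommGroup G := IsCyclic.commGroup
  infer_instance

theorem solvable_of_centralizer_index {G : Type u} [Group G] [Finite G] [IsSimpleGroup G] {p k : ℕ}
    (hp : p.Prime) (g : G) (hg : g ≠ 1)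
    (h : (Subgroup.centralizer ({g} : Set G)).index ∣ p ^ k) : Group.IsSolvable G := by
  obtain ⟨j, -, hj⟩ := (Nat.dvd_prime_pow hp).1 h
  exact solvable_of_prime_card (S0143.result p j hp g hg hj)

theorem simple_case {p : ℕ} (hp : p.Prime) {G : Type u} [Group G] [Finite G] [IsSimpleGroup G]
    (h : Hyp p G) : Group.IsSolvable G := by
  obtain ⟨A, B, hBn, s, r, hA, hB, hAB, hr⟩ := h
  have hBi : B.index = 2 ^ r := by rw [← hr, Subgroup.index_eq_card]
  set B' : Subgroup G := B.map A.subtype with hB'
  have hB'i : B'.index = 2 ^ r * p ^ s := by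
    rw [hB', Subgroup.index_map_subtype, hBi, hA]
  have hcard : Nat.card G = Nat.card B * 2 ^ r * p ^ s := by
    have := Subgroup.index_mul_card B'
    rw [hB'i] at this
    rw [← this, hB', Subgroup.card_map_of_injective A.subtype_injective]; ring
  -- a nontrivial element of B has centralizer containing B'
  have hcent : ∀ b : B, B' ≤ Subgroup.centralizer ({((b : A) : G)} : Set G) := by
    intro b x hx
    obtain ⟨y, hy, rfl⟩ := hx
    rw [Subgroup.mem_centralizer_singleton_iff]
    letI : CommGroup B := IsCyclic.commGroup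
    have hc : (⟨y, hy⟩ : B) * b = b * ⟨y, hy⟩ := by
      exact mul_comm (G := B) _ _
    have h2 := congrArg (fun z : B => ((z : A) : G)) hc
    simpa using h2
  have hne : ∀ b : B, b ≠ 1 → ((b : A) : G) ≠ 1 := by
    intro b hb h1
    exact hb (Subtype.ext (Subtype.ext h1))
  by_cases hp2 : p = 2
  · subst hp2
    by_cases hB1 : Nontrivial B
    · obtain ⟨b, hb⟩ := exists_ne (1 : B)
      refine solvable_of_centralizer_index (p := 2) (k := r + s) Nat.prime_two _ (hne b hb) ?_
      rw [pow_add, ← hB'i]
      exact Subgroup.index_dvd_of_le (hcent b)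
    · rw [not_nontrivial_iff_subsingleton] at hB1
      have h1 : Nat.card B = 1 := Nat.card_eq_one_iff_unique.2 ⟨hB1, ⟨1⟩⟩
      have h2 : Nat.card G = 2 ^ (r + s) := by rw [hcard, h1, pow_add]; ring
      haveI := Fact.mk Nat.prime_two
      have h3 : IsPGroup 2 G := IsPGroup.of_card h2
      haveI : Group.IsNilpotent G := h3.isNilpotent
      infer_instance
  · by_cases hBe : 2 ∣ Nat.card B
    · -- central involution
      haveI := Fact.mk Nat.prime_two
      obtain ⟨t, ht⟩ := exists_prime_orderOf_dvd_card' 2 hBe
      have ht1 : t ≠ 1 := by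
        rintro rfl
        simp at ht
      have huniq : ∀ t' : B, orderOf t' = 2 → t' = t := by
        intro t' ht'
        haveI : Fintype B := Fintype.ofFinite B
        classical
        by_contra hne'
        have h4 := IsCyclic.card_pow_eq_one_le (α := B) (n := 2) (by norm_num)
        have h5 : ({1, t, t'} : Finset B) ⊆ Finset.univ.filter (fun a : B => a ^ 2 = 1) := by
          intro x hx
          simp only [Finset.mem_insert, Finset.mem_singleton] at hx
          simp only [Finset.mem_filter, Finset.mem_univ, true_and]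
          rcases hx with rfl | rfl | rfl
          · simp
          · rw [← ht, pow_orderOf_eq_one]
          · rw [← ht', pow_orderOf_eq_one]
        have h6 := Finset.card_le_card h5
        have h7 : t' ≠ 1 := by
          rintro rfl
          simp at ht'
        have h8 : ({1, t, t'} : Finset B).card = 3 := by
          rw [Finset.card_eq_three]
          exact ⟨1, t, t', ht1.symm, h7.symm, fun h => hne' h.symm, rfl⟩
        omega
      refine solvable_of_centralizer_index (p := p) (k := s) hp _ (hne t ht1) ?_
      rw [← hA]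
      refine Subgroup.index_dvd_of_le ?_
      intro a ha
      rw [Subgroup.mem_centralizer_singleton_iff]
      have h5 : (⟨a, ha⟩ : A) * (t : A) * (⟨a, ha⟩ : A)⁻¹ ∈ B := hBn.conj_mem _ t.2 _
      have h6 : (⟨_, h5⟩ : B) = t := by
        apply huniq
        have e1 : orderOf (⟨_, h5⟩ : B) = orderOf ((⟨a, ha⟩ : A) * (t : A) * (⟨a, ha⟩ : A)⁻¹) :=
          (Subgroup.orderOf_coe (⟨_, h5⟩ : B)).symm
        rw [e1, ← MulAut.conj_apply, MulEquiv.orderOf_eq, Subgroup.orderOf_coe, ht]
      have h7 := congrArg (fun z : B => ((z : A) : G)) h6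
      simp only at h7
      have h8 : a * ((t : A) : G) * a⁻¹ = ((t : A) : G) := by simpa using h7
      exact (mul_inv_eq_iff_eq_mul.1 h8)
    · -- cyclic Sylow 2-subgroup
      by_cases hr0 : r = 0
      · by_cases hB1 : Nontrivial B
        · obtain ⟨b, hb⟩ := exists_ne (1 : B)
          refine solvable_of_centralizer_index (p := p) (k := s) hp _ (hne b hb) ?_
          have := Subgroup.index_dvd_of_le (hcent b)
          rw [hB'i, hr0, pow_zero, one_mul] at this
          exact this
        · rw [not_nontrivial_iff_subsingleton] at hB1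
          have h1 : Nat.card B = 1 := Nat.card_eq_one_iff_unique.2 ⟨hB1, ⟨1⟩⟩
          have h2 : Nat.card G = p ^ s := by rw [hcard, h1, hr0]; ring
          haveI := Fact.mk hp
          have h3 : IsPGroup p G := IsPGroup.of_card h2
          haveI : Group.IsNilpotent G := h3.isNilpotent
          infer_instance
      · haveI := Fact.mk Nat.prime_two
        obtain ⟨T⟩ : Nonempty (Sylow 2 A) := inferInstance
        have hpodd : ¬ 2 ∣ p ^ s := by
          intro h
          exact hp2 ((Nat.prime_dvd_prime_iff_eq Nat.prime_two hp).1 (Nat.prime_two.dvd_of_dvd_pow h)).symm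
        -- T as Sylow of G
        have hTi : ¬ 2 ∣ ((T : Subgroup A).map A.subtype).index := by
          rw [Subgroup.index_map_subtype, hA]
          intro h
          rcases (Nat.Prime.dvd_mul Nat.prime_two).1 h with h | h
          · exact T.not_dvd_index h
          · exact hpodd h
        have hTp : IsPGroup 2 ((T : Subgroup A).map A.subtype) := T.2.map _
        let P : Sylow 2 G := hTp.toSylow hTi
        have hPT : (P : Subgroup G) = (T : Subgroup A).map A.subtype := IsPGroup.toSylow_coe hTp hTi
        -- T is cyclic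
        let ψ : (T : Subgroup A) →* A ⧸ B := (QuotientGroup.mk' B).comp (T : Subgroup A).subtype
        have hψ : Function.Injective ψ := by
          rw [injective_iff_map_eq_one]
          intro x hx
          have hx1 : (x : A) ∈ B := by
            have : (((x : A)) : A ⧸ B) = 1 := hx
            rwa [QuotientGroup.eq_one_iff] at this
          obtain ⟨k, hk⟩ := T.2 x
          have hk' : (x : A) ^ 2 ^ k = 1 := by
            have := congrArg (fun z : (T : Subgroup A) => (z : A)) hk
            simpa using this
          have h1 : orderOf (x : A) ∣ 2 ^ k := orderOf_dvd_of_pow_eq_one hk'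
          have h2 : orderOf (x : A) ∣ Nat.card B := by
            have := orderOf_dvd_natCard (⟨x, hx1⟩ : B)
            rwa [← Subgroup.orderOf_coe] at this
          have h3 : Nat.Coprime (2 ^ k) (Nat.card B) := by
            apply Nat.Coprime.pow_left
            exact (Nat.Prime.coprime_iff_not_dvd Nat.prime_two).2 hBe
          have h4 : orderOf (x : A) = 1 := Nat.eq_one_of_dvd_coprimes h3 h1 h2
          rw [orderOf_eq_one_iff] at h4
          exact Subtype.ext h4
        have hTc : IsCyclic (T : Subgroup A) := isCyclic_of_injective ψ hψ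
        have hPc : IsCyclic (P : Subgroup G) := by
          rw [hPT]
          exact isCyclic_of_surjective (A.subtype.subgroupMap (T : Subgroup A)) (A.subtype.subgroupMap_surjective _)
        have h2G : 2 ∣ Nat.card G := by
          rw [hcard]
          exact Dvd.dvd.mul_right (Dvd.dvd.mul_left (dvd_pow_self 2 hr0) _) _
        have hmin : (Nat.card G).minFac = 2 := (Nat.minFac_eq_two_iff _).2 h2G
        have hcompl := IsCyclic.isComplement' hmin hPc
        set K := (MonoidHom.transferSylow P (hPc.normalizer_le_centralizer hmin)).ker with hK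
        rcases (inferInstance : K.Normal).eq_bot_or_eq_top with hb | hb
        · rw [hb] at hcompl
          have := Subgroup.isComplement'_bot_left.1 hcompl
          have h9 : IsCyclic (⊤ : Subgroup G) := this ▸ hPc
          have h10 : IsCyclic G := isCyclic_of_surjective (Subgroup.topEquiv (G := G)) (Subgroup.topEquiv (G := G)).surjective
          letI : CommGroup G := IsCyclic.commGroup
          infer_instance
        · rw [hb] at hcompl
          have := Subgroup.isComplement'_top_left.1 hcompl
          exfalso
          have h11 := P.card_eq_multiplicity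
          have h12 : Nat.card (P : Subgroup G) = 1 := by rw [this]; exact Subgroup.card_bot
          have h13 : 2 ∣ Nat.card (P : Subgroup G) := P.dvd_card_of_dvd_card h2G
          rw [h12] at h13
          omega

theorem main {p : ℕ} (hp : p.Prime) : ∀ (n : ℕ) (G : Type u) [Group G] [Finite G], Nat.card G = n →
    Hyp p G → Group.IsSolvable G := by
  intro n
  induction n using Nat.strong_induction_on with
  | _ n ih =>
  intro G _ _ hn h
  by_cases hG : Nontrivial G
  · by_cases hN : ∃ N : Subgroup G, N.Normal ∧ N ≠ ⊥ ∧ N ≠ ⊤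
    · obtain ⟨N, hNn, hN1, hN2⟩ := hN
      haveI := hNn
      have hlt : Nat.card N < n := by
        rw [← hn]
        exact lt_of_le_of_ne (Subgroup.card_le_card_group N) (fun h => hN2 (Subgroup.eq_top_of_card_eq N h))
      have hlt2 : Nat.card (G ⧸ N) < n := by
        have h1 := Subgroup.card_eq_card_quotient_mul_card_subgroup N
        have h2 : 1 < Nat.card N := by
          haveI : Nontrivial N := (Subgroup.nontrivial_iff_ne_bot N).2 hN1
          exact Finite.one_lt_card
        have h3 : 0 < Nat.card (G ⧸ N) := Nat.card_pos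
        rw [← hn, h1]; nlinarith
      have hs1 : Group.IsSolvable N := ih _ hlt N rfl (hyp_sub hp N h)
      have hs2 : Group.IsSolvable (G ⧸ N) := ih _ hlt2 (G ⧸ N) rfl (hyp_quot hp (QuotientGroup.mk' N) (QuotientGroup.mk'_surjective N) h)
      exact Group.isSolvable_of_ker_le_range N.subtype (QuotientGroup.mk' N) (by simp)
    · haveI : IsSimpleGroup G := by
        refine ⟨fun N hN' => ?_⟩
        by_contra hcon
        push Not at hcon
        exact hN ⟨N, hN', hcon.1, hcon.2⟩
      exact simple_case hp h
  · rw [not_nontrivial_iff_subsingleton] at hG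
    exact inferInstance

/-- Let G be a finite group with a subgroup A of prime-power index. Suppose A has a normal cyclic subgroup B such that A/B is cyclic of order a power of 2. Then G is solvable. -/
theorem result {G : Type*} [Group G] [Finite G] (A : Subgroup G) (p s : ℕ) (hp : p.Prime) (hA : A.index = p ^ s)
    (B : Subgroup A) [B.Normal] (hB : IsCyclic B) (hAB : IsCyclic (A ⧸ B)) (r : ℕ) (hr : Nat.card (A ⧸ B) = 2 ^ r) :
    Group.IsSolvable G :=
  main hp (Nat.card G) G rfl ⟨A, B, inferInstance, s, r, hA, hB, hAB, hr⟩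

end Cfsg.Agent.S4245
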