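import Cfsg.Statements.S4246
import Cfsg.Agent.H160.PD.Asm
import Cfsg.Agent.H817.PD.Final
import Cfsg.Agent.H817.PD.OutTwo
import Cfsg.Agent.S4350
import Cfsg.Agent.S0000
import Cfsg.Agent.H184.PD.RowsD

set_option autoImplicit false
open scoped Pointwise
open Cfsg

namespace Cfsg.Agent.S4246

/-- Let π be a set of odd primes and let the finite group G = AB be the product of two subgroups A and B each of which is the direct product of a π-subgroup and a π′-subgroup: A = A₁ × A₂ and B = B₁ × B₂ with A₁, B₁ π-groups and A₂, B₂ of order divisible by no prime of π. Then A₁B₁ = B₁A₁ is a subgroup, and it is a Hall π-subgroup of G. -/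
theorem result {G : Type*} [Group G] [Finite G] (π : Set ℕ) (hπ : ∀ p ∈ π, p.Prime ∧ p ≠ 2)
    (A B Aπ Aπ' Bπ Bπ' : Subgroup G) (hG : (A : Set G) * (B : Set G) = Set.univ)
    (hA1 : Aπ ≤ A) (hA2 : Aπ' ≤ A) (hA3 : Aπ ⊔ Aπ' = A)
    (hA4 : ∀ a ∈ Aπ, ∀ b ∈ Aπ', a * b = b * a) (hA5 : Cfsg.IsPiSubgroup π Aπ) (hA6 : Cfsg.IsPiSubgroup {p | p.Prime ∧ p ∉ π} Aπ')
    (hB1 : Bπ ≤ B) (hB2 : Bπ' ≤ B) (hB3 : Bπ ⊔ Bπ' = B)
    (hB4 : ∀ a ∈ Bπ, ∀ b ∈ Bπ', a * b = b * a) (hB5 : Cfsg.IsPiSubgroup π Bπ) (hB6 : Cfsg.IsPiSubgroup {p | p.Prime ∧ p ∉ π} Bπ') :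
    ∃ H : Subgroup G, (H : Set G) = (Aπ : Set G) * (Bπ : Set G) ∧ Cfsg.IsPiHall π H :=
  Cfsg.Agent.H817.PD.S4246_of (fun _ h2 _ _ _ H K hH hK => Cfsg.Agent.S4350.result _ h2 H K hH hK)
    (fun S _ _ _ hna => Cfsg.Agent.H160.PD.row_known (fun _ _ _ _ => Cfsg.Agent.S0000.result)
      (fun K _ _ _ h => Cfsg.Agent.H184.PD.row_on K h) S hna Cfsg.Agent.S0000.result)
    (fun _ _ _ _ hna => Cfsg.Agent.H817.PD.aut_two hna Cfsg.Agent.S0000.result)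
    π hπ A B Aπ Aπ' Bπ Bπ' hG hA1 hA2 hA3 hA4 hA5 hA6 hB1 hB2 hB3 hB4 hB5 hB6

end Cfsg.Agent.S4246
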