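import Cfsg.Statements.S4247
import Cfsg.Agent.H817.DPi.Asm
import Cfsg.Agent.H817.PD.OutTwo
import Cfsg.Agent.H160.PD.Asm
import Cfsg.Agent.H184.PD.RowsD
import Cfsg.Agent.H160.DP.OwnAsm
import Cfsg.Agent.H506.DPL.Fin
import Cfsg.Agent.H783.Her.StLHFull
import Cfsg.Agent.H602.DP.RowFin
import Cfsg.Agent.H602.DPO.RowOFin
import Cfsg.Agent.H715.DPU.Row
import Cfsg.Agent.H363.DQ.Exc
import Cfsg.Agent.H311.DQ.G2
import Cfsg.Agent.H311.DQ.G2K
import Cfsg.Agent.H583.DPi.Rows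
import Cfsg.Agent.S4350
import Cfsg.Agent.S0000

set_option autoImplicit false
open scoped Pointwise
open Cfsg

namespace Cfsg.Agent.S4247

/-- Let π be a set of odd primes and let the finite group G = AB be the product of two subgroups A and B each of which is the direct product of a π-subgroup and a π′-subgroup. Then the maximal π-subgroups of G are pairwise conjugate (G satisfies the Hall–Sylow property for π: Hall π-subgroups exist, are conjugate, and contain every π-subgroup up to conjugacy). -/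
theorem result {G : Type*} [Group G] [Finite G] (π : Set ℕ) (hπ : ∀ p ∈ π, p.Prime ∧ p ≠ 2)
    (A B Aπ Aπ' Bπ Bπ' : Subgroup G) (hG : (A : Set G) * (B : Set G) = Set.univ)
    (hA1 : Aπ ≤ A) (hA2 : Aπ' ≤ A) (hA3 : Aπ ⊔ Aπ' = A)
    (hA4 : ∀ a ∈ Aπ, ∀ b ∈ Aπ', a * b = b * a) (hA5 : Cfsg.IsPiSubgroup π Aπ) (hA6 : Cfsg.IsPiSubgroup {p | p.Prime ∧ p ∉ π} Aπ')
    (hB1 : Bπ ≤ B) (hB2 : Bπ' ≤ B) (hB3 : Bπ ⊔ Bπ' = B)
    (hB4 : ∀ a ∈ Bπ, ∀ b ∈ Bπ', a * b = b * a) (hB5 : Cfsg.IsPiSubgroup π Bπ) (hB6 : Cfsg.IsPiSubgroup {p | p.Prime ∧ p ∉ π} Bπ') :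
    Cfsg.IsDPiGroup π G := by
  have h2 : 2 ∉ π := fun h => (hπ 2 h).2 rfl
  exact Cfsg.Agent.H817.DPi.S4247_of π hπ
    (fun _ _ _ H K hH hK => Cfsg.Agent.S4350.result _ h2 H K hH hK)
    (fun S _ _ _ hna => Cfsg.Agent.H160.PD.row_known (fun _ _ _ _ => Cfsg.Agent.S0000.result)
      (fun K _ _ _ h => Cfsg.Agent.H184.PD.row_on K h) S hna Cfsg.Agent.S0000.result)
    (fun _ _ _ _ hna => Cfsg.Agent.H817.PD.aut_two hna Cfsg.Agent.S0000.result)
    (fun S _ _ _ hna => Cfsg.Agent.H817.DPi.row_all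
      { own := fun S _ _ _ p hp hpπ h => Cfsg.Agent.H160.DP.row_own hp hpπ h
        psl := fun S _ _ _ p hp hpπ h => Cfsg.Agent.H506.DPL.row_psl_fin
          (fun _ _ _ π h2 H K hH hK => Cfsg.Agent.S4350.result π h2 H K hH hK) Cfsg.Agent.H783.Her.st_lh hp hpπ h
        psp := fun S _ _ _ p hp hpπ h => Cfsg.Agent.H602.DP.row_psp hp hpπ h
        psu := fun S _ _ _ p hp hpπ h => Cfsg.Agent.H715.DPU.row_psu hp hpπ h
        om := fun S _ _ _ p hp hpπ h => Cfsg.Agent.H602.DPO.row_om hp hpπ h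
        exc := fun S _ _ _ p hp hpπ h => Cfsg.Agent.H363.DQ.row_exc Cfsg.Agent.OrdDiv.table
          Cfsg.Agent.H563.KG.cycFixSolv (fun _ _ _ _ => Cfsg.Agent.S0000.result)
          (fun F _ _ p f hp hf hF h3 hpπ hs hna P K B hc => by
            have := hs
            exact Cfsg.Agent.H311.DQ.false_G2 Cfsg.Agent.OrdDiv.table Cfsg.Agent.H563.KG.cycFixSolv
              (fun _ _ _ _ => Cfsg.Agent.S0000.result) Cfsg.Agent.H311.DQ.kgTwo hp hf (by rw [← hF]; exact h3)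
              hF hna hpπ hc) S p hp hpπ h
        spor := fun S _ _ _ h => Cfsg.Agent.H583.DPi.row_spor h }
      S hna Cfsg.Agent.S0000.result)
    (fun _ _ _ _ _ h hE => Cfsg.Agent.H817.DPi.dom_lx h2 h hE)
    A B Aπ Aπ' Bπ Bπ' hG hA3 hA4 hA5 hA6 hB3 hB4 hB5 hB6

end Cfsg.Agent.S4247
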