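import Cfsg.Statements.S4267
import Cfsg.Agent.S0000
import Cfsg.Agent.H554.Factor
import Cfsg.Agent.H554.Assembly
import Cfsg.Agent.H964.NoHall.Sporadic

set_option autoImplicit false
open Cfsg

namespace Cfsg.Agent.S4267

/-- Let G be a finite group in which every maximal subgroup is a Hall subgroup (its order is coprime to its index). Then every non-abelian composition factor of G (a non-abelian simple quotient H/N of a subnormal subgroup H) is isomorphic to PSL(2,7), PSL(2,11) or PSL(5,2). -/
theorem result {G : Type*} [Group G] [Finite G]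
    (hmax : ∀ M : Subgroup G, IsCoatom M → (Nat.card M).Coprime M.index)
    (H : Subgroup G) (hH : H.IsSubnormal) (N : Subgroup ↥H) [N.Normal] (hS : IsSimpleGroup (↥H ⧸ N)) (hS' : ¬ IsMulCommutative (↥H ⧸ N)) :
    ∃ (F : Type) (_ : Field F) (_ : Fintype F),
      (Fintype.card F = 7 ∧ Nonempty ((↥H ⧸ N) ≃* Matrix.ProjectiveSpecialLinearGroup (Fin 2) F)) ∨
      (Fintype.card F = 11 ∧ Nonempty ((↥H ⧸ N) ≃* Matrix.ProjectiveSpecialLinearGroup (Fin 2) F)) ∨
      (Fintype.card F = 2 ∧ Nonempty ((↥H ⧸ N) ≃* Matrix.ProjectiveSpecialLinearGroup (Fin 5) F)) := by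
  obtain ⟨A, m, hA⟩ := H554.exists_hallSys hmax H hH N hS hS'
  exact H554.exc_of_known hS' S0000.result (H964.NoHall.noHall_sporadic hS') hA

end Cfsg.Agent.S4267
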