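import Cfsg.Statements.S4268
import Cfsg.Agent.S0000
import Cfsg.Agent.H554.Compl
import Cfsg.Agent.H554.GoodPSL
import Cfsg.Agent.H964.NoHall.Sporadic

set_option autoImplicit false
open Cfsg

namespace Cfsg.Agent.S4268

/-- Let G be a finite group in which every maximal subgroup is a Hall subgroup (its order is coprime to its index). Then every maximal subgroup M of G has a complement: a subgroup K with M ⊓ K trivial and MK = G. -/
theorem result {G : Type*} [Group G] [Finite G]
    (hmax : ∀ M : Subgroup G, IsCoatom M → (Nat.card M).Coprime M.index) (M : Subgroup G) (hM : IsCoatom M) :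
    ∃ K : Subgroup G, Subgroup.IsComplement' M K :=
  H554.exists_compl hmax (fun S _ _ hS hna => by
    haveI := hS
    exact H554.good_of_known hna S0000.result (H964.NoHall.noHall_sporadic hna)) hM

end Cfsg.Agent.S4268
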