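import Cfsg.Statements.S4285
import Cfsg.Agent.H514.OrdMain
import Cfsg.Agent.S0000
import Cfsg.Agent.S4008

set_option autoImplicit false
open Cfsg

namespace Cfsg.Agent.S4285

/-- For a finite group G let a be the number of primes that occur as orders of elements of G and b the number of composite numbers that so occur (always a ≤ b + 3). If a = b + 3 then G is simple. -/
theorem result {G : Type*} [Group G] [Finite G] (h : {q ∈ Set.range (fun g : G => orderOf g) | q.Prime}.ncard = {m ∈ Set.range (fun g : G => orderOf g) | 1 < m ∧ ¬ m.Prime}.ncard + 3) : IsSimpleGroup G := by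
  exact (Cfsg.Agent.H514.OC.Main.main
    (fun _ _ _ _ => Cfsg.Agent.S0000.result) (fun _ _ _ h1 h2 r h3 h4 h5 h6 R _ h7 h8 =>
      Cfsg.Agent.S4008.result h1 h2 r h3 h4 h5 h6 R h7 h8) G h.ge).1

end Cfsg.Agent.S4285
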