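import Cfsg.Statements.S4286
import Cfsg.Agent.S0000
import Cfsg.Agent.H948.SynAll
import Cfsg.Agent.H948.SynHN
import Cfsg.Agent.H149.Sp.Monster
import Cfsg.Agent.H149.Sp.Baby
import Cfsg.Agent.H149.Sp.Th

set_option autoImplicit false
open Cfsg

namespace Cfsg.Agent.S4286

/-- A simplicity criterion from Sylow numbers. Let G be a finite group and suppose the primes dividing at least one Sylow number of G (the number of Sylow r-subgroups, for a prime r) can be split into two nonempty parts such that no Sylow number of G is divisible by the product of a prime from one part and a prime from the other. Then G is not a non-abelian simple group. -/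
theorem result {G : Type*} [Group G] [Finite G] (S : Set ℕ) (hS : ∃ p ∈ S, p.Prime ∧ ∃ r : ℕ, r.Prime ∧ p ∣ Nat.card (Sylow r G)) (hT : ∃ q ∉ S, q.Prime ∧ ∃ r : ℕ, r.Prime ∧ q ∣ Nat.card (Sylow r G)) (hsep : ∀ p q r : ℕ, p.Prime → q.Prime → r.Prime → p ∣ Nat.card G → q ∣ Nat.card G → p ∈ S → q ∉ S → ¬ (p * q ∣ Nat.card (Sylow r G))) : ¬ (IsSimpleGroup G ∧ ¬ IsMulCommutative G) := by
  rintro ⟨hsimp, hna⟩
  have h := Cfsg.Agent.H948.Syn.cfg_of_hyp hna S hS hT hsep
  have hk : IsKnownSimple' G := Cfsg.Agent.S0000.result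
  refine Cfsg.Agent.H948.SynAll.known h hk (fun g => Cfsg.Agent.H948.SynSpor.hn h g) (fun g => ?_) (fun g => ?_)
    (fun g => ?_)
  · have hs : IsSporadicGroup G := by
      unfold IsSporadicGroup
      simp only [g, or_true, true_or]
    exact h.false_of_has3Out (Cfsg.Agent.H149.Sp.has3Out_th g hs)
  · have hs : IsSporadicGroup G := by
      unfold IsSporadicGroup
      simp only [g, or_true, true_or]
    exact h.false_of_has3Out (Cfsg.Agent.H149.Sp.has3Out_b g hs)
  · have hs : IsSporadicGroup G := by
      unfold IsSporadicGroup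
      simp only [g, or_true]
    exact h.false_of_has3Out (Cfsg.Agent.H149.Sp.has3Out_m g hs)

end Cfsg.Agent.S4286
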