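import Cfsg.Statements.S4288
import Cfsg.Agent.H559.SixMain
import Cfsg.Agent.H388.AlmostSimple
import Cfsg.Agent.H436.Simple

set_option autoImplicit false
open Cfsg

namespace Cfsg.Agent.S4288

/-- The unitary group PSU(6,2) (realised over the field with four elements) is characterized by its element orders: a finite group with exactly the same set of element orders is isomorphic to it. -/
theorem result {G : Type*} [Group G] [Finite G] {F : Type*} [Field F] [Fintype F] (hF : Fintype.card F = 4) (h : Set.range (fun g : G => orderOf g) = Set.range (fun x : Cfsg.PSU 6 F 2 => orderOf x)) : Nonempty (G ≃* Cfsg.PSU 6 F 2) :=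
  Cfsg.Agent.H559.SixMain.main
    (fun _ _ _ hns _ hr hodd hrG hno R _ hRs hRmax =>
      Cfsg.Agent.H388.AlmostSimple.main hns hr hodd hrG hno R hRs hRmax)
    (fun _ _ _ _ hS => Cfsg.Agent.H436.name hS) hF h

end Cfsg.Agent.S4288
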