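import Cfsg.Statements.S4289
import Cfsg.Agent.H947.SqMain
import Cfsg.Agent.H947.SqRank2
import Cfsg.Agent.S0482
import Cfsg.Agent.S2473

set_option autoImplicit false
open Cfsg

namespace Cfsg.Agent.S4289

open Cfsg.Agent.H947.Sq in
/-- the simple groups with square-free Sylow numbers -/
theorem row (S : Type*) [Group S] [Finite S] (hS : IsSimpleGroup S) (hna : ¬ IsMulCommutative S) (h : SqSy S) :
    IsP5 S := by
  by_cases hall : ∀ r : ℕ, r.Prime → r ≠ 2 → r ∣ Nat.card S → 2 * r ∈ Set.range (orderOf : S → ℕ)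
  · exfalso
    obtain ⟨n, hn, ⟨e⟩⟩ := Cfsg.Agent.S2473.result hna hall
    have h7 : 7 ≤ n := by
      by_contra hcon
      have h2 := hn 2 Nat.prime_two
      have h3 := hn 3 Nat.prime_three
      have h5 := hn 5 Nat.prime_five
      have hn1 : n ≤ 1 := by omega
      have hsub : Subsingleton (Fin n) := Fin.subsingleton_iff_le_one.2 hn1
      have h6 : Subsingleton (alternatingGroup (Fin n)) := inferInstance
      have h8 : Subsingleton S := e.toEquiv.subsingleton
      exact not_subsingleton S h8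
    exact not_sqSy_alternating h7 (h.congr e)
  · push Not at hall
    obtain ⟨r, hr, hr2, hd, hord⟩ := hall
    haveI : Fact r.Prime := ⟨hr⟩
    have hNA : NA r S := NA.of_order hr hr2 (fun g hg => hord ⟨g, hg⟩)
    exact isP5_of_list hna h (Cfsg.Agent.S0482.result hna (prankLE_two hNA hd (not_four_dvd h hr)))

/-- If for every prime r the number of Sylow r-subgroups of the finite group G is squarefree, then either G is supersolvable, or G = HK⟨x⟩ for normal subgroups H, K and an element x with H ∩ K = Z(H), H isomorphic to PSL(2, p) or SL(2, p) for a prime p ≡ 5 (mod 8). -/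
theorem result {G : Type*} [Group G] [Finite G] (h : ∀ r : ℕ, r.Prime → Squarefree (Nat.card (Sylow r G))) : Cfsg.IsSupersolvable G ∨ ∃ (H K : Subgroup G) (x : G), H.Normal ∧ K.Normal ∧ H ⊔ K ⊔ Subgroup.zpowers x = ⊤ ∧ H ⊓ K = (Subgroup.center H).map H.subtype ∧ (∃ (F : Type) (_ : Field F) (_ : Fintype F) (p : ℕ), p.Prime ∧ p % 8 = 5 ∧ Fintype.card F = p ∧ (Nonempty (H ≃* Matrix.ProjectiveSpecialLinearGroup (Fin 2) F) ∨ Nonempty (H ≃* Matrix.SpecialLinearGroup (Fin 2) F))) :=
  Cfsg.Agent.H947.Sq.main h (fun S _ _ hS hna hSq => row S hS hna hSq)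

end Cfsg.Agent.S4289
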