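import Cfsg.Statements.S4321
import Cfsg.Agent.H566.SingGraph
-- import your own Cfsg.Agent.* helpers here

set_option autoImplicit false
open Cfsg

namespace Cfsg.Agent.S4321

/-- Let `G` be a finite group and `p` a prime not dividing the order of the centre of `G`. Consider the primes dividing the size of some conjugacy class of a `p`-singular element (an element of order divisible by `p`), two of them adjacent when their product divides such a class size. Then any two distinct such primes are joined by a path with at most 3 edges (the graph is connected of diameter at most 3). -/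
theorem result {G : Type*} [Group G] [Finite G] (p : ℕ) [Fact p.Prime]
    (hZ : ¬ p ∣ Nat.card ↥(Subgroup.center G)) (r s : ℕ) (hr : (r.Prime ∧ ∃ x : G, p ∣ orderOf x ∧ r ∣ (Subgroup.centralizer ({x} : Set G)).index)) (hs : (s.Prime ∧ ∃ x : G, p ∣ orderOf x ∧ s ∣ (Subgroup.centralizer ({x} : Set G)).index)) (hrs : r ≠ s) :
    (∃ x : G, p ∣ orderOf x ∧ r * s ∣ (Subgroup.centralizer ({x} : Set G)).index) ∨ (∃ t : ℕ, (t.Prime ∧ ∃ x : G, p ∣ orderOf x ∧ t ∣ (Subgroup.centralizer ({x} : Set G)).index) ∧ t ≠ r ∧ t ≠ s ∧ (∃ x : G, p ∣ orderOf x ∧ r * t ∣ (Subgroup.centralizer ({x} : Set G)).index) ∧ (∃ x : G, p ∣ orderOf x ∧ t * s ∣ (Subgroup.centralizer ({x} : Set G)).index)) ∨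
      (∃ t u : ℕ, (t.Prime ∧ ∃ x : G, p ∣ orderOf x ∧ t ∣ (Subgroup.centralizer ({x} : Set G)).index) ∧ (u.Prime ∧ ∃ x : G, p ∣ orderOf x ∧ u ∣ (Subgroup.centralizer ({x} : Set G)).index) ∧ t ≠ r ∧ u ≠ s ∧ t ≠ u ∧ (∃ x : G, p ∣ orderOf x ∧ r * t ∣ (Subgroup.centralizer ({x} : Set G)).index) ∧ (∃ x : G, p ∣ orderOf x ∧ t * u ∣ (Subgroup.centralizer ({x} : Set G)).index) ∧ (∃ x : G, p ∣ orderOf x ∧ u * s ∣ (Subgroup.centralizer ({x} : Set G)).index)) := by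
  obtain ⟨hr, x, hx, hrx⟩ := hr
  obtain ⟨hs, y, hy, hsy⟩ := hs
  obtain ⟨w, hw, h1, h2⟩ := Cfsg.Agent.H566.SingGraph.exists_link hZ hx hy
  obtain ⟨t, ht, htd⟩ := Nat.exists_prime_and_dvd (n := Nat.gcd _ _) h1
  obtain ⟨u, hu, hud⟩ := Nat.exists_prime_and_dvd (n := Nat.gcd _ _) h2
  have htw := htd.trans (Nat.gcd_dvd_left _ _)
  have htx := htd.trans (Nat.gcd_dvd_right _ _)
  have huw := hud.trans (Nat.gcd_dvd_left _ _)
  have huy := hud.trans (Nat.gcd_dvd_right _ _)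
  have mk : ∀ {a b n : ℕ}, a.Prime → b.Prime → a ≠ b → a ∣ n → b ∣ n → a * b ∣ n := fun ha hb hab h3 h4 =>
    ((Nat.coprime_primes ha hb).2 hab).mul_dvd_of_dvd_of_dvd h3 h4
  by_cases htr : t = r
  · subst htr
    by_cases hus : u = s
    · subst hus
      exact Or.inl ⟨w, hw, mk ht hu hrs htw huw⟩
    by_cases hut : u = t
    · subst hut
      exact Or.inl ⟨y, hy, mk hu hs hrs huy hsy⟩
    exact Or.inr (Or.inl ⟨u, ⟨hu, w, hw, huw⟩, hut, hus, ⟨w, hw, mk ht hu (Ne.symm hut) htw huw⟩,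
      ⟨y, hy, mk hu hs hus huy hsy⟩⟩)
  by_cases hts : t = s
  · subst hts
    exact Or.inl ⟨x, hx, mk hr ht hrs hrx htx⟩
  by_cases hut : u = t
  · subst hut
    exact Or.inr (Or.inl ⟨u, ⟨hu, w, hw, huw⟩, htr, hts, ⟨x, hx, mk hr hu (Ne.symm htr) hrx htx⟩,
      ⟨y, hy, mk hu hs hts huy hsy⟩⟩)
  by_cases hus : u = s
  · subst hus
    exact Or.inr (Or.inl ⟨t, ⟨ht, w, hw, htw⟩, htr, hts, ⟨x, hx, mk hr ht (Ne.symm htr) hrx htx⟩,
      ⟨w, hw, mk ht hu hts htw huw⟩⟩)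
  exact Or.inr (Or.inr ⟨t, u, ⟨ht, w, hw, htw⟩, ⟨hu, w, hw, huw⟩, htr, hus, Ne.symm hut,
    ⟨x, hx, mk hr ht (Ne.symm htr) hrx htx⟩, ⟨w, hw, mk ht hu (Ne.symm hut) htw huw⟩,
    ⟨y, hy, mk hu hs hus huy hsy⟩⟩)

end Cfsg.Agent.S4321
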