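import Cfsg.Statements.S4328
-- import your own Cfsg.Agent.* helpers here
import Cfsg.Agent.H568.RowAll
import Cfsg.Agent.H566.SubnMain

set_option autoImplicit false
open Cfsg

namespace Cfsg.Agent.S4328

/-- Let G be a finite group, p an odd prime and A a p-subgroup of G such that every conjugacy class of G contains an element g for which A is subnormal in the subgroup generated by A and g. Then A is contained in O_p(G). -/
theorem result {G : Type*} [Group G] [Finite G]
    (p : ℕ) [Fact p.Prime] (hp : p ≠ 2) (A : Subgroup G) (hA : IsPGroup p A)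
    (h : ∀ c : G, ∃ g : G, IsConj c g ∧ (A.subgroupOf (A ⊔ Subgroup.zpowers g)).IsSubnormal) :
    A ≤ Cfsg.pCore p G := by
  exact Cfsg.Agent.H566.Subn.main hp (fun K _ _ _ hna => Cfsg.Agent.H568.RowAsm.row_all K hna p hp) G A hA h

end Cfsg.Agent.S4328
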