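import Cfsg.Statements.S4329
-- import your own Cfsg.Agent.* helpers here
import Cfsg.Agent.H568.RowAll
import Cfsg.Agent.H568.RowRed

set_option autoImplicit false
open Pointwise
open Cfsg

namespace Cfsg.Agent.S4329

/-- Let G be a finite group with a normal non-abelian simple subgroup S whose centralizer is trivial, let p be an odd prime dividing the order of G, and let A be a subgroup of G of order p. Then there is a cyclic subgroup X of S of order prime to p such that X normalizes no nontrivial p-subgroup of G that is generated by conjugates of A. -/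
theorem result {G : Type*} [Group G] [Finite G]
    (S : Subgroup G) [S.Normal] (hS : IsSimpleGroup S) (hSn : ¬ IsMulCommutative S)
    (hC : Subgroup.centralizer (S : Set G) = ⊥) (p : ℕ) [Fact p.Prime] (hp : p ≠ 2) (hpG : p ∣ Nat.card G)
    (A : Subgroup G) (hA : Nat.card A = p) :
    ∃ X : Subgroup G, X ≤ S ∧ IsCyclic X ∧ ¬ p ∣ Nat.card X ∧
      ∀ Y : Subgroup G, IsPGroup p Y → Y ≠ ⊥ →
        Y = Subgroup.closure (⋃ g ∈ {g : G | MulAut.conj g • A ≤ Y}, ((MulAut.conj g • A : Subgroup G) : Set G)) →
        ¬ X ≤ Subgroup.normalizer (Y : Set G) := by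
  exact Cfsg.Agent.H568.of_row S hC p A hA (Cfsg.Agent.H568.RowAsm.row_all ↥S hSn p hp)

end Cfsg.Agent.S4329
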