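import Cfsg.Statements.S4597
-- import your own Cfsg.Agent.* helpers here
import Cfsg.Agent.H630.KnownAll

set_option autoImplicit false
open Cfsg

namespace Cfsg.Agent.S4597

/-- Let G be a finite group and π a set of primes. Then G has a nilpotent Hall π-subgroup if and only if for every pair of distinct primes p, q in π, no p-element of G has conjugacy class size divisible by q. -/
theorem result {G : Type*} [Group G] [Finite G] (π : Set ℕ) (hπ : ∀ p ∈ π, p.Prime) :
    (∃ H : Subgroup G, Cfsg.IsPiHall π H ∧ Group.IsNilpotent H) ↔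
      ∀ p ∈ π, ∀ q ∈ π, p ≠ q → ∀ x : G, (∃ k : ℕ, orderOf x = p ^ k) → ¬ q ∣ (Subgroup.centralizer ({x} : Set G)).index := by
  refine ⟨fun ⟨H, hH, hn⟩ => ?_, fun h => ?_⟩
  · exact Cfsg.Agent.H630.NH.cond_of_hall hπ H hH hn
  · exact Cfsg.Agent.H630.NH.main (fun X _ _ _ hX => Cfsg.Agent.H630.NH.row_simple hX)
      (fun X _ _ _ hX => Cfsg.Agent.H630.NH.two_simple hX) hπ h

end Cfsg.Agent.S4597
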