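import Cfsg.Statements.S4335
import Cfsg.Agent.H165.WielE
import Cfsg.Agent.S4350
import Cfsg.Agent.S4597
import Cfsg.Agent.H383.TriAll
import Cfsg.Agent.H180.TriH.Final
import Cfsg.Agent.H630.KnownAll
import Cfsg.Agent.OrdDiv.Table

set_option autoImplicit false
open Cfsg

namespace Cfsg.Agent.S4335

/-- The transitivity of the condition `Cond {p, q}` for every nonabelian simple group. -/
private theorem tri_all (X : Type*) [Group X] [Finite X] [IsSimpleGroup X] (hX : ¬ IsMulCommutative X) :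
    Cfsg.Agent.H383.TriRow.TriH X :=
  Cfsg.Agent.H383.TriRow.triH_known
    (fun Y _ _ _ hY => Cfsg.Agent.H180.TH.triH_of_sporadic
      (Cfsg.Agent.H241.NH.three_of fun K hK hC => Cfsg.Agent.S3331.result K hK hC)
      Cfsg.Agent.OrdDiv.table Cfsg.Agent.OrdDiv.table
      (fun _ _ _ _ => Cfsg.Agent.S0000.result) (fun _ _ _ _ => Cfsg.Agent.S0000.result) Y hY) hX
    (Cfsg.Agent.S0000.result)

/-- Let σ and τ be disjoint sets of primes with union π, and suppose a finite group G has a Hall π-subgroup H which is the direct product of a σ-subgroup and a τ-subgroup (two elementwise-commuting subgroups generating H). Then the maximal π-subgroups of G are pairwise conjugate if and only if both the maximal σ-subgroups and the maximal τ-subgroups of G are pairwise conjugate. -/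
theorem result {G : Type*} [Group G] [Finite G]
    (σ τ π : Set ℕ) (hπ : π = σ ∪ τ) (hd : Disjoint σ τ) (H Hs Ht : Subgroup G) (hH : Cfsg.IsPiHall π H)
    (hs : Cfsg.IsPiSubgroup σ Hs) (ht : Cfsg.IsPiSubgroup τ Ht)
    (hjoin : Hs ⊔ Ht = H) (hcomm : ∀ a ∈ Hs, ∀ b ∈ Ht, a * b = b * a) :
    Cfsg.IsDPiGroup π G ↔ Cfsg.IsDPiGroup σ G ∧ Cfsg.IsDPiGroup τ G := by
  exact Cfsg.Agent.H165.Wiel.main (fun X _ _ ρ h2 H K hH hK => Cfsg.Agent.S4350.result ρ h2 H K hH hK)
    (Cfsg.Agent.H165.Wiel.simpleNil_of (fun X _ _ _ hX => tri_all X hX)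
      (fun X _ _ π' hπ' hc => (Cfsg.Agent.S4597.result π' hπ').2 hc)) σ τ π hπ hd H Hs Ht hH hs ht hjoin hcomm

end Cfsg.Agent.S4335
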