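import Cfsg.Statements.S4349
import Cfsg.Agent.H572.SymSylowE

set_option autoImplicit false
open Cfsg

namespace Cfsg.Agent.S4349

/-- Let n ≥ 2 and let x be an element of 2-power order of the symmetric group of degree n. Then x lies in exactly one Sylow 2-subgroup if and only if x has at most two fixed points and the nontrivial cycles of x have pairwise different lengths. -/
theorem result (n : ℕ) (hn : 2 ≤ n)
    (x : Equiv.Perm (Fin n)) (hx : ∃ k : ℕ, orderOf x = 2 ^ k) :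
    (∃! P : Sylow 2 (Equiv.Perm (Fin n)), x ∈ P) ↔ (n ≤ x.support.card + 2 ∧ x.cycleType.Nodup) := by
  obtain ⟨k, hk⟩ := hx
  have hx : x ^ 2 ^ k = 1 := by rw [← hk]; exact pow_orderOf_eq_one x
  rw [← Cfsg.Agent.H572.SymSylow.FF_iff, ← Cfsg.Agent.H572.SymSylow.DD_iff]
  constructor
  · rintro ⟨R, -, hR⟩
    have hu : ∀ P Q : Sylow 2 (Equiv.Perm (Fin n)), x ∈ P → x ∈ Q → P = Q :=
      fun P Q hP hQ => (hR P hP).trans (hR Q hQ).symm
    exact ⟨Cfsg.Agent.H572.SymSylow.FF_of_unique hx hu, Cfsg.Agent.H572.SymSylow.DD_of_unique hx hu⟩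
  · rintro ⟨hF, hD⟩
    obtain ⟨P, hP, -⟩ := Cfsg.Agent.H572.SymSylow.mem_closure_isPGroup hx hx rfl
    exact ⟨P, hP, fun Q hQ => Cfsg.Agent.H572.SymSylow.main n (Fin n) (Fintype.card_fin n) x ⟨k, hx⟩ hD hF Q P hQ hP⟩

end Cfsg.Agent.S4349
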