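import Cfsg.Statements.S4352
import Cfsg.Agent.H567.PCentSeven
import Cfsg.Agent.S4194
import Cfsg.Agent.S0000

set_option autoImplicit false
open Cfsg

namespace Cfsg.Agent.S4352

/-- Let G be a finite group and p a prime. If the Sylow p-subgroups of G are non-abelian while every element of p-power order has conjugacy class size prime to p (its centralizer contains a Sylow p-subgroup), then p = 3 or p = 5. -/
theorem result {G : Type*} [Group G] [Finite G]
    (p : ℕ) [Fact p.Prime] (h : ((∃ P : Sylow p G, ¬ IsMulCommutative P) ∧ ∀ x : G, (∃ k : ℕ, orderOf x = p ^ k) → ¬ p ∣ (Subgroup.centralizer ({x} : Set G)).index)) : p = 3 ∨ p = 5 := by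
  obtain ⟨⟨P, hP⟩, hx⟩ := h
  have hp : p.Prime := Fact.out
  by_contra hcon
  push Not at hcon
  obtain ⟨h3, h5⟩ := hcon
  by_cases h2 : p = 2
  · subst h2
    refine hP ((Cfsg.Agent.S4194.result P).2 fun x hx' => ?_)
    exact Cfsg.Agent.H573.exists_sylow_le_of_index _ (hx x hx')
  have h7 : 7 ≤ p := by
    by_contra hlt
    have h1 := hp.two_le
    have h4 : p ≠ 4 := by rintro rfl; exact absurd hp (by norm_num)
    have h6 : p ≠ 6 := by rintro rfl; exact absurd hp (by norm_num)
    omega
  exact hP (Cfsg.Agent.H567.PCentSeven.comm_of_simple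
    (fun S _ _ _ hc Q => Cfsg.Agent.H567.PCentSeven.known_seven Cfsg.Agent.S0000.result h7 hc Q) _ G rfl hx P)

end Cfsg.Agent.S4352
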