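import Cfsg.Statements.S4353
import Cfsg.Agent.H567.PCentSimple
import Cfsg.Agent.S1068
import Cfsg.Agent.S4194
import Cfsg.Agent.S0000

set_option autoImplicit false
open Cfsg

namespace Cfsg.Agent.S4353

/-- Let G be a finite non-abelian simple group and p a prime such that the Sylow p-subgroups of G are non-abelian while every element of p-power order has conjugacy class size prime to p. Then p = 3 and G is the Tits group, the Janko group J₄, the Rudvalis group or a large Ree group (each identified here as a simple group of the corresponding order), or p = 5 and G is the Thompson group (likewise). -/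
theorem result {G : Type*} [Group G] [Finite G]
    [IsSimpleGroup G] (hG : ¬ IsMulCommutative G) (p : ℕ) [Fact p.Prime] (h : ((∃ P : Sylow p G, ¬ IsMulCommutative P) ∧ ∀ x : G, (∃ k : ℕ, orderOf x = p ^ k) → ¬ p ∣ (Subgroup.centralizer ({x} : Set G)).index)) :
    (p = 3 ∧ (Cfsg.IsTits G ∨ Cfsg.IsJ4 G ∨ Cfsg.IsRu G ∨ Cfsg.IsLargeRee G)) ∨ (p = 5 ∧ Cfsg.IsTh G) := by
  obtain ⟨⟨P, hP⟩, hx⟩ := h
  by_cases h2 : p = 2
  · subst h2
    refine absurd ((Cfsg.Agent.S4194.result P).2 fun x hx' => ?_) hP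
    exact Cfsg.Agent.H573.exists_sylow_le_of_index _ (hx x hx')
  rcases Cfsg.Agent.H567.PCentSimple.known (G := G) Cfsg.Agent.S0000.result h2 hx with h1 | ⟨h3, h1 | h1 | h1 | h1⟩ | ⟨h5, h1⟩
  · exact absurd (h1 P) hP
  · refine Or.inl ⟨h3, Or.inl ⟨inferInstance, ?_⟩⟩
    obtain ⟨e⟩ := h1
    rw [Nat.card_congr e.toEquiv, Cfsg.Agent.Omega.TitsIso.TitsSide.facts.2.2]
  · exact Or.inl ⟨h3, Or.inr (Or.inl ⟨inferInstance, Cfsg.Agent.NotCT.Orders.j4 h1⟩)⟩
  · exact Or.inl ⟨h3, Or.inr (Or.inr (Or.inl ⟨inferInstance, Cfsg.Agent.NotCT.Orders.ru h1⟩))⟩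
  · refine Or.inl ⟨h3, Or.inr (Or.inr (Or.inr ⟨inferInstance, ?_⟩))⟩
    obtain ⟨K, _, _, m, hm, hK, ⟨e⟩⟩ := h1
    refine ⟨m, hm, ?_⟩
    rw [Nat.card_congr e.toEquiv, Cfsg.Agent.S1068.result hK]
    ring
  · exact Or.inr ⟨h5, inferInstance, Cfsg.Agent.NotCT.Orders.th h1⟩

end Cfsg.Agent.S4353
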