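import Cfsg.Statements.S4364
import Cfsg.Agent.H576.Kazarin
import Cfsg.Agent.Lib.Cores

set_option autoImplicit false
open Cfsg

namespace Cfsg.Agent.S4364

/-- Two conjugates of an element with a class of `p`-power size commute if `O_p(G) = 1`. -/
theorem commute_of_pCore_eq_bot {G : Type*} [Group G] [Finite G] (p : ℕ) [Fact p.Prime]
    (x : G) (hx : ∃ a : ℕ, (Subgroup.centralizer ({x} : Set G)).index = p ^ a)
    (hO : pCore p G = ⊥) (y z : G) (hy : y ∈ Subgroup.normalClosure ({x} : Set G))
    (hz : z ∈ Subgroup.normalClosure ({x} : Set G)) : y * z = z * y := by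
  obtain ⟨a, ha⟩ := hx
  have hp : p.Prime := Fact.out
  obtain ⟨N, hNn, hNs, hxN⟩ :=
    Cfsg.Agent.H576.Kazarin.exists_normal_solvable hp _ G le_rfl x a ha
  have hle : Subgroup.normalClosure ({x} : Set G) ≤ N :=
    Subgroup.normalClosure_le_normal (by simpa using hxN)
  have hs : Group.IsSolvable (Subgroup.normalClosure ({x} : Set G)) :=
    Cfsg.Agent.SignalizersComponents.ComponentExists.isSolvable_of_le hle hNs
  -- `x` centralizes the Fitting subgroup
  have hF : fittingSubgroup G ≤ Subgroup.centralizer ({x} : Set G) := by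
    rw [Cfsg.Agent.Lib.Cores.fittingSubgroup_eq_iSup_pCore]
    refine iSup_le fun q => ?_
    have hq : Fact (q : ℕ).Prime := ⟨q.2⟩
    by_cases hqp : (q : ℕ) = p
    · rw [hqp, hO]; exact bot_le
    · have h1 := Cfsg.Agent.Lib.GoldschmidtFusion.relIndex_dvd_index_of_normal_right
        (Subgroup.centralizer ({x} : Set G)) (pCore (q : ℕ) G)
      have h2 := Subgroup.relIndex_dvd_card (Subgroup.centralizer ({x} : Set G)) (pCore (q : ℕ) G)
      obtain ⟨m, hm⟩ := (IsPGroup.iff_card).1 (Cfsg.Agent.Lib.Cores.pCore_isPGroup (G := G) (q : ℕ))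
      rw [hm] at h2
      rw [ha] at h1
      have h3 : Nat.Coprime (p ^ a) ((q : ℕ) ^ m) :=
        Nat.Coprime.pow _ _ ((Nat.coprime_primes hp q.2).2 (Ne.symm hqp))
      rw [← Subgroup.relIndex_eq_one]
      exact Nat.eq_one_of_dvd_coprimes h3 h1 h2
  have hC : Subgroup.normalClosure ({x} : Set G) ≤
      Subgroup.centralizer (fittingSubgroup G : Set G) := by
    apply Subgroup.normalClosure_le_normal
    rintro w hw
    rw [Set.mem_singleton_iff] at hw
    subst hw
    refine Subgroup.mem_centralizer_iff.2 fun g hg => ?_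
    exact Subgroup.mem_centralizer_singleton_iff.1 (hF hg)
  have hNF := Cfsg.Agent.SignalizersComponents.ComponentExists.le_fitting_of_normal_of_isSolvable
    (Subgroup.normalClosure_normal (s := ({x} : Set G))) hs hC
  exact Subgroup.mem_centralizer_iff.1 (hC hz) y (hNF hy)

/-- Let G be a finite group, p a prime and x an element whose conjugacy class has p-power size. Then for any two conjugates y and z of x, the commutator y z y⁻¹ z⁻¹ lies in O_p(G), the largest normal p-subgroup of G. -/
theorem result {G : Type*} [Group G] [Finite G] (p : ℕ) [Fact p.Prime]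
    (x : G) (hx : ∃ a : ℕ, (Subgroup.centralizer ({x} : Set G)).index = p ^ a) (g h : G) :
    (g * x * g⁻¹) * (h * x * h⁻¹) * (g * x * g⁻¹)⁻¹ * (h * x * h⁻¹)⁻¹ ∈ Cfsg.pCore p G := by
  have hp : p.Prime := Fact.out
  obtain ⟨a, ha⟩ := hx
  let π := QuotientGroup.mk' (pCore p G)
  have hπ : Function.Surjective π := QuotientGroup.mk'_surjective _
  obtain ⟨m, -, hm⟩ := (Nat.dvd_prime_pow hp).1
    (ha ▸ Cfsg.Agent.H576.Kazarin.index_centralizer_map_dvd π hπ x)
  have h1 : ∀ g : G, π (g * x * g⁻¹) ∈ Subgroup.normalClosure ({π x} : Set (G ⧸ pCore p G)) := by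
    intro g
    rw [map_mul, map_mul, map_inv]
    exact Subgroup.normalClosure_normal.conj_mem _
      (Subgroup.subset_normalClosure (Set.mem_singleton _)) _
  have h2 := commute_of_pCore_eq_bot p (π x) ⟨m, hm⟩ (Cfsg.Agent.Lib.Cores.pCore_quotient_pCore p)
    _ _ (h1 g) (h1 h)
  rw [← QuotientGroup.eq_one_iff]
  change π _ = 1
  rw [map_mul, map_mul, map_mul, map_inv π (g * x * g⁻¹), map_inv π (h * x * h⁻¹), h2]
  group

end Cfsg.Agent.S4364
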