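import Cfsg.Statements.S4368
import Cfsg.Agent.S0000
import Cfsg.Agent.H534.FiveRowsB

set_option autoImplicit false
open Cfsg

namespace Cfsg.Agent.S4368

theorem exists_field_nine : ∃ (F : Type) (_ : Field F) (_ : Fintype F), Fintype.card F = 9 := by
  have : Fact (Nat.Prime 3) := ⟨Nat.prime_three⟩
  let _ : Fintype (GaloisField 3 2) := Fintype.ofFinite _
  exact ⟨GaloisField 3 2, inferInstance, inferInstance, by
    rw [← Nat.card_eq_fintype_card, GaloisField.card 3 2 (by norm_num)]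
    norm_num⟩

/-- Let S be a finite non-abelian simple group of order divisible by 5 in which the centralizer of every non-identity 5-element is a 5-group. Then S is isomorphic to one of: PSL(2, 5ᶠ) (f ≥ 1); PSL(2, p) for a prime p of the form 2·5ᶠ ± 1; PSL(2, 9); PSL(2, 49); PSL(3, 4); a Suzuki group over the field with 8 or 32 elements; PSp(4, 3); PSU(4, 3); PSp(4, 7); the alternating group of degree 7; or the Mathieu group M₁₁ or M₂₂. -/
theorem result {S : Type*} [Group S] [Finite S]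
    [IsSimpleGroup S] (hS : ¬ IsMulCommutative S) (h : (5 ∣ Nat.card S ∧ ∀ x : S, x ≠ 1 → (∃ k : ℕ, orderOf x = 5 ^ k) → IsPGroup 5 (Subgroup.centralizer ({x} : Set S)))) :
    (∃ (F : Type) (_ : Field F) (_ : Fintype F), ((∃ f : ℕ, 1 ≤ f ∧ Fintype.card F = 5 ^ f) ∨
        (∃ f : ℕ, (Fintype.card F).Prime ∧ (Fintype.card F = 2 * 5 ^ f + 1 ∨ Fintype.card F + 1 = 2 * 5 ^ f)) ∨
        Fintype.card F = 9 ∨ Fintype.card F = 49) ∧
      Nonempty (S ≃* Matrix.ProjectiveSpecialLinearGroup (Fin 2) F)) ∨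
    (∃ (F : Type) (_ : Field F) (_ : Fintype F), Fintype.card F = 4 ∧ Nonempty (S ≃* Matrix.ProjectiveSpecialLinearGroup (Fin 3) F)) ∨
    (Cfsg.Lie.IsoSuzuki S ∧ (Nat.card S = 29120 ∨ Nat.card S = 32537600)) ∨
    (∃ (F : Type) (_ : Field F) (_ : Fintype F), Fintype.card F = 3 ∧ Nonempty (S ≃* Cfsg.PSp 2 F)) ∨
    (∃ (F : Type) (_ : Field F) (_ : Fintype F), Fintype.card F = 9 ∧ Nonempty (S ≃* Cfsg.PSU 4 F 3)) ∨
    (∃ (F : Type) (_ : Field F) (_ : Fintype F), Fintype.card F = 7 ∧ Nonempty (S ≃* Cfsg.PSp 2 F)) ∨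
    Nonempty (S ≃* alternatingGroup (Fin 7)) ∨ Nonempty (S ≃* Cfsg.Spor.M11) ∨ Nonempty (S ≃* Cfsg.Spor.M22) := by
  open Cfsg.Agent.H534.Five in
  obtain ⟨h5, hc⟩ := h
  have hI : Iso5 S := iso5_of_hyp hc
  rcases Cfsg.Agent.S0000.result (G := S) with hG | hG | hG | hG | hG | hG | hG | hG | hG | hG
  · -- cyclic
    exfalso
    have hp : Fact (Nat.card S).Prime := ⟨hG⟩
    have hcy : IsCyclic S := isCyclic_of_prime_card (p := Nat.card S) rfl
    exact hS ⟨⟨fun a b => (@IsCyclic.commGroup S _ hcy).mul_comm a b⟩⟩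
  · -- alternating
    obtain ⟨n, hn, ⟨e⟩⟩ := hG
    by_cases hn8 : 8 ≤ n
    · exact (alt hn8 (hI.congr e)).elim
    have hn' : n = 5 ∨ n = 6 ∨ n = 7 := by omega
    rcases hn' with rfl | rfl | rfl
    · left
      have : Fact (Nat.Prime 5) := ⟨Nat.prime_five⟩
      obtain ⟨e'⟩ := Cfsg.Agent.S0253.result (F := ZMod 5) (ZMod.card 5)
      exact ⟨ZMod 5, inferInstance, inferInstance, Or.inl ⟨1, le_rfl, by rw [ZMod.card]; norm_num⟩, ⟨e.trans e'.symm⟩⟩
    · left
      have : Fact (Nat.Prime 3) := ⟨Nat.prime_three⟩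
      obtain ⟨F, iF, iF', hc9⟩ := exists_field_nine
      obtain ⟨e'⟩ := Cfsg.Agent.S0254.result (F := F) hc9
      exact ⟨F, iF, iF', Or.inr (Or.inr (Or.inl hc9)), ⟨e.trans e'.symm⟩⟩
    · iterate 6 right
      left
      exact ⟨e⟩
  · -- linear
    obtain ⟨F, iF, iF', n, hn, hn4, ⟨e⟩⟩ := hG
    have h5' := h5
    rw [Nat.card_congr e.toEquiv] at h5'
    by_cases hn2 : n = 2
    · subst hn2
      rcases psl_two F rfl (hn4 rfl) h5' (hI.congr e) with h1 | h1 | h1 | h1 | h1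
      · left; exact ⟨F, iF, iF', Or.inl h1, ⟨e⟩⟩
      · left; exact ⟨F, iF, iF', Or.inr (Or.inl h1), ⟨e⟩⟩
      · left; exact ⟨F, iF, iF', Or.inr (Or.inr (Or.inl h1)), ⟨e⟩⟩
      · left; exact ⟨F, iF, iF', Or.inr (Or.inr (Or.inr h1)), ⟨e⟩⟩
      · left
        have : Fact (Nat.Prime 5) := ⟨Nat.prime_five⟩
        obtain ⟨e'⟩ := Cfsg.Agent.S0253.result (F := ZMod 5) (ZMod.card 5)
        obtain ⟨e''⟩ := Cfsg.Agent.S0252.result (F := F) h1
        exact ⟨ZMod 5, inferInstance, inferInstance, Or.inl ⟨1, le_rfl, by rw [ZMod.card]; norm_num⟩,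
          ⟨(e.trans e'').trans e'.symm⟩⟩
    · obtain ⟨rfl, h1⟩ := psl (by omega) h5' (hI.congr e)
      right; left
      exact ⟨F, iF, iF', by rw [← Nat.card_eq_fintype_card]; exact h1, ⟨e⟩⟩
  · -- symplectic
    obtain ⟨F, iF, iF', m, hm, hm3, ⟨e⟩⟩ := hG
    have h5' := h5
    rw [Nat.card_congr e.toEquiv] at h5'
    obtain ⟨rfl, h1⟩ := psp hm h5' (hI.congr e)
    rw [Nat.card_eq_fintype_card] at h1
    rcases h1 with h1 | h1 | h1
    · have := hm3 rfl
      omega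
    · iterate 3 right
      left
      exact ⟨F, iF, iF', h1, ⟨e⟩⟩
    · iterate 5 right
      left
      exact ⟨F, iF, iF', h1, ⟨e⟩⟩
  · -- unitary
    obtain ⟨F, iF, iF', n, q, hF, hn, h32, ⟨e⟩⟩ := hG
    have h5' := h5
    rw [Nat.card_congr e.toEquiv] at h5'
    obtain ⟨rfl, rfl | rfl⟩ := psu hF hn h32 h5' (hI.congr e)
    · iterate 3 right
      left
      obtain ⟨e'⟩ := Cfsg.Agent.S0822.result (F := F) (K := ZMod 3) (by rw [hF]; norm_num) (ZMod.card 3)
      exact ⟨ZMod 3, inferInstance, inferInstance, ZMod.card 3, ⟨e.trans e'⟩⟩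
    · iterate 4 right
      left
      exact ⟨F, iF, iF', by rw [hF]; norm_num, ⟨e⟩⟩
  · exact (pOmegaOdd hG hI).elim
  · exact (pOmegaPlus hG hI).elim
  · exact (pOmegaMinus hG hI).elim
  · -- exceptional
    rcases hG with hG | hG | hG | hG | hG | hG | hG | hG | hG | hG | hG
    · exact (exc_untw h5 hI (Or.inl hG)).elim
    · exact (exc_untw h5 hI (Or.inr (Or.inl hG))).elim
    · exact (exc_untw h5 hI (Or.inr (Or.inr (Or.inl hG)))).elim
    · exact (exc_untw h5 hI (Or.inr (Or.inr (Or.inr (Or.inl hG))))).elim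
    · exact (exc_untw h5 hI (Or.inr (Or.inr (Or.inr (Or.inr hG))))).elim
    · exact (twE6 hI hG).elim
    · exact (twD4 h5 hI hG).elim
    · right; right; left
      exact ⟨hG, suz hI hG⟩
    · exact (ree h5 hG).elim
    · exact (twF4 hI hG).elim
    · exact (tits hI hG).elim
  · -- sporadic
    rcases spor hI hG with h1 | h1
    · iterate 7 right
      left
      exact h1
    · iterate 8 right
      exact h1

end Cfsg.Agent.S4368
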