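import Cfsg.Statements.S4369
import Cfsg.Agent.H577.CANonab
import Cfsg.Agent.H577.CABack
import Cfsg.Agent.S0205

set_option autoImplicit false
open Cfsg

namespace Cfsg.Agent.S4369

/-- Call a group a CA-group when the centralizer of every non-central element is abelian. A finite group G is non-solvable, is not a CA-group, and has all its proper subgroups CA-groups, if and only if G is isomorphic to PSL(2, q) where q > 5 is a prime with 16 not dividing q² - 1, or q = 3ᵖ or q = 5ᵖ for an odd prime p. -/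
theorem result {G : Type*} [Group G] [Finite G] :
    (¬ Group.IsSolvable G ∧ ¬ (∀ x : G, x ∉ Subgroup.center G → IsMulCommutative (Subgroup.centralizer ({x} : Set G))) ∧ ∀ H : Subgroup G, H ≠ ⊤ → (∀ x : H, x ∉ Subgroup.center H → IsMulCommutative (Subgroup.centralizer ({x} : Set H)))) ↔
      ∃ (F : Type) (_ : Field F) (_ : Fintype F), Nonempty (G ≃* Matrix.ProjectiveSpecialLinearGroup (Fin 2) F) ∧
        (((Fintype.card F).Prime ∧ 5 < Fintype.card F ∧ ¬ 16 ∣ Fintype.card F ^ 2 - 1) ∨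
         (∃ p : ℕ, p.Prime ∧ p ≠ 2 ∧ (Fintype.card F = 3 ^ p ∨ Fintype.card F = 5 ^ p))) := by
  have hFT : Cfsg.Agent.H577.FTh := fun K _ _ h => Cfsg.Agent.S0205.result h
  constructor
  · rintro ⟨hns, hCA, hm⟩
    rw [← Cfsg.Agent.H577.ca_iff] at hCA
    have hm' : Cfsg.Agent.H577.MinCA G := by
      rw [Cfsg.Agent.H577.minCA_iff]
      intro H hH
      rw [Cfsg.Agent.H577.ca_iff]
      exact hm H hH
    by_cases hab : ∀ S : Sylow 2 G, ∀ a ∈ (S : Subgroup G), ∀ b ∈ (S : Subgroup G), Commute a b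
    · exact Cfsg.Agent.H577.conclusion_of_abelian hFT hm' hns hCA hab
    · exfalso
      push Not at hab
      obtain ⟨S, a, ha, b, hb, h⟩ := hab
      exact Cfsg.Agent.H577.false_of_nonabelian hFT hm' hns hCA S ha hb h
  · rintro ⟨F, i1, i2, ⟨e⟩, hF⟩
    obtain ⟨h1, h2, h3⟩ := Cfsg.Agent.H577.backward e hF
    refine ⟨h1, ?_, ?_⟩
    · rw [← Cfsg.Agent.H577.ca_iff]
      exact h2
    · intro H hH
      rw [← Cfsg.Agent.H577.ca_iff]
      exact Cfsg.Agent.H577.minCA_iff.1 h3 H hH

end Cfsg.Agent.S4369
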