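import Cfsg.Statements.S4380
import Cfsg.Agent.H579.MaxPNilFinal
import Cfsg.Agent.S0000

set_option autoImplicit false
open Cfsg

namespace Cfsg.Agent.S4380

/-- Let p be an odd prime and G a finite group that is not p-solvable, in which every maximal subgroup either has a normal p-complement or has prime index. Let S be the largest normal p-solvable subgroup of G. Then either p = 5 and G/S is isomorphic to PSL(2, 11), or G/S has a normal subgroup with trivial centralizer and index dividing d that is isomorphic to PSL(n, 2ᵈ) (so G/S lies between PSL(n, 2ᵈ) and its extension by field automorphisms), for a prime n ≥ 3 and an odd d ≥ 1 with gcd(n, 2ᵈ - 1) = 1, where (2ᵈⁿ - 1)/(2ᵈ - 1) is a prime and p is a primitive prime divisor of 2^(d(n-1)) - 1 (p divides it but divides no 2ʲ - 1 with 0 < j < d(n - 1)). -/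
theorem result {G : Type*} [Group G] [Finite G]
    (p : ℕ) [Fact p.Prime] (hp : p ≠ 2) (hG : ¬ Cfsg.IsPSolvable p G)
    (hmax : ∀ M : Subgroup G, IsCoatom M → (∃ K : Subgroup ↥M, K.Normal ∧ ¬ p ∣ Nat.card K ∧ ∃ k : ℕ, K.index = p ^ k) ∨ (M.index).Prime)
    (S : Subgroup G) [S.Normal] (hS : Cfsg.IsPSolvable p S) (hSmax : ∀ N : Subgroup G, N.Normal → Cfsg.IsPSolvable p N → N ≤ S) :
    (p = 5 ∧ ∃ (F : Type) (_ : Field F) (_ : Fintype F), Fintype.card F = 11 ∧
        Nonempty (G ⧸ S ≃* Matrix.ProjectiveSpecialLinearGroup (Fin 2) F)) ∨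
    (∃ (n d : ℕ), n.Prime ∧ 3 ≤ n ∧ Odd d ∧ Nat.Coprime n (2 ^ d - 1) ∧ ((2 ^ (d * n) - 1) / (2 ^ d - 1)).Prime ∧
        p ∣ 2 ^ (d * (n - 1)) - 1 ∧ (∀ j : ℕ, 0 < j → j < d * (n - 1) → ¬ p ∣ 2 ^ j - 1) ∧
        ∃ (F : Type) (_ : Field F) (_ : Fintype F), Fintype.card F = 2 ^ d ∧
          ∃ N : Subgroup (G ⧸ S), N.Normal ∧ N.index ∣ d ∧ Subgroup.centralizer (N : Set (G ⧸ S)) = ⊥ ∧
            Nonempty (↥N ≃* Matrix.ProjectiveSpecialLinearGroup (Fin n) F)) := by
  exact Cfsg.Agent.H579.MaxPNilFinal.main' p hp hG hmax S hS hSmax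
    (fun N hN => Cfsg.Agent.S0000.result)

end Cfsg.Agent.S4380
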