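import Cfsg.Statements.S4382
import Cfsg.Agent.S0000
import Cfsg.Agent.H580.Known

set_option autoImplicit false
open Pointwise
open Cfsg

namespace Cfsg.Agent.S4382

/-- Let the finite group A act by automorphisms on the finite group G with the orders of A and G coprime, and call a proper A-invariant subgroup maximal A-invariant when no A-invariant subgroup lies strictly between it and G. If the non-nilpotent maximal A-invariant subgroups of G fall into at most two orbits under conjugation by the fixed-point subgroup C_G(A), then G is solvable. -/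
theorem result {A G : Type*} [Group A] [Finite A]
    [Group G] [Finite G] [MulDistribMulAction A G] (hcop : (Nat.card A).Coprime (Nat.card G))
    (h2 : ∃ M₁ M₂ : Subgroup G, ∀ M : Subgroup G, (M ≠ ⊤ ∧ (∀ a : A, ∀ x ∈ M, a • x ∈ M) ∧ ∀ L : Subgroup G, M < L → (∀ a : A, ∀ x ∈ L, a • x ∈ L) → L = ⊤) → ¬ Group.IsNilpotent M →
      ∃ c : G, (∀ a : A, a • c = c) ∧ (M = MulAut.conj c • M₁ ∨ M = MulAut.conj c • M₂)) :
    Group.IsSolvable G := by
  obtain ⟨M₁, M₂, h⟩ := h2
  refine H580.Known.isSolvable (fun X _ _ _ => S0000.result) hcop ⟨M₁, M₂, fun M hM hn => ?_⟩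
  obtain ⟨c, -, hc⟩ := h M ⟨hM.1, hM.2.1, hM.2.2⟩ hn
  exact ⟨c, hc⟩

end Cfsg.Agent.S4382

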