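import Cfsg.Statements.S4383
import Cfsg.Agent.S0000
import Cfsg.Agent.H580.Known
import Cfsg.Agent.H580.TwoPrimes

set_option autoImplicit false
open Pointwise
open Cfsg

namespace Cfsg.Agent.S4383

/-- A finite group with exactly two conjugacy classes of maximal subgroups is solvable and its order has exactly two prime divisors. -/
theorem result {G : Type*} [Group G] [Finite G]
    (M₁ M₂ : Subgroup G) (h1 : IsCoatom M₁) (h2 : IsCoatom M₂) (hne : ∀ g : G, M₂ ≠ MulAut.conj g • M₁)
    (hall : ∀ M : Subgroup G, IsCoatom M → ∃ g : G, M = MulAut.conj g • M₁ ∨ M = MulAut.conj g • M₂) :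
    Group.IsSolvable G ∧ (Nat.card G).primeFactors.card = 2 := by
  have hsol : Group.IsSolvable G := by
    let _ : MulDistribMulAction PUnit.{1} G :=
      { smul := fun _ x => x, one_smul := fun _ => rfl, mul_smul := fun _ _ _ => rfl, smul_mul := fun _ _ _ => rfl,
        smul_one := fun _ => rfl }
    have htriv : ∀ (a : PUnit.{1}) (x : G), a • x = x := fun _ _ => rfl
    have hcop : (Nat.card PUnit.{1}).Coprime (Nat.card G) := by
      rw [Nat.card_unique]; exact Nat.coprime_one_left _
    have hmax : H580.Two.TwoMax G := ⟨M₁, M₂, fun M hM _ => hall M hM⟩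
    exact H580.Known.isSolvable (fun X _ _ _ => S0000.result) hcop (hmax.twoCl htriv)
  exact ⟨hsol, H580.TwoPrimes.card_primeFactors hsol M₁ M₂ h1 h2 hne hall⟩

end Cfsg.Agent.S4383

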