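import Cfsg.Statements.S4384
import Cfsg.Agent.S0000
import Cfsg.Agent.H585.FacSeven
import Cfsg.Agent.H585.FacEnd

set_option autoImplicit false
open Cfsg

namespace Cfsg.Agent.S4384

/-- Let the finite group G be the product AB of subgroups A and B, and let R be the solvable radical of G (its largest solvable normal subgroup). Then the following are equivalent: ⟨a, b⟩ is solvable for all a ∈ A and b ∈ B; ⟨a, b⟩ is solvable for all elements a ∈ A of p-power order and b ∈ B of q-power order, for all pairs of distinct primes p ≠ q; the commutator subgroup [A, B] is contained in R. -/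
theorem result {G : Type*} [Group G] [Finite G]
    (A B : Subgroup G) (hAB : ∀ g : G, ∃ a ∈ A, ∃ b ∈ B, g = a * b) (R : Subgroup G) [R.Normal]
    (hR : Group.IsSolvable R) (hRmax : ∀ N : Subgroup G, N.Normal → Group.IsSolvable N → N ≤ R) :
    ((∀ a ∈ A, ∀ b ∈ B, Group.IsSolvable (Subgroup.closure ({a, b} : Set G))) ↔ ⁅A, B⁆ ≤ R) ∧
    ((∀ p q : ℕ, p.Prime → q.Prime → p ≠ q → ∀ a ∈ A, ∀ b ∈ B, (∃ i : ℕ, orderOf a = p ^ i) → (∃ j : ℕ, orderOf b = q ^ j) →
        Group.IsSolvable (Subgroup.closure ({a, b} : Set G))) ↔ ⁅A, B⁆ ≤ R) :=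
  H585.FacSeven.reduction (fun _ _ _ _ hK => H585.FacEnd.table hK S0000.result) A B hAB R hR hRmax

end Cfsg.Agent.S4384
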