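import Cfsg.Statements.S4386
import Cfsg.Agent.H584.NC.StepC
import Cfsg.Agent.H584.NC.Main
import Cfsg.Agent.H584.NC.PIMain
import Cfsg.Agent.H161.L2Out
import Cfsg.Agent.H74.NcFix
import Cfsg.Agent.H74.NcCol
import Cfsg.Agent.H74.NcFour

set_option autoImplicit false
open Cfsg

namespace Cfsg.Agent.S4386

universe u

theorem linIn : H584.NC.LinIn.{u} :=
  ⟨fun _ _ _ _ _ _ _ _ _ _ _ _ h => H74.Nc.fixSub h,
   fun _ _ _ _ _ _ _ _ _ _ _ _ hd h => H74.Nc.colInv hd h,
   fun _ _ _ _ _ _ _ _ _ _ _ _ hd h hf hc => H74.Nc.lin_four hd h hf hc⟩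

/-- Let G be a finite non-solvable group in which every maximal subgroup either has a normal 2-complement or has prime index. Let T be the largest normal subgroup of G containing O(G) (the largest normal subgroup of odd order) with T/O(G) a 2-group. Then T is the solvable radical of G, and one of the following holds: G/T is isomorphic to the alternating group of degree 5, to PSL(2, 7) or to PSL(2, 11); or G/T has a normal subgroup of index 2 with trivial centralizer that is isomorphic to the alternating group of degree 5 or to PSL(2, 7); or O²(G), the subgroup generated by the elements of odd order, is proper in G and O²(G)/(T ∩ O²(G)) is isomorphic to a direct product of copies of PSL(2, q), where q = r^(2ᵃ) for an odd prime r and some a ≥ 1, or q is a prime with q ≡ ±1 (mod 8). -/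
theorem result {G : Type*} [Group G] [Finite G]
    (hG : ¬ Group.IsSolvable G)
    (hmax : ∀ M : Subgroup G, IsCoatom M → (∃ K : Subgroup ↥M, K.Normal ∧ ¬ 2 ∣ Nat.card K ∧ ∃ k : ℕ, K.index = 2 ^ k) ∨ (M.index).Prime)
    (T : Subgroup G) [T.Normal] (hOT : Cfsg.oddCore G ≤ T) (hT2 : ∃ k : ℕ, (Cfsg.oddCore G).relIndex T = 2 ^ k)
    (hTmax : ∀ N : Subgroup G, N.Normal → Cfsg.oddCore G ≤ N → (∃ k : ℕ, (Cfsg.oddCore G).relIndex N = 2 ^ k) → N ≤ T) :
    (Group.IsSolvable T ∧ ∀ N : Subgroup G, N.Normal → Group.IsSolvable N → N ≤ T) ∧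
    (Nonempty (G ⧸ T ≃* alternatingGroup (Fin 5)) ∨
     (∃ (F : Type) (_ : Field F) (_ : Fintype F), (Fintype.card F = 7 ∨ Fintype.card F = 11) ∧
        Nonempty (G ⧸ T ≃* Matrix.ProjectiveSpecialLinearGroup (Fin 2) F)) ∨
     (∃ N : Subgroup (G ⧸ T), N.Normal ∧ N.index = 2 ∧ Subgroup.centralizer (N : Set (G ⧸ T)) = ⊥ ∧
        (Nonempty (N ≃* alternatingGroup (Fin 5)) ∨
         ∃ (F : Type) (_ : Field F) (_ : Fintype F), Fintype.card F = 7 ∧
           Nonempty (N ≃* Matrix.ProjectiveSpecialLinearGroup (Fin 2) F))) ∨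
     (Cfsg.pResidual 2 G ≠ ⊤ ∧ ∃ (k : ℕ) (F : Type) (_ : Field F) (_ : Fintype F), 1 ≤ k ∧
        ((∃ (r a : ℕ), r.Prime ∧ r ≠ 2 ∧ 1 ≤ a ∧ Fintype.card F = r ^ (2 ^ a)) ∨
         ((Fintype.card F).Prime ∧ (Fintype.card F % 8 = 1 ∨ Fintype.card F % 8 = 7))) ∧
        Nonempty (↥(Cfsg.pResidual 2 G) ⧸ T.subgroupOf (Cfsg.pResidual 2 G) ≃* (Fin k → Matrix.ProjectiveSpecialLinearGroup (Fin 2) F)))) :=
  H584.NC.top ⟨H584.NC.loc_main, fun _ _ _ h => H161.L2Out.IsL2.out h, H584.NC.pi_main linIn⟩ hG hmax T hOT hT2 hTmax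

end Cfsg.Agent.S4386
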