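import Cfsg.Statements.S4388
import Cfsg.Agent.H581.HCFinal
import Cfsg.Agent.H581.SporAll
import Cfsg.Agent.S3856
import Cfsg.Agent.S3857
import Cfsg.Agent.S0205
import Cfsg.Agent.S0000

set_option autoImplicit false
open Cfsg

namespace Cfsg.Agent.S4388

/-- Let G be a finite group whose prime graph is disconnected: the prime divisors of the order of G split into two non-empty parts such that no element has order divisible by a prime from each part. Suppose G is covered by a family of proper Hall subgroups any two of which have equal or coprime orders (a Hall covering). Then G is a Frobenius group; or G is a 2-Frobenius group (there are normal subgroups N < K with K a Frobenius group with kernel N and G/N a Frobenius group with kernel K/N); or G/F(G), F(G) the Fitting subgroup, is isomorphic to one of: PSL(2, q) for a prime power q ≥ 4, PSL(3, 4), PSL(3, q) with 3 not dividing q - 1, the Suzuki group Sz(q) for q = 2^(2m+1)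 ≥ 8, the alternating group of degree 7, the Mathieu group M₁₁ or M₂₂, or a group having a normal subgroup of index 2 isomorphic to PSL(2, q), where q = p^(2f) for an odd prime p and some f ≥ 1, with no element of order 2 outside that subgroup. -/
theorem result {G : Type*} [Group G] [Finite G]
    [hF : (Cfsg.fittingSubgroup G).Normal] (Δ : Set ℕ) (hΔ1 : ∃ p ∈ Δ, p.Prime ∧ p ∣ Nat.card G) (hΔ2 : ∃ q ∉ Δ, q.Prime ∧ q ∣ Nat.card G)
    (hdisc : ∀ p q : ℕ, p.Prime → q.Prime → p ∈ Δ → q ∉ Δ → ∀ g : G, ¬ (p * q ∣ orderOf g))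
    (𝓗 : Set (Subgroup G)) (hcov : ∀ g : G, ∃ H ∈ 𝓗, g ∈ H) (hprop : ∀ H ∈ 𝓗, H ≠ ⊤)
    (hhall : ∀ H ∈ 𝓗, (Nat.card H).Coprime H.index)
    (hord : ∀ H ∈ 𝓗, ∀ K ∈ 𝓗, Nat.card H = Nat.card K ∨ (Nat.card H).Coprime (Nat.card K)) :
    (∃ H : Subgroup G, Cfsg.IsFrobeniusComplement H) ∨
    (∃ (N K : Subgroup G) (_ : N.Normal), K.Normal ∧ N < K ∧
       (∃ Hc : Subgroup ↥K, Cfsg.IsFrobeniusComplement Hc ∧ Cfsg.frobeniusKernel Hc = (N.subgroupOf K : Set ↥K)) ∧
       (∃ Hc : Subgroup (G ⧸ N), Cfsg.IsFrobeniusComplement Hc ∧ Cfsg.frobeniusKernel Hc = (K.map (QuotientGroup.mk' N) : Set (G ⧸ N)))) ∨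
    (∃ (F : Type) (_ : Field F) (_ : Fintype F), 4 ≤ Fintype.card F ∧
       Nonempty (G ⧸ Cfsg.fittingSubgroup G ≃* Matrix.ProjectiveSpecialLinearGroup (Fin 2) F)) ∨
    (∃ (F : Type) (_ : Field F) (_ : Fintype F), (Fintype.card F = 4 ∨ ¬ 3 ∣ Fintype.card F - 1) ∧
       Nonempty (G ⧸ Cfsg.fittingSubgroup G ≃* Matrix.ProjectiveSpecialLinearGroup (Fin 3) F)) ∨
    Cfsg.Lie.IsoSuzuki (G ⧸ Cfsg.fittingSubgroup G) ∨
    Nonempty (G ⧸ Cfsg.fittingSubgroup G ≃* alternatingGroup (Fin 7)) ∨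
    Nonempty (G ⧸ Cfsg.fittingSubgroup G ≃* Cfsg.Spor.M11) ∨
    Nonempty (G ⧸ Cfsg.fittingSubgroup G ≃* Cfsg.Spor.M22) ∨
    (∃ (N : Subgroup (G ⧸ Cfsg.fittingSubgroup G)) (F : Type) (_ : Field F) (_ : Fintype F) (p f : ℕ), p.Prime ∧ p ≠ 2 ∧ 1 ≤ f ∧
       Fintype.card F = p ^ (2 * f) ∧ N.Normal ∧ N.index = 2 ∧ Nonempty (N ≃* Matrix.ProjectiveSpecialLinearGroup (Fin 2) F) ∧
       ∀ x : G ⧸ Cfsg.fittingSubgroup G, x ∉ N → orderOf x ≠ 2) := by
  classical
  have hdis : ∃ A : Set ℕ, (∃ a ∈ A, a.Prime ∧ a ∣ Nat.card G) ∧ (∃ b ∉ A, b.Prime ∧ b ∣ Nat.card G) ∧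
      ∀ a ∈ A, ∀ b ∉ A, a.Prime → b.Prime → a ∣ Nat.card G → b ∣ Nat.card G → ¬ ∃ g : G, orderOf g = a * b := by
    refine ⟨Δ, hΔ1, hΔ2, ?_⟩
    rintro a ha b hb hap hbp - - ⟨g, hg⟩
    exact hdisc a b hap hbp ha hb g (dvd_of_eq hg.symm)
  rcases Nat.even_or_odd (Nat.card G) with he | ho
  · rcases S3856.result he hdis with h | h | ⟨N, M, hNn, hMn, hNM, h1, h2, h3, h4⟩
    · exact Or.inl h
    · exact Or.inr (Or.inl h)
    · obtain ⟨σ, hc⟩ := Cfsg.Agent.H581.hc_of_cover he.two_dvd hcov hprop hhall hord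
      obtain ⟨h5, h6⟩ := Cfsg.Agent.H581.main (fun S _ _ _ => S0000.result)
        (Cfsg.Agent.H581.SporAll.hsp (fun S _ _ _ => S0000.result)) hc hNM
        (fun p hp hd => hc.reach (h1 p hp hd)) (fun p hp hd => hc.reach (h2 p hp hd)) h3 h4
      subst h5
      exact Or.inr (Or.inr h6)
  · have hsol : Group.IsSolvable G := S0205.result ho
    rcases S3857.result hsol hdis with h | h
    · exact Or.inl h
    · exact Or.inr (Or.inl h)

end Cfsg.Agent.S4388
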