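import Cfsg.Statements.S4394
import Cfsg.Agent.H583.PLenGood
import Cfsg.Agent.H583.SchmidtAct

set_option autoImplicit false
open Cfsg

namespace Cfsg.Agent.S4394

open Cfsg.Agent.H583.MinAction in
/-- The Sylow subgroup of a minimal non-nilpotent group is good. -/
theorem good_of_minAct {P : Type*} [Group P] [Finite P] {σ : MulAut P} {p q : ℕ} [hp : Fact p.Prime]
    [hq : Fact q.Prime] (hpq : p ≠ q) (hP : IsPGroup p P) (h : MinAct σ) (hσ : σ ^ q = 1) :
    Cfsg.Agent.H583.PLenGood.Good p P := by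
  by_cases hab : ∀ x y : P, x * y = y * x
  · exact Or.inl hab
  · refine Or.inr ⟨fun x y => commutator_mem_center hpq hP h hσ x y, fun x => pow_mem_center hpq hP h hσ x,
      fun x hx z hz => exists_comm_eq hpq hP h hσ hx hz, fun hp3 => index_ne_nine hpq hP h hσ hp3 hab,
      fun hp2 hi x hx => sq_ne_one hpq hP h hσ hp2 hab hi x hx⟩

/-- Let X be a finite minimal non-nilpotent group (not nilpotent, every proper subgroup nilpotent) with a nontrivial normal Sylow p-subgroup P. If G is a finite p-solvable group whose Sylow p-subgroups are isomorphic to P, then G has p-length at most 1. -/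
theorem result {G X : Type*} [Group G] [Finite G] [Group X] [Finite X] (p : ℕ) [Fact p.Prime]
    (hX : Cfsg.IsMinimalNonNilpotent X) (P : Sylow p X) (hPn : (P : Subgroup X).Normal) (hP1 : (P : Subgroup X) ≠ ⊥)
    (hG : Cfsg.IsPSolvable p G) (Q : Sylow p G) (hQ : Nonempty (↥(Q : Subgroup G) ≃* ↥(P : Subgroup X))) : Cfsg.PLengthLE p 1 G := by
  obtain ⟨e⟩ := hQ
  obtain ⟨q, hq, g, σ, hpq, -, -, hmin, hσ, -⟩ := Cfsg.Agent.H583.SchmidtAct.exists_minAct hX P hPn hP1
  exact Cfsg.Agent.H583.PLenGood.pLengthLE_one hG Q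
    (Cfsg.Agent.H583.PLenGood.good_congr e.symm (good_of_minAct hpq P.isPGroup' hmin hσ))

end Cfsg.Agent.S4394
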