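import Cfsg.Statements.S4395
import Cfsg.Agent.S0132
import Cfsg.Agent.H583.SchmidtAct
import Cfsg.Agent.H583.SchmidtFibre
import Cfsg.Agent.H583.SchmidtMax
import Cfsg.Agent.H583.SchmidtTop

set_option autoImplicit false
universe u
open Cfsg

namespace Cfsg.Agent.S4395

open Cfsg.Agent.H583.MinAction Cfsg.Agent.H583.SchmidtCoord Cfsg.Agent.H583.SchmidtField in
/-- Let p ≠ q be primes, r ≥ 1, a the multiplicative order of p modulo q, and a₀ = a when a is odd, a₀ = 3a/2 when a is even. Call a finite group minimal non-p-nilpotent when it has no normal p-complement but every proper subgroup has one. Then there is a minimal non-p-nilpotent group G₀ of order p^a₀ · q^r such that every minimal non-p-nilpotent group of order p^t · q^r (any t) is a quotient of G₀ by a central subgroup. -/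
theorem result (p q r : ℕ) [Fact p.Prime] [Fact q.Prime] (hpq : p ≠ q) (hr : 1 ≤ r) (a a₀ : ℕ)
    (ha : a = orderOf (p : ZMod q)) (ha₀ : a₀ = if a % 2 = 1 then a else 3 * a / 2) :
    ∃ (G₀ : Type u) (_ : Group G₀) (_ : Finite G₀),
      (¬ Cfsg.HasNormalPComplement p G₀ ∧ ∀ K : Subgroup G₀, K ≠ ⊤ → Cfsg.HasNormalPComplement p ↥K) ∧ Nat.card G₀ = p ^ a₀ * q ^ r ∧
      ∀ (X : Type u) [Group X] [Finite X], (¬ Cfsg.HasNormalPComplement p X ∧ ∀ K : Subgroup X, K ≠ ⊤ → Cfsg.HasNormalPComplement p ↥K) →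
        (∃ t : ℕ, Nat.card X = p ^ t * q ^ r) → ∃ φ : G₀ →* X, Function.Surjective φ ∧ φ.ker ≤ Subgroup.center G₀ := by
  have hp : p.Prime := Fact.out
  have hq : q.Prime := Fact.out
  have hapos : 0 < a := by rw [ha]; exact orderOf_pos_of_ne hpq
  -- the field
  have hK : Nat.card (GaloisField p a) = p ^ a := GaloisField.card p a hapos.ne'
  have hdvd : q ∣ Nat.card (GaloisField p a)ˣ := by
    rw [Nat.card_units, hK]
    have h1 : p ^ a ≡ 1 [MOD q] := modEq_of_orderOf_dvd (by rw [ha])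
    exact (Nat.modEq_iff_dvd' (pow_pos hp.pos a)).1 h1.symm
  obtain ⟨ζ', hζ'⟩ := exists_prime_orderOf_dvd_card' q hdvd
  set ζ : GaloisField p a := (ζ' : GaloisField p a) with hζdef
  have hζ : IsPrimitiveRoot ζ q := by
    have h1 : orderOf ζ = q := by rw [hζdef, orderOf_units, hζ']
    have h2 := IsPrimitiveRoot.orderOf ζ
    rwa [h1] at h2
  obtain ⟨P₀, _, _, σ₀, f₀, hP₀, hmin₀, hσ₀, hf₀, hcard₀⟩ :=
    Cfsg.Agent.H583.SchmidtMax.exists_max hpq ha hK hζ a₀ ha₀
  obtain ⟨G₀, _, _, hG₀min, hG₀card, hG₀⟩ :=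
    Cfsg.Agent.H583.SchmidtTop.exists_group.{u} hpq hP₀ hmin₀ hσ₀ r hr
  refine ⟨G₀, inferInstance, inferInstance, hG₀min, by rw [hG₀card, hcard₀], ?_⟩
  intro X _ _ hX hcardX
  obtain ⟨t, ht⟩ := hcardX
  obtain ⟨hprop, hnn, hnormal⟩ := S0132.result hX.1 hX.2
  obtain ⟨P⟩ : Nonempty (Sylow p X) := inferInstance
  have hPn := hnormal P
  have hP1 : (P : Subgroup X) ≠ ⊥ := by
    intro h1
    apply hX.1
    refine ⟨P, ⊤, inferInstance, ?_⟩
    rw [h1]
    exact Subgroup.isComplement'_top_bot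
  obtain ⟨q', hq', g, σ, hpq', ⟨s, hs⟩, hsup, hmin, hσ, hσg⟩ :=
    Cfsg.Agent.H583.SchmidtAct.exists_minAct ⟨hnn, hprop⟩ P hPn hP1
  have hcard := Cfsg.Agent.H583.SchmidtSemi.card_eq hpq' (P : Subgroup X) hPn P.isPGroup' g s hs hsup
  obtain ⟨m, hm⟩ := IsPGroup.iff_card.1 P.isPGroup'
  have hg1 : g ≠ 1 := by
    rintro rfl
    apply hmin.ne_one
    ext x
    rw [hσg]
    simp
  have hs0 : s ≠ 0 := by
    rintro rfl
    rw [pow_zero, orderOf_eq_one_iff] at hs
    exact hg1 hs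
  have hqq : q' = q := by
    have h1 : q' ∣ p ^ t * q ^ r := by
      rw [← ht, hcard]
      exact Dvd.dvd.mul_left (dvd_pow_self q' hs0) _
    rcases (Nat.Prime.dvd_mul hq'.out).1 h1 with h2 | h2
    · exact absurd ((Nat.prime_dvd_prime_iff_eq hq'.out hp).1 (hq'.out.dvd_of_dvd_pow h2)).symm hpq'
    · exact (Nat.prime_dvd_prime_iff_eq hq'.out hq).1 (hq'.out.dvd_of_dvd_pow h2)
  subst hqq
  have hsr : s = r := by
    have h1 : p ^ m * q' ^ s = p ^ t * q' ^ r := by rw [← hm, ← hcard, ht]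
    have h2 := congrArg (fun n => n.factorization q') h1
    rw [Nat.factorization_mul (pow_ne_zero _ hp.ne_zero) (pow_ne_zero _ hq.ne_zero),
      Nat.factorization_mul (pow_ne_zero _ hp.ne_zero) (pow_ne_zero _ hq.ne_zero),
      Nat.Prime.factorization_pow hp, Nat.Prime.factorization_pow hp, Nat.Prime.factorization_pow hq,
      Nat.Prime.factorization_pow hq, Finsupp.add_apply, Finsupp.add_apply, Finsupp.single_eq_same,
      Finsupp.single_eq_same, Finsupp.single_eq_of_ne hpq.symm, Finsupp.single_eq_of_ne hpq.symm, zero_add,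
      zero_add] at h2
    exact h2
  subst hsr
  obtain ⟨j, hj, f, hf⟩ := exists_coord hpq P.isPGroup' hmin hσ ha hK hζ
  obtain ⟨hminj, hσj, -⟩ := minAct_pow hq hj hmin hσ
  obtain ⟨h, hsurj, hequiv, hker⟩ := Cfsg.Agent.H583.SchmidtFibre.exists_hom hpq ha hK hζ a₀ ha₀ hP₀ P.isPGroup'
    hmin₀ hminj hσ₀ hσj hf₀ hf hcard₀
  have hordj : orderOf (g ^ j) = q' ^ s := by
    rw [Nat.Coprime.orderOf_pow]
    · exact hs
    · rw [hs]
      exact Nat.Coprime.pow_left s hj.symm
  have hzp : Subgroup.zpowers (g ^ j) = Subgroup.zpowers g := by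
    apply Subgroup.eq_of_le_of_card_ge
    · rw [Subgroup.zpowers_le]
      exact pow_mem (Subgroup.mem_zpowers g) j
    · rw [Nat.card_zpowers, Nat.card_zpowers, hordj, hs]
  have hσgj : ∀ n : ℕ, ∀ x : (P : Subgroup X), (((σ ^ n) x : (P : Subgroup X)) : X) = g ^ n * x * (g ^ n)⁻¹ := by
    intro n
    induction n with
    | zero => intro x; simp
    | succ n ih =>
      intro x
      rw [pow_succ', MulAut.mul_apply, hσg, ih, pow_succ']
      group
  apply hG₀ X (P : Subgroup X) (g ^ j)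
  · rw [hzp]
    exact Cfsg.Agent.H583.SchmidtSemi.disj hpq' (P : Subgroup X) hPn P.isPGroup' g s hs hsup
  · rw [hzp]; exact hsup
  · exact hordj
  · refine ⟨(P : Subgroup X).subtype.comp h, ?_, ?_, ?_⟩
    · rw [MonoidHom.range_comp, MonoidHom.range_eq_top.2 hsurj, ← MonoidHom.range_eq_map,
        Subgroup.range_subtype]
    · intro x
      change ((h (σ₀ x) : (P : Subgroup X)) : X) = g ^ j * (h x : X) * (g ^ j)⁻¹
      rw [hequiv, hσgj]
    · intro x hx
      apply hker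
      exact Subtype.ext hx

end Cfsg.Agent.S4395
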