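import Cfsg.Statements.S4418
import Cfsg.Agent.H588.MetaMain
import Cfsg.Agent.Lib.Cores
import Cfsg.Agent.S0071
import Cfsg.Agent.S0205
import Cfsg.Agent.S0949

set_option autoImplicit false
open Cfsg

namespace Cfsg.Agent.S4418

theorem zmod_two : ∀ z : ZMod (2 ^ 1) × ZMod (2 ^ 1), z + z = 0 := by decide

/-- Let G be a finite group whose Sylow 2-subgroup S is metacyclic via a cyclic normal subgroup N of S with S/N cyclic of order greater than 2. Then G is soluble. -/
theorem result {G : Type*} [Group G] [Finite G] (S : Sylow 2 G) (N : Subgroup ↥(S : Subgroup G)) [hN : N.Normal] (hNc : IsCyclic N) (hQc : IsCyclic (↥(S : Subgroup G) ⧸ N)) (hQ : 2 < Nat.card (↥(S : Subgroup G) ⧸ N)) : Group.IsSolvable G := by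
  classical
  have : Fact (Nat.Prime 2) := ⟨Nat.prime_two⟩
  by_cases hcomp : ∃ M : Subgroup G, M.Normal ∧ M.IsComplement' (S : Subgroup G)
  · -- a normal 2-complement
    obtain ⟨M, hM, hMS⟩ := hcomp
    have h1 : (Nat.card M).Coprime 2 :=
      Cfsg.Agent.Transfer.NormalPComplement.coprime_of_isComplement' S hMS
    have h2 : IsPGroup 2 (G ⧸ M) :=
      Cfsg.Agent.Transfer.NormalPComplement.isPGroup_quotient_of_isComplement' S.2 hMS
    have h3 : Group.IsSolvable M := Cfsg.Agent.S0205.result (Nat.coprime_two_right.1 h1)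
    have h4 : Group.IsNilpotent (G ⧸ M) := h2.isNilpotent
    have h5 : Group.IsSolvable (G ⧸ M) := inferInstance
    exact solvable_of_ker_le_range M.subtype (QuotientGroup.mk' M) (by simp)
  · -- homocyclic Sylow 2-subgroups
    have hbad : ∃ Q : Subgroup G, Cfsg.Agent.H588.MetaMain.Bad Q := by
      by_contra hno
      apply hcomp
      refine (Cfsg.Agent.S0071.result S).2 ?_
      intro Q hQS g hg hcop
      by_contra hgc
      exact hno ⟨Q, S.2.to_le hQS, g, hg, Nat.coprime_two_right.1 hcop, hgc⟩
    obtain ⟨P, m, hm1, ⟨e⟩⟩ := Cfsg.Agent.H588.MetaMain.homocyclic_of_not_complement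
      (S := ↥(S : Subgroup G)) S.2 N hNc hQc hQ S (MulEquiv.refl _) hbad
    have hm2 : 2 ≤ m := by
      by_contra hlt
      have hm : m = 1 := by omega
      subst hm
      -- the exponent of `S` is `2`
      have h1 : ∀ x : ↥(S : Subgroup G), x * x = 1 := by
        intro x
        have h2 : ∀ y : ↥(P : Subgroup G), y * y = 1 := by
          intro y
          apply e.injective
          rw [map_mul, map_one]
          apply Multiplicative.toAdd.injective
          rw [toAdd_mul, toAdd_one]
          exact zmod_two _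
        have h3 := h2 ((S.equiv P) x)
        rw [← map_mul] at h3
        exact (S.equiv P).injective (h3.trans (map_one _).symm)
      obtain ⟨b, hb⟩ := hQc.exists_generator
      have hord : orderOf b = Nat.card (↥(S : Subgroup G) ⧸ N) := orderOf_eq_card_of_forall_mem_zpowers hb
      have h2 : b * b = 1 := by
        obtain ⟨b, rfl⟩ := QuotientGroup.mk_surjective b
        rw [← QuotientGroup.mk_mul, h1, QuotientGroup.mk_one]
      have h3 : orderOf b ∣ 2 := orderOf_dvd_of_pow_eq_one (by rw [pow_two]; exact h2)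
      have h4 := Nat.le_of_dvd (by norm_num) h3
      omega
    -- pass to `G / O(G)`
    have hcn : (pPrimeCore 2 G).Normal := Cfsg.Agent.Lib.Cores.pPrimeCore_normal 2
    have hodd : Group.IsSolvable (pPrimeCore 2 G) :=
      Cfsg.Agent.S0205.result (Nat.coprime_two_right.1 (Cfsg.Agent.Lib.Cores.pPrimeCore_coprime 2))
    have hquot : Group.IsSolvable (G ⧸ pPrimeCore 2 G) := by
      let π : G →* G ⧸ pPrimeCore 2 G := QuotientGroup.mk' (pPrimeCore 2 G)
      have hπ : Function.Surjective π := QuotientGroup.mk'_surjective _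
      let P' : Sylow 2 (G ⧸ pPrimeCore 2 G) := P.mapSurjective hπ
      have hinj : Function.Injective (π.subgroupMap (P : Subgroup G)) := by
        rw [injective_iff_map_eq_one]
        intro x hx
        have h1 : π (x : G) = 1 := congrArg Subtype.val hx
        have h2 : (x : G) ∈ pPrimeCore 2 G := (QuotientGroup.eq_one_iff _).1 h1
        have h3 : (x : G) ∈ (P : Subgroup G) ⊓ pPrimeCore 2 G := ⟨x.2, h2⟩
        have h4 : (P : Subgroup G) ⊓ pPrimeCore 2 G = ⊥ := by
          obtain ⟨n, hn⟩ := IsPGroup.iff_card.1 P.2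
          apply Disjoint.eq_bot
          apply Subgroup.disjoint_of_coprime_natCard
          rw [hn]
          exact ((Cfsg.Agent.Lib.Cores.pPrimeCore_coprime (G := G) 2).pow_right n).symm
        rw [h4, Subgroup.mem_bot] at h3
        exact Subtype.ext h3
      let e' : ↥(P : Subgroup G) ≃* ↥(P' : Subgroup (G ⧸ pPrimeCore 2 G)) :=
        MulEquiv.ofBijective (π.subgroupMap (P : Subgroup G)) ⟨hinj, π.subgroupMap_surjective _⟩
      have hO : ∀ M : Subgroup (G ⧸ pPrimeCore 2 G), M.Normal → Odd (Nat.card M) → M = ⊥ := by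
        intro M hM hMo
        have h1 : M ≤ pPrimeCore 2 (G ⧸ pPrimeCore 2 G) := Cfsg.Agent.Lib.Cores.le_pPrimeCore hM (Nat.coprime_two_right.2 hMo)
        rw [Cfsg.Agent.Lib.Cores.pPrimeCore_quotient_pPrimeCore] at h1
        exact le_bot_iff.1 h1
      obtain ⟨hn, -, hidx⟩ := Cfsg.Agent.S0949.result P' m hm2 (e'.symm.trans e) hO
      have hPs : Group.IsSolvable ↥(P' : Subgroup (G ⧸ pPrimeCore 2 G)) := by
        have : Group.IsNilpotent ↥(P' : Subgroup (G ⧸ pPrimeCore 2 G)) := P'.2.isNilpotent
        infer_instance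
      have hqs : Group.IsSolvable ((G ⧸ pPrimeCore 2 G) ⧸ (P' : Subgroup (G ⧸ pPrimeCore 2 G))) := by
        apply Cfsg.Agent.S0205.result
        change Odd (P' : Subgroup (G ⧸ pPrimeCore 2 G)).index
        rcases hidx with h | h
        · rw [h]; exact odd_one
        · rw [h]; decide
      exact solvable_of_ker_le_range (P' : Subgroup (G ⧸ pPrimeCore 2 G)).subtype
        (QuotientGroup.mk' (P' : Subgroup (G ⧸ pPrimeCore 2 G))) (by simp)
    exact solvable_of_ker_le_range (pPrimeCore 2 G).subtype (QuotientGroup.mk' (pPrimeCore 2 G)) (by simp)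

end Cfsg.Agent.S4418
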