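import Cfsg.Statements.S4419
import Cfsg.Agent.H588.MetaFrob
import Cfsg.Agent.S0071
import Cfsg.Agent.Lib.Cores

set_option autoImplicit false
open Cfsg

namespace Cfsg.Agent.S4419

open Cfsg.Agent.Transfer.NormalPComplement

/-- Let p be a prime and G a finite group whose Sylow p-subgroups are metacyclic (a cyclic normal subgroup with cyclic quotient). Then G has a normal p-complement if and only if the order of G/O_{p′,p}(G) is coprime to p² − 1. -/
theorem result {G : Type*} [Group G] [Finite G] (p : ℕ) [Fact p.Prime] (S : Sylow p G) (hS : Cfsg.IsMetacyclic ↥(S : Subgroup G)) : Cfsg.HasNormalPComplement p G ↔ Nat.Coprime (Nat.card (G ⧸ Cfsg.pPrimePCore p G)) (p ^ 2 - 1) := by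
  have hp : p.Prime := Fact.out
  have hnorm : (pPrimeCore p G).Normal := Cfsg.Agent.Lib.Cores.pPrimeCore_normal p
  constructor
  · intro h
    obtain ⟨N, hN, h1, h2⟩ := hasNormalPComplement_iff.mp h
    have hNle : N ≤ pPrimeCore p G := Cfsg.Agent.Lib.Cores.le_pPrimeCore hN h1
    have hq : IsPGroup p (G ⧸ pPrimeCore p G) := by
      refine IsPGroup.of_surjective h2 (QuotientGroup.map N (pPrimeCore p G) (MonoidHom.id G) hNle) ?_
      intro x
      obtain ⟨x, rfl⟩ := QuotientGroup.mk_surjective x
      exact ⟨QuotientGroup.mk x, rfl⟩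
    have htop : pPrimePCore p G = ⊤ := by
      rw [pPrimePCore, (Cfsg.Agent.Lib.Cores.pCore_eq_top_iff p).2 hq]
      exact Subgroup.comap_top _
    have h1 : Nat.card (G ⧸ pPrimePCore p G) = 1 := by
      change (pPrimePCore p G).index = 1
      rw [htop, Subgroup.index_top]
    rw [h1]
    exact Nat.coprime_one_left _
  · intro h
    refine of_quotient (pPrimeCore p G) (Cfsg.Agent.Lib.Cores.pPrimeCore_coprime p) ?_
    -- the order of the quotient is prime to `p² - 1`
    have hpp : Nat.Coprime p (p ^ 2 - 1) := by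
      refine (Nat.Prime.coprime_iff_not_dvd hp).2 ?_
      intro hd
      have h2 : 1 ≤ p ^ 2 := Nat.one_le_pow _ _ hp.pos
      have h3 : p ∣ 1 := by
        have := Nat.dvd_sub (dvd_pow_self p two_ne_zero) hd
        rwa [show p ^ 2 - (p ^ 2 - 1) = 1 by omega] at this
      exact hp.one_lt.ne' (Nat.dvd_one.1 h3)
    have hcard : Nat.Coprime (Nat.card (G ⧸ pPrimeCore p G)) (p ^ 2 - 1) := by
      rw [← (pCore p (G ⧸ pPrimeCore p G)).card_mul_index]
      refine Nat.Coprime.mul_left ?_ ?_
      · obtain ⟨n, hn⟩ := IsPGroup.iff_card.1 (Cfsg.Agent.Lib.Cores.pCore_isPGroup (G := G ⧸ pPrimeCore p G) p)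
        rw [hn]
        exact hpp.pow_left n
      · have h1 : (pPrimePCore p G).index = (pCore p (G ⧸ pPrimeCore p G)).index :=
          Subgroup.index_comap_of_surjective _ (QuotientGroup.mk'_surjective _)
        rw [← h1]
        exact h
    let P : Sylow p (G ⧸ pPrimeCore p G) := S.mapSurjective (QuotientGroup.mk'_surjective (pPrimeCore p G))
    have hPm : Cfsg.IsMetacyclic ↥(P : Subgroup (G ⧸ pPrimeCore p G)) := by
      refine Cfsg.Agent.OddOrderLocal.Metacyclic.isMetacyclic_of_surjective
        ((QuotientGroup.mk' (pPrimeCore p G)).subgroupMap (S : Subgroup G)) ?_ hS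
      exact MonoidHom.subgroupMap_surjective _ _
    refine (hasNormalPComplement_iff_sylow P).2 ?_
    refine (Cfsg.Agent.S0071.result P).2 ?_
    intro Q hQ g hg hcop
    refine Cfsg.Agent.H588.MetaFrob.mem_centralizer (p := p) Q (P.2.to_le hQ)
      (Cfsg.Agent.OddOrderLocal.Metacyclic.isMetacyclic_of_le hPm hQ) g hg hcop ?_
    exact hcard.coprime_dvd_left (orderOf_dvd_natCard g)

end Cfsg.Agent.S4419
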