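import Cfsg.Statements.S4536
import Cfsg.Agent.H666.Clif.Fin
import Cfsg.Agent.H139.P5GL.Main
import Cfsg.Agent.H501.GLn.FourD
import Cfsg.Agent.H583.GLn.Lin

set_option autoImplicit false
open Cfsg

namespace Cfsg.Agent.S4536

/-- Let F be a finite field, n ≥ 2, and suppose the special linear group SL(n, F) is quasisimple. Let p be a prime different from the characteristic of F and B a p-block of SL(n, F) (relative to a maximal ideal M of the algebraic integers containing p) with a defect group D all of whose sections have p-rank at most s. Then the p-regular rank of B is at most p ^ s. -/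
theorem result {F : Type*} [Field F] [Fintype F] (n : ℕ) (hn : 2 ≤ n) (hqs : Cfsg.IsQuasisimple (Matrix.SpecialLinearGroup (Fin n) F)) (p : ℕ) [Fact p.Prime] (hp : p ≠ ringChar F) (M : Ideal Cfsg.AlgInt) (hM : Cfsg.IsPModular p M) (B : Set (Cfsg.IrrCharacter (Matrix.SpecialLinearGroup (Fin n) F))) (hB : Cfsg.IsPBlock M B) (D : Subgroup (Matrix.SpecialLinearGroup (Fin n) F)) (hD : Cfsg.IsDefectGroup p M B D) (s : ℕ) (hs : Cfsg.SectionalPRankLE p s D) : Cfsg.blockRank p B ≤ p ^ s := by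
  obtain ⟨K, _, _, θ, M', _, hctx⟩ := Cfsg.Agent.H120.GLB.Ctx.exists_ctx F n
  have hN : 1 ≤ n := by omega
  refine Cfsg.Agent.H577.GLB.Real.sl_of_slS (fun B hB D hD s hs =>
    Cfsg.Agent.H666.Clif.slS_of hctx hp hM (le_refl n) (by omega) ?_ ?_ B hB D hD s hs) B hB D hD s hs
  · intro hp2 t₀ h₀ δ₀ h₁ hw χ hχ D₁ hD₁ s₁ hs₁
    subst hp2
    refine Cfsg.Agent.H501.GLn.four_le_rank_of_lin hctx hp hM (le_refl n) (le_refl n) t₀ h₀ δ₀ h₁ hw χ hχ ?_ ?_ D₁ hD₁
      s₁ hs₁
    · intro n' hn' l hl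
      exact (Cfsg.Agent.H583.GLn.exists_label_of_lin hctx hN hn' l hl).exists
    · intro n' hn' a ha
      exact Cfsg.Agent.H583.GLn.orderOf_dch hctx hN hn' a ha
  · intro _ V hV hq t₀ h₀ δ₀ h₁ hw O hO
    exact Cfsg.Agent.H139.P5GL.card_irred_GL hctx hp hM hV hq (le_refl n) (le_refl n) t₀ h₀ δ₀ h₁ hw O hO

end Cfsg.Agent.S4536
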