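import Cfsg.Statements.S4542
import Cfsg.Agent.H624.AsmMain
import Cfsg.Agent.H624.FCases
import Cfsg.Agent.H624.PkgG
import Cfsg.Agent.H618.PkgE
import Cfsg.Agent.H602.Small.PkgF3
import Cfsg.Agent.H604.Small.PkgF4
import Cfsg.Agent.H608.F5Pkg
import Cfsg.Agent.H699.BrauerAbThree

set_option autoImplicit false
open Cfsg

namespace Cfsg.Agent.S4542

/-- Let B be a p-block of the finite group G (relative to a maximal ideal M of the algebraic integers containing p) with defect group D, and suppose D has a cyclic subgroup Z, central in D, of index at most 16 in D. Then B contains at most as many irreducible characters as D has elements (Brauer's k(B) bound holds for B); in particular this covers every 2-block of defect at most 5. -/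
theorem result {G : Type*} [Group G] [Finite G] (p : ℕ) [Fact p.Prime] (M : Ideal Cfsg.AlgInt) (hM : Cfsg.IsPModular p M) (B : Set (Cfsg.IrrCharacter G)) (hB : Cfsg.IsPBlock M B) (D : Subgroup G) (hD : Cfsg.IsDefectGroup p M B D) (Z : Subgroup G) (hZD : Z ≤ D) (hZc : ∀ z ∈ Z, ∀ d ∈ D, z * d = d * z) (hcyc : IsCyclic Z) (hidx : Z.relIndex D ≤ 16) : Nat.card B ≤ Nat.card D := by
  refine Cfsg.Agent.H624.AsmMain.main hM (fun h => ?_) (fun h => ?_) (fun h => ?_) (fun h => ?_)
    hB hD hZD hZc hcyc hidx
  · subst h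
    exact Cfsg.Agent.H618.PkgE.pkgE hM
  · subst h
    exact Cfsg.Agent.H624.FCases.pkgF hM (Cfsg.Agent.H602.Small.pkgF3 hM)
      (Cfsg.Agent.H604.Small.pkgF4 hM) (Cfsg.Agent.H608.F5.pkgF5 hM)
  · subst h
    exact Cfsg.Agent.H624.PkgGProof.pkgG hM
  · subst h
    exact Cfsg.Agent.H699.BrauerAbThree.pkgH hM

end Cfsg.Agent.S4542
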