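import Cfsg.Statements.S4543
import Cfsg.Agent.H617.Two.Main43
import Cfsg.Agent.S4542
import Cfsg.Agent.S4544

set_option autoImplicit false
open Cfsg

namespace Cfsg.Agent.S4543

/-- Let B be a 2-block of the finite group G (relative to a maximal ideal M of the algebraic integers containing 2) whose defect group D has order at most 64 and is generated by two of its elements. Then B contains at most as many irreducible characters as D has elements. -/
theorem result {G : Type*} [Group G] [Finite G] (M : Ideal Cfsg.AlgInt) (hM : Cfsg.IsPModular 2 M) (B : Set (Cfsg.IrrCharacter G)) (hB : Cfsg.IsPBlock M B) (D : Subgroup G) (hD : Cfsg.IsDefectGroup 2 M B D) (hcard : Nat.card D ≤ 64) (hgen : ∃ x ∈ D, ∃ y ∈ D, Subgroup.closure ({x, y} : Set G) = D) : Nat.card B ≤ Nat.card D := by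
  have hp : Fact (Nat.Prime 2) := ⟨Nat.prime_two⟩
  refine Cfsg.Agent.H617.Two.main hM ?_ ?_ hB hD hcard hgen
  · intro G _ _ B hB D hD Z hZD hZc hcyc hidx
    exact Cfsg.Agent.S4542.result 2 M hM B hB D hD Z hZD hZc hcyc hidx
  · intro G _ _ B hB D hD C hCD hcyc hidx
    exact Cfsg.Agent.S4544.result M hM B hB D hD C hCD hcyc hidx

end Cfsg.Agent.S4543
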