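import Cfsg.Statements.S4546
import Cfsg.Agent.H610.KKL.Final
import Cfsg.Agent.H610.KKL.RowsIn
import Cfsg.Agent.Schreier.Assembly
import Cfsg.Agent.S0000
import Cfsg.Agent.H406.KKL.EF4
import Cfsg.Agent.H836.KKL.Rows
import Cfsg.Agent.H167.KKL.E8
import Cfsg.Agent.H351.KKL.E7Fin
import Cfsg.Agent.H264.KKL.Co1
import Cfsg.Agent.H613.KKL.CoThree

set_option autoImplicit false
open Cfsg

namespace Cfsg.Agent.S4546

theorem late : Cfsg.Agent.H610.KKL.Late where
  f4 := fun hp => Cfsg.Agent.H406.KKL.E_F4 hp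
  e6 := fun hp => Cfsg.Agent.H836.KKL.E_E6 hp
  e8 := fun hp => Cfsg.Agent.H167.KKL.noCfg_E8 hp
  e6t := fun hp q hq => Cfsg.Agent.H836.KKL.E_2E6 hp q hq
  e7 := fun hp => Cfsg.Agent.H351.KKL.E_E7 hp
  co1 := fun h => Cfsg.Agent.H264.KKL.E_Co1 h
  co3 := fun hK hZ h => Cfsg.Agent.H613.KKL.CoThree.F_Co3 hK hZ h

universe u

theorem sch : Cfsg.Agent.H610.KKL.SchAll.{u} := by
  intro K _ _ hK
  have := hK.1
  have := hK.2
  refine Cfsg.Agent.Schreier.Assembly.known _ ?_ Cfsg.Agent.S0000.result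
  exact fun h => Group.IsPerfect.not_isMulCommutative (K ⧸ Subgroup.center K) h

/-- Let B be a 2-block of the finite group G (relative to a maximal ideal M of the algebraic integers containing 2) whose defect group D is the direct product of a cyclic group of order 2 ^ n (n ≥ 2) and an elementary abelian group of order 8. Then B contains exactly 2 ^ (n + 3) irreducible characters, all of height zero, and its 2-regular rank is 1, 3, 5 or 7. -/
theorem result {G : Type*} [Group G] [Finite G] (M : Ideal Cfsg.AlgInt) (hM : Cfsg.IsPModular 2 M) (B : Set (Cfsg.IrrCharacter G)) (hB : Cfsg.IsPBlock M B) (D : Subgroup G) (hD : Cfsg.IsDefectGroup 2 M B D) (n : ℕ) (hn : 2 ≤ n) (hiso : Nonempty (D ≃* Multiplicative (ZMod (2 ^ n) × ZMod 2 × ZMod 2 × ZMod 2))) : Nat.card B = 2 ^ (n + 3) ∧ (∀ χ ∈ B, Cfsg.blockHeight 2 B (χ : G → ℂ) = 0) ∧ (Cfsg.blockRank 2 B = 1 ∨ Cfsg.blockRank 2 B = 3 ∨ Cfsg.blockRank 2 B = 5 ∨ Cfsg.blockRank 2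 B = 7) := by
  exact Cfsg.Agent.H610.KKL.main_of sch
    (fun K _ _ hK hZ => Cfsg.Agent.H610.KKL.hz_rows_univ (Cfsg.Agent.H610.KKL.rows Cfsg.Agent.H610.KKL.a5 late)
      Cfsg.Agent.H610.KKL.a5 (fun _ _ _ _ => Cfsg.Agent.S0000.result) K hK hZ) M hM B hB D hD n hn hiso

end Cfsg.Agent.S4546
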