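import Cfsg.Statements.S4556
import Cfsg.Agent.S0000
import Cfsg.Agent.H620.Main

set_option autoImplicit false
open Cfsg

namespace Cfsg.Agent.S4556

/-- Let G be a finite group and p a prime. If every element of G at which some irreducible character vanishes has order divisible by p, then G has a nilpotent normal p-complement: a nilpotent normal subgroup that is a complement to a Sylow p-subgroup. -/
theorem result {G : Type*} [Group G] [Finite G] (p : ℕ) [Fact p.Prime] (h : ∀ g : G, (∃ χ : Cfsg.IrrCharacter G, (χ : G → ℂ) g = 0) → p ∣ orderOf g) : ∃ (P : Sylow p G) (N : Subgroup G), N.Normal ∧ Group.IsNilpotent N ∧ N.IsComplement' (P : Subgroup G) := by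
  exact Cfsg.Agent.H620.Main.exists_compl (fun _ _ _ _ => Cfsg.Agent.S0000.result)
    (fun _ _ _ _ => Cfsg.Agent.S0000.result) p h

end Cfsg.Agent.S4556
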