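import Cfsg.Statements.S4557
import Cfsg.Agent.S0000
import Cfsg.Agent.H620.Main

set_option autoImplicit false
open Cfsg

namespace Cfsg.Agent.S4557

/-- Let G be a finite group and p, q primes. If every element of G at which some irreducible character vanishes has order of the form p ^ a * q ^ b, then G is solvable. -/
theorem result {G : Type*} [Group G] [Finite G] (p q : ℕ) (hp : p.Prime) (hq : q.Prime) (h : ∀ g : G, (∃ χ : Cfsg.IrrCharacter G, (χ : G → ℂ) g = 0) → ∃ a b : ℕ, orderOf g = p ^ a * q ^ b) : Group.IsSolvable G := by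
  exact Cfsg.Agent.H620.Main.isSolvable (fun _ _ _ _ => Cfsg.Agent.S0000.result)
    (fun _ _ _ _ => Cfsg.Agent.S0000.result) p q hp hq h

end Cfsg.Agent.S4557
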