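import Cfsg.Statements.S4804
-- import your own Cfsg.Agent.* helpers here
import Cfsg.Agent.H682.CT.Start
import Cfsg.Agent.H682.CT.All
import Cfsg.Agent.OrdDiv.Table
import Cfsg.Agent.S0000

set_option autoImplicit false
open Cfsg

namespace Cfsg.Agent.S4804

/-- If a finite group G has an irreducible complex character that vanishes at every element outside the centre of G (G is of central type), then G is solvable. -/
theorem result {G : Type*} [Group G] [Finite G] (χ : Cfsg.IrrCharacter G) (hχ : ∀ g : G, g ∉ Subgroup.center G → (χ : G → ℂ) g = 0) : Group.IsSolvable G :=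
  Cfsg.Agent.H682.CT.solvable_of_fit χ.2 hχ fun _ _ _ _ hna =>
    Cfsg.Agent.H682.CT.fit_all Cfsg.Agent.OrdDiv.table hna Cfsg.Agent.S0000.result

end Cfsg.Agent.S4804
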