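import Cfsg.Statements.S4572
import Cfsg.Agent.S0000
import Cfsg.Agent.OrdDiv.Table
import Cfsg.Agent.H649.MonoCompl
import Cfsg.Agent.H902.MonoRows
import Cfsg.Agent.H642.MonoSpor
import Cfsg.Agent.H642.MonoTits
import Cfsg.Agent.H498.SporOut

set_option autoImplicit false
open Cfsg

namespace Cfsg.Agent.S4572

open Cfsg.Agent.H642.Mono in
theorem env_aux.{u} : Env.{u} where
  table := Cfsg.Agent.OrdDiv.table
  known := fun _ _ _ _ => Cfsg.Agent.S0000.result
  out := fun _ _ h => Cfsg.Agent.H498.SporOut.index_le_two h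

/-- Call an irreducible character of the finite group G monomial when it is induced from a homomorphism of some subgroup into ℂˣ. If all non-monomial irreducible characters of G have the same degree (in particular if there is at most one of them), then G is solvable. -/
theorem result {G : Type*} [Group G] [Fintype G] (h : ∀ χ ψ : G → ℂ, Cfsg.IsIrrCharacter G χ → Cfsg.IsIrrCharacter G ψ → ¬ (∃ (H : Subgroup G) (lam : ↥H →* ℂˣ), χ = Cfsg.indFun H (fun h => (lam h : ℂ))) → ¬ (∃ (H : Subgroup G) (lam : ↥H →* ℂˣ), ψ = Cfsg.indFun H (fun h => (lam h : ℂ))) → χ 1 = ψ 1) : Group.IsSolvable G :=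
  Cfsg.Agent.H649.MN.isSolvable_of_rows' Cfsg.Agent.OrdDiv.table (fun _ _ _ _ => Cfsg.Agent.S0000.result)
    Cfsg.Agent.H902.MonoRows.row_psl2 (fun {_} _ _ _ h => Cfsg.Agent.H642.Mono.tits env_aux h)
    (fun {_} _ _ _ h => Cfsg.Agent.H642.Mono.spor env_aux h) (fun _ _ _ _ => Cfsg.Agent.S0000.result) h

end Cfsg.Agent.S4572
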