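import Cfsg.Statements.S4577
import Cfsg.Agent.S4546
import Cfsg.Agent.H613.KS.Fin
import Cfsg.Agent.H850.KS.PAFour
import Cfsg.Agent.H850.KS.Final
import Cfsg.Agent.H608.KS.Fix
import Cfsg.Agent.H618.KS.Nine
import Cfsg.Agent.H101.KS.GlueB
import Cfsg.Agent.H703.KS.Asm
import Cfsg.Agent.H696.KS.Five

set_option autoImplicit false
open Cfsg

namespace Cfsg.Agent.S4577

universe u

/-- the theorem for elementary abelian defect groups of order 8 (S4546) -/
theorem hz8 (H : Type u) [Group H] [Finite H] : Cfsg.Agent.H613.KKL.HZ H :=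
  Cfsg.Agent.H610.KKL.hz_all Cfsg.Agent.S4546.sch
    (fun K _ _ hK hZ => Cfsg.Agent.H610.KKL.hz_rows_univ
      (Cfsg.Agent.H610.KKL.rows Cfsg.Agent.H610.KKL.a5 Cfsg.Agent.S4546.late)
      Cfsg.Agent.H610.KKL.a5 (fun _ _ _ _ => Cfsg.Agent.S0000.result) K hK hZ) H

theorem pa4 : Cfsg.Agent.H613.KS.Props.PA4.{u} :=
  Cfsg.Agent.H850.KS.PA4_of (Cfsg.Agent.H608.KS.pa4Fix_of fun H _ _ => hz8 H)
    (fun hM _ hB _ hD hE c hc T hT h9 => Cfsg.Agent.H618.KS.heights_nine hM hB hD hE c hc T hT h9)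

theorem par : Cfsg.Agent.H613.KS.Par.Par.{u} := Cfsg.Agent.H703.KS.par

theorem pa5 : Cfsg.Agent.H613.KS.Par.PAFive.{u} :=
  Cfsg.Agent.H696.KS.paFive_of (Cfsg.Agent.H101.KS.hPar_of_Par par)

theorem hz (G : Type u) [Group G] [Finite G] : Cfsg.Agent.H613.KS.HZ G :=
  Cfsg.Agent.H613.KS.hz_of pa4 pa5 G

/-- Let G be a finite group, M a maximal ideal of the algebraic integers containing 2, and B a 2-block of G with a defect group D of order 16. For every irreducible character χ in B, 2 raised to the height of χ is at most the index of the centre Z(D) in D, with equality exactly when D is abelian. -/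
theorem result {G : Type*} [Group G] [Finite G] (M : Ideal Cfsg.AlgInt) (hM : Cfsg.IsPModular 2 M) (B : Set (Cfsg.IrrCharacter G)) (hB : Cfsg.IsPBlock M B) (D : Subgroup G) (hD : Cfsg.IsDefectGroup 2 M B D) (h16 : Nat.card D = 16) (χ : Cfsg.IrrCharacter G) (hχ : χ ∈ B) :
    Cfsg.blockHeight 2 B (χ : G → ℂ) ≤ ((Subgroup.center D).index).factorization 2 ∧
      (Cfsg.blockHeight 2 B (χ : G → ℂ) = ((Subgroup.center D).index).factorization 2 ↔ IsMulCommutative D) := by
  exact Cfsg.Agent.H850.KS.s4577_of (hz G) hM hB hD h16 χ hχ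

end Cfsg.Agent.S4577
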