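import Cfsg.Statements.S4592
import Cfsg.Agent.H628.SylowFStar
import Cfsg.Agent.S1937

set_option autoImplicit false
open Cfsg

namespace Cfsg.Agent.S4592

/-- Let p be an odd prime, G a finite group with no nontrivial normal subgroup of order prime to p, P a Sylow p-subgroup of G and Q the intersection of P with the generalized Fitting subgroup of G. Then the centralizer of Q in P is the centre of Q. -/
theorem result {G : Type*} [Group G] [Finite G] (p : ℕ) [Fact p.Prime] (hodd : p ≠ 2) (hcore : Cfsg.pPrimeCore p G = ⊥) (P : Sylow p G) :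
    (P : Subgroup G) ⊓ Subgroup.centralizer (((P : Subgroup G) ⊓ Cfsg.generalizedFittingSubgroup G : Subgroup G) : Set G) =
      ((P : Subgroup G) ⊓ Cfsg.generalizedFittingSubgroup G) ⊓ Subgroup.centralizer (((P : Subgroup G) ⊓ Cfsg.generalizedFittingSubgroup G : Subgroup G) : Set G) := by
  apply le_antisymm
  · intro x hx
    have h1 := Cfsg.Agent.H628.SylowFStar.main hcore
      (fun h Q α hα hfix => Cfsg.Agent.S1937.result hodd h Q α hα hfix) P hx
    exact ⟨⟨hx.1, h1⟩, hx.2⟩
  · rintro x ⟨⟨hxP, -⟩, hxC⟩
    exact ⟨hxP, hxC⟩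

end Cfsg.Agent.S4592
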