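import Cfsg.Statements.S4595
import Cfsg.Agent.H629.CentAsm
import Cfsg.Agent.H629.PsuIdx
import Cfsg.Agent.H601.ReeIdx
import Cfsg.Agent.S0000

set_option autoImplicit false
open Cfsg

namespace Cfsg.Agent.S4595

/-- Let p be an odd prime and G a finite quasisimple group with a non-abelian Sylow p-subgroup P whose centre has index p² in P. Then P is extraspecial of order p³ and exponent p. -/
theorem result {G : Type*} [Group G] [Finite G] (p : ℕ) [Fact p.Prime] (hodd : p ≠ 2) (hq : Cfsg.IsQuasisimple G) (P : Sylow p G) (hna : ¬ IsMulCommutative (P : Subgroup G)) (hZ : (Subgroup.center (P : Subgroup G)).index = p ^ 2) :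
    Cfsg.IsExtraspecial p (P : Subgroup G) ∧ Nat.card (P : Subgroup G) = p ^ 3 ∧ ∀ x ∈ (P : Subgroup G), x ^ p = 1 := by
  have := hq.2
  exact H629.CentAsm.main ⟨fun _ hF e P hZ hna => H629.PsuIdx.psu_index hF e P hZ hna,
    fun h P => H601.ReeIdx.ree_index h P⟩ hodd hq S0000.result P hna hZ

end Cfsg.Agent.S4595
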