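import Cfsg.Statements.S4599
-- import your own Cfsg.Agent.* helpers here
import Cfsg.Agent.H630.KnownAll

set_option autoImplicit false
open Cfsg

namespace Cfsg.Agent.S4599

/-- Let X be a finite non-abelian simple group and p ≠ q prime divisors of its order such that no p-element of X has class size divisible by q and no q-element has class size divisible by p. Then p and q are both odd and X has an abelian Hall {p, q}-subgroup. -/
theorem result {X : Type*} [Group X] [Finite X] [IsSimpleGroup X] (hX : ¬ IsMulCommutative X) (p q : ℕ) [Fact p.Prime] [Fact q.Prime] (hpq : p ≠ q) (hp : p ∣ Nat.card X) (hq : q ∣ Nat.card X)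
    (h1 : ∀ x : X, (∃ k : ℕ, orderOf x = p ^ k) → ¬ q ∣ (Subgroup.centralizer ({x} : Set X)).index) (h2 : ∀ y : X, (∃ k : ℕ, orderOf y = q ^ k) → ¬ p ∣ (Subgroup.centralizer ({y} : Set X)).index) :
    p ≠ 2 ∧ q ≠ 2 ∧ ∃ H : Subgroup X, Cfsg.IsPiHall ({p, q} : Set ℕ) H ∧ IsMulCommutative H := by
  have hp' : p.Prime := Fact.out
  have hq' : q.Prime := Fact.out
  have hp2 : p ≠ 2 := by
    rintro rfl
    obtain ⟨y, hy, hd⟩ := Cfsg.Agent.H630.NH.two_simple hX q hq' hpq.symm hq
    exact h2 y hy hd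
  have hq2 : q ≠ 2 := by
    rintro rfl
    obtain ⟨y, hy, hd⟩ := Cfsg.Agent.H630.NH.two_simple hX p hp' hpq hp
    exact h1 y hy hd
  exact ⟨hp2, hq2, (Cfsg.Agent.H630.NH.row_simple hX).pair p q hp' hq' hpq hp2 hq2 hp hq h1 h2⟩

end Cfsg.Agent.S4599
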