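import Cfsg.Statements.S4600
-- import your own Cfsg.Agent.* helpers here
import Cfsg.Agent.H630.KnownAll

set_option autoImplicit false
open Cfsg

namespace Cfsg.Agent.S4600

/-- Let G be a finite group and π a set of primes containing at least two prime divisors of the order of G. If G has a nilpotent Hall τ-subgroup for every two-element subset τ of π, then G has a nilpotent Hall π-subgroup. -/
theorem result {G : Type*} [Group G] [Finite G] (π : Set ℕ) (hπ : ∀ p ∈ π, p.Prime) (h2 : ∃ p ∈ π, ∃ q ∈ π, p ≠ q ∧ p ∣ Nat.card G ∧ q ∣ Nat.card G)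
    (hpairs : ∀ p ∈ π, ∀ q ∈ π, p ≠ q → ∃ H : Subgroup G, Cfsg.IsPiHall ({p, q} : Set ℕ) H ∧ Group.IsNilpotent H) :
    ∃ H : Subgroup G, Cfsg.IsPiHall π H ∧ Group.IsNilpotent H := by
  exact Cfsg.Agent.H630.NH.main (fun X _ _ _ hX => Cfsg.Agent.H630.NH.row_simple hX)
    (fun X _ _ _ hX => Cfsg.Agent.H630.NH.two_simple hX) hπ (Cfsg.Agent.H630.NH.cond_of_pairs hπ hpairs)

end Cfsg.Agent.S4600
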