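import Cfsg.Statements.S4606
import Cfsg.Agent.H625.PSolvOne
import Cfsg.Agent.H634.Cols
import Cfsg.Agent.H634.Fus
-- import your own Cfsg.Agent.* helpers here

set_option autoImplicit false
open Cfsg

namespace Cfsg.Agent.S4606

open Cfsg.Agent.Blocks.Basic Cfsg.Agent.Blocks.Local

/-- The defect groups of the principal block are Sylow subgroups. -/
theorem exists_sylow {G : Type*} [Group G] [Finite G] {p : ℕ} [hp : Fact p.Prime] {M : Ideal Cfsg.AlgInt}
    (hM : Cfsg.IsPModular p M) {D : Subgroup G} (hD : Cfsg.IsDefectGroup p M (principalBlock M G) D) :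
    ∃ P : Sylow p G, D = (P : Subgroup G) := by
  have hMp := isPrime_of_isPModular hM
  have h1 := S0908.result p M hM _ Blocks.PrincipalSection.isPBlock_principalBlock D hD
  have h2 : sInf ((fun χ : IrrCharacter G => (charDegree (χ : G → ℂ)).factorization p) '' principalBlock M G) = 0 := by
    apply Nat.sInf_eq_zero.2
    left
    refine ⟨_, Blocks.PrincipalSection.one_mem_principalBlock, ?_⟩
    have h3 := irr_one_eq_charDegree (isIrrCharacter_one (G := G))
    have h4 : charDegree (fun _ : G => (1 : ℂ)) = 1 := by exact_mod_cast h3.symm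
    change (charDegree (fun _ : G => (1 : ℂ))).factorization p = 0
    rw [h4]
    simp
  unfold blockDefect at h1
  rw [h2, Nat.sub_zero] at h1
  exact ⟨Sylow.ofCard D h1, rfl⟩

/-- Let G be a finite group, p a prime, M a maximal ideal of the algebraic integers containing p, and B a p-block of G with defect group D. Suppose the number of irreducible characters in B exceeds the p-regular rank of B (the number of irreducible Brauer characters in B) by exactly one. If B is the principal block, or if G is p-solvable, then D is elementary abelian. -/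
theorem result {G : Type*} [Group G] [Finite G] (p : ℕ) [Fact p.Prime] (M : Ideal Cfsg.AlgInt) (hM : Cfsg.IsPModular p M) (B : Set (Cfsg.IrrCharacter G)) (hB : Cfsg.IsPBlock M B) (D : Subgroup G) (hD : Cfsg.IsDefectGroup p M B D)
    (hk : Nat.card B = Cfsg.blockRank p B + 1) (hB0 : B = Cfsg.principalBlock M G ∨ Cfsg.IsPSolvable p G) :
    Cfsg.IsElementaryAbelian p D := by
  rcases hB0 with rfl | hG
  · obtain ⟨P, rfl⟩ := exists_sylow hM hD
    have hC : H634.Fus.OneClass p G := fun x y hx hx1 hy hy1 =>
      (H634.Cols.pNilpotent_and_conj hM hk hx hx1).2 y hy hy1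
    have hN : H634.ZJ.NilCent p G := fun x hx hx1 => (H634.Cols.pNilpotent_and_conj hM hk hx hx1).1
    have hpow : ∀ a ∈ (P : Subgroup G), a ^ p = 1 := fun a ha =>
      H634.Fus.pow_eq_one hC (H634.Fus.exists_pow_of_mem P.isPGroup' ha)
    refine ⟨⟨⟨fun a b => Subtype.ext ?_⟩⟩, hpow⟩
    change (a : G) * b = b * a
    by_cases hp2 : p = 2
    · subst hp2
      have h1 : ∀ c ∈ (P : Subgroup G), c⁻¹ = c := by
        intro c hc
        have := hpow c hc
        rw [pow_two] at this
        exact inv_eq_of_mul_eq_one_left this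
      have h2 := h1 _ (P.mul_mem a.2 b.2)
      rw [mul_inv_rev, h1 _ a.2, h1 _ b.2] at h2
      exact h2.symm
    · exact H634.Fus.sylow_comm hp2 hN hC P a.2 b.2
  · exact H625.PSolvOne.main p M hM hG hB hk hD

end Cfsg.Agent.S4606
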