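import Cfsg.Statements.S4745
import Cfsg.Agent.H665.TransPowMain
import Cfsg.Agent.S0205
import Cfsg.Agent.S0222

set_option autoImplicit false
open Cfsg

namespace Cfsg.Agent.S4745

/-- Let p be an odd prime and G a finite group of even order divisible by p in which the centralizer of every non-identity p-element has odd order, and suppose G acts faithfully and transitively on a set with p ^ r elements, r ≥ 1. Then either G has an irreducible character of p-defect zero, or G is p-solvable and has an irreducible character of 2-defect zero. -/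
theorem result {G Ω : Type*} [Group G] [Finite G] [MulAction G Ω] [FaithfulSMul G Ω] [Fintype Ω] (htr : MulAction.IsPretransitive G Ω) (p : ℕ) [Fact p.Prime] (hp2 : p ≠ 2) (hpG : p ∣ Nat.card G) (h2G : 2 ∣ Nat.card G) (hC : ∀ g : G, g ≠ 1 → (∃ k : ℕ, orderOf g = p ^ k) → Odd (Nat.card ↥(Subgroup.centralizer ({g} : Set G)))) (r : ℕ) (hr : 1 ≤ r) (hΩ : Fintype.card Ω = p ^ r) : (∃ χ : Cfsg.IrrCharacter G, (Cfsg.charDegree (χ : G → ℂ)).factorization p = (Nat.card G).factorization p) ∨ (Cfsg.IsPSolvable p G ∧ ∃ χ : Cfsg.IrrCharacter G, (Cfsg.charDegree (χ : G → ℂ)).factorization 2 = (Nat.card G).factorization 2) := by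
  by_cases h : Cfsg.Agent.H665.NoPQ.HasDZ p G
  · exact Or.inl h
  right
  have := htr
  have hps := Cfsg.Agent.H665.TransPow.isPSolvable (G := G) (Ω := Ω)
    (fun X _ _ h => Cfsg.Agent.S0205.result (G := X) h)
    (fun X _ _ _ hna H hH => Cfsg.Agent.S0222.result (G := X) hna H hH) hp2 hr hC h2G h
    (by rw [Nat.card_eq_fintype_card, hΩ])
  refine ⟨hps, ?_⟩
  have : Fact (Nat.Prime 2) := ⟨Nat.prime_two⟩
  have hG : ∀ y : G, ¬ p * 2 ∣ orderOf y := by
    refine Cfsg.Agent.H665.NoPQ.not_dvd_orderOf fun g hg hk => ?_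
    have h1 := hC g hg hk
    rw [← Nat.not_even_iff_odd, even_iff_two_dvd] at h1
    exact h1
  rcases Cfsg.Agent.H665.NoPQ.exists_defectZero_of_pSolvable p 2 hp2 _ G rfl hG hps with h1 | h1
  · exact absurd h1 h
  · exact h1

end Cfsg.Agent.S4745
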