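import Cfsg.Statements.S4747
import Cfsg.Agent.H665.LeonZ
import Cfsg.Agent.H665.TIMain

set_option autoImplicit false
open scoped Pointwise
open Cfsg

namespace Cfsg.Agent.S4747

/-- Leonard's conjecture on trivial-intersection Sylow subgroups. Let P be a Sylow p-subgroup of the finite group G that meets each conjugate g P g⁻¹ with g outside N_G(P) trivially, and let χ be a faithful character of G (not necessarily irreducible; faithful: χ g = χ 1 only for g = 1) whose degree d satisfies (d + 1)² ≤ |P|, that is d ≤ √|P| − 1. Then P is normal in G. -/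
theorem result {G : Type*} [Group G] [Finite G] (p : ℕ) [Fact p.Prime] (P : Sylow p G) (hTI : ∀ g : G, g ∉ Subgroup.normalizer ((P : Subgroup G) : Set G) → (P : Subgroup G) ⊓ (MulAut.conj g • (P : Subgroup G)) = ⊥) (χ : G → ℂ) (hχ : Cfsg.IsCharacter G χ) (hfaith : ∀ g : G, χ g = χ 1 → g = 1) (hdeg : (Cfsg.charDegree χ + 1) ^ 2 ≤ Nat.card ↥(P : Subgroup G)) : (P : Subgroup G).Normal :=
  Cfsg.Agent.H665.LeonZ.main' p (fun _ _ _ _ hna h Q hnc => Cfsg.Agent.H665.TIMain.concl hna h Q hnc) P hTI χ hχ hfaith hdeg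

end Cfsg.Agent.S4747
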