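import Cfsg.Statements.S4761
import Cfsg.Agent.H596.Final
import Cfsg.Agent.H53.Two.FactTwo

set_option autoImplicit false
open Cfsg

namespace Cfsg.Agent.S4761

/-- Let p be a prime and G a finite group with exactly one irreducible complex character whose degree is divisible by p. If a Sylow p-subgroup P of G is not normal, then its normalizer is a maximal subgroup of G. -/
theorem result {G : Type*} [Group G] [Finite G] (p : ℕ) [Fact p.Prime] (hone : Nat.card {χ : Cfsg.IrrCharacter G // p ∣ Cfsg.charDegree (χ : G → ℂ)} = 1) (P : Sylow p G) (hP : ¬ (P : Subgroup G).Normal) : IsCoatom (Subgroup.normalizer ((P : Subgroup G) : Set G)) := by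
  exact Cfsg.Agent.H596.Final.s4761 Cfsg.Agent.H53.Two.factTwo p hone P hP

end Cfsg.Agent.S4761
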