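import Cfsg.Statements.S4764
import Cfsg.Agent.H596.Final
import Cfsg.Agent.H53.Two.FactTwo

set_option autoImplicit false
open Cfsg

namespace Cfsg.Agent.S4764

/-- Let p be a prime and G a finite group that is not p-solvable and has exactly one irreducible complex character of degree divisible by p. Then either (a) for some finite field F of characteristic p with at least 4 elements, G is isomorphic to PSL(2,F) or to SL(2,F), or G has a normal elementary abelian p-subgroup V whose order is the square of that of F with G/V isomorphic to SL(2,F); or (b) p = 3 and G is isomorphic to the symmetric group of degree 5; or (c) p = 3 and G is a simple group of order 7920. -/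
theorem result {G : Type*} [Group G] [Finite G] (p : ℕ) [Fact p.Prime] (hns : ¬ Cfsg.IsPSolvable p G) (hone : Nat.card {χ : Cfsg.IrrCharacter G // p ∣ Cfsg.charDegree (χ : G → ℂ)} = 1) : (∃ (F : Type) (_ : Field F) (_ : Fintype F), CharP F p ∧ 4 ≤ Fintype.card F ∧ (Nonempty (G ≃* Matrix.ProjectiveSpecialLinearGroup (Fin 2) F) ∨ Nonempty (G ≃* Matrix.SpecialLinearGroup (Fin 2) F) ∨ ∃ (V : Subgroup G) (_ : V.Normal), Cfsg.IsElementaryAbelian p V ∧ Nat.card V = Fintype.card F ^ 2 ∧ Nonempty (G ⧸ V ≃* Matrix.SpecialLinearGroup (Fin 2) F))) ∨ (p = 3 ∧ Nonempty (G ≃* Equiv.Perm (Fin 5))) ∨ (p = 3 ∧ Cfsg.IsM11 G) := by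
  exact Cfsg.Agent.H596.Final.s4764 Cfsg.Agent.H53.Two.factTwo p hns hone

end Cfsg.Agent.S4764
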