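import Cfsg.Statements.S4769
import Cfsg.Agent.H246.Dl.FactAll

set_option autoImplicit false
open Cfsg

namespace Cfsg.Agent.S4769

/-- Let G be a finite non-abelian simple group, p a prime dividing its order and P a Sylow p-subgroup. Suppose S is a finite set of functions such that every irreducible complex character of G of degree divisible by p is obtained from some member of S by composing with an automorphism of G (so S meets every automorphism orbit of such characters). Then the derived series of P reaches the trivial subgroup in at most as many steps as S has elements. -/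
theorem result {G : Type*} [Group G] [Finite G] (hG : IsSimpleGroup G) (hna : ¬ IsMulCommutative G) (p : ℕ) [Fact p.Prime] (hp : p ∣ Nat.card G) (P : Sylow p G) (S : Finset (G → ℂ)) (hS : ∀ χ : Cfsg.IrrCharacter G, p ∣ Cfsg.charDegree (χ : G → ℂ) → ∃ ψ ∈ S, ∃ σ : G ≃* G, ∀ g : G, (χ : G → ℂ) g = ψ (σ g)) : derivedSeries ↥(P : Subgroup G) S.card = ⊥ := by
  have := hG
  exact H246.Dl.FactAll.factDl G hna p hp P S hS

end Cfsg.Agent.S4769
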