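import Cfsg.Statements.S4772
import Cfsg.Agent.H717.DegGraph
import Cfsg.Agent.H677.DG.ConnDia

set_option autoImplicit false
open Cfsg

namespace Cfsg.Agent.S4772

/-- Let G be a finite non-abelian simple group. Then the character degree graph of G is disconnected if and only if G is isomorphic to PSL(2,F) for some finite field F with at least 4 elements. -/
theorem result {G : Type*} [Group G] [Finite G] (hG : IsSimpleGroup G) (hna : ¬ IsMulCommutative G) : ¬ ((Cfsg.degreeGraph G).induce (Cfsg.degreePrimes G)).Preconnected ↔ ∃ (F : Type) (_ : Field F) (_ : Fintype F), 4 ≤ Fintype.card F ∧ Nonempty (G ≃* Matrix.ProjectiveSpecialLinearGroup (Fin 2) F) := by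
  exact Cfsg.Agent.H717.Deg.S4772_of Cfsg.Agent.H677.DG.factConnAll hG hna

end Cfsg.Agent.S4772
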