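import Cfsg.Statements.S4777
import Cfsg.Agent.H673.Final
import Cfsg.Agent.S4760

set_option autoImplicit false
open Cfsg

namespace Cfsg.Agent.S4777

/-- Let p be a prime and N an abelian p-subgroup that is normal in the finite group G and contained in the derived subgroup of G, and let P be a Sylow p-subgroup of G. Suppose that the common-divisor graph on the relative degree set cd(G|N) (degrees of irreducible complex characters of G whose kernel does not contain N, two distinct degrees adjacent when not coprime) has two vertices that are not joined by any path. Then: P is normal in G; the derived subgroup of G lies in P and that of P lies in N (G/P and P/N are abelian); every member of cd(G|N) is a power of p or coprime to p; N is not central in P; and every minimal normal subgroup of G contained in the derived subgroup of G is central in G. -/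
theorem result {G : Type*} [Group G] [Finite G] (p : ℕ) [Fact p.Prime] (N : Subgroup G) [N.Normal] (hNp : IsPGroup p N) (hNab : IsMulCommutative N) (hNG : N ≤ commutator G) (P : Sylow p G) (hdisc : ¬ (Cfsg.commonDivisorGraph.induce (Cfsg.relCharDegrees N)).Preconnected) : (P : Subgroup G).Normal ∧ commutator G ≤ P ∧ ⁅(P : Subgroup G), (P : Subgroup G)⁆ ≤ N ∧ (∀ d ∈ Cfsg.relCharDegrees N, (∃ k : ℕ, d = p ^ k) ∨ Nat.Coprime d p) ∧ (∃ x ∈ N, ∃ y ∈ (P : Subgroup G), x * y ≠ y * x) ∧ ∀ M : Subgroup G, M.Normal → M ≠ ⊥ → (∀ K : Subgroup G, K.Normal → K < M → K = ⊥) → M ≤ commutator G → M ≤ Subgroup.center G :=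
  H673.s4777_of (fun _ _ _ q _ Q => Cfsg.Agent.S4760.result q Q) p N hNp hNab hNG P hdisc

end Cfsg.Agent.S4777
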