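import Cfsg.Statements.S4778
import Cfsg.Agent.H673.Final
import Cfsg.Agent.S4760

set_option autoImplicit false
open Cfsg

namespace Cfsg.Agent.S4778

/-- Let N be a solvable normal subgroup of the finite group G contained in the derived subgroup of G, and consider the common-divisor graph on the relative degree set cd(G|N) (degrees of irreducible complex characters of G whose kernel does not contain N, two distinct degrees adjacent when not coprime). If this graph is connected then its diameter is at most 4, and at most 3 when N is nilpotent. -/
theorem result {G : Type*} [Group G] [Finite G] (N : Subgroup G) [N.Normal] [Group.IsSolvable N] (hNG : N ≤ commutator G) (hconn : (Cfsg.commonDivisorGraph.induce (Cfsg.relCharDegrees N)).Connected) : (Cfsg.commonDivisorGraph.induce (Cfsg.relCharDegrees N)).diam ≤ 4 ∧ (Group.IsNilpotent N → (Cfsg.commonDivisorGraph.induce (Cfsg.relCharDegrees N)).diam ≤ 3) :=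
  H673.s4778_of (fun _ _ _ q _ Q => Cfsg.Agent.S4760.result q Q) N hNG hconn

end Cfsg.Agent.S4778
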