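import Cfsg.Statements.S4783
import Cfsg.Agent.H598.FourMain

set_option autoImplicit false
open Cfsg

namespace Cfsg.Agent.S4783

/-- A finite solvable group with exactly four distinct irreducible complex character degrees has trivial fourth derived subgroup (derived length at most 4). -/
theorem result {G : Type*} [Group G] [Finite G] [Group.IsSolvable G] (hcd : Nat.card ↥(Cfsg.charDegrees G) = 4) : derivedSeries G 4 = ⊥ := by
  exact Cfsg.Agent.H598.FourMain.main hcd.le

end Cfsg.Agent.S4783
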