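import Cfsg.Statements.S4792
import Cfsg.Agent.S0000
import Cfsg.Agent.H430.Conj.AsmLie
import Cfsg.Agent.H630.CJ.All

set_option autoImplicit false
open Cfsg

namespace Cfsg.Agent.S4792

/-- Let G be a finite non-abelian simple group that is not isomorphic to a projective special unitary group PSU(n, q) with n ≥ 3 and n coprime to 2(q + 1). Then for every irreducible complex character χ of G the sum of the values of χ over a set of representatives of the conjugacy classes — equivalently the inner product of χ with the conjugation character g ↦ #C_G(g) — is a positive integer; so every irreducible character is a constituent of the permutation character of G acting on itself by conjugation. -/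
theorem result {G : Type*} [Group G] [Fintype G] (hG : IsSimpleGroup G) (hna : ¬ IsMulCommutative G) (hnot : ¬ ∃ (n q : ℕ) (F : Type) (_ : Field F) (_ : Fintype F), 3 ≤ n ∧ Nat.Coprime n (2 * (q + 1)) ∧ Fintype.card F = q ^ 2 ∧ Nonempty (G ≃* Cfsg.PSU n F q)) (χ : Cfsg.IrrCharacter G) : ∃ m : ℕ, 0 < m ∧ Cfsg.classInner (χ : G → ℂ) (fun g : G => (Nat.card ↥(Subgroup.centralizer ({g} : Set G)) : ℂ)) = m := by
  exact Cfsg.Agent.H430.Conj.final (Cfsg.Agent.H430.Conj.row_known hG (Cfsg.Agent.S0000.result) hna hnot
    (fun hs h => Cfsg.Agent.H630.CJ.row_sporadic (fun S _ _ _ => Cfsg.Agent.S0000.result) hs h)) χ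

end Cfsg.Agent.S4792
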