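import Cfsg.Statements.S4795
import Cfsg.Agent.S0000
import Cfsg.Agent.H902.Artin
import Cfsg.Agent.H78.Inc.Fin
import Cfsg.Agent.H78.Inc.SporSpor
import Cfsg.Agent.H495.TI.AsmB
import Cfsg.Agent.H66.TI.HypNo
import Cfsg.Agent.H162.AnisoD

set_option autoImplicit false
open Cfsg

namespace Cfsg.Agent.S4795

/-- The codegree of an irreducible complex character χ of a finite group G is [G : ker χ] / χ(1), where ker χ is the set of elements at which χ takes the value χ(1). Let S and H be finite non-abelian simple groups such that every codegree of an irreducible character of S is a codegree of an irreducible character of H. Then S and H are isomorphic. -/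
theorem result {S : Type*} [Group S] [Finite S] (hS : IsSimpleGroup S) (hSa : ¬ IsMulCommutative S) {H : Type*} [Group H] [Finite H] (hH : IsSimpleGroup H) (hHa : ¬ IsMulCommutative H) (hsub : ∀ χ : Cfsg.IrrCharacter S, ∃ ψ : Cfsg.IrrCharacter H, (Nat.card S / (Nat.card {g : S // (χ : S → ℂ) g = (χ : S → ℂ) 1} * Cfsg.charDegree (χ : S → ℂ))) = (Nat.card H / (Nat.card {g : H // (ψ : H → ℂ) g = (ψ : H → ℂ) 1} * Cfsg.charDegree (ψ : H → ℂ)))) : Nonempty (S ≃* H) := by
  have h3 : H78.Inc.PspThree := fun hF hn hd => H495.TI.psp_three_of H66.TI.hypNo H162.Aniso.anisoLe hF hn hd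
  obtain ⟨k, hk⟩ := H78.Inc.exists_cov_of hsub
  exact H78.Inc.main (H78.Inc.pieces (fun S _ _ _ => S0000.result) h3 H78.Inc.spor_spor)
    (fun h => H902.Artin.artin h) (fun hc => hSa ⟨⟨hc⟩⟩) (fun hc => hHa ⟨⟨hc⟩⟩) S0000.result S0000.result hk

end Cfsg.Agent.S4795
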