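import Cfsg.Statements.S4810
import Cfsg.Agent.H671.Comp
import Cfsg.Agent.H671.FactsFin

set_option autoImplicit false
open Cfsg

namespace Cfsg.Agent.S4810

/-- For every finite group G the character degree graph of G (vertices: the primes dividing some irreducible complex character degree; edges: distinct primes whose product divides some degree) has at most three connected components. -/
theorem result {G : Type*} [Group G] [Finite G] : Nat.card ((Cfsg.degreeGraph G).induce (Cfsg.degreePrimes G)).ConnectedComponent ≤ 3 := by
  exact Cfsg.Agent.H671.Comp.comp_le_three Cfsg.Agent.H671.GraphAsm.factIM_all Cfsg.Agent.H671.GraphAsm.factConn_all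
    Cfsg.Agent.H671.GraphAsm.factExt_all

end Cfsg.Agent.S4810
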