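import Cfsg.Statements.S4819
import Cfsg.Agent.H723.TI.Fin

set_option autoImplicit false
open scoped Pointwise
open Cfsg

namespace Cfsg.Agent.S4819

/-- Let p be a prime, M a maximal ideal of the algebraic integers containing p, and P a Sylow p-subgroup of the finite group G that meets each conjugate g P g⁻¹ with g outside N_G(P) trivially. Let B be a p-block of G with defect group P and b a block of N_G(P) inducing B. Then B and b have the same p-regular rank (classically, the same number of irreducible Brauer characters). -/
theorem result {G : Type*} [Group G] [Finite G] (p : ℕ) [Fact p.Prime] (M : Ideal Cfsg.AlgInt) (hM : Cfsg.IsPModular p M) (P : Sylow p G) (hTI : ∀ g : G, g ∉ Subgroup.normalizer ((P : Subgroup G) : Set G) → (P : Subgroup G) ⊓ (MulAut.conj g • (P : Subgroup G)) = ⊥) (B : Set (Cfsg.IrrCharacter G)) (hB : Cfsg.IsPBlock M B) (hBP : Cfsg.IsDefectGroup p M B P) (b : Set (Cfsg.IrrCharacter (Subgroup.normalizer ((P : Subgroup G) : Set G)))) (hb : Cfsg.IsInducedBlock M (Subgroup.normalizer ((P : Subgroup G) : Set G)) b B) : Cfsg.blockRank p B = Cfsg.blockRank p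 b := by
  exact Cfsg.Agent.H723.TI.fin P hTI M hM B hB hBP b hb

end Cfsg.Agent.S4819
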