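import Cfsg.Statements.S4820
import Cfsg.Agent.H608.TI.Final
import Cfsg.Agent.Blocks.Knorr
import Cfsg.Agent.S4819

set_option autoImplicit false
open scoped Pointwise
open Cfsg

namespace Cfsg.Agent.S4820

/-- Let p be a prime dividing the order of the finite group G and P a Sylow p-subgroup that meets each conjugate g P g⁻¹ with g outside N_G(P) trivially. Then the number of conjugacy classes of G equals the number of conjugacy classes of N_G(P) plus the number of irreducible characters of G of p-defect zero (those whose degree has the same p-part as the order of G). -/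
theorem result {G : Type*} [Group G] [Finite G] (p : ℕ) [Fact p.Prime] (hpG : p ∣ Nat.card G) (P : Sylow p G) (hTI : ∀ g : G, g ∉ Subgroup.normalizer ((P : Subgroup G) : Set G) → (P : Subgroup G) ⊓ (MulAut.conj g • (P : Subgroup G)) = ⊥) :
    Nat.card (ConjClasses G) = Nat.card (ConjClasses (Subgroup.normalizer ((P : Subgroup G) : Set G))) + Nat.card {χ : Cfsg.IrrCharacter G // (Cfsg.charDegree (χ : G → ℂ)).factorization p = (Nat.card G).factorization p} := by
  obtain ⟨M, hM⟩ := Cfsg.Agent.Blocks.Knorr.exists_isPModular p
  exact Cfsg.Agent.H608.TI.classes_of hpG P hTI hM fun B hB hBP b hb =>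
    Cfsg.Agent.S4819.result p M hM P hTI B hB hBP b hb

end Cfsg.Agent.S4820
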