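import Cfsg.Statements.S4821
import Cfsg.Agent.H616.TI.Asm
import Cfsg.Agent.H709.TI.Goals
import Cfsg.Agent.H591.TI.Zero
import Cfsg.Agent.H833.TI.Cyc
import Cfsg.Agent.H327.TI.Quot
import Cfsg.Agent.H334.TI.Socle
import Cfsg.Agent.H73.TI.ZstRes
import Cfsg.Agent.H299.TI.Loc
import Cfsg.Agent.H245.TI.PP
import Cfsg.Agent.H901.TI.AL
import Cfsg.Agent.H580.TI.Reg
import Cfsg.Agent.H585.UtMain
import Cfsg.Agent.H417.TI.Psl
import Cfsg.Agent.H990.TI.Psu
import Cfsg.Agent.H188.TI.Sz
import Cfsg.Agent.H121.TI.Ree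
import Cfsg.Agent.H559.TI.Final
import Cfsg.Agent.H586.TI.Iso

set_option autoImplicit false
open scoped Pointwise
open Cfsg

namespace Cfsg.Agent.S4821

/-- Let p be a prime, M a maximal ideal of the algebraic integers containing p, and P a Sylow p-subgroup of the finite group G that is not normal and meets each conjugate g P g⁻¹ with g outside N_G(P) trivially. Let B be a p-block of G with defect group P. Then B has at most as many irreducible characters as P has elements, and at most as many irreducible characters of height zero as the index of the derived subgroup of P in P. -/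
theorem result {G : Type*} [Group G] [Finite G] (p : ℕ) [Fact p.Prime] (M : Ideal Cfsg.AlgInt) (hM : Cfsg.IsPModular p M) (P : Sylow p G) (hnn : ¬ (P : Subgroup G).Normal) (hTI : ∀ g : G, g ∉ Subgroup.normalizer ((P : Subgroup G) : Set G) → (P : Subgroup G) ⊓ (MulAut.conj g • (P : Subgroup G)) = ⊥) (B : Set (Cfsg.IrrCharacter G)) (hB : Cfsg.IsPBlock M B) (hBP : Cfsg.IsDefectGroup p M B P) :
    Nat.card B ≤ Nat.card (P : Subgroup G) ∧ Nat.card {χ : Cfsg.IrrCharacter G // χ ∈ B ∧ Cfsg.blockHeight p B (χ : G → ℂ) = 0} ≤ (commutator ↥(P : Subgroup G)).index := by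
  exact Cfsg.Agent.H616.TI.main_of Cfsg.Agent.H709.TI.goalCrit Cfsg.Agent.H591.TI.goalZero
    Cfsg.Agent.H833.TI.result Cfsg.Agent.H327.TI.goalQuot Cfsg.Agent.H334.TI.goalSocle
    Cfsg.Agent.H73.TI.zst Cfsg.Agent.H299.TI.result
    (Cfsg.Agent.H616.TI.list_of Cfsg.Agent.H559.TI.Final.result Cfsg.Agent.H245.TI.result
      (Cfsg.Agent.H417.TI.Psl.result Cfsg.Agent.H901.TIAL.result)
      (Cfsg.Agent.H990.TIPsu.result Cfsg.Agent.H585.UT.goalU3 Cfsg.Agent.H245.TI.result)
      (Cfsg.Agent.H188.TI.Sz.result (Cfsg.Agent.H580.TI.Reg.result Cfsg.Agent.H901.TIAL.result))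
      (Cfsg.Agent.H121.TI.Ree.result (Cfsg.Agent.H580.TI.Reg.result Cfsg.Agent.H901.TIAL.result))
      Cfsg.Agent.H586.TI.result)
    p M hM P hnn hTI B hB hBP

end Cfsg.Agent.S4821
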