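import Cfsg.Statements.S4830
import Cfsg.Agent.S0000
import Cfsg.Agent.H33.IMRest
import Cfsg.Agent.H954.OutAllD
import Cfsg.Agent.H685.AcdMain

set_option autoImplicit false
open Cfsg

namespace Cfsg.Agent.S4830

/-- Let p be a prime and let ℓ be the least positive integer such that ℓp + 1 is a prime power. Let G be a finite group and consider the irreducible characters of G that are linear or have degree divisible by p; write s for the sum of their degrees and n for their number. If s(ℓp + 1) < 2ℓp·n (their average degree is less than 2ℓp/(ℓp + 1)), then the Sylow p-subgroups of G are normal. -/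
theorem result {G : Type*} [Group G] [Finite G] (p : ℕ) [Fact p.Prime] (ℓ : ℕ) (hℓ : 0 < ℓ) (hℓpow : IsPrimePow (ℓ * p + 1)) (hmin : ∀ m : ℕ, 0 < m → m < ℓ → ¬ IsPrimePow (m * p + 1)) (hacd : (∑ᶠ χ : {χ : Cfsg.IrrCharacter G // Cfsg.charDegree (χ : G → ℂ) = 1 ∨ p ∣ Cfsg.charDegree (χ : G → ℂ)}, Cfsg.charDegree (χ.1 : G → ℂ)) * (ℓ * p + 1) < 2 * ℓ * p * Nat.card {χ : Cfsg.IrrCharacter G // Cfsg.charDegree (χ : G → ℂ) = 1 ∨ p ∣ Cfsg.charDegree (χ : G → ℂ)}) (P : Sylow p G) : (P : Subgroup G).Normal := by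
  have hIM : Cfsg.Agent.H685.Acd.IMp p := by
    intro S _ _ _ hna hd
    exact Cfsg.Agent.H33.imFact (fun _ _ _ _ => Cfsg.Agent.S0000.result) S hna p Fact.out hd
  exact Cfsg.Agent.H685.Acd.reduction p ℓ hℓ hmin hIM
    (Cfsg.Agent.H954.OutAllD.outDeg (fun _ _ _ _ => Cfsg.Agent.S0000.result)) hacd P

end Cfsg.Agent.S4830
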