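import Cfsg.Statements.S4831
import Cfsg.Agent.H404.Avg.Final
import Cfsg.Agent.H33.IMRest
import Cfsg.Agent.S0000
-- import your own Cfsg.Agent.* helpers here

set_option autoImplicit false
open Cfsg

namespace Cfsg.Agent.S4831

/-- Let p be a prime and G a finite group; consider the irreducible characters of G that are linear or have degree divisible by p, with s the sum of their degrees and n their number. Suppose their average degree s/n is less than 5/2 if p = 2, less than 7/3 if p = 3, and less than (p + 1)/2 if p ≥ 5. Then the subgroup of G generated by the elements of p-power order (the smallest normal subgroup with quotient of order prime to p) is solvable; in particular G is p-solvable. -/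
theorem result {G : Type*} [Group G] [Finite G] (p : ℕ) [Fact p.Prime] (hacd : (p = 2 → 2 * (∑ᶠ χ : {χ : Cfsg.IrrCharacter G // Cfsg.charDegree (χ : G → ℂ) = 1 ∨ p ∣ Cfsg.charDegree (χ : G → ℂ)}, Cfsg.charDegree (χ.1 : G → ℂ)) < 5 * Nat.card {χ : Cfsg.IrrCharacter G // Cfsg.charDegree (χ : G → ℂ) = 1 ∨ p ∣ Cfsg.charDegree (χ : G → ℂ)}) ∧ (p = 3 → 3 * (∑ᶠ χ : {χ : Cfsg.IrrCharacter G // Cfsg.charDegree (χ : G → ℂ) = 1 ∨ p ∣ Cfsg.charDegree (χ : G → ℂ)}, Cfsg.charDegree (χ.1 : G → ℂ)) < 7 * Nat.card {χ : Cfsg.IrrCharacter G // Cfsg.charDegree (χ : G → ℂ) = 1 ∨ p ∣ Cfsg.charDegree (χ : G → ℂ)}) ∧ (5 ≤ p → 2 * (∑ᶠ χ : {χ : Cfsg.IrrCharacter G // Cfsg.charDegree (χ : G → ℂ) = 1 ∨ p ∣ Cfsg.charDegree (χ : G → ℂ)}, Cfsg.charDegree (χ.1 : G → ℂ)) < (p + 1) * Nat.card {χ : Cfsg.IrrCharacter G // Cfsg.charDegree (χ : G → ℂ) = 1 ∨ p ∣ Cfsg.charDegree (χ : G → ℂ)})) : Group.IsSolvable ↥(Subgroup.closure {g : G | ∃ k : ℕ, orderOf g = p ^ k}) := by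
  exact Cfsg.Agent.H404.Avg.final (fun _ _ _ _ => Cfsg.Agent.S0000.result)
    (fun _ _ _ _ => Cfsg.Agent.S0000.result)
    (Cfsg.Agent.H33.imFact (fun _ _ _ _ => Cfsg.Agent.S0000.result)) p hacd

end Cfsg.Agent.S4831
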