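import Cfsg.Statements.S4832
import Cfsg.Agent.S0000
import Cfsg.Agent.S4760
import Cfsg.Agent.H576.Ext.Asm

set_option autoImplicit false
open Cfsg

namespace Cfsg.Agent.S4832

/-- Let p be a prime and S a finite non-abelian simple group of order divisible by p. Then S has an irreducible character θ of degree divisible by p that extends to its stabilizer in the automorphism group of S: for the subgroup T of automorphisms α with θ ∘ α = θ there is an irreducible character ψ of T whose value at the inner automorphism induced by s is θ(s) for every s in S. -/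
theorem result {S : Type*} [Group S] [Finite S] [IsSimpleGroup S] (hna : ¬ IsMulCommutative S) (p : ℕ) [Fact p.Prime] (hp : p ∣ Nat.card S) :
    ∃ θ : Cfsg.IrrCharacter S, p ∣ Cfsg.charDegree (θ : S → ℂ) ∧
      ∀ T : Subgroup (MulAut S), (∀ α : MulAut S, α ∈ T ↔ ∀ s : S, (θ : S → ℂ) (α s) = (θ : S → ℂ) s) →
        ∃ ψ : Cfsg.IrrCharacter T, ∀ (s : S) (hs : MulAut.conj s ∈ T), (ψ : T → ℂ) ⟨MulAut.conj s, hs⟩ = (θ : S → ℂ) s := by
  have P : Sylow p S := Classical.arbitrary _
  exact (Cfsg.Agent.H576.Ext.hasExt_known hna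
    (Cfsg.Agent.H576.Ext.im_of_iff hna hp P (Cfsg.Agent.S4760.result p P))
    (Cfsg.Agent.S0000.result (G := S)) hp).result

end Cfsg.Agent.S4832
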