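import Cfsg.Statements.S4834
import Cfsg.Agent.H687.MissAll
import Cfsg.Agent.H687.SporAll
import Cfsg.Agent.S0000

set_option autoImplicit false
open Cfsg

namespace Cfsg.Agent.S4834

/-- Let S be a finite non-abelian simple group and p > 3 a prime. Then S has irreducible characters α and β, both of degree greater than 1 and prime to p, such that α extends to the automorphism group of S (some irreducible character of Aut(S) takes the value α(s) at the inner automorphism induced by each s), the degree of β does not divide the degree of α, and β is invariant under every automorphism of S of p-power order. -/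
theorem result {S : Type*} [Group S] [Finite S] [IsSimpleGroup S] (hna : ¬ IsMulCommutative S) (p : ℕ) [Fact p.Prime] (hp : 3 < p) :
    ∃ α β : Cfsg.IrrCharacter S, Cfsg.charDegree (α : S → ℂ) ≠ 1 ∧ Cfsg.charDegree (β : S → ℂ) ≠ 1 ∧
      ¬ p ∣ Cfsg.charDegree (α : S → ℂ) ∧ ¬ p ∣ Cfsg.charDegree (β : S → ℂ) ∧
      (∃ ψ : Cfsg.IrrCharacter (MulAut S), ∀ s : S, (ψ : MulAut S → ℂ) (MulAut.conj s) = (α : S → ℂ) s) ∧
      ¬ Cfsg.charDegree (β : S → ℂ) ∣ Cfsg.charDegree (α : S → ℂ) ∧
      (∀ φ : MulAut S, (∃ k : ℕ, orderOf φ = p ^ k) → ∀ s : S, (β : S → ℂ) (φ s) = (β : S → ℂ) s) := by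
  have hP : p.Prime := Fact.out
  exact Cfsg.Agent.H687.good_known hna hp (Cfsg.Agent.H687.miss hp)
    (fun h h2 => Cfsg.Agent.H687.SporAll.good_tits h hP hp h2)
    (fun h h2 => Cfsg.Agent.H687.SporAll.good_spor h hP hp h2) Cfsg.Agent.S0000.result

end Cfsg.Agent.S4834
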