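import Cfsg.Statements.S4833
import Cfsg.Agent.H669.TwoDegMain
import Cfsg.Agent.S4834

set_option autoImplicit false
open Cfsg

namespace Cfsg.Agent.S4833

/-- Let p > 3 be a prime and G a finite group whose irreducible characters of degree prime to p take exactly two distinct degrees. Then G is solvable, and G has normal subgroups N ≤ L ≤ K with G/K a p-group, K/L of order prime to p, L/N a p-group and N of order prime to p (equivalently, the alternating chain of residuals O^p, O^{p'}, O^p, O^{p'} starting from G reaches the trivial subgroup). -/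
theorem result {G : Type*} [Group G] [Finite G] (p : ℕ) [Fact p.Prime] (hp : 3 < p) (hcd : Set.ncard {d : ℕ | ¬ p ∣ d ∧ ∃ χ : Cfsg.IrrCharacter G, Cfsg.charDegree (χ : G → ℂ) = d} = 2) : Group.IsSolvable G ∧ ∃ K L N : Subgroup G, K.Normal ∧ L.Normal ∧ N.Normal ∧ N ≤ L ∧ L ≤ K ∧ (∃ a : ℕ, K.index = p ^ a) ∧ Nat.Coprime (L.relIndex K) p ∧ (∃ b : ℕ, N.relIndex L = p ^ b) ∧ Nat.Coprime (Nat.card N) p := by
  exact H669.TwoDeg.main (fun S _ _ _ hna => S4834.result (fun h => by
    obtain ⟨a, b, hab⟩ := hna
    exact hab (h.is_comm.comm a b)) p hp) hcd.le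

end Cfsg.Agent.S4833
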