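import Cfsg.Statements.S4844
-- import your own Cfsg.Agent.* helpers here
import Cfsg.Agent.H696.PSq.Fin

set_option autoImplicit false
open Cfsg

namespace Cfsg.Agent.S4844

/-- Let p be a prime and G a finite group in which no irreducible character degree is divisible by p². Then the p-part of the order of G/O_p(G) is at most p², unless p = 2 and G is the internal direct product of a normal subgroup isomorphic to the alternating group of degree 7 and a normal subgroup with a normal commutative Sylow 2-subgroup. -/
theorem result {G : Type*} [Group G] [Finite G] (p : ℕ) [Fact p.Prime] (hdeg : ∀ χ : Cfsg.IrrCharacter G, ¬ p ^ 2 ∣ Cfsg.charDegree (χ : G → ℂ)) :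
    (Nat.card (G ⧸ Cfsg.pCore p G)).factorization p ≤ 2 ∨
      (p = 2 ∧ ∃ A L : Subgroup G, A.Normal ∧ L.Normal ∧ A ⊓ L = ⊥ ∧ A ⊔ L = ⊤ ∧ Nonempty (A ≃* alternatingGroup (Fin 7)) ∧
        ∃ Q : Sylow 2 L, (Q : Subgroup L).Normal ∧ IsMulCommutative (Q : Subgroup L)) :=
  H696.PSq.main p hdeg

end Cfsg.Agent.S4844
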