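import Cfsg.Statements.S4846
import Cfsg.Agent.S0000
import Cfsg.Agent.H689.Final
import Cfsg.Agent.H689.NonPerf
import Cfsg.Agent.H689.Conv

set_option autoImplicit false
open Cfsg

namespace Cfsg.Agent.S4846

/-- For a finite group G the following are equivalent: (i) distinct irreducible characters of degree greater than 1 have distinct degrees; (ii) G is commutative, or G is an extraspecial 2-group, or G has a Frobenius complement H whose Frobenius kernel is an elementary abelian normal subgroup K of prime-power order q^n with either H isomorphic to the quaternion group of order 8 and q^n = 9, or H cyclic of order q^n − 1. -/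
theorem result {G : Type*} [Group G] [Finite G] :
    (∀ χ ψ : Cfsg.IrrCharacter G, χ ≠ ψ → Cfsg.charDegree (χ : G → ℂ) ≠ 1 → Cfsg.charDegree (χ : G → ℂ) ≠ Cfsg.charDegree (ψ : G → ℂ)) ↔
      (IsMulCommutative G ∨ Cfsg.IsExtraspecial 2 G ∨
        ∃ (H K : Subgroup G) (q n : ℕ), q.Prime ∧ Cfsg.IsFrobeniusComplement H ∧ Cfsg.frobeniusKernel H = (K : Set G) ∧ K.Normal ∧
          Cfsg.IsElementaryAbelian q K ∧ Nat.card K = q ^ n ∧
          ((Nonempty (H ≃* QuaternionGroup 2) ∧ q ^ n = 9) ∨ (IsCyclic H ∧ Nat.card H = q ^ n - 1))) := by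
  constructor
  · intro h
    have hDD : Cfsg.Agent.H689.DD G := h
    rcases subsingleton_or_nontrivial G with hs | hn
    · exact Or.inl ⟨⟨fun a b => Subsingleton.elim _ _⟩⟩
    · exact hDD.nonperfect' (hDD.not_perfect (fun S _ _ _ => Cfsg.Agent.S0000.result))
  · intro h
    exact Cfsg.Agent.H689.DD.of_concl h

end Cfsg.Agent.S4846
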