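import Cfsg.Statements.S4849
import Cfsg.Agent.S0000
import Cfsg.Agent.H695.RowsAll

set_option autoImplicit false
open Cfsg

namespace Cfsg.Agent.S4849

/-- Let p be a prime and G a finite group whose vanishing elements (elements at which some irreducible character is zero) of order prime to p all have the same order b, with at least one such element. Then G is solvable; and if b is divisible by at least two primes, G has normal subgroups N ≤ L ≤ K with G/K a p-group, K/L of order prime to p, L/N a p-group and N of order prime to p. -/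
theorem result {G : Type*} [Group G] [Finite G] (p : ℕ) [Fact p.Prime] (b : ℕ) (hvo : {n : ℕ | ¬ p ∣ n ∧ ∃ (g : G) (χ : Cfsg.IrrCharacter G), orderOf g = n ∧ (χ : G → ℂ) g = 0} = {b}) : Group.IsSolvable G ∧ ((¬ IsPrimePow b ∧ 1 < b) → ∃ K L N : Subgroup G, K.Normal ∧ L.Normal ∧ N.Normal ∧ N ≤ L ∧ L ≤ K ∧ (∃ a : ℕ, K.index = p ^ a) ∧ Nat.Coprime (L.relIndex K) p ∧ (∃ b : ℕ, N.relIndex L = p ^ b) ∧ Nat.Coprime (Nat.card N) p) := by
  exact Cfsg.Agent.H695.RowsAll.main (fun _ _ _ _ => Cfsg.Agent.S0000.result)
    (fun _ _ _ _ => Cfsg.Agent.S0000.result) p b hvo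

end Cfsg.Agent.S4849
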