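import Cfsg.Statements.S4854
import Cfsg.Agent.S0000
import Cfsg.Agent.H691.Main
import Cfsg.Agent.H691.TPsAll

set_option autoImplicit false
open Cfsg

namespace Cfsg.Agent.S4854

/-- Let F be a finite field with at least 5 elements and G a finite group. Then G has the same set of irreducible character degrees as SL₂(F) if and only if G is a central product of a subgroup isomorphic to SL₂(F) and a commutative subgroup: G = K·A with K ≅ SL₂(F), A commutative and A centralizing K. -/
theorem result {G : Type*} [Group G] [Finite G] {F : Type*} [Field F] [Fintype F] (hF : 5 ≤ Fintype.card F) :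
    {d : ℕ | ∃ χ : Cfsg.IrrCharacter G, Cfsg.charDegree (χ : G → ℂ) = d} = {d : ℕ | ∃ ψ : Cfsg.IrrCharacter (Matrix.SpecialLinearGroup (Fin 2) F), Cfsg.charDegree (ψ : Matrix.SpecialLinearGroup (Fin 2) F → ℂ) = d} ↔ ∃ K A : Subgroup G, Nonempty (K ≃* Matrix.SpecialLinearGroup (Fin 2) F) ∧ IsMulCommutative A ∧ A ≤ Subgroup.centralizer (K : Set G) ∧ K ⊔ A = ⊤ :=
  Cfsg.Agent.H691.Main.main Cfsg.Agent.H691.TPsAll.tps (fun _ => Cfsg.Agent.S0000.result) hF

end Cfsg.Agent.S4854
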