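import Cfsg.Statements.S4855
import Cfsg.Agent.S0000
import Cfsg.Agent.H691.T3.LateAll
import Cfsg.Agent.H691.TPsAll

set_option autoImplicit false
open Cfsg

namespace Cfsg.Agent.S4855

/-- Let F be a finite field and G a finite group. Then G has the same set of irreducible character degrees as SL₃(F) if and only if G is a central product of a subgroup isomorphic to SL₃(F) and a commutative subgroup: G = K·A with K ≅ SL₃(F), A commutative and A centralizing K. -/
theorem result {G : Type*} [Group G] [Finite G] {F : Type*} [Field F] [Fintype F] :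
    {d : ℕ | ∃ χ : Cfsg.IrrCharacter G, Cfsg.charDegree (χ : G → ℂ) = d} = {d : ℕ | ∃ ψ : Cfsg.IrrCharacter (Matrix.SpecialLinearGroup (Fin 3) F), Cfsg.charDegree (ψ : Matrix.SpecialLinearGroup (Fin 3) F → ℂ) = d} ↔ ∃ K A : Subgroup G, Nonempty (K ≃* Matrix.SpecialLinearGroup (Fin 3) F) ∧ IsMulCommutative A ∧ A ≤ Subgroup.centralizer (K : Set G) ∧ K ⊔ A = ⊤ :=
  Cfsg.Agent.H691.T3.Main.main3 Cfsg.Agent.H691.T3.LateAll.late Cfsg.Agent.H691.TPsAll.tps
    (fun _ => Cfsg.Agent.S0000.result)

end Cfsg.Agent.S4855
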