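import Cfsg.Statements.S4895
import Cfsg.Agent.S0000
import Cfsg.Agent.H504.ZerosAll
import Cfsg.Agent.H442.ZerosSmall

set_option autoImplicit false
open Cfsg

namespace Cfsg.Agent.S4895

/-- Let G be a finite non-abelian simple group. For each non-linear irreducible complex character χ count the conjugacy classes on which χ vanishes, less one, and add these numbers over all non-linear χ. The total is at most 7 if and only if G is isomorphic to the alternating group of degree 5, to PSL(2,7), or to the alternating group of degree 6. -/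
theorem result {G : Type*} [Group G] [Finite G] [IsSimpleGroup G] (hG : ¬ IsMulCommutative G) : Nat.card {x : Cfsg.IrrCharacter G × ConjClasses G // Cfsg.charDegree (x.1 : G → ℂ) ≠ 1 ∧ ∀ g : G, ConjClasses.mk g = x.2 → (x.1 : G → ℂ) g = 0} ≤ 7 + Nat.card {χ : Cfsg.IrrCharacter G // Cfsg.charDegree (χ : G → ℂ) ≠ 1} ↔ (Nonempty (G ≃* ↥(alternatingGroup (Fin 5))) ∨ Nonempty (G ≃* Matrix.ProjectiveSpecialLinearGroup (Fin 2) (ZMod 7)) ∨ Nonempty (G ≃* ↥(alternatingGroup (Fin 6)))) := by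
  have hle : ∀ {X : Type _} [Group X], Nat.card (Cfsg.Agent.H504.Zeros.ZP X) ≤
      7 + Nat.card (Cfsg.Agent.H504.Zeros.NL X) ↔ ¬ Cfsg.Agent.H504.Zeros.Big X := by
    intro X _
    unfold Cfsg.Agent.H504.Zeros.Big
    omega
  have hle0 : ∀ {X : Type} [Group X], Nat.card (Cfsg.Agent.H504.Zeros.ZP X) ≤
      7 + Nat.card (Cfsg.Agent.H504.Zeros.NL X) ↔ ¬ Cfsg.Agent.H504.Zeros.Big X := by
    intro X _
    unfold Cfsg.Agent.H504.Zeros.Big
    omega
  refine Iff.trans (hle (X := G)) ⟨fun h => ?_, fun h => ?_⟩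
  · by_contra hcon
    push Not at hcon
    exact h (Cfsg.Agent.H504.Zeros.big_of_known Cfsg.Agent.H504.Zeros.rows_all
      Cfsg.Agent.H504.Zeros.spor_all Cfsg.Agent.H504.Zeros.tits_all (Cfsg.Agent.S0000.result (G := G)) hG
      (not_nonempty_iff.2 hcon.1) (not_nonempty_iff.2 hcon.2.1) (not_nonempty_iff.2 hcon.2.2))
  · intro hB
    rcases h with h | h | h <;> obtain ⟨e⟩ := h
    · exact hle0.1 Cfsg.Agent.H442.ZerosSmall.le_a5 (Cfsg.Agent.H504.Zeros.Big.of_equiv e.symm hB)
    · exact hle0.1 Cfsg.Agent.H442.ZerosSmall.le_l7 (Cfsg.Agent.H504.Zeros.Big.of_equiv e.symm hB)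
    · exact hle0.1 Cfsg.Agent.H442.ZerosSmall.le_a6 (Cfsg.Agent.H504.Zeros.Big.of_equiv e.symm hB)

end Cfsg.Agent.S4895
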