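import Cfsg.Statements.S4898
import Cfsg.Agent.H638.FD.Rows
import Cfsg.Agent.S0000

set_option autoImplicit false
open Cfsg

namespace Cfsg.Agent.S4898

/-- Let G be a finite non-solvable group with exactly four distinct irreducible complex character degrees. Then the set of degrees is {1, q − 1, q, q + 1} for some prime power q > 3, or it is {1, 9, 10, 16}. -/
theorem result {G : Type*} [Group G] [Finite G] (hG : ¬ Group.IsSolvable G) (h4 : (Cfsg.charDegrees G).ncard = 4) : (∃ q : ℕ, IsPrimePow q ∧ 3 < q ∧ Cfsg.charDegrees G = {1, q - 1, q, q + 1}) ∨ Cfsg.charDegrees G = {1, 9, 10, 16} := by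
  obtain ⟨N, hN, K, hK, hmin, hna, hc, hcd⟩ := H621.Deg.exists_quot hG h4
  rw [← hcd] at h4 ⊢
  exact H638.FD.Rows.main (fun S _ _ _ => Cfsg.Agent.S0000.result) K hmin hna hc h4

end Cfsg.Agent.S4898
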