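import Cfsg.Statements.S4901
import Cfsg.Agent.H29.AllRows
import Cfsg.Agent.H348.PPD.RowHe

set_option autoImplicit false
open Cfsg

namespace Cfsg.Agent.S4901

/-- Let G be a finite group none of whose irreducible complex character degrees is a prime power greater than 1, and let S be a non-abelian simple group occurring as a composition factor of G (S ≅ H/K for a subnormal subgroup H of G and a normal subgroup K of H). Then either no irreducible character degree of S is a prime power greater than 1, or S is a simple group of order 95040. -/
theorem result {G : Type*} [Group G] [Finite G] (hG : (∀ d ∈ Cfsg.charDegrees G, ¬ IsPrimePow d)) {S : Type*} [Group S] [Finite S] [IsSimpleGroup S] (hS : ¬ IsMulCommutative S) (H K : Subgroup G) (hH : H.IsSubnormal) (hKH : K ≤ H) [hKn : (K.subgroupOf H).Normal] (hiso : Nonempty (↥H ⧸ K.subgroupOf H ≃* S)) : (∀ d ∈ Cfsg.charDegrees S, ¬ IsPrimePow d) ∨ Cfsg.IsM12 S :=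
  Cfsg.Agent.H29.AllRows.main hG hS (Cfsg.Agent.H348.PPD.RowHe.row hS) H K hH hiso

end Cfsg.Agent.S4901
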