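import Cfsg.Statements.S4907
import Cfsg.Agent.H700.DM.All
import Cfsg.Agent.H700.DM.Coinc
import Cfsg.Agent.H245.DM.NoSame
import Cfsg.Agent.H733.DM.RowSp6Fin
import Cfsg.Agent.H456.DM.USixFin
import Cfsg.Agent.H604.DM.OSevenFin
import Cfsg.Agent.H667.DM.RowO8

set_option autoImplicit false
open Cfsg

namespace Cfsg.Agent.S4907

/-- Let H be a finite quasisimple group whose central quotient is a simple classical group (projective special linear, symplectic, unitary or orthogonal over a finite field), other than PSL(3,4) and other than a group of order 3265920 (the order of PSU(4,3)). If G is a finite group whose irreducible complex characters are in degree-preserving bijection with those of H (the complex group algebras are isomorphic), then G is isomorphic to H. -/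
theorem result {G H : Type*} [Group G] [Finite G] [Group H] [Finite H] (hH : Cfsg.IsQuasisimple H) (hcl : Cfsg.IsPSL (H ⧸ Subgroup.center H) ∨ Cfsg.IsPSp (H ⧸ Subgroup.center H) ∨ Cfsg.IsPSU (H ⧸ Subgroup.center H) ∨ Cfsg.IsPOmegaOdd (H ⧸ Subgroup.center H) ∨ Cfsg.IsPOmegaPlus (H ⧸ Subgroup.center H) ∨ Cfsg.IsPOmegaMinus (H ⧸ Subgroup.center H)) (hex1 : ∀ (F : Type) [Field F] [Fintype F], Fintype.card F = 4 → IsEmpty ((H ⧸ Subgroup.center H) ≃* Matrix.ProjectiveSpecialLinearGroup (Fin 3) F)) (hex2 : Nat.card (H ⧸ Subgroup.center H) ≠ 3265920) (f : Cfsg.IrrCharacter G ≃ Cfsg.IrrCharacter H) (hf : ∀ χ : Cfsg.IrrCharacter G, Cfsg.charDegree ((f χ) : H → ℂ) = Cfsg.charDegree (χ : G → ℂ)) : Nonempty (G ≃* H) := by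
  have hd : H700.DM.SameDeg G H := ⟨f, hf⟩
  refine H700.DM.all hH hcl hex1 hex2 hd ?_ ?_ ?_ ?_ ?_ ?_ ?_ ?_
  · intro p n X f' hg F _ _ hF hq eG hc eH
    exact H700.DM.a8_ne hg hF hq eG hc eH hd
  · intro p n X f' hg F _ _ m ho hm hq hc h
    exact H700.DM.bc_step hg ho hm hq hc h hd
  · intro m F _ _ ho hm hev A B _ _ _ _ hB eA eB cB hn
    exact H245.DM.no_same ho hm hev eA hB eB cB hn
  · intro m F _ _ ho hm hev A B _ _ _ _ hB eA eB cB hn
    exact H245.DM.no_same ho hm hev eA hB eB cB hn
  · intro h F _ _ hF e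
    exact H733.DM.row_sp6 hH hF e h hd
  · intro h F _ _ hF e
    exact H604.DM.row_o7 hH hF e h hd
  · intro h F _ _ hF e
    refine H667.DM.row_o8 OrdDiv.table (fun X _ _ _ => S0000.result) ?_ hH hF e h hd
    intro K _ _ hK hna
    exact Schreier.Assembly.known K (fun h => hna h.is_comm.comm) S0000.result
  · intro h F _ _ hF e
    exact H456.DM.row_u6 hH hF e h hd

end Cfsg.Agent.S4907
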