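import Cfsg.Statements.S4908
import Cfsg.Agent.H529.S8.RM11
import Cfsg.Agent.H529.S8.RM12
import Cfsg.Agent.H529.S8.RM22
import Cfsg.Agent.H529.S8.RM23
import Cfsg.Agent.H529.S8.RM24
import Cfsg.Agent.H529.S8.RJ1
import Cfsg.Agent.H529.S8.RJ2
import Cfsg.Agent.H529.S8.RJ3
import Cfsg.Agent.H529.S8.RJ4
import Cfsg.Agent.H529.S8.RCo1
import Cfsg.Agent.H529.S8.RCo2
import Cfsg.Agent.H529.S8.RCo3
import Cfsg.Agent.H529.S8.RFi22
import Cfsg.Agent.H529.S8.RFi23
import Cfsg.Agent.H529.S8.RFi24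
import Cfsg.Agent.H529.S8.RHs
import Cfsg.Agent.H529.S8.RMcl
import Cfsg.Agent.H529.S8.RHe
import Cfsg.Agent.H529.S8.RRu
import Cfsg.Agent.H529.S8.RSuz
import Cfsg.Agent.H529.S8.ROn
import Cfsg.Agent.H529.S8.RHn
import Cfsg.Agent.H529.S8.RLy
import Cfsg.Agent.H529.S8.RTh
import Cfsg.Agent.H529.S8.RB
import Cfsg.Agent.H529.S8.RM
-- import your own Cfsg.Agent.* helpers here

set_option autoImplicit false
open Cfsg

namespace Cfsg.Agent.S4908

theorem rows.{u, v} : Cfsg.Agent.H529.S8.Rows4.{u, v} where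
  m11 := fun h => Cfsg.Agent.H529.S8.Rm11.row h
  m12 := fun h => Cfsg.Agent.H529.S8.Rm12.row h
  m22 := fun h => Cfsg.Agent.H529.S8.Rm22.row h
  m23 := fun h => Cfsg.Agent.H529.S8.Rm23.row h
  m24 := fun h => Cfsg.Agent.H529.S8.Rm24.row h
  j1 := fun h => Cfsg.Agent.H529.S8.Rj1.row h
  j2 := fun h => Cfsg.Agent.H529.S8.Rj2.row h
  j3 := fun h => Cfsg.Agent.H529.S8.Rj3.row h
  j4 := fun h => Cfsg.Agent.H529.S8.Rj4.row h
  co1 := fun h => Cfsg.Agent.H529.S8.Rco1.row h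
  co2 := fun h => Cfsg.Agent.H529.S8.Rco2.row h
  co3 := fun h => Cfsg.Agent.H529.S8.Rco3.row h
  fi22 := fun h => Cfsg.Agent.H529.S8.Rfi22.row h
  fi23 := fun h => Cfsg.Agent.H529.S8.Rfi23.row h
  fi24 := fun h => Cfsg.Agent.H529.S8.Rfi24.row h
  hs := fun h => Cfsg.Agent.H529.S8.Rhs.row h
  mcl := fun h => Cfsg.Agent.H529.S8.Rmcl.row h
  he := fun h => Cfsg.Agent.H529.S8.Rhe.row h
  ru := fun h => Cfsg.Agent.H529.S8.Rru.row h
  suz := fun h => Cfsg.Agent.H529.S8.Rsuz.row h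
  on := fun h => Cfsg.Agent.H529.S8.Ron.row h
  hn := fun h => Cfsg.Agent.H529.S8.Rhn.row h
  ly := fun h => Cfsg.Agent.H529.S8.Rly.row h
  th := fun h => Cfsg.Agent.H529.S8.Rth.row h
  b := fun h => Cfsg.Agent.H529.S8.Rb.row h
  m := fun h => Cfsg.Agent.H529.S8.Rm.row h

/-- Let H₀ be a finite simple group of sporadic order and H a group of automorphisms of H₀ containing all inner automorphisms (an almost simple group with socle H₀). If G is a finite group with the same set of irreducible complex character degrees as H, then the commutator subgroup of G is isomorphic to H₀ and the quotient of G by its centre is isomorphic to H. -/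
theorem result {H₀ : Type*} [Group H₀] [Finite H₀] (hH₀ : Cfsg.IsSporadic H₀) (H : Subgroup (MulAut H₀)) (hH : (MulAut.conj : H₀ →* MulAut H₀).range ≤ H) {G : Type*} [Group G] [Finite G] (h : Cfsg.charDegrees G = Cfsg.charDegrees ↥H) : Nonempty (↥(commutator G) ≃* H₀) ∧ Nonempty (G ⧸ Subgroup.center G ≃* ↥H) := by
  exact Cfsg.Agent.H529.S8.final4 rows hH₀ H hH h

end Cfsg.Agent.S4908
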