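import Cfsg.Statements.S4917
import Cfsg.Agent.S0000
import Cfsg.Agent.S0161
import Cfsg.Agent.OddHalf.Known
import Cfsg.Agent.H707.RowLie
import Cfsg.Agent.H707.RowsOrder
import Cfsg.Agent.H707.RowsRank
import Cfsg.Agent.H707.RowsMore
import Cfsg.Agent.H707.RowRu
import Cfsg.Agent.H707.RowFi24
import Cfsg.Agent.H707.RowCo1
import Cfsg.Agent.H707.RowCo3
import Cfsg.Agent.H707.RowBInst
import Cfsg.Agent.H707.RowMInst
import Cfsg.Agent.H707.RowTh
import Cfsg.Agent.H707.RowTits

/-!
# A finite group has even order iff it has a nontrivial rational-valued irreducible character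

`OddLift.hasRat_of_even` reduces to the nonabelian simple groups. Lie type: the Steinberg character (`GalTrace`);
alternating: the permutation character; the sporadic groups and the Tits group: one row each.
-/

set_option autoImplicit false
open Cfsg

namespace Cfsg.Agent.S4917

open Cfsg.Agent.H707 Cfsg.Agent.H707.OddLift

theorem sporadic {K : Type*} [Group K] [Finite K] [IsSimpleGroup K] (h : IsSporadicGroup K) : HasRat K := by
  rcases h with h | h | h | h | h | h | h | h | h | h | h | h | h | h | h | h | h | h | h | h | h | h | h | h | h | h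
  · exact RowsOrder.m11 h
  · exact RowsOrder.m12 h
  · exact RowsOrder.m22 h
  · exact RowsOrder.m23 h
  · exact RowsOrder.m24 h
  · exact RowsOrder.j1 h
  · exact RowsRank.j2 h
  · exact RowsOrder.j3 h
  · exact RowsOrder.j4 h
  · exact RowCo1.row h
  · exact RowsMore.co2 h
  · exact RowCo3.row h
  · exact RowsRank.mcl h
  · exact RowsRank.hs h
  · exact RowsRank.suz h
  · exact RowsRank.he h
  · exact RowRu.ru h
  · exact RowsOrder.on h
  · exact RowsMore.ly h
  · exact RowsRank.fi22 h
  · exact RowsRank.fi23 h
  · exact RowFi24.fi24 h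
  · exact RowsMore.hn h
  · exact RowTh.row h
  · exact RowBInst.row h
  · exact RowMInst.row h

theorem simple {S : Type*} [Group S] [Finite S] [IsSimpleGroup S] (hna : ¬ ∀ a b : S, a * b = b * a) : HasRat S := by
  have h1 : ¬ IsMulCommutative S := fun h => hna fun a b => h.is_comm.comm a b
  rcases OddHalf.Known.classify' h1 (S0000.result : IsKnownSimple' S) with h | ⟨p, hp, h⟩ | h | h
  · exact RowLie.alternating h
  · exact RowLie.lie hp h
  · exact RowTits.row h
  · exact sporadic h

/-- A finite group has even order if and only if it has a non-principal irreducible complex character all of whose values are rational. -/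
theorem result {G : Type*} [Group G] [Finite G] : Even (Nat.card G) ↔ ∃ χ : Cfsg.IrrCharacter G, ¬ ((χ : G → ℂ) = fun _ => (1 : ℂ)) ∧ (∀ g : G, ∃ q : ℚ, (χ : G → ℂ) g = (q : ℂ)) := by
  constructor
  · intro h
    obtain ⟨χ, h1, h2, h3⟩ := hasRat_of_even (fun S _ _ _ hS => simple hS) (Nat.card G) G rfl h
    exact ⟨⟨χ, h1⟩, h2, h3⟩
  · rintro ⟨χ, h1, h2⟩
    by_contra h3
    refine h1 (S0161.result (Nat.not_even_iff_odd.1 h3) χ fun g => ?_)
    obtain ⟨q, hq⟩ := h2 g
    rw [hq]
    exact Complex.ratCast_im q

end Cfsg.Agent.S4917
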