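import Cfsg.Statements.S4920
import Cfsg.Agent.H658.Reg.Main
import Cfsg.Agent.H658.Reg.TriSpor
import Cfsg.Agent.H671.FactRows
import Cfsg.Agent.H671.GraphFin

set_option autoImplicit false
open Cfsg

namespace Cfsg.Agent.S4920

/-- Let G be a finite group whose character degree graph (vertices: the primes dividing some irreducible complex character degree; distinct primes adjacent when their product divides some degree) has at least one vertex and in which every vertex is adjacent to exactly two others. Then the graph has exactly three or exactly four vertices (it is a triangle or a square), and if it has four vertices then G is solvable. -/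
theorem result {G : Type*} [Group G] [Finite G] (hne : (Cfsg.degreePrimes G).Nonempty)
    (h2 : ∀ p ∈ Cfsg.degreePrimes G, Set.ncard {q : ℕ | (Cfsg.degreeGraph G).Adj p q} = 2) :
    (Set.ncard (Cfsg.degreePrimes G) = 3 ∨ Set.ncard (Cfsg.degreePrimes G) = 4) ∧
      (Set.ncard (Cfsg.degreePrimes G) = 4 → Group.IsSolvable G) := by
  exact Cfsg.Agent.H658.Reg.two_regular_of
    (Cfsg.Agent.H658.Reg.Spor.factDeg_of Cfsg.Agent.H671.GraphAsm.knownAll Cfsg.Agent.H671.GraphAsm.herzog)
    (Cfsg.Agent.H658.Reg.Spor.factTri_of Cfsg.Agent.H671.GraphAsm.knownAll Cfsg.Agent.H671.GraphAsm.herzog)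
    (Cfsg.Agent.H671.FactRows.factExt Cfsg.Agent.H671.GraphAsm.knownAll) hne h2

end Cfsg.Agent.S4920
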