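import Cfsg.Statements.S4921
import Cfsg.Agent.H988.DG.RegularB
import Cfsg.Agent.H988.DG.TriAll

set_option autoImplicit false
open Cfsg

namespace Cfsg.Agent.S4921

/-- Let G be a finite group whose character degree graph has at least one vertex and in which every vertex is adjacent to exactly one other vertex (vertices: the primes dividing some irreducible complex character degree; distinct primes adjacent when their product divides some degree). Then the graph has exactly two vertices and G is solvable. -/
theorem result {G : Type*} [Group G] [Finite G] (hne : (Cfsg.degreePrimes G).Nonempty)
    (h1 : ∀ p ∈ Cfsg.degreePrimes G, Set.ncard {q : ℕ | (Cfsg.degreeGraph G).Adj p q} = 1) :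
    Set.ncard (Cfsg.degreePrimes G) = 2 ∧ Group.IsSolvable G := by
  exact Cfsg.Agent.H988.DG.regular_of_tri Cfsg.Agent.H988.DG.factTri hne h1

end Cfsg.Agent.S4921
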