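import Cfsg.Statements.S4922
import Cfsg.Agent.H988.DG.Out
import Cfsg.Agent.H988.DG.TriAll

set_option autoImplicit false
open Cfsg

namespace Cfsg.Agent.S4922

/-- Let G be a finite group whose character degree graph contains no triangle: there are no three distinct primes, each dividing some irreducible complex character degree of G, such that the product of any two of them divides some degree. Then at most five primes divide irreducible character degrees of G. -/
theorem result {G : Type*} [Group G] [Finite G] (h : (Cfsg.degreeGraph G).CliqueFree 3) : Set.ncard (Cfsg.degreePrimes G) ≤ 5 := by
  exact Cfsg.Agent.H988.DG.five_of_tri Cfsg.Agent.H988.DG.factTri h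

end Cfsg.Agent.S4922
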