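import Cfsg.Statements.S4934
import Cfsg.Agent.H712.GmnTab
import Cfsg.Agent.H626.NormCrit

set_option autoImplicit false
open Cfsg

namespace Cfsg.Agent.S4934

/-- Let G be a finite group, p an odd prime and P a Sylow p-subgroup of G. Then P is its own normalizer in G if and only if every irreducible complex character of G other than the principal character that occurs in the character induced from the principal character of P (the permutation character of G on the cosets of P) has degree divisible by p. -/
theorem result {G : Type*} [Group G] [Fintype G] (p : ℕ) [Fact p.Prime] (hp : p ≠ 2) (P : Sylow p G) [Fintype ↥(P : Subgroup G)] :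
    Subgroup.normalizer ((P : Subgroup G) : Set G) = (P : Subgroup G) ↔
      ∀ χ : Cfsg.IrrCharacter G, (χ : G → ℂ) ≠ (fun _ => (1 : ℂ)) →
        Cfsg.classInner (Cfsg.indFun (P : Subgroup G) (fun _ => (1 : ℂ))) (χ : G → ℂ) ≠ 0 → p ∣ Cfsg.charDegree (χ : G → ℂ) := by
  exact H626.s4934_of P fun hself χ hχ ho => H663.GmnStep.eq_one_of_tab (H712.GmnTab.tab hp) P hself χ hχ ho

end Cfsg.Agent.S4934
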