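import Cfsg.Statements.S4935
import Cfsg.Agent.H712.GmnTab
import Cfsg.Agent.H142.GmnFinal

set_option autoImplicit false
open Cfsg

namespace Cfsg.Agent.S4935

/-- Let G be a finite group, p an odd prime, M a maximal ideal of the algebraic integers containing p, and P a Sylow p-subgroup of G with normalizer N and centralizer C. Then N = PC if and only if the principal character is the only irreducible complex character of G that lies in the principal p-block, has degree not divisible by p, and occurs in the character induced from the principal character of PC. -/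
theorem result {G : Type*} [Group G] [Fintype G] (p : ℕ) [Fact p.Prime] (hp : p ≠ 2) (M : Ideal Cfsg.AlgInt) (hM : Cfsg.IsPModular p M) (P : Sylow p G) [Fintype ↥((P : Subgroup G) ⊔ Subgroup.centralizer ((P : Subgroup G) : Set G))] :
    Subgroup.normalizer ((P : Subgroup G) : Set G) = (P : Subgroup G) ⊔ Subgroup.centralizer ((P : Subgroup G) : Set G) ↔
      ∀ χ : Cfsg.IrrCharacter G, χ ∈ Cfsg.principalBlock M G → ¬ p ∣ Cfsg.charDegree (χ : G → ℂ) →
        Cfsg.classInner (Cfsg.indFun ((P : Subgroup G) ⊔ Subgroup.centralizer ((P : Subgroup G) : Set G)) (fun _ => (1 : ℂ))) (χ : G → ℂ) ≠ 0 →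
          (χ : G → ℂ) = fun _ => (1 : ℂ) := by
  exact H142.GmnEnd.s4935 p M hM (H142.GmnFinal.table_of_tab (H712.GmnTab.tab hp))
    (fun Q _ h => H142.GmnFinal.corr_of_tab (H712.GmnTab.tab hp) Q h) P

end Cfsg.Agent.S4935
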