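import Cfsg.Statements.S4936
import Cfsg.Agent.H712.GmnTab

set_option autoImplicit false
open Cfsg

namespace Cfsg.Agent.S4936

/-- Let G be a finite group, p an odd prime and P a Sylow p-subgroup of G that is its own normalizer. Then for every irreducible complex character χ of G of degree not divisible by p there is exactly one linear character of P occurring in the restriction of χ to P, it occurs with multiplicity one, and every linear character of P occurs in the restriction of exactly one such χ. (So restriction induces a bijection between the irreducible characters of G of degree prime to p and the linear characters of P.) -/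
theorem result {G : Type*} [Group G] [Fintype G] (p : ℕ) [Fact p.Prime] (hp : p ≠ 2) (P : Sylow p G) [Fintype ↥(P : Subgroup G)] (hself : Subgroup.normalizer ((P : Subgroup G) : Set G) = (P : Subgroup G)) :
    (∀ χ : Cfsg.IrrCharacter G, ¬ p ∣ Cfsg.charDegree (χ : G → ℂ) →
        ∃! μ : Cfsg.IrrCharacter ↥(P : Subgroup G), Cfsg.charDegree (μ : ↥(P : Subgroup G) → ℂ) = 1 ∧
          Cfsg.classInner (fun x : ↥(P : Subgroup G) => (χ : G → ℂ) x) (μ : ↥(P : Subgroup G) → ℂ) ≠ 0) ∧
    (∀ χ : Cfsg.IrrCharacter G, ¬ p ∣ Cfsg.charDegree (χ : G → ℂ) → ∀ μ : Cfsg.IrrCharacter ↥(P : Subgroup G),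
        Cfsg.charDegree (μ : ↥(P : Subgroup G) → ℂ) = 1 →
          Cfsg.classInner (fun x : ↥(P : Subgroup G) => (χ : G → ℂ) x) (μ : ↥(P : Subgroup G) → ℂ) ≠ 0 →
            Cfsg.classInner (fun x : ↥(P : Subgroup G) => (χ : G → ℂ) x) (μ : ↥(P : Subgroup G) → ℂ) = 1) ∧
    (∀ μ : Cfsg.IrrCharacter ↥(P : Subgroup G), Cfsg.charDegree (μ : ↥(P : Subgroup G) → ℂ) = 1 →
        ∃! χ : Cfsg.IrrCharacter G, ¬ p ∣ Cfsg.charDegree (χ : G → ℂ) ∧
          Cfsg.classInner (fun x : ↥(P : Subgroup G) => (χ : G → ℂ) x) (μ : ↥(P : Subgroup G) → ℂ) ≠ 0) := by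
  exact H663.GmnStep.final (H712.GmnTab.tab hp) P hself

end Cfsg.Agent.S4936
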