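import Cfsg.Statements.S4938
import Cfsg.Agent.H730.PairAsm
import Cfsg.Agent.H735.PairRest
import Cfsg.Agent.S0000

set_option autoImplicit false
open Cfsg

namespace Cfsg.Agent.S4938

/-- Let G be a finite group with trivial Fitting subgroup. Call an element vanishing when some irreducible complex character of G takes the value zero at it. Then every prime dividing the order of G divides the size of the conjugacy class of some vanishing element, and for any two distinct primes dividing the order of G there is a vanishing element whose conjugacy class size is divisible by both. -/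
theorem result {G : Type*} [Group G] [Finite G] (hF : Cfsg.fittingSubgroup G = ⊥) :
    (∀ p : ℕ, p.Prime → p ∣ Nat.card G → ∃ g : G, (∃ χ : Cfsg.IrrCharacter G, (χ : G → ℂ) g = 0) ∧ p ∣ (Subgroup.centralizer ({g} : Set G)).index) ∧
    (∀ p q : ℕ, p.Prime → q.Prime → p ≠ q → p ∣ Nat.card G → q ∣ Nat.card G →
      ∃ g : G, (∃ χ : Cfsg.IrrCharacter G, (χ : G → ℂ) g = 0) ∧ p * q ∣ (Subgroup.centralizer ({g} : Set G)).index) := by
  exact Cfsg.Agent.H730.PairRed.s4938
    (Cfsg.Agent.H730.PairAsm.rows
      (Cfsg.Agent.H735.PairSpor.sporRest fun _ _ _ _ => Cfsg.Agent.S0000.result)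
      fun _ _ _ _ => Cfsg.Agent.S0000.result) hF

end Cfsg.Agent.S4938
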