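import Cfsg.Statements.S4943
import Cfsg.Agent.H713.Assemble
import Cfsg.Agent.S0000

set_option autoImplicit false
open Cfsg

namespace Cfsg.Agent.S4943

/-- Let G be a finite group in which, for any two elements x and y that are not conjugate and at each of which some irreducible complex character of G vanishes, the orders of x and y have greatest common divisor at most 2. Then G is solvable. -/
theorem result {G : Type*} [Group G] [Finite G] (hv : ∀ x y : G, (∃ χ : Cfsg.IrrCharacter G, (χ : G → ℂ) x = 0) → (∃ χ : Cfsg.IrrCharacter G, (χ : G → ℂ) y = 0) → ¬ IsConj x y → Nat.gcd (orderOf x) (orderOf y) ≤ 2) : Group.IsSolvable G := by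
  exact Cfsg.Agent.H713.Assemble.solvable_of (fun _ _ _ _ => Cfsg.Agent.S0000.result) hv

end Cfsg.Agent.S4943
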