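import Cfsg.Statements.S4944
import Cfsg.Agent.S4943
import Cfsg.Agent.H714.VanConv

set_option autoImplicit false
open Cfsg

namespace Cfsg.Agent.S4944

/-- Let G be a finite non-commutative group. Then the following are equivalent: (i) for any two non-conjugate elements x and y at each of which some irreducible complex character of G vanishes, the orders of x and y are coprime; (ii) G is a Frobenius group with commutative kernel and complement of order 2, that is, G has a proper subgroup H of order 2 such that H meets gHg⁻¹ trivially for every g outside H, and the elements lying in no conjugate of H, together with the identity, pairwise commute. -/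
theorem result {G : Type*} [Group G] [Finite G] (hna : ¬ IsMulCommutative G) :
    (∀ x y : G, (∃ χ : Cfsg.IrrCharacter G, (χ : G → ℂ) x = 0) → (∃ χ : Cfsg.IrrCharacter G, (χ : G → ℂ) y = 0) → ¬ IsConj x y → Nat.Coprime (orderOf x) (orderOf y)) ↔
      ∃ H : Subgroup G, Nat.card H = 2 ∧ Cfsg.IsFrobeniusComplement H ∧
        ∀ a ∈ Cfsg.frobeniusKernel H, ∀ b ∈ Cfsg.frobeniusKernel H, a * b = b * a := by
  constructor
  · intro hv
    have hsol : Group.IsSolvable G := Cfsg.Agent.S4943.result (fun x y hx hy hxy => by
      rw [(hv x y hx hy hxy).gcd_eq_one]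
      omega)
    refine Cfsg.Agent.H714.VanSolv.exists_frobenius ?_ hv
    have hne : commutator G ≠ ⊥ := by
      intro h
      apply hna
      rw [commutator_eq_bot_iff_center_eq_top] at h
      refine ⟨⟨fun a b => ?_⟩⟩
      exact (Subgroup.mem_center_iff.1 (h ▸ Subgroup.mem_top b) a)
    have : Nontrivial ↥(commutator G) := (Subgroup.nontrivial_iff_ne_bot _).2 hne
    exact (Group.IsSolvable.commutator_lt_top_of_nontrivial ↥(commutator G)).ne
  · rintro ⟨H, hH, hF, hK⟩ x y hx hy hxy
    obtain ⟨t, ht⟩ := Cfsg.Agent.H714.VanConv.isConj_of_vanish hH hF hK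
    exact absurd ((ht x hx).symm.trans (ht y hy)) hxy

end Cfsg.Agent.S4944
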