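import Cfsg.Statements.S4945
import Cfsg.Agent.H714.Tri.Disc
import Cfsg.Agent.H671.GraphSpor
import Cfsg.Agent.H671.GraphFin

set_option autoImplicit false
open Cfsg

namespace Cfsg.Agent.S4945

/-- Let G be a finite group whose character degree graph (vertices: the primes dividing some irreducible complex character degree; distinct primes adjacent when their product divides some degree) has exactly five vertices, contains no triangle, and is disconnected. Then G is the internal direct product of a normal subgroup isomorphic to PSL₂ over a finite field of order 2^f and a commutative normal subgroup, where each of 2^f − 1 and 2^f + 1 has exactly two distinct prime divisors. -/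
theorem result {G : Type*} [Group G] [Finite G] (h5 : Set.ncard (Cfsg.degreePrimes G) = 5) (htri : (Cfsg.degreeGraph G).CliqueFree 3) (hdis : ¬ ((Cfsg.degreeGraph G).induce (Cfsg.degreePrimes G)).Connected) :
    ∃ H A : Subgroup G, H.Normal ∧ A.Normal ∧ H ⊓ A = ⊥ ∧ H ⊔ A = ⊤ ∧ IsMulCommutative A ∧
      ∃ (f : ℕ) (F : Type) (_ : Field F) (_ : Fintype F), Fintype.card F = 2 ^ f ∧
        (2 ^ f - 1).primeFactors.card = 2 ∧ (2 ^ f + 1).primeFactors.card = 2 ∧
        Nonempty (↥H ≃* Matrix.ProjectiveSpecialLinearGroup (Fin 2) F) := by
  exact Cfsg.Agent.H714.Tri.disconnected_structure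
    (Cfsg.Agent.H671.GraphAsm.factTri' Cfsg.Agent.H671.GraphAsm.knownAll Cfsg.Agent.H671.GraphAsm.knownAll
      Cfsg.Agent.H671.GraphAsm.herzog) h5 htri hdis

end Cfsg.Agent.S4945
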