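import Cfsg.Statements.S4946
import Cfsg.Agent.H677.Pent.Fin
import Cfsg.Agent.H714.Tri.Disc
import Cfsg.Agent.H988.DG.TriAll

set_option autoImplicit false
open Cfsg

namespace Cfsg.Agent.S4946

/-- Let G be a finite group whose character degree graph (vertices: the primes dividing some irreducible complex character degree; distinct primes adjacent when their product divides some degree) has exactly five vertices, contains no triangle, and is connected. Then G is the internal direct product of normal subgroups H and K where H is isomorphic to the alternating group of degree 5 or to PSL₂ over the field with 8 elements, K is solvable, exactly two primes divide irreducible character degrees of K and no irreducible character degree of K is divisible by two distinct primes, and no prime divides irreducible character degrees of both H and K. -/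
theorem result {G : Type*} [Group G] [Finite G] (h5 : Set.ncard (Cfsg.degreePrimes G) = 5) (htri : (Cfsg.degreeGraph G).CliqueFree 3) (hcon : ((Cfsg.degreeGraph G).induce (Cfsg.degreePrimes G)).Connected) :
    ∃ H K : Subgroup G, H.Normal ∧ K.Normal ∧ H ⊓ K = ⊥ ∧ H ⊔ K = ⊤ ∧
      (Nonempty (↥H ≃* ↥(alternatingGroup (Fin 5))) ∨
        ∃ (F : Type) (_ : Field F) (_ : Fintype F), Fintype.card F = 8 ∧ Nonempty (↥H ≃* Matrix.ProjectiveSpecialLinearGroup (Fin 2) F)) ∧
      Group.IsSolvable ↥K ∧ Set.ncard (Cfsg.degreePrimes ↥K) = 2 ∧ (∀ p q : ℕ, ¬ (Cfsg.degreeGraph ↥K).Adj p q) ∧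
      Cfsg.degreePrimes ↥H ∩ Cfsg.degreePrimes ↥K = ∅ := by
  exact Cfsg.Agent.H677.Pent.final Cfsg.Agent.H988.DG.factTri Cfsg.Agent.H714.Tri.hMain h5 htri hcon

end Cfsg.Agent.S4946
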