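import Cfsg.Statements.S4948
import Cfsg.Agent.S0000
import Cfsg.Agent.H601.OddDeg.Fin
import Cfsg.Agent.H618.InvPSU3

set_option autoImplicit false
open Cfsg

namespace Cfsg.Agent.S4948

/-- Let S be a finite non-abelian simple group and M a maximal ideal of the algebraic integers containing 2. Then either every irreducible complex character of S of odd degree lies in the principal 2-block of S, or the principal 2-block of S contains at least three irreducible characters of odd degree each of which is invariant under every automorphism of S. -/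
theorem result {S : Type*} [Group S] [Finite S] [IsSimpleGroup S] (hna : ¬ IsMulCommutative S) (M : Ideal Cfsg.AlgInt) (hM : Cfsg.IsPModular 2 M) :
    (∀ θ : Cfsg.IrrCharacter S, ¬ 2 ∣ Cfsg.charDegree (θ : S → ℂ) → θ ∈ Cfsg.principalBlock M S) ∨
      3 ≤ Nat.card {θ : Cfsg.IrrCharacter S // θ ∈ Cfsg.principalBlock M S ∧ ¬ 2 ∣ Cfsg.charDegree (θ : S → ℂ) ∧
        ∀ φ : S ≃* S, ∀ x : S, (θ : S → ℂ) (φ x) = (θ : S → ℂ) x} := by
  rcases Cfsg.Agent.H601.OddDeg.Fin.known (fun hF h2 => Cfsg.Agent.H618.InvPSU3.exists_inv_psu3 hF h2) hna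
    Cfsg.Agent.S0000.result with h | h
  · exact h.result hM
  · exact h.result hM

end Cfsg.Agent.S4948
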