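import Cfsg.Statements.S4950
import Cfsg.Agent.S0000
import Cfsg.Agent.S0205
import Cfsg.Agent.OrdDiv.Table
import Cfsg.Agent.H715.Reduction
import Cfsg.Agent.H324.Hall.Final

set_option autoImplicit false
open Cfsg

namespace Cfsg.Agent.S4950

/-- Let H be a Hall subgroup of the finite group G (the order of H is coprime to its index). Then every irreducible complex character of H is the restriction of an irreducible character of G if and only if H has a normal complement in G: a normal subgroup N with HN = G and H ∩ N = 1. -/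
theorem result {G : Type*} [Group G] [Finite G] (H : Subgroup G) (hHall : (Nat.card H).Coprime H.index) :
    (∀ θ : Cfsg.IrrCharacter ↥H, ∃ χ : Cfsg.IrrCharacter G, ∀ x : ↥H, (χ : G → ℂ) x = (θ : ↥H → ℂ) x) ↔
      ∃ N : Subgroup G, N.Normal ∧ H ⊔ N = ⊤ ∧ H ⊓ N = ⊥ := by
  constructor
  · intro hE
    exact Cfsg.Agent.H715.main (Cfsg.Agent.H324.Hall.partB Cfsg.Agent.OrdDiv.table
      (fun X _ _ h => Cfsg.Agent.S0205.result h) (fun X _ _ _ => Cfsg.Agent.S0000.result)) H hHall hE
  · intro hc
    exact Cfsg.Agent.H715.Compl.ext hc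

end Cfsg.Agent.S4950
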