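import Cfsg.Statements.S4952
import Cfsg.Agent.S0000
import Cfsg.Agent.H716.VanRows

set_option autoImplicit false
open Cfsg

namespace Cfsg.Agent.S4952

/-- Let G be a finite group having a non-commutative minimal normal subgroup. Then every prime that divides the size of some conjugacy class of G divides the size of the conjugacy class of some element at which an irreducible complex character of G vanishes. -/
theorem result {G : Type*} [Group G] [Finite G] (N : Subgroup G) [N.Normal] (hN1 : N ≠ ⊥) (hNmin : ∀ K : Subgroup G, K.Normal → K ≤ N → K = ⊥ ∨ K = N)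
    (hNna : ¬ IsMulCommutative N) (p : ℕ) (hp : p.Prime) (hpV : ∃ g : G, p ∣ (Subgroup.centralizer ({g} : Set G)).index) :
    ∃ g : G, (∃ χ : Cfsg.IrrCharacter G, (χ : G → ℂ) g = 0) ∧ p ∣ (Subgroup.centralizer ({g} : Set G)).index := by
  exact Cfsg.Agent.H716.VanRed.main
    (fun S _ _ _ hna => Cfsg.Agent.H716.VanRows.vrow_known hna (Cfsg.Agent.S0000.result (G := S)))
    (fun S _ _ _ hna => Cfsg.Agent.H716.VanRows.vz_known hna (Cfsg.Agent.S0000.result (G := S)))
    N hNmin hNna p hp hpV

end Cfsg.Agent.S4952
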