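import Cfsg.Statements.S4959
import Cfsg.Agent.H718.FormDelta
import Cfsg.Agent.H718.ConjRep

set_option autoImplicit false
open Cfsg

namespace Cfsg.Agent.S4959

open Cfsg.Agent.H718

/-- a bilinear form from a bi-additive map -/
theorem exists_bilin {p : ℕ} [Fact p.Prime] {E : Type*} [AddCommGroup E] [Module (ZMod p) E]
    (b : E → E → ZMod p) (hl : ∀ x y z, b (x + y) z = b x z + b y z)
    (hr : ∀ x y z, b x (y + z) = b x y + b x z) :
    ∃ B : LinearMap.BilinForm (ZMod p) E, ∀ x y, B x y = b x y := by
  let f : E → (E →ₗ[ZMod p] ZMod p) := fun x =>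
    (AddMonoidHom.mk' (b x) (hr x)).toZModLinearMap p
  let B : E →ₗ[ZMod p] (E →ₗ[ZMod p] ZMod p) :=
    (AddMonoidHom.mk' f (fun x y => LinearMap.ext (fun z => hl x y z))).toZModLinearMap p
  exact ⟨B, fun x y => rfl⟩

/-- Let X be a finite group and V a normal subgroup of X in which every element has order dividing the prime p, whose index in X is prime to p and which is its own centralizer in X; so V is an elementary abelian normal Sylow p-subgroup, and any complement G to V in X is a group of order prime to p acting faithfully on the vector space V by conjugation (the coprime linear setting of the k(GV) problem). Let G be a complement to V in X, let v be in V and let H be the centralizer of v in G. Suppose there is a subgroup U of V normalized by H, on which H acts faithfully, and carrying an H-invariant bi-additive pairing β with values in the integers modulo p that is nondegenerate on U (equivalently: the restriction of the module V to H has a faithful self-dual submodule; such a v is called a real vector for G). Then the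 number of conjugacy classes of X is at most the order of V (the real-vector criterion for the k(GV) problem). The pairing is given as a function on X whose relevant values are those on pairs from U. -/
theorem result {X : Type*} [Group X] [Finite X] (p : ℕ) [Fact p.Prime] (V : Subgroup X) [V.Normal] (hVexp : ∀ v ∈ V, v ^ p = 1) (hidx : ¬ p ∣ V.index) (hself : Subgroup.centralizer (V : Set X) = V) (G : Subgroup X) (hGV : Subgroup.IsComplement' V G) (v : X) (hv : v ∈ V) (U : Subgroup X) (hUV : U ≤ V) (hUinv : ∀ h ∈ G, h * v * h⁻¹ = v → ∀ u ∈ U, h * u * h⁻¹ ∈ U) (hUfaith : ∀ h ∈ G, h * v * h⁻¹ = v → (∀ u ∈ U, h * u * h⁻¹ = u) → h = 1) (β : X → X → ZMod p) (hβl : ∀ u ∈ U, ∀ u' ∈ U, ∀ w ∈ U, β (u * u') w = β u w + β u' w) (hβr : ∀ u ∈ U, ∀ w ∈ U, ∀ w' ∈ U, β u (w * w') = β u w + β u w') (hβinv : ∀ h ∈ G, h * v * h⁻¹ = v → ∀ u ∈ U, ∀ w ∈ U, β (h * u * h⁻¹) (h * w * h⁻¹) = β u w) (hβnd : ∀ u ∈ U, (∀ w ∈ U, β u w = 0) → u = 1) : Nat.card (ConjClasses X) ≤ Nat.card V := by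
  classical
  set H : Subgroup X := G ⊓ Subgroup.centralizer ({v} : Set X) with hH
  have : Fintype H := Fintype.ofFinite _
  have hGidx : V.index = Nat.card G := hGV.symm.index_eq_card
  have hG : ¬ p ∣ Nat.card G := hGidx ▸ hidx
  have hHcard : ¬ p ∣ Nat.card H := fun h => hG (h.trans (Subgroup.card_dvd_of_le inf_le_left))
  have hVab : ∀ a ∈ V, ∀ b ∈ V, a * b = b * a := by
    intro a ha b hb
    have h1 : a ∈ Subgroup.centralizer (V : Set X) := by rw [hself]; exact ha
    exact (Subgroup.mem_centralizer_iff.1 h1 b hb).symm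
  have hVp : IsPGroup p V := by
    intro x
    refine ⟨1, ?_⟩
    rw [pow_one]
    exact Subtype.ext (hVexp x x.2)
  have hHG : ∀ h ∈ H, h ∈ G := fun h hh => (Subgroup.mem_inf.1 hh).1
  have hHv : ∀ h ∈ H, h * v * h⁻¹ = v := by
    intro h hh
    have h1 := Subgroup.mem_centralizer_singleton_iff.1 (Subgroup.mem_inf.1 hh).2
    rw [h1]
    group
  obtain ⟨M, hM⟩ := Cfsg.Agent.Blocks.ExistsModular.exists_isPModular (Fact.out : p.Prime)
  obtain ⟨E, _, _, _, e, ρ, he, hρ⟩ := exists_conjRep p H U
    (fun a ha b hb => hVab a (hUV ha) b (hUV hb)) (fun u hu => hVexp u (hUV hu))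
    (fun h hh u hu => hUinv h (hHG h hh) (hHv h hh) u hu)
  obtain ⟨B, hB⟩ := exists_bilin (fun a b : E => β (e a) (e b))
    (fun x y z => by
      rw [he]
      exact hβl _ (e x).2 _ (e y).2 _ (e z).2)
    (fun x y z => by
      rw [he]
      exact hβr _ (e x).2 _ (e y).2 _ (e z).2)
  have he0 : e 0 = 1 := by
    have h1 := he 0 0
    rw [add_zero] at h1
    exact left_eq_mul.1 h1
  obtain ⟨δ, hδ⟩ := exists_delta_selfdual hM hHcard ρ B
    (fun h x y => by
      rw [hB, hB, hρ, hρ]
      exact hβinv h (hHG h h.2) (hHv h h.2) _ (e x).2 _ (e y).2)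
    (fun x hx => by
      apply e.injective
      rw [he0]
      apply Subtype.ext
      refine hβnd _ (e x).2 (fun w hw => ?_)
      have h1 := hx (e.symm ⟨w, hw⟩)
      rw [hB, e.apply_symm_apply] at h1
      exact h1)
  have hδ' := hδ.congr (act' := fun h u => e (ρ h (e.symm u))) e
    (fun h s => by rw [e.symm_apply_apply])
  refine card_conjClasses_le_of_Delta hVp hidx hVab G hGV hv H hH hM U hUV _ ?_ ?_ hδ'
  · intro h u
    rw [hρ, e.apply_symm_apply]
  · intro h hu
    apply Subtype.ext
    refine hUfaith h (hHG h h.2) (hHv h h.2) (fun u hu' => ?_)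
    have h2 := congrArg (Subtype.val) (hu ⟨u, hu'⟩)
    rw [hρ, e.apply_symm_apply] at h2
    exact h2

end Cfsg.Agent.S4959
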