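import Cfsg.Statements.S4971
import Cfsg.Agent.S0000
import Cfsg.Agent.H721.SR.Asm

set_option autoImplicit false
open Cfsg

namespace Cfsg.Agent.S4971

/-- Let G be a finite non-abelian simple group in which every element is conjugate to its inverse. Then every element of G is a product of two elements whose squares are the identity (every element is inverted by an element of order at most 2). -/
theorem result {G : Type*} [Group G] [Finite G] (hS : IsSimpleGroup G) (hna : ¬ IsMulCommutative G) (hreal : ∀ g : G, IsConj g g⁻¹) (g : G) : ∃ s t : G, s * s = 1 ∧ t * t = 1 ∧ g = s * t := by
  haveI := hS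
  exact (Cfsg.Agent.H721.SR.rr_of_known hna Cfsg.Agent.S0000.result hreal g).out

end Cfsg.Agent.S4971
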