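import Cfsg.Statements.S4970
import Cfsg.Agent.H778.FR.All
import Cfsg.Agent.S0000
import Cfsg.Agent.S4971

set_option autoImplicit false
open Cfsg

namespace Cfsg.Agent.S4970

/-- Let G be a finite non-abelian simple group. Then every irreducible complex character of G has Frobenius–Schur indicator +1 (the average over s ∈ G of χ(s²) equals 1; equivalently every irreducible complex representation of G can be realized over the real numbers) if and only if every element of G is a product of two elements whose squares are the identity (equivalently, every element is inverted by an element of order at most 2). -/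
theorem result {G : Type*} [Group G] [Finite G] (hS : IsSimpleGroup G) (hna : ¬ IsMulCommutative G) : (∀ χ : Cfsg.IrrCharacter G, (Nat.card G : ℂ)⁻¹ * ∑ᶠ s : G, (χ : G → ℂ) (s * s) = 1) ↔ (∀ g : G, ∃ s t : G, s * s = 1 ∧ t * t = 1 ∧ g = s * t) :=
  Cfsg.Agent.H778.FRF.main Cfsg.Agent.H778.FRF.allRows (fun _ _ _ _ => Cfsg.Agent.S0000.result) hS hna
    fun hr g => Cfsg.Agent.S4971.result hS hna hr g

end Cfsg.Agent.S4970
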