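import Cfsg.Statements.S4977
import Cfsg.Agent.S0000
import Cfsg.Agent.H566.Main
import Cfsg.Agent.H741.Pd.Red
import Cfsg.Agent.H741.Pd.Table

set_option autoImplicit false
open Cfsg

namespace Cfsg.Agent.S4977

/-- Let p be a prime greater than 3 and G a finite group such that every irreducible complex character of G whose degree is not divisible by p has degree 1 or a prime. Then G is solvable. -/
theorem result {G : Type*} [Group G] [Finite G] (p : ℕ) [Fact p.Prime] (hp : 3 < p) (h : ∀ χ : Cfsg.IrrCharacter G, ¬ p ∣ Cfsg.charDegree (χ : G → ℂ) → (Cfsg.charDegree (χ : G → ℂ) = 1 ∨ (Cfsg.charDegree (χ : G → ℂ)).Prime)) : Group.IsSolvable G := by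
  have hpp : p.Prime := Fact.out
  have h5 : 5 ≤ p := by
    have h4 : p ≠ 4 := by
      rintro rfl
      exact absurd hpp (by norm_num)
    omega
  refine H741.Pd.reduction (p := p) (fun S _ _ _ hna => H741.Pd.compS_all h5 hna S0000.result)
    (fun X _ _ A K hAK hcop hns hbot => ?_) (Nat.card G) G rfl h
  have h1 := (H566.rich_sub (fun _ _ _ _ => S0000.result) hAK hcop hns).2
  rw [hbot, Subgroup.card_bot] at h1
  exact absurd h1 (by decide)

end Cfsg.Agent.S4977
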