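import Cfsg.Statements.S4983
import Cfsg.Agent.S0000
import Cfsg.Agent.S0205
import Cfsg.Agent.H723.Spor.All

set_option autoImplicit false
open Cfsg

namespace Cfsg.Agent.S4983

/-- Let G be a finite non-abelian group in which every irreducible complex character vanishes on at most one conjugacy class. Then G is a Frobenius group with a Frobenius complement of order 2 and Frobenius kernel of odd order. -/
theorem result {G : Type*} [Group G] [Finite G] (hna : ¬ IsMulCommutative G) (h : ∀ χ : Cfsg.IrrCharacter G, Set.ncard {C : ConjClasses G | ∀ g ∈ C.carrier, (χ : G → ℂ) g = 0} ≤ 1) : ∃ H : Subgroup G, Cfsg.IsFrobeniusComplement H ∧ Nat.card H = 2 ∧ Odd (Set.ncard (Cfsg.frobeniusKernel H)) :=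
  Cfsg.Agent.H723.Final.main (fun _ => Cfsg.Agent.S0000.result) (fun _ => Cfsg.Agent.S0205.result)
    Cfsg.Agent.H723.Spor.All.sporRow hna h

end Cfsg.Agent.S4983
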