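import Cfsg.Statements.S4987
import Cfsg.Agent.H620.VOFam
import Cfsg.Agent.H620.PNormMain
import Cfsg.Agent.H33.IMRest
import Cfsg.Agent.S1942
import Cfsg.Agent.S0000

set_option autoImplicit false
open Cfsg

namespace Cfsg.Agent.S4987

/-- The vanishing elements of order divisible by `p` are conjugate. -/
theorem oneVan {G : Type*} [Group G] [Finite G] (p : ℕ) (h1 : Set.ncard {C : ConjClasses G | (∀ g ∈ C.carrier, ∃ χ : Cfsg.IrrCharacter G, (χ : G → ℂ) g = 0) ∧ ∃ g ∈ C.carrier, p ∣ orderOf g} = 1) : Cfsg.Agent.H727.VanEl.OneVan p G := by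
  intro x y hx hxp hy hyp
  obtain ⟨C, hC⟩ := Set.ncard_eq_one.1 h1
  have hmem : ∀ z : G, Cfsg.Agent.H727.VanEl.Van z → p ∣ orderOf z →
      ConjClasses.mk z ∈ {C : ConjClasses G | (∀ g ∈ C.carrier, ∃ χ : Cfsg.IrrCharacter G,
      (χ : G → ℂ) g = 0) ∧ ∃ g ∈ C.carrier, p ∣ orderOf g} := by
    intro z hz hzp
    refine ⟨fun g hg => ?_, z, ConjClasses.mem_carrier_mk, hzp⟩
    have h2 : IsConj z g := by
      rw [ConjClasses.mem_carrier_iff_mk_eq, ConjClasses.mk_eq_mk_iff_isConj] at hg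
      exact hg.symm
    exact Cfsg.Agent.H727.VanEl.van_of_conj h2 hz
  have hx' := hmem x hx hxp
  have hy' := hmem y hy hyp
  rw [hC, Set.mem_singleton_iff] at hx' hy'
  exact ConjClasses.mk_eq_mk_iff_isConj.1 (hx'.trans hy'.symm)

/-- Let p > 3 be a prime and G a finite group with exactly one conjugacy class consisting of vanishing elements (elements at which some irreducible complex character is zero) of order divisible by p. Let P be a Sylow p-subgroup of G. Then the derived subgroup of P is subnormal in G; and if no composition factor of G is isomorphic to PSL₂ over a field with p^f elements, f ≥ 2 (no subnormal subgroup H of G has a normal subgroup K with H/K of that shape), then the order of P is at most p times the order of the largest normal p-subgroup of G. -/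
theorem result {G : Type*} [Group G] [Finite G] (p : ℕ) [Fact p.Prime] (hp : 3 < p) (h1 : Set.ncard {C : ConjClasses G | (∀ g ∈ C.carrier, ∃ χ : Cfsg.IrrCharacter G, (χ : G → ℂ) g = 0) ∧ ∃ g ∈ C.carrier, p ∣ orderOf g} = 1) (P : Sylow p G) : ((commutator ↥(P : Subgroup G)).map (P : Subgroup G).subtype).IsSubnormal ∧ ((¬ ∃ (H : Subgroup G) (K : Subgroup ↥H) (_ : K.Normal), H.IsSubnormal ∧ ∃ f : ℕ, 2 ≤ f ∧ Nonempty (↥H ⧸ K ≃* Matrix.ProjectiveSpecialLinearGroup (Fin 2) (GaloisField p f))) → Nat.card ↥(P : Subgroup G) ≤ p * Nat.card ↥(Cfsg.pCore p G)) := by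
  have hp4 : p ≠ 4 := by
    rintro rfl
    exact absurd (Fact.out : (4 : ℕ).Prime) (by norm_num)
  have hp5 : 5 ≤ p := by omega
  refine Cfsg.Agent.H387.VO.Known.final hp5 Cfsg.Agent.H620.PNorm.ccAll ?_ (Cfsg.Agent.H620.VOFam.fam hp5)
    (Cfsg.Agent.H33.core Cfsg.Agent.H33.rest p) (fun S _ _ _ => Cfsg.Agent.S0000.result) (oneVan p h1) P
  intro S _ _ _ hna hd Q α hα hfix
  refine Cfsg.Agent.S1942.result ?_ (by omega) hd Q α hα hfix
  rintro ⟨⟨h⟩⟩
  obtain ⟨a, b, hab⟩ := hna
  exact hab (h a b)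

end Cfsg.Agent.S4987
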