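import Cfsg.Statements.S4988
import Cfsg.Agent.H725.SpecMain
import Cfsg.Agent.OrdDiv.Table
import Cfsg.Agent.S0000

set_option autoImplicit false
open Cfsg

namespace Cfsg.Agent.S4988

/-- The codegree of an irreducible complex character χ of a finite group X is [X : ker χ]/χ(1), where ker χ is the set of elements at which χ takes the value χ(1). Let H be a finite group isomorphic to SL₂ over a field with at least 5 elements or to SL₃ over any finite field, and let G be a nontrivial finite group such that every codegree of an irreducible character of G is a codegree of an irreducible character of H. Then G is isomorphic to H or to the quotient of H by its centre; and the codegree sets of G and H are equal if and only if G ≅ H. -/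
theorem result {G : Type*} [Group G] [Finite G] [Nontrivial G] {H : Type*} [Group H] [Finite H] (hH : ∃ (F : Type) (_ : Field F) (_ : Fintype F), (5 ≤ Fintype.card F ∧ Nonempty (H ≃* Matrix.SpecialLinearGroup (Fin 2) F)) ∨ Nonempty (H ≃* Matrix.SpecialLinearGroup (Fin 3) F)) (hsub : ∀ χ : Cfsg.IrrCharacter G, ∃ ψ : Cfsg.IrrCharacter H, (Nat.card G / (Nat.card {g : G // (χ : G → ℂ) g = (χ : G → ℂ) 1} * Cfsg.charDegree (χ : G → ℂ))) = (Nat.card H / (Nat.card {g : H // (ψ : H → ℂ) g = (ψ : H → ℂ) 1} * Cfsg.charDegree (ψ : H → ℂ)))) : (Nonempty (G ≃* H) ∨ Nonempty (G ≃* H ⧸ Subgroup.center H)) ∧ ((∀ m : ℕ, (∃ χ : Cfsg.IrrCharacter G, (Nat.card G / (Nat.card {g : G // (χ : G → ℂ) g = (χ : G → ℂ) 1} * Cfsg.charDegree (χ : G → ℂ))) = m) ↔ (∃ ψ : Cfsg.IrrCharacter H, (Nat.card H / (Nat.card {g : H // (ψ : H → ℂ) g = (ψ : H → ℂ) 1} * Cfsg.charDegree (ψ : H → ℂ))) = m)) ↔ Nonempty (G ≃* H)) := by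
  exact H725.SpecMain.main OrdDiv.table OrdDiv.table (fun S _ _ _ => S0000.result) hH hsub

end Cfsg.Agent.S4988
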