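import Cfsg.Statements.S4995
import Cfsg.Agent.H59.FewMain
import Cfsg.Agent.H59.FewSimple
import Cfsg.Agent.S0000

set_option autoImplicit false
universe u
open Cfsg

namespace Cfsg.Agent.S4995

/-- There is a function f : ℕ → ℕ with the following property: if k is a natural number and G a finite group such that for every prime p at most k of the distinct irreducible complex character degrees of G are divisible by p, then G has at most f(k) distinct irreducible character degrees. -/
theorem result : ∃ f : ℕ → ℕ, ∀ (k : ℕ) (G : Type u) [Group G] [Finite G], (∀ p : ℕ, p.Prime → Set.ncard {d ∈ Cfsg.charDegrees G | p ∣ d} ≤ k) → Set.ncard (Cfsg.charDegrees G) ≤ f k := by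
  obtain ⟨c, hc⟩ := Cfsg.Agent.H59.FewDeg.exists_big.{0}
  refine ⟨fun k => (k + 2 * k * ((2 * (3 * c * k) + 1) * (3 * c))) + (2 * (k * k) + 2 * k + 1), ?_⟩
  intro k G _ _ hk
  exact Cfsg.Agent.H59.FewDeg.main_bound (c := c)
    (fun S _ _ _ hna => Cfsg.Agent.H59.FewDeg.exists_ext hna Cfsg.Agent.S0000.result)
    (fun S _ _ _ hna => hc S hna Cfsg.Agent.S0000.result)
    (fun S _ _ _ hna => Cfsg.Agent.H59.FewDeg.card_aut_le hna Cfsg.Agent.S0000.result) hk

end Cfsg.Agent.S4995
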