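import Cfsg.Statements.S4998
import Cfsg.Agent.H717.DegGraph
import Cfsg.Agent.H677.DG.ConnDia

set_option autoImplicit false
open Cfsg

namespace Cfsg.Agent.S4998

/-- Let G be a finite non-abelian simple group whose character degree graph (vertices: the primes dividing some irreducible complex character degree; distinct primes adjacent when their product divides some degree) is connected. Then any two vertices are joined by a path of length at most 3 (the diameter is at most 3). -/
theorem result {G : Type*} [Group G] [Finite G] (hS : IsSimpleGroup G) (hna : ¬ IsMulCommutative G) (hconn : ((Cfsg.degreeGraph G).induce (Cfsg.degreePrimes G)).Connected) (u v : ↥(Cfsg.degreePrimes G)) : ∃ w : ((Cfsg.degreeGraph G).induce (Cfsg.degreePrimes G)).Walk u v, w.length ≤ 3 := by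
  have hL : ¬ Cfsg.Agent.H671.H5.IsL2 G := fun h =>
    Cfsg.Agent.H717.Deg.not_preconnected_of_isL2 hS hna h hconn.preconnected
  exact Cfsg.Agent.H677.DG.factDiaAll G hna hL hconn u v

end Cfsg.Agent.S4998
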