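import Cfsg.Statements.S5004
import Cfsg.Agent.H526.ObFinal
import Cfsg.Agent.H894.ThTwo

set_option autoImplicit false
open Cfsg

namespace Cfsg.Agent.S5004

/-- Let `G` be a finite non-abelian simple group all of whose irreducible complex characters lie in a single 2-block (relative to a maximal ideal of the algebraic integers containing 2). Then `G` is isomorphic to the Mathieu group `M₂₂` or to the Mathieu group `M₂₄`. The known proof surveys the finite simple groups. -/
theorem result {G : Type*} [Group G] [Finite G] [IsSimpleGroup G]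
    (hna : ¬ IsMulCommutative G) (M : Ideal Cfsg.AlgInt) (hM : Cfsg.IsPModular 2 M)
    (h1 : ∀ χ ψ : Cfsg.IrrCharacter G, Cfsg.SameBlock M (χ : G → ℂ) (ψ : G → ℂ)) :
    Cfsg.Spor.IsoM22 G ∨ Cfsg.Spor.IsoM24 G := by
  exact Cfsg.Agent.H526.OB.s5004 (fun S _ _ h => Cfsg.Agent.H894.ThTwo.nb_Th h) hna M hM h1

end Cfsg.Agent.S5004
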