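import Cfsg.Statements.S5007
import Cfsg.Agent.S5004
import Cfsg.Agent.H657.OneBlk.Asm

set_option autoImplicit false
open Cfsg

namespace Cfsg.Agent.S5007

/-- A finite group `G` has a single 2-block (all irreducible complex characters lie in the principal 2-block, relative to a maximal ideal of the algebraic integers containing 2) if and only if `G` has no nontrivial normal subgroup of odd order and every component `K` of `G` has central quotient `K/Z(K)` isomorphic to the Mathieu group `M₂₂` or `M₂₄`. The known proof rests on the classification of finite simple groups. -/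
theorem result {G : Type*} [Group G] [Finite G]
    (M : Ideal Cfsg.AlgInt) (hM : Cfsg.IsPModular 2 M) :
    (∀ χ ψ : Cfsg.IrrCharacter G, Cfsg.SameBlock M (χ : G → ℂ) (ψ : G → ℂ)) ↔
      (Cfsg.oddCore G = ⊥ ∧ ∀ K : Subgroup G, Cfsg.IsComponent K →
        Cfsg.Spor.IsoM22 (↥K ⧸ Subgroup.center ↥K) ∨ Cfsg.Spor.IsoM24 (↥K ⧸ Subgroup.center ↥K)) := by
  exact Cfsg.Agent.H657.OneBlk.s5007 (fun hna M hM h1 => Cfsg.Agent.S5004.result hna M hM h1) M hM

end Cfsg.Agent.S5007
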