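-- S5108: corollary of S5116.
import Cfsg.Statements.S5108
import Cfsg.Agent.S5116
import Cfsg.Agent.H802.FusGroup

set_option autoImplicit false
open Cfsg

namespace Cfsg.Agent.S5108

/-- A subgroup normal in the fusion system of a group on a subgroup `S` is strongly closed. -/
theorem stronglyClosed_of_isNormal {G : Type*} [Group G] {S Q : Subgroup G}
    (h : (Cfsg.groupFusionSystem S).IsNormal Q) : Cfsg.IsStronglyClosed Q S := by
  obtain ⟨hQS, hex⟩ := h
  refine ⟨hQS, fun x hx g hg => ?_⟩
  have hxS : x ∈ S := hQS hx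
  have hmem : Cfsg.conjHom (Subgroup.zpowers x) g ∈
      (Cfsg.groupFusionSystem S).Hom (Subgroup.zpowers x) := by
    refine ⟨(Subgroup.zpowers_le).2 hxS, ?_, g, fun y => rfl⟩
    rintro ⟨y, k, rfl⟩
    show g * (x ^ k) * g⁻¹ ∈ S
    rw [← conj_zpow]
    exact S.zpow_mem hg k
  obtain ⟨ψ, -, hψ, hψQ⟩ := hex _ _ hmem
  have h1 := hψ ⟨x, Subgroup.mem_zpowers x⟩
  have h2 : Cfsg.conjHom (Subgroup.zpowers x) g ⟨x, Subgroup.mem_zpowers x⟩ = g * x * g⁻¹ := rfl
  rw [h2] at h1
  rw [← h1]
  have h3 : ψ (Subgroup.inclusion le_sup_left ⟨x, Subgroup.mem_zpowers x⟩) ∈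
      (Q.subgroupOf (Subgroup.zpowers x ⊔ Q)).map ψ :=
    Subgroup.mem_map_of_mem ψ (by
      rw [Subgroup.mem_subgroupOf]
      exact hx)
  rw [hψQ] at h3
  exact h3

/-- For a nonabelian finite simple group G and a prime p dividing its order, with Sylow p-subgroup S: the fusion system of G on S is constrained if and only if S is normal in it. (The forward direction rests on the classification of the finite simple groups.) -/
theorem result {G : Type*} [Group G] [Finite G] [IsSimpleGroup G] (hG : ¬ IsMulCommutative G) (p : ℕ) [Fact p.Prime] (hp : p ∣ Nat.card G) (S : Sylow p G) : (Cfsg.groupFusionSystem (S : Subgroup G)).IsConstrained p ↔ (Cfsg.groupFusionSystem (S : Subgroup G)).IsNormal S := by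
  have hSne : (S : Subgroup G) ≠ ⊥ := S.ne_bot_of_dvd_card hp
  have hself : ∀ Q : Subgroup G, Q ≤ (S : Subgroup G) →
      (Cfsg.groupFusionSystem (S : Subgroup G)).IsConj Q Q := by
    intro Q hQ
    refine ⟨Cfsg.conjHom Q 1, (Cfsg.groupFusionSystem (S : Subgroup G)).conj_mem hQ S.one_mem, ?_⟩
    ext y
    constructor
    · rintro ⟨x, rfl⟩
      show 1 * (x : G) * 1⁻¹ ∈ Q
      simp
    · intro hy
      exact ⟨⟨y, hy⟩, by show 1 * y * 1⁻¹ = y; simp⟩
  constructor
  · rintro ⟨-, Q, hQn, hQc⟩
    have hQS : Q ≤ (S : Subgroup G) := hQn.1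
    have hcen : Cfsg.FusionSystem.centralizerIn (S : Subgroup G) Q ≤ Q := hQc.2 Q (hself Q hQS)
    by_cases hQ0 : Q = ⊥
    · exfalso
      apply hSne
      rw [eq_bot_iff]
      intro x hx
      rw [hQ0] at hcen
      apply hcen
      refine ⟨hx, Subgroup.mem_centralizer_iff.2 ?_⟩
      intro y hy
      have hy1 : y = 1 := by simpa using hy
      simp [hy1]
    by_cases hQT : Q = (S : Subgroup G)
    · rw [hQT] at hQn
      exact hQn
    have hlt : Q < (S : Subgroup G) := lt_of_le_of_ne hQS hQT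
    rcases Cfsg.Agent.S5116.result hG p S Q hQ0 hlt (stronglyClosed_of_isNormal hQn) with h | ⟨-, -, hZ, -⟩
    · exact h
    · exfalso
      apply hQT
      apply le_antisymm hQS
      intro x hx
      apply hcen
      refine ⟨hx, Subgroup.mem_centralizer_iff.2 ?_⟩
      intro y hy
      have hy' : y ∈ (S : Subgroup G) ⊓ Subgroup.centralizer ((S : Subgroup G) : Set G) := by
        rw [← hZ]; exact hy
      have := (Subgroup.mem_centralizer_iff.1 hy'.2) x hx
      exact this.symm
  · intro hn
    refine ⟨Cfsg.Agent.H802.groupFusionSystem_isSaturated S, S, hn, le_rfl, ?_⟩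
    rintro Q ⟨φ, hφ, rfl⟩
    have hle : φ.range ≤ (S : Subgroup G) := by
      rintro _ ⟨x, rfl⟩
      exact hφ.2.1 x
    have hinj := (Cfsg.groupFusionSystem (S : Subgroup G)).injective_of_mem hφ
    have hcard : Nat.card φ.range = Nat.card (S : Subgroup G) :=
      (Nat.card_congr (MonoidHom.ofInjective hinj).toEquiv).symm
    have heq : φ.range = (S : Subgroup G) :=
      Subgroup.eq_of_le_of_card_ge hle hcard.ge
    rw [heq]
    exact inf_le_left

end Cfsg.Agent.S5108
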