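import Cfsg.Statements.S5282
import Cfsg.Agent.H771.FunctorQd
import Cfsg.Agent.H759.FusSolvable
import Cfsg.Agent.H753.QdNormal
import Cfsg.Agent.S5090

set_option autoImplicit false
open Cfsg

namespace Cfsg.Agent.S5282

/-- Let p be a prime and F a saturated fusion system over a finite p-group S that is Qd(p)-free: the semidirect product of an elementary abelian group of order p² by SL₂(p) acting naturally (the symmetric group of degree 4 when p = 2) is not involved in any model of the normalizer system of a fully normalized F-centric subgroup. Then F is realizable — it is the fusion system of some finite group on a Sylow p-subgroup — and F is a solvable fusion system. -/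
theorem result {Ω : Type*} [Group Ω] {S : Subgroup Ω} [Finite S] (p : ℕ) [Fact p.Prime] (hS : IsPGroup p ↥S) (F : Cfsg.FusionSystem S) (hF : F.IsSaturated p) (hfree : F.IsSectionFree p ↥(Cfsg.qd p)) : F.IsRealizable p ∧ F.IsSolvableSystem := by
  have hnat := (Cfsg.Agent.H782.QdIff.isSectionFree_qd_iff hS hF).1 hfree
  have hsol : F.IsSolvableSystem := by
    intro R hR hRS _ E hE
    have hEsat : E.IsSaturated p := Cfsg.Agent.H759.isSaturated_factor hS hF hR hE
    have hEnat : ¬ Cfsg.Agent.H782.QdFus.HasNat p E :=
      fun h => hnat (Cfsg.Agent.H771.hasNat_of_factor hE h)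
    have htop : IsPGroup p ↥(⊤ : Subgroup (↥S ⧸ R.subgroupOf S)) :=
      (hS.to_quotient (R.subgroupOf S)).to_subgroup ⊤
    have hne : (⊤ : Subgroup (↥S ⧸ R.subgroupOf S)) ≠ ⊥ := by
      intro h
      apply hRS
      apply le_antisymm hR.1
      have h1 : R.subgroupOf S = ⊤ := by
        rw [← QuotientGroup.ker_mk' (R.subgroupOf S), MonoidHom.ker_eq_top_iff]
        ext x
        have := Subgroup.mem_top (QuotientGroup.mk' (R.subgroupOf S) x)
        rw [h, Subgroup.mem_bot] at this
        simpa using this
      exact Subgroup.subgroupOf_eq_top.1 h1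
    obtain ⟨W, hW, hWn⟩ := Cfsg.Agent.H753.exists_isNormal_of_not_hasNat htop hne E hEsat hEnat
    intro hcore
    apply hW
    rw [eq_bot_iff, ← hcore]
    exact le_sSup hWn
  refine ⟨?_, hsol⟩
  have hch := Cfsg.Agent.H759.hasChain_of_isSolvableSystem hS hF hsol ⊥
    Cfsg.Agent.H759.StronglyClosed.bot
  have hcon := Cfsg.Agent.H759.isConstrained_of_hasChain hS hF hch
  obtain ⟨G, hG, ι, hM⟩ := Cfsg.Agent.S5090.result p hS F hcon
  exact ⟨G, hG, hM.1, ι, hM.2.1, hM.2.2.1⟩

end Cfsg.Agent.S5282
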