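import Cfsg.Statements.S5175
import Cfsg.Agent.H756.HM.Fin
import Cfsg.Agent.H770.Hen.StJ

set_option autoImplicit false
universe u
open Cfsg

namespace Cfsg.Agent.S5175

/-- A classification of minimal 2-fusion systems in the pushing-up case. Let F be a saturated fusion system over a finite 2-group S that is minimal: its largest normal subgroup is trivial and the normalizer system of every nontrivial fully normalized subgroup is solvable (solvable meaning that every factor system by a proper strongly closed subgroup has a nontrivial normal subgroup). Suppose there is a proper saturated subsystem N of F over S that contains the normalizer system N_F(R) of every nontrivial normal subgroup R of S for which N_F(R) contains N_F(S). Then F is realized by a finite group G with S as a Sylow 2-subgroup such that one of the following holds: S is dihedral of order at least 16 and G is isomorphic to PSL(2, r) or PGL(2, r) with r odd; S is quasi-dihedral and G has a normal subgroup of index 2 with trivial centralizer isomorphic to PSL(2, r²) with r odd;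 S is quasi-dihedral of order 16 and G is isomorphic to PSL(3,3); S has order 32 and G is isomorphic to the automorphism group of the alternating group of degree 6 or of PSL(3,3); S has order 2⁷ and G is isomorphic to the Janko group J₃; or the generalized Fitting subgroup of G is isomorphic to PSL(3, q) or to PSp(4, 2ᵉ) with e odd, has odd index in O²(G) (the subgroup generated by the elements of odd order), and O²(G) has index 2 in G. -/
theorem result {Ω : Type u} [Group Ω] {S : Subgroup Ω} [Finite S] (hS : IsPGroup 2 S)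
    (F : Cfsg.FusionSystem S) (hF : F.IsSaturated 2) (hO : F.core = ⊥)
    (hmin : ∀ U : Subgroup Ω, U ≠ ⊥ → F.IsFullyNormalized U →
      ∀ E : Cfsg.FusionSystem (Cfsg.FusionSystem.normalizerIn S U), F.IsNormalizerSystem U E →
        E.IsSolvableSystem)
    (N : Cfsg.FusionSystem S) (hNsat : N.IsSaturated 2) (hNle : N ≤ F) (hNne : N ≠ F)
    (hpar : ∀ R : Subgroup Ω, R ≠ ⊥ → R ≤ S → S ≤ Subgroup.normalizer (R : Set Ω) →
      (∀ P : Subgroup Ω, F.normalizerHom S P ⊆ F.normalizerHom R P) →
      ∀ P : Subgroup Ω, F.normalizerHom R P ⊆ N.Hom P) :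
    ∃ (G : Type u) (_ : Group G) (_ : Finite G) (ι : ↥S →* G),
      F.IsRealizedBy ι ∧ (∃ T : Sylow 2 G, (T : Subgroup G) = ι.range) ∧
      (((∃ m : ℕ, 8 ≤ m ∧ Nonempty (↥S ≃* DihedralGroup m)) ∧
          ∃ (K : Type) (_ : Field K) (_ : Fintype K), Odd (Fintype.card K) ∧
            (Nonempty (G ≃* Matrix.ProjectiveSpecialLinearGroup (Fin 2) K) ∨
              Nonempty (G ≃* GL (Fin 2) K ⧸ Subgroup.center (GL (Fin 2) K)))) ∨
        (Cfsg.IsQuasiDihedral ↥S ∧
          ∃ (K : Type) (_ : Field K) (_ : Fintype K) (r : ℕ), Odd r ∧ Fintype.card K = r ^ 2 ∧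
            ∃ L : Subgroup G, L.Normal ∧ L.index = 2 ∧ Subgroup.centralizer (L : Set G) = ⊥ ∧
              Nonempty (↥L ≃* Matrix.ProjectiveSpecialLinearGroup (Fin 2) K)) ∨
        (Cfsg.IsQuasiDihedral ↥S ∧ Nat.card S = 16 ∧
          Nonempty (G ≃* Matrix.ProjectiveSpecialLinearGroup (Fin 3) (ZMod 3))) ∨
        (Nat.card S = 32 ∧ (Nonempty (G ≃* MulAut ↥(alternatingGroup (Fin 6))) ∨
          Nonempty (G ≃* MulAut (Matrix.ProjectiveSpecialLinearGroup (Fin 3) (ZMod 3))))) ∨
        (Nat.card S = 2 ^ 7 ∧ Cfsg.Spor.IsoJ3 G) ∨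
        (∃ (K : Type) (_ : Field K) (_ : Fintype K),
          (Nonempty (↥(Cfsg.generalizedFittingSubgroup G) ≃* Matrix.ProjectiveSpecialLinearGroup (Fin 3) K) ∨
            (Nonempty (↥(Cfsg.generalizedFittingSubgroup G) ≃* Cfsg.PSp 2 K) ∧
              ∃ e : ℕ, Odd e ∧ Fintype.card K = 2 ^ e)) ∧
          Cfsg.generalizedFittingSubgroup G ≤ Cfsg.pResidual 2 G ∧
          Odd ((Cfsg.generalizedFittingSubgroup G).subgroupOf (Cfsg.pResidual 2 G)).index ∧
          (Cfsg.pResidual 2 G).index = 2)) := by
  exact Cfsg.Agent.H756.HM.henke_of Cfsg.Agent.H770.Hen.stJ hS F hF hmin N hNsat hNle hNne hpar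

end Cfsg.Agent.S5175
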