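import Cfsg.Statements.S5189
import Cfsg.Agent.H767.TEConcl

set_option autoImplicit false
universe u
open Cfsg
open scoped commutatorElement

namespace Cfsg.Agent.S5189

/-- Let p be an odd prime, S a finite p-group of sectional p-rank exactly 3, and F a saturated fusion system over S whose largest subgroup normal in F is trivial. Suppose S has two distinct essential subgroups E₁, E₂ each of which is invariant under every F-automorphism of S. Then S is isomorphic to a Sylow p-subgroup of Sp(4,p), and one of E₁, E₂ is extraspecial of order p³ and exponent p while the other is elementary abelian of order p³. -/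
theorem result {Ω : Type u} [Group Ω] {S : Subgroup Ω} [Finite S] (p : ℕ) [Fact p.Prime] (hp : Odd p) (hS : IsPGroup p S)
    (hsr : Cfsg.SectionalPRankLE p 3 ↥S ∧ ¬ Cfsg.SectionalPRankLE p 2 ↥S)
    (F : Cfsg.FusionSystem S) (hF : F.IsSaturated p) (hO : F.core = ⊥)
    (E₁ E₂ : Subgroup Ω) (hne : E₁ ≠ E₂) (hE₁ : F.IsEssential p E₁) (hE₂ : F.IsEssential p E₂)
    (hc₁ : (∀ φ : MulAut ↥S, φ ∈ F.autGroup S → (E₁.subgroupOf S).map φ.toMonoidHom = E₁.subgroupOf S))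
    (hc₂ : (∀ φ : MulAut ↥S, φ ∈ F.autGroup S → (E₂.subgroupOf S).map φ.toMonoidHom = E₂.subgroupOf S)) :
    (∃ P : Sylow p ↥(Matrix.symplecticGroup (Fin 2) (ZMod p)),
        Nonempty (↥S ≃* ↥(P : Subgroup ↥(Matrix.symplecticGroup (Fin 2) (ZMod p))))) ∧
      ((Cfsg.IsExtraspecial p ↥E₁ ∧ Nat.card E₁ = p ^ 3 ∧ (∀ x ∈ E₁, x ^ p = 1) ∧
          Cfsg.IsElementaryAbelian p E₂ ∧ Nat.card E₂ = p ^ 3) ∨
        (Cfsg.IsExtraspecial p ↥E₂ ∧ Nat.card E₂ = p ^ 3 ∧ (∀ x ∈ E₂, x ^ p = 1) ∧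
          Cfsg.IsElementaryAbelian p E₁ ∧ Nat.card E₁ = p ^ 3)) := by
  have h2 : p ≠ 2 := by
    rintro rfl
    exact absurd hp (by decide)
  have hR := H767.TE.rk_of_sectional hsr.1
  have hn1 : (E₁.subgroupOf S).Normal := H767.TE.normal_of_inv F hc₁
  have hn2 : (E₂.subgroupOf S).Normal := H767.TE.normal_of_inv F hc₂
  have hS1 : E₁ ≤ S := hE₁.1.1
  have hS2 : E₂ ≤ S := hE₂.1.1
  have D1 := H767.TE.essData_of hS hF hE₁ hc₁ (H767.TE.index_of hS h2 hR hF hE₁)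
  have D2 := H767.TE.essData_of hS hF hE₂ hc₂ (H767.TE.index_of hS h2 hR hF hE₂)
  have hne' : E₁.subgroupOf S ≠ E₂.subgroupOf S := by
    intro h
    apply hne
    have h3 := congrArg (Subgroup.map S.subtype) h
    rwa [Subgroup.subgroupOf_map_subtype, Subgroup.subgroupOf_map_subtype, inf_eq_left.2 hS1, inf_eq_left.2 hS2] at h3
  obtain ⟨y1, hy1⟩ := D1.exists_notMem
  obtain ⟨y2, hy2⟩ := D2.exists_notMem
  by_cases hq1 : ∀ e ∈ E₁.subgroupOf S, ⁅y1, ⁅y1, e⁆⁆ ∈ H767.TE.Fr (E₁.subgroupOf S)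
  · obtain ⟨K1, W1, τ1, N1⟩ := D1.nat hS h2 hR hy1 hq1
    by_cases hq2 : ∀ e ∈ E₂.subgroupOf S, ⁅y2, ⁅y2, e⁆⁆ ∈ H767.TE.Fr (E₂.subgroupOf S)
    · obtain ⟨K2, W2, τ2, N2⟩ := D2.nat hS h2 hR hy2 hq2
      exact (H767.TE.nn_false h2 hS hR hsr.2 hF hO hne' D1 D2 N1 N2).elim
    · have R2 := D2.regular hS h2 hR hy2 hq2
      have C := H767.TE.nr_main D1 D2 hne' hS h2 hR N1 R2
      exact ⟨H767.TE.nr_iso h2 hn2 C, Or.inl (H767.TE.nr_struct hS1 hS2 C)⟩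
  · have R1 := D1.regular hS h2 hR hy1 hq1
    by_cases hq2 : ∀ e ∈ E₂.subgroupOf S, ⁅y2, ⁅y2, e⁆⁆ ∈ H767.TE.Fr (E₂.subgroupOf S)
    · obtain ⟨K2, W2, τ2, N2⟩ := D2.nat hS h2 hR hy2 hq2
      have C := H767.TE.nr_main D2 D1 hne'.symm hS h2 hR N2 R1
      exact ⟨H767.TE.nr_iso h2 hn1 C, Or.inr (H767.TE.nr_struct hS2 hS1 C)⟩
    · have R2 := D2.regular hS h2 hR hy2 hq2
      obtain ⟨G1, _, _, ι1, M1⟩ := H767.TE.exists_mdl hS hF hE₁
      obtain ⟨G2, _, _, ι2, M2⟩ := H767.TE.exists_mdl hS hF hE₂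
      exact (H767.TE.rr_false D1 D2 hne' hS h2 hR R1 R2 M1 M2).elim

end Cfsg.Agent.S5189
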