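import Cfsg.Statements.S5181
import Cfsg.Agent.H765.Nonchar
import Cfsg.Agent.S5189

set_option autoImplicit false
universe u
open Cfsg

namespace Cfsg.Agent.S5181

/-- Let p be an odd prime, S a finite p-group of sectional p-rank exactly 3, and F a saturated fusion system over S whose largest subgroup normal in F is trivial. Then either S is isomorphic to a Sylow p-subgroup of Sp(4,p), or some essential subgroup of F is not normal in S. -/
theorem result {Ω : Type u} [Group Ω] {S : Subgroup Ω} [Finite S] (p : ℕ) [Fact p.Prime] (hp : Odd p) (hS : IsPGroup p S) (hsr : Cfsg.SectionalPRankLE p 3 ↥S ∧ ¬ Cfsg.SectionalPRankLE p 2 ↥S)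
    (F : Cfsg.FusionSystem S) (hF : F.IsSaturated p) (hO : F.core = ⊥) :
    (∃ P : Sylow p ↥(Matrix.symplecticGroup (Fin 2) (ZMod p)),
        Nonempty (↥S ≃* ↥(P : Subgroup ↥(Matrix.symplecticGroup (Fin 2) (ZMod p))))) ∨
      ∃ E : Subgroup Ω, F.IsEssential p E ∧ ¬ S ≤ Subgroup.normalizer (E : Set Ω) := by
  by_cases hex : ∃ E : Subgroup Ω, F.IsEssential p E ∧ ¬ S ≤ Subgroup.normalizer (E : Set Ω)
  · exact Or.inr hex
  · left
    push Not at hex
    have hp2 : p ≠ 2 := by
      rintro rfl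
      exact absurd hp (by decide)
    obtain ⟨E₁, E₂, hne, h₁, h₂, c₁, c₂⟩ := H765.exists_two hp2 hS hF hO hsr.1 hsr.2 hex
    exact (Cfsg.Agent.S5189.result p hp hS hsr F hF hO E₁ E₂ hne h₁ h₂ c₁ c₂).1

end Cfsg.Agent.S5181
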