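import Cfsg.Statements.S5182
import Cfsg.Agent.H765.Final2
import Cfsg.Agent.S5189

set_option autoImplicit false
universe u
open Cfsg

namespace Cfsg.Agent.S5182

/-- Let p ≥ 5 be a prime, S a finite p-group of sectional p-rank exactly 3, and F a saturated fusion system over S whose largest subgroup normal in F is trivial. Then F has an essential subgroup that is either elementary abelian of order p² or extraspecial of order p³ and exponent p. -/
theorem result {Ω : Type u} [Group Ω] {S : Subgroup Ω} [Finite S] (p : ℕ) [Fact p.Prime] (hp : 5 ≤ p) (hS : IsPGroup p S) (hsr : Cfsg.SectionalPRankLE p 3 ↥S ∧ ¬ Cfsg.SectionalPRankLE p 2 ↥S)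
    (F : Cfsg.FusionSystem S) (hF : F.IsSaturated p) (hO : F.core = ⊥) :
    ∃ E : Subgroup Ω, (F.IsEssential p E ∧ ((Cfsg.IsElementaryAbelian p E ∧ Nat.card E = p ^ 2) ∨
        (Cfsg.IsExtraspecial p ↥E ∧ Nat.card E = p ^ 3 ∧ ∀ x ∈ E, x ^ p = 1))) := by
  by_cases hex : ∃ E : Subgroup Ω, F.IsEssential p E ∧ ¬ S ≤ Subgroup.normalizer (E : Set Ω)
  · obtain ⟨E, hE, hn⟩ := hex
    exact ⟨E, hE, H765.pearl_of_not_normal hp hS hsr.1 hF hE hn⟩
  · push Not at hex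
    have hpp : p.Prime := Fact.out
    have hp2 : p ≠ 2 := by omega
    have hodd : Odd p := hpp.odd_of_ne_two hp2
    obtain ⟨E₁, E₂, hne, h₁, h₂, c₁, c₂⟩ := H765.exists_two hp2 hS hF hO hsr.1 hsr.2 hex
    rcases (Cfsg.Agent.S5189.result p hodd hS hsr F hF hO E₁ E₂ hne h₁ h₂ c₁ c₂).2 with
      ⟨he, hc, hx, -⟩ | ⟨he, hc, hx, -⟩
    · exact ⟨E₁, h₁, Or.inr ⟨he, hc, hx⟩⟩
    · exact ⟨E₂, h₂, Or.inr ⟨he, hc, hx⟩⟩

end Cfsg.Agent.S5182
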