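import Cfsg.Statements.S5195
import Cfsg.Agent.S5194
import Cfsg.Agent.H768.FactorInner
import Cfsg.Agent.H775.SFree
import Cfsg.Agent.H801.Reduct

set_option autoImplicit false
universe u
open Cfsg

namespace Cfsg.Agent.S5195

open Cfsg.FusionSystem Cfsg.Agent.H752 Cfsg.Agent.H759 Cfsg.Agent.H768 Cfsg.Agent.H775.SFree

theorem characteristic_comap {T : Type*} [Group T] (N : Subgroup T) [N.Normal]
    (hN : N.Characteristic) {Q : Subgroup (T ⧸ N)} (hQ : Q.Characteristic) :
    (Q.comap (QuotientGroup.mk' N)).Characteristic := by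
  rw [Subgroup.characteristic_iff_comap_le]
  intro φ x hx
  have hφN : N.map φ.toMonoidHom = N := Subgroup.characteristic_iff_map_eq.1 hN φ
  have h1 : Q.comap (QuotientGroup.congr N N φ hφN).toMonoidHom = Q :=
    Subgroup.characteristic_iff_comap_eq.1 hQ _
  change (QuotientGroup.mk' N) (φ x) ∈ Q at hx
  show QuotientGroup.mk' N x ∈ Q
  rw [← h1]
  exact hx

theorem characteristic_of_subgroupOf_top {T : Type*} [Group T] {Q : Subgroup T}
    (h : (Q.subgroupOf (⊤ : Subgroup T)).Characteristic) : Q.Characteristic := by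
  rw [Subgroup.characteristic_iff_comap_le]
  intro φ x hx
  let ψ : (⊤ : Subgroup T) ≃* (⊤ : Subgroup T) :=
    (Subgroup.topEquiv.trans φ).trans Subgroup.topEquiv.symm
  have h1 := (Subgroup.characteristic_iff_comap_eq.1 h ψ).le
  exact h1 (x := ⟨x, trivial⟩) hx

/-- The inductive hypothesis. -/
def IH (p : ℕ) (n : ℕ) : Prop :=
  ∀ (Ω : Type u) [Group Ω] (S : Subgroup Ω) [Finite S], Nat.card S = n → IsPGroup p S →
    ∀ F : FusionSystem S, F.IsSaturated p → Good p F →
    (∀ Q : Subgroup Ω, Q ≤ S → Q ≠ ⊥ → (Q.subgroupOf S).Characteristic →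
      IsPGroup p (F.autGroup Q)) →
    ∀ P : Subgroup Ω, F.Hom P = (innerFusionSystem S).Hom P

theorem step {p : ℕ} [Fact p.Prime] {Ω : Type u} [Group Ω] {T : Subgroup Ω} [Finite T]
    (hT : IsPGroup p T) {E : FusionSystem T} (hE : E.IsSaturated p) (hp : Good p E)
    {W : Subgroup Ω} (hW : E.IsNormal W) (hW1 : W ≠ ⊥) (hWc : (W.subgroupOf T).Characteristic)
    (h : ∀ Q : Subgroup Ω, Q ≤ T → Q ≠ ⊥ → (Q.subgroupOf T).Characteristic →
      IsPGroup p (E.autGroup Q))
    (ih : ∀ m < Nat.card T, IH.{u} p m) (P : Subgroup Ω) :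
    E.Hom P = (innerFusionSystem T).Hom P := by
  have hstr : E.StronglyClosed W := IsNormal.stronglyClosed hW
  have hWT : W ≤ T := hW.1
  set N : Subgroup T := W.subgroupOf T with hNdef
  haveI hNn : N.Normal := inferInstance
  have hker : ∀ s : T, QuotientGroup.mk' N s = 1 ↔ (s : Ω) ∈ W := by
    intro s
    rw [QuotientGroup.mk'_apply, QuotientGroup.eq_one_iff, hNdef, Subgroup.mem_subgroupOf]
  have hr : (QuotientGroup.mk' N).range = (⊤ : Subgroup (T ⧸ N)) :=
    MonoidHom.range_eq_top.2 (QuotientGroup.mk'_surjective N)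
  obtain ⟨E', hE'⟩ := exists_factorSystem hstr hker hr
  have hcard : Nat.card (⊤ : Subgroup (T ⧸ N)) < Nat.card T := by
    have h1 : Nat.card (⊤ : Subgroup (T ⧸ N)) = Nat.card (T ⧸ N) := Subgroup.card_top
    have h2 := Subgroup.card_eq_card_quotient_mul_card_subgroup N
    have h3 : 1 < Nat.card N := by
      rw [Subgroup.one_lt_card_iff_ne_bot]
      intro hb
      apply hW1
      rw [eq_bot_iff]
      intro w hw
      have h4 : (⟨w, hWT hw⟩ : T) ∈ N := by
        rw [hNdef, Subgroup.mem_subgroupOf]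
        exact hw
      rw [hb, Subgroup.mem_bot] at h4
      exact congrArg Subtype.val h4
    have h5 : 0 < Nat.card (T ⧸ N) := Nat.card_pos
    rw [h1, h2]
    exact lt_mul_of_one_lt_right h5 h3
  have hqp : IsPGroup p (⊤ : Subgroup (T ⧸ N)) := (hT.to_quotient N).to_subgroup ⊤
  have hsat' := isSaturated_factor hT hE hstr hE'
  have hgood' : Good p E' := good_factor hT hE hp hstr hE'
  refine inner_of_factor hT hE hW hE' (fun P' => ?_) (h W hWT hW1 hWc) P
  refine (ih _ hcard (T ⧸ N) ⊤ rfl hqp E' hsat' hgood' ?_ P').subset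
  intro Q' hQ' hQ1 hQc
  refine isPGroup_autGroup_factor hE' hQ' (h _ preimageAlong_le ?_ ?_)
  · intro hb
    apply hQ1
    rw [eq_bot_iff]
    intro y hy
    obtain ⟨x, hxT, hx, hxy⟩ := exists_preimage_of_mem hE' hQ' hy
    rw [hb, Subgroup.mem_bot] at hx
    rw [Subgroup.mem_bot, ← hxy]
    have : (⟨x, hxT⟩ : T) = 1 := Subtype.ext hx
    rw [this, map_one]
  · have h1 := characteristic_comap N hWc (characteristic_of_subgroupOf_top hQc)
    have h2 : (preimageAlong (QuotientGroup.mk' N) Q').subgroupOf T =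
        Q'.comap (QuotientGroup.mk' N) := by
      ext x
      rw [Subgroup.mem_subgroupOf, mem_preimageAlong, Subgroup.mem_comap]
      exact ⟨fun ⟨_, h⟩ => h, fun h => ⟨x.2, h⟩⟩
    rw [h2]
    exact h1

theorem characteristic_Z {Ω : Type*} [Group Ω] (S : Subgroup Ω) :
    ((S ⊓ Subgroup.centralizer (S : Set Ω)).subgroupOf S).Characteristic := by
  have : (S ⊓ Subgroup.centralizer (S : Set Ω)).subgroupOf S = Subgroup.center S := by
    ext x
    rw [Subgroup.mem_subgroupOf, Subgroup.mem_center_iff]
    constructor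
    · intro hx g
      exact Subtype.ext (Subgroup.mem_centralizer_iff.1 hx.2 g g.2)
    · intro hx
      refine ⟨x.2, Subgroup.mem_centralizer_iff.2 fun g hg => ?_⟩
      exact congrArg Subtype.val (hx ⟨g, hg⟩)
  rw [this]
  infer_instance

theorem characteristic_J {Ω : Type*} [Group Ω] (S : Subgroup Ω) :
    ((thompsonSubgroupAOf S).subgroupOf S).Characteristic := by
  have h0 : (thompsonSubgroupAOf S).subgroupOf S = thompsonSubgroupAOf (⊤ : Subgroup S) := by
    have h1 := Cfsg.Agent.H793.thompson_subtype S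
    rw [h1, Subgroup.subgroupOf, Subgroup.comap_map_eq_self_of_injective S.subtype_injective]
  rw [h0, Subgroup.characteristic_iff_map_eq]
  intro φ
  rw [PLocal.ThompsonJA.map_thompsonSubgroupAOf _ φ.injective]
  congr 1
  exact Subgroup.map_top_of_surjective _ φ.surjective

theorem main {p : ℕ} [Fact p.Prime] (n : ℕ) : IH.{u} p n := by
  induction n using Nat.strong_induction_on with
  | _ n ih =>
  intro Ω _ S _ hn hS F hF hp h
  by_cases hS1 : S = ⊥
  · intro P
    apply Set.Subset.antisymm
    · intro φ hφ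
      obtain ⟨hPS, hφS⟩ := F.le_of_mem hφ
      refine ⟨hPS, 1, one_mem _, fun x => ?_⟩
      have h1 := hφS x
      have h2 := hPS x.2
      rw [hS1, Subgroup.mem_bot] at h1 h2
      rw [h1, h2]
      group
    · rintro φ ⟨hP, g, hg, hφg⟩
      have : φ = conjHom P g := by
        ext x
        rw [hφg]
        rfl
      rw [this]
      exact F.conj_mem hP hg
  -- normalizer systems of characteristic subgroups are inner
  have hNI : ∀ W : Subgroup Ω, W ≤ S → W ≠ ⊥ → (W.subgroupOf S).Characteristic →
      ∀ E : FusionSystem (normalizerIn S W), F.IsNormalizerSystem W E →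
      ∀ P, E.Hom P ⊆ (innerFusionSystem S).Hom P := by
    intro W hWS hW1 hWc E hE P φ hφ
    have hWn : (W.subgroupOf S).Normal := inferInstance
    have hSW : normalizerIn S W = S :=
      inf_eq_left.2 ((Subgroup.normal_subgroupOf_iff_le_normalizer hWS).1 hWn)
    have hfn : F.IsFullyNormalized W := by
      refine ⟨hWS, fun Q hQ => ?_⟩
      rw [hSW]
      exact Subgroup.card_le_of_le inf_le_left
    have hfinT : Finite (normalizerIn S W) := H802.finite_of_le inf_le_left
    have hTp : IsPGroup p (normalizerIn S W) := hS.to_le inf_le_left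
    have hEsat := H802.normalizerSystem_isSaturated hS hF hfn hE
    have hsub : E.IsSubsystemOf F := H801.normalizerSystem_isSubsystemOf hE
    have hcardT : Nat.card (normalizerIn S W) = n := by rw [hSW, hn]
    have hchar : ∀ Q : Subgroup Ω, (Q.subgroupOf (normalizerIn S W)).Characteristic →
        (Q.subgroupOf S).Characteristic := by
      intro Q hQ
      rw [hSW] at hQ
      exact hQ
    have hchar' : (W.subgroupOf (normalizerIn S W)).Characteristic := by
      rw [hSW]
      exact hWc
    have key := step hTp hEsat (good_mono hS hF hp hEsat hsub)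
      (H753.isNormal_normalizerSystem hWS hE) hW1 hchar' (fun Q hQ hQ1 hQc => by
        have h1 := h Q (hQ.trans inf_le_left) hQ1 (hchar Q hQc)
        have hle : E.autGroup Q ≤ F.autGroup Q := by
          intro α hα
          have hfinQ : Finite Q := H802.finite_of_le (hQ.trans inf_le_left)
          exact (mp_mono hsub (mp_of_autGroup hQ hα (fun x hx => ex_apply
            (fun y : Q => ((α y : Q) : Ω)) hx))).mem_autGroup
            (fun x hx => ex_apply (fun y : Q => ((α y : Q) : Ω)) hx)
        exact h1.to_le hle) (fun m hm => ih m (by rwa [hcardT] at hm)) P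
    rw [key] at hφ
    obtain ⟨hP, g, hg, hφg⟩ := hφ
    rw [hSW] at hP hg
    exact ⟨hP, g, hg, hφg⟩
  have hZS : S ⊓ Subgroup.centralizer (S : Set Ω) ≤ S := inf_le_left
  have hZ1 : S ⊓ Subgroup.centralizer (S : Set Ω) ≠ ⊥ := by
    intro hb
    have hnt : Nontrivial S := (Subgroup.nontrivial_iff_ne_bot S).2 hS1
    have h1 := IsPGroup.center_nontrivial hS
    obtain ⟨z, hz⟩ := (Subgroup.nontrivial_iff_exists_ne_one _).1 h1
    apply hz.2
    have h2 : (z : Ω) ∈ S ⊓ Subgroup.centralizer (S : Set Ω) := by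
      refine ⟨z.2, Subgroup.mem_centralizer_iff.2 fun g hg => ?_⟩
      exact congrArg Subtype.val (Subgroup.mem_center_iff.1 hz.1 ⟨g, hg⟩)
    rw [hb, Subgroup.mem_bot] at h2
    exact Subtype.ext h2
  have hZJ : S ⊓ Subgroup.centralizer (S : Set Ω) ≤ thompsonSubgroupAOf S :=
    fun x hx => Cfsg.Agent.H793.mem_thompson_of_center hx
  have hJS : thompsonSubgroupAOf S ≤ S := PLocal.ThompsonJA.thompsonSubgroupAOf_le S
  refine S5194.inner_of_center hS F hF hp ?_ ?_
  · intro C hC P φ hφ
    obtain ⟨N, hN⟩ := H802.exists_normalizerSystem F hZS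
    refine hNI _ hZS hZ1 (characteristic_Z S) N hN P ?_
    rw [hN]
    rw [hC] at hφ
    obtain ⟨h1, h2, h3, ψ, hψ, h4, h5⟩ := hφ
    have hle : centralizerIn S (S ⊓ Subgroup.centralizer (S : Set Ω)) ≤
        normalizerIn S (S ⊓ Subgroup.centralizer (S : Set Ω)) :=
      inf_le_inf_left _ (Subgroup.centralizer_le_normalizer _)
    refine ⟨h1, h2.trans hle, fun x => hle (h3 x), ψ, hψ, h4, ?_⟩
    ext y
    constructor
    · rintro ⟨x, hx, rfl⟩
      have := h5 ⟨x, hx⟩
      have hx2 : ψ x = (x : Ω) := this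
      rw [hx2]
      exact hx
    · intro hy
      exact ⟨Subgroup.inclusion le_sup_right ⟨y, hy⟩, hy, h5 ⟨y, hy⟩⟩
  · intro N hN
    refine hNI _ hJS ?_ (characteristic_J S) N hN _
    intro hb
    apply hZ1
    rw [eq_bot_iff, ← hb]
    exact hZJ

/-- A strengthened Frobenius normal p-complement criterion for fusion systems. Let F be a saturated fusion system over a finite p-group S such that p is odd or F is S₄-free (the symmetric group of degree 4 is not involved in any model of the normalizer system of a fully normalized F-centric subgroup). If Aut_F(Q) is a p-group for every nontrivial characteristic subgroup Q of S, then F is the inner fusion system of S. -/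
theorem result {Ω : Type*} [Group Ω] {S : Subgroup Ω} [Finite S] (p : ℕ) [Fact p.Prime] (hS : IsPGroup p S) (F : Cfsg.FusionSystem S) (hF : F.IsSaturated p) (hp : p ≠ 2 ∨ F.IsSectionFree p (Equiv.Perm (Fin 4))) (h : ∀ Q : Subgroup Ω, Q ≤ S → Q ≠ ⊥ → (Q.subgroupOf S).Characteristic → IsPGroup p (F.autGroup Q)) : ∀ P : Subgroup Ω, F.Hom P = (Cfsg.innerFusionSystem S).Hom P :=
  main _ Ω S rfl hS F hF hp h

end Cfsg.Agent.S5195
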