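import Cfsg.Statements.S5208
import Cfsg.Agent.H778.SevenMain
import Cfsg.Agent.S4352

set_option autoImplicit false
universe u
open Cfsg

namespace Cfsg.Agent.S5208

/-- Over every finite 7-group that is extraspecial of order 7³ and exponent 7 there is an exotic fusion system: a saturated fusion system that is not the fusion system of any finite group on a Sylow 7-subgroup. -/
theorem result {P : Type u} [Group P] [Finite P] (hE : Cfsg.IsExtraspecial 7 P) (hcard : Nat.card P = 7 ^ 3) (hexp : Monoid.exponent P = 7) : ∃ F : Cfsg.FusionSystem (⊤ : Subgroup P), F.IsExotic 7 := by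
  have hp7 : Fact (Nat.Prime 7) := ⟨by norm_num⟩
  obtain ⟨F, hsat, hF⟩ := H778.Seven.exists_system hE hcard hexp
  refine ⟨F, hsat, ?_⟩
  rintro ⟨G, hG, hfin, ι, hι, T, hT⟩
  have hnt : ∃ z : P, z ≠ 1 ∧ z ∈ Subgroup.center P := by
    have h1 : Nat.card (Subgroup.center P) = 7 := hE.2
    by_contra hcon
    push Not at hcon
    have h2 : Subgroup.center P = ⊥ := by
      rw [Subgroup.eq_bot_iff_forall]
      intro x hx
      by_contra hx1
      exact hcon x hx1 hx
    rw [h2] at h1
    simp at h1
  have hne : ¬ IsMulCommutative (T : Subgroup G) := by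
    intro hc
    have h1 : Nat.card (Subgroup.center P) = 7 := hE.2
    have h2 : Subgroup.center P = ⊤ := by
      rw [Subgroup.eq_top_iff']
      intro x
      rw [Subgroup.mem_center_iff]
      intro y
      have hx : ι ⟨x, Subgroup.mem_top x⟩ ∈ (T : Subgroup G) := by rw [hT]; exact ⟨_, rfl⟩
      have hy : ι ⟨y, Subgroup.mem_top y⟩ ∈ (T : Subgroup G) := by rw [hT]; exact ⟨_, rfl⟩
      have h3 := congrArg Subtype.val (hc.is_comm.comm (⟨_, hy⟩ : (T : Subgroup G)) ⟨_, hx⟩)
      have h4 : ι (⟨y, Subgroup.mem_top y⟩ * ⟨x, Subgroup.mem_top x⟩) =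
          ι (⟨x, Subgroup.mem_top x⟩ * ⟨y, Subgroup.mem_top y⟩) := by
        rw [map_mul, map_mul]; exact h3
      exact congrArg Subtype.val (hι.1 h4)
    rw [h2, Subgroup.card_top, hcard] at h1
    omega
  have h := S4352.result (G := G) 7 ⟨⟨T, hne⟩, fun x hx =>
    H778.Seven.pclass_of_realized hnt hF ι hι T hT x hx⟩
  omega

end Cfsg.Agent.S5208
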