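import Cfsg.Statements.S5209
import Cfsg.Agent.S0000
import Cfsg.Agent.H772.PearlMain
import Cfsg.Agent.H772.GTwoData
import Cfsg.Agent.H770.MonsterSeven

set_option autoImplicit false
universe u
open Cfsg

namespace Cfsg.Agent.S5209

/-- Let T be a Sylow 7-subgroup of the group G₂(7) (the automorphism group of the split octonion algebra over the field with 7 elements) and P a finite group isomorphic to T. Then there is a saturated fusion system over P with no nontrivial normal subgroup (O₇(F) = 1) that is exotic: it is not the fusion system of any finite group on a Sylow 7-subgroup. -/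
theorem result [Fact (Nat.Prime 7)] {P : Type u} [Group P] [Finite P] (T : Sylow 7 ↥(Cfsg.Lie.G2 (ZMod 7))) (e : P ≃* ↥(T : Subgroup ↥(Cfsg.Lie.G2 (ZMod 7)))) : ∃ F : Cfsg.FusionSystem (⊤ : Subgroup P), F.core = ⊥ ∧ F.IsExotic 7 := by
  obtain ⟨D⟩ := Cfsg.Agent.H772.GTwo.exists_data T e
  refine ⟨D.F, D.core_eq_bot, D.F_isSaturated, Cfsg.Agent.H772.Pearl.not_realizable D ?_ ?_⟩
  · intro L _ _ _
    exact Cfsg.Agent.S0000.result
  · intro L _ _ h
    exact Cfsg.Agent.H770.MonsterSeven.monster_seven h

end Cfsg.Agent.S5209
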