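import Cfsg.Statements.S5229
import Cfsg.Agent.H777.Th3.Exotic
import Cfsg.Agent.H777.ElimTh

set_option autoImplicit false
universe u
open Cfsg

namespace Cfsg.Agent.S5229

open Cfsg.FusionSystem Cfsg.Agent.H759 Cfsg.Agent.H777.Th3 Cfsg.Agent.H777.Real

/-- Let P be a finite group isomorphic to a Sylow 3-subgroup of the Thompson sporadic group. Then there is a saturated fusion system over P with no nontrivial normal subgroup (O₃(F) = 1) that is exotic: not the fusion system of any finite group on a Sylow 3-subgroup. -/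
theorem result [Fact (Nat.Prime 3)] {P : Type u} [Group P] [Finite P] (T : Sylow 3 Cfsg.Spor.Th) (e : P ≃* ↥(T : Subgroup Cfsg.Spor.Th)) : ∃ F : Cfsg.FusionSystem (⊤ : Subgroup P), F.core = ⊥ ∧ F.IsExotic 3 := by
  -- an embedding with image the standard Sylow subgroup
  obtain ⟨g, hg⟩ := MulAction.exists_smul_eq Cfsg.Spor.Th T T0
  let f : P →* Cfsg.Spor.Th := (MulAut.conj g).toMonoidHom.comp ((T : Subgroup Cfsg.Spor.Th).subtype.comp e.toMonoidHom)
  have hf : Function.Injective f :=
    (MulAut.conj g).injective.comp ((Subgroup.subtype_injective _).comp e.injective)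
  have hfr : f.range = thDat.Sg := by
    rw [← T0_coe, ← hg, Sylow.coe_subgroup_smul]
    ext y
    constructor
    · rintro ⟨x, rfl⟩
      exact ⟨e x, (e x).2, rfl⟩
    · rintro ⟨t, ht, rfl⟩
      refine ⟨e.symm ⟨t, ht⟩, ?_⟩
      show g * ((e (e.symm ⟨t, ht⟩) : (T : Subgroup Cfsg.Spor.Th)) : Cfsg.Spor.Th) * g⁻¹ = g * t * g⁻¹
      rw [MulEquiv.apply_symm_apply]
  obtain ⟨X, hX⟩ := exists_pull' (hf := hf) (T₁ := (⊤ : Subgroup P))
    (show thDat.Sg = (⊤ : Subgroup P).map f by rw [← hfr, MonoidHom.range_eq_map]) ETh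
  refine ⟨X, ?_, ?_, ?_⟩
  · have h1 := hX.core_eq
    rw [core_ETh] at h1
    exact (Subgroup.map_eq_bot_iff_of_injective _ hf).1 h1.symm
  · exact hX.isSaturated_iff.1 ETh_sat
  · rintro ⟨G, _, _, ι, hreal, S, hS⟩
    have hι : Function.Injective (ι.comp (Subgroup.topEquiv (G := P)).symm.toMonoidHom) :=
      hreal.1.comp (Subgroup.topEquiv (G := P)).symm.injective
    refine not_realized hf hfr hX (ι.comp (Subgroup.topEquiv (G := P)).symm.toMonoidHom) hι S ?_ ?_
      (fun K _ _ _ hV h27 hB => Cfsg.Agent.H777.Elim.elim hV h27 hB)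
    · rw [hS]
      ext y
      constructor
      · rintro ⟨x, rfl⟩
        exact ⟨x, rfl⟩
      · rintro ⟨x, rfl⟩
        exact ⟨_, rfl⟩
    · intro Q φ
      exact hreal.2 Q le_top φ (fun x => Subgroup.mem_top _)

end Cfsg.Agent.S5229
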