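import Cfsg.Statements.S5230
import Cfsg.Agent.H777.M5.Fin30
import Cfsg.Agent.H961.M5.MXB

set_option autoImplicit false
universe u
open Cfsg

namespace Cfsg.Agent.S5230

/-- Let P be a finite group isomorphic to a Sylow 5-subgroup of the Monster sporadic group. Then there is a saturated fusion system over P with no nontrivial normal subgroup (O₅(F) = 1) that is exotic: not the fusion system of any finite group on a Sylow 5-subgroup. -/
theorem result [Fact (Nat.Prime 5)] {P : Type u} [Group P] [Finite P] (T : Sylow 5 Cfsg.Spor.Monster) (e : P ≃* ↥(T : Subgroup Cfsg.Spor.Monster)) : ∃ F : Cfsg.FusionSystem (⊤ : Subgroup P), F.core = ⊥ ∧ F.IsExotic 5 := by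
  obtain ⟨M⟩ := Cfsg.Agent.H961.M5.MXB.exists_MX
  exact Cfsg.Agent.H777.M5.s5230_of_MX M T e

end Cfsg.Agent.S5230
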