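import Cfsg.Statements.S5302
import Cfsg.Agent.S5116
import Cfsg.Agent.S1937
import Cfsg.Agent.H792.MinClosed

set_option autoImplicit false
open Cfsg

namespace Cfsg.Agent.S5302

/-- Let p be an odd prime, G a finite group and A a nontrivial p-subgroup of G that is strongly closed (in a Sylow p-subgroup containing it, with respect to G), is not a Sylow p-subgroup of its normal closure in G, and is minimal: no nontrivial proper subgroup of A is strongly closed. Then A is elementary abelian. (This rests on the classification of the finite simple groups.) -/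
theorem result {G : Type*} [Group G] [Finite G] (p : ℕ) [Fact p.Prime] (hp : p ≠ 2) (A : Subgroup G) (hA : IsPGroup p A) (hne : A ≠ ⊥)
    (hsc : ∃ S : Sylow p G, Cfsg.IsStronglyClosed A (S : Subgroup G))
    (hmin : ∀ B : Subgroup G, B ≤ A → B ≠ ⊥ → (∃ S : Sylow p G, Cfsg.IsStronglyClosed B (S : Subgroup G)) → B = A)
    (hns : p ∣ A.relIndex (Subgroup.normalClosure (A : Set G))) : Cfsg.IsElementaryAbelian p A := by
  refine H792.MinClosed.elementary_of_minimal ?_ (H792.MinClosed.rowHyp_of ?_) A hne hsc hmin hns
  · intro K _ _ hK P α hα hfix
    exact S1937.result hp hK P α hα hfix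
  · intro L _ _ _ hL S T hT hTS hTc
    rcases S5116.result hL p S T hT hTS hTc with h | h
    · exact Or.inl h
    · exact Or.inr h.2.2.1

end Cfsg.Agent.S5302
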