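import Cfsg.Statements.S5231
import Cfsg.Agent.H775.Th.Main
import Cfsg.Agent.S5302
import Cfsg.Agent.H953.SevenFinal

set_option autoImplicit false
universe u
open Cfsg

namespace Cfsg.Agent.S5231

/-- Let P be a finite group isomorphic to a Sylow 3-subgroup of the Thompson sporadic group and C = C_P(Z₂(P)) the centralizer of the second centre of P. Then there is an exotic saturated fusion system over C in which C is not normal. -/
theorem result [Fact (Nat.Prime 3)] {P : Type u} [Group P] [Finite P] (T : Sylow 3 Cfsg.Spor.Th) (e : P ≃* ↥(T : Subgroup Cfsg.Spor.Th)) : ∃ F : Cfsg.FusionSystem (Subgroup.centralizer ((upperCentralSeries P 2 : Subgroup P) : Set P)), F.IsExotic 3 ∧ ¬ F.IsNormal (Subgroup.centralizer ((upperCentralSeries P 2 : Subgroup P) : Set P)) :=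
  Cfsg.Agent.H775.Th.main T e
    (fun _ _ _ A hA hne hsc hmin hns =>
      Cfsg.Agent.S5302.result 3 (by norm_num) A hA hne hsc hmin hns)
    (fun _ _ _ _ hK hV => Cfsg.Agent.H953.SevenFinal.elim7 hK hV)

end Cfsg.Agent.S5231
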