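import Cfsg.Statements.S5232
import Cfsg.Agent.H777.M5.Real
import Cfsg.Agent.H777.M5.Elim
import Cfsg.Agent.H771.M5.ForCG

set_option autoImplicit false
universe u
open Cfsg

namespace Cfsg.Agent.S5232

/-- Let P be a finite group isomorphic to a Sylow 5-subgroup of the Monster sporadic group and C = C_P(Z₂(P)) the centralizer of the second centre of P. Then there is an exotic saturated fusion system over C in which C is not normal. -/
theorem result [Fact (Nat.Prime 5)] {P : Type u} [Group P] [Finite P] (T : Sylow 5 Cfsg.Spor.Monster) (e : P ≃* ↥(T : Subgroup Cfsg.Spor.Monster)) : ∃ F : Cfsg.FusionSystem (Subgroup.centralizer ((upperCentralSeries P 2 : Subgroup P) : Set P)), F.IsExotic 5 ∧ ¬ F.IsNormal (Subgroup.centralizer ((upperCentralSeries P 2 : Subgroup P) : Set P)) := by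
  obtain ⟨e1⟩ := Cfsg.Agent.H777.M5.exists_equiv_PG T
  obtain ⟨e2⟩ := Cfsg.Agent.H777.M5.exists_equiv_cent (e1.trans e.symm)
  exact Cfsg.Agent.H771.M5.exists_exotic_CG _ e2 (fun K _ _ _ hV => Cfsg.Agent.H777.Elim5.big5_of_vn8 hV)

end Cfsg.Agent.S5232
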