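import Cfsg.Statements.S5242
import Cfsg.Agent.H269.Lim.FactorReal
import Cfsg.Agent.H544.Lim.Ext
import Cfsg.Agent.H877.Lim.Factor
import Cfsg.Agent.H70.Lim.BridgeT
import Cfsg.Agent.H539.Lim.MainE

set_option autoImplicit false
open Cfsg

namespace Cfsg.Agent.S5242

/-- Let F be a saturated fusion system over a finite p-group S and A a subgroup of S central in F (every map of F extends to a map fixing A elementwise). Then, for every factor system E of F by A, F is exotic (saturated, but not the fusion system of a finite group on one of its Sylow p-subgroups) if and only if E is exotic. -/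
theorem result {Ω : Type*} [Group Ω] {S : Subgroup Ω} [Finite S] (p : ℕ) [Fact p.Prime] (hS : IsPGroup p S) (F : Cfsg.FusionSystem S) (hF : F.IsSaturated p) (A : Subgroup Ω) (hA : F.IsCentral A) {Ω' : Type*} [Group Ω'] {S' : Subgroup Ω'} [Finite S'] (θ : ↥S →* Ω') (E : Cfsg.FusionSystem S') (hE : F.IsFactorSystem A θ E) : F.IsExotic p ↔ E.IsExotic p := by
  constructor
  · rintro ⟨-, h⟩
    exact ⟨Cfsg.Agent.H877.Lim.factor_saturated p hS F hF A hA θ E hE, fun hr => h
      (Cfsg.Agent.H269.Lim.realizable_of_factor_aux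
        (fun T _ _ _ hS θ hθ hker hst => Cfsg.Agent.H544.Lim.exists_ext T hS θ hθ hker hst)
        (fun hS F hF A hA _ _ _ ι hι T hT hAL h1 h2 =>
          Cfsg.Agent.H70.Lim.bridge_aux hS F hF A hA ι hι T hT hAL h1 h2
            (fun hΩ A hA hAp hAst e he hmul heA heq hcoc =>
              Cfsg.Agent.H539.Lim.ME.thmE hΩ A hA hAp hAst e he hmul heA heq hcoc))
        p hS F hF A hA θ E hE hr)⟩
  · rintro ⟨-, h⟩
    exact ⟨hF, fun hr => h (Cfsg.Agent.H877.Lim.factor_realizable p hS F hF A hA θ E hE hr)⟩

end Cfsg.Agent.S5242
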