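import Cfsg.Statements.S5246
import Cfsg.Agent.H781.PStab

set_option autoImplicit false
open Cfsg

namespace Cfsg.Agent.S5246

/-- Let p be an odd prime, G a finite group and P a Sylow p-subgroup. Call a fusion system F p-stable when, for every fully normalized subgroup Q and every χ ∈ Aut_F(Q) acting quadratically on Q (that is, χ fixes a⁻¹χ(a) for every a ∈ Q; equivalently χ(a⁻¹)·a·χ(a⁻¹)·χ(χ(a)) = 1), χ lies in O_p(Aut_F(Q)). Then G is p-stable in the normalizer form (for every p-subgroup Q and x ∈ N_G(Q) with [Q, x, x] = 1, the image of x lies in O_p(N_G(Q)/C_G(Q))) if and only if the fusion system of G on P is p-stable. -/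
theorem result {Ω : Type*} [Group Ω] [Finite Ω] {p : ℕ} [Fact p.Prime] (hp : p ≠ 2) (P : Sylow p Ω) : Cfsg.IsNormalizerPStable p Ω ↔ (∀ Q : Subgroup Ω, (Cfsg.groupFusionSystem (P : Subgroup Ω)).IsFullyNormalized Q → ∀ χ : MulAut ↥Q, χ ∈ (Cfsg.groupFusionSystem (P : Subgroup Ω)).autGroup Q → (∀ a : ↥Q, (χ a⁻¹) * a * (χ a⁻¹) * (χ (χ a)) = 1) → χ ∈ ((Cfsg.pCore p ↥((Cfsg.groupFusionSystem (P : Subgroup Ω)).autGroup Q)).map ((Cfsg.groupFusionSystem (P : Subgroup Ω)).autGroup Q).subtype : Subgroup (MulAut ↥Q))) := by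
  classical
  have hGF := H802.groupFusionSystem_isSaturated P
  constructor
  · intro hst Q hQ χ hχ hquad
    have hQP : Q ≤ (P : Subgroup Ω) := hQ.1
    have hχ' := hχ
    rw [H781.gfs_autGroup hQP, H802.mem_autInducedBy_iff] at hχ'
    obtain ⟨g, -, hg⟩ := hχ'
    have hgn : g ∈ Subgroup.normalizer (Q : Set Ω) := H802.mem_normalizer_of_aut hg
    have hQQ : ∀ x : Ω, x ∈ Q ↔ (1 : Ω) * x * (1 : Ω)⁻¹ ∈ Q := fun x => by simp
    have hχρ : H781.rho hQQ ⟨g, hgn⟩ = χ := by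
      apply MulEquiv.ext
      intro y
      apply Subtype.ext
      rw [H781.coe_rho, hg]
      simp
    have h1 := (H781.mk_mem_pCore_iff (p := p) hQQ hQP ⟨g, hgn⟩).1
      (hst Q (P.isPGroup'.to_le hQP) g hgn ?_)
    · rwa [hχρ] at h1
    · rw [H781.quad_iff hgn]
      intro a ha
      have h2 := (H781.quad_aut_iff ⟨a, ha⟩).1 (hquad ⟨a, ha⟩)
      have h3 := congrArg Subtype.val h2
      rw [hg] at h3
      simpa [hg] using h3
  · intro hst Q hQp g hgn hquad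
    obtain ⟨h0, hh0, -⟩ : ∃ h : Ω, (∀ q ∈ Q, h * q * h⁻¹ ∈ (P : Subgroup Ω)) ∧ True := by
      have := (H802.sylIn_top_of_sylow P).exists_conj (B := Q) le_top hQp
      obtain ⟨k, -, hk⟩ := this
      exact ⟨k, hk, trivial⟩
    set Q₀ : Subgroup Ω := Q.map (MulAut.conj h0).toMonoidHom with hQ₀
    have hQ₀P : Q₀ ≤ (P : Subgroup Ω) := by
      rintro _ ⟨q, hq, rfl⟩
      exact hh0 q hq
    obtain ⟨Q', hconj, hQ'⟩ := H802.exists_isFullyNormalized P.isPGroup' hGF hQ₀P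
    obtain ⟨φ, hφ, hr⟩ := hconj
    obtain ⟨k, hk⟩ := hφ.2.2
    have hQQ' : ∀ x : Ω, x ∈ Q ↔ (k * h0) * x * (k * h0)⁻¹ ∈ Q' := by
      intro x
      have e1 : (k * h0) * x * (k * h0)⁻¹ = k * (h0 * x * h0⁻¹) * k⁻¹ := by group
      rw [e1, ← hr]
      constructor
      · intro hx
        refine ⟨⟨h0 * x * h0⁻¹, ⟨x, hx, rfl⟩⟩, ?_⟩
        rw [hk]
      · rintro ⟨⟨y, q, hq, hqy⟩, hy⟩
        rw [hk] at hy
        have hy' : y = h0 * x * h0⁻¹ := mul_left_cancel (mul_right_cancel hy)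
        have hqy' : h0 * q * h0⁻¹ = y := hqy
        rw [hy'] at hqy'
        have : q = x := mul_left_cancel (mul_right_cancel hqy')
        rwa [← this]
    have hQ'P : Q' ≤ (P : Subgroup Ω) := hQ'.1
    rw [H781.mk_mem_pCore_iff (p := p) hQQ' hQ'P ⟨g, hgn⟩]
    refine hst Q' hQ' _ (H781.rho_mem hQQ' hQ'P _) ?_
    intro a
    rw [H781.quad_aut_iff]
    rw [H781.quad_iff hgn] at hquad
    have haQ : (k * h0)⁻¹ * a * (k * h0) ∈ Q := by
      rw [hQQ']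
      have : (k * h0) * ((k * h0)⁻¹ * a * (k * h0)) * (k * h0)⁻¹ = (a : Ω) := by group
      rw [this]
      exact a.2
    have h2 := hquad _ haQ
    apply Subtype.ext
    rw [H781.coe_rho]
    show (k * h0) * g * (k * h0)⁻¹ * ((a : Ω)⁻¹ * ((H781.rho hQQ' ⟨g, hgn⟩ a : Q') : Ω)) *
      ((k * h0) * g * (k * h0)⁻¹)⁻¹ = (a : Ω)⁻¹ * ((H781.rho hQQ' ⟨g, hgn⟩ a : Q') : Ω)
    rw [H781.coe_rho]
    show (k * h0) * g * (k * h0)⁻¹ * ((a : Ω)⁻¹ * ((k * h0) * g * (k * h0)⁻¹ * a *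
      ((k * h0) * g * (k * h0)⁻¹)⁻¹)) * ((k * h0) * g * (k * h0)⁻¹)⁻¹ = (a : Ω)⁻¹ *
      ((k * h0) * g * (k * h0)⁻¹ * a * ((k * h0) * g * (k * h0)⁻¹)⁻¹)
    generalize k * h0 = m at h2 ⊢
    have e1 : m * g * m⁻¹ * ((a : Ω)⁻¹ * (m * g * m⁻¹ * a * (m * g * m⁻¹)⁻¹)) * (m * g * m⁻¹)⁻¹ =
        m * (g * ((m⁻¹ * a * m)⁻¹ * (g * (m⁻¹ * a * m) * g⁻¹)) * g⁻¹) * m⁻¹ := by group
    rw [e1, h2]
    group

end Cfsg.Agent.S5246
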