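import Cfsg.Statements.S5260
import Cfsg.Agent.H780.SpFinal
import Cfsg.Agent.H780.SpOddMain
import Cfsg.Agent.H956.SpSylow
import Cfsg.Agent.H971.SpExt

set_option autoImplicit false
open Cfsg

namespace Cfsg.Agent.S5260

/-- Let p be a prime, K a finite field of characteristic p, and S a finite p-group isomorphic to a Sylow p-subgroup of the symplectic group Sp₄(K). Then every exotic fusion system F over S (saturated but not the fusion system of a finite group on a Sylow p-subgroup) has no nontrivial normal subgroup: O_p(F) = 1. -/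
theorem result {Ω : Type*} [Group Ω] {S : Subgroup Ω} [Finite S] (p : ℕ) [Fact p.Prime] (hS : IsPGroup p S) (F : Cfsg.FusionSystem S) (hF : F.IsSaturated p) {K : Type*} [Field K] [Fintype K] [CharP K p] (T : Sylow p ↥(Matrix.symplecticGroup (Fin 2) K)) (e : ↥S ≃* ↥(T : Subgroup ↥(Matrix.symplecticGroup (Fin 2) K))) (hex : F.IsExotic p) : F.core = ⊥ := by
  by_contra hcore
  obtain ⟨C₀⟩ := H956.SpSylow.nonempty_spCoord T
  let C : H780.SpC S K := (C₀.comap e).toSpC
  have main : ¬ ∃ Q : Subgroup _, F.IsNormal Q ∧ F.IsCentric Q := by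
    rintro ⟨Q, hQn, hQc⟩
    obtain ⟨L, hL, ι, hι, -, -⟩ := H771.exists_model hS hF hQn hQc
    exact hex.2 ⟨L, hL, hι.1, ι, hι.2.1, hι.2.2.1⟩
  rcases (Fact.out : p.Prime).eq_two_or_odd' with rfl | hodd
  · obtain ⟨C, Δ, hK, -, -, D⟩ := C.exists_twoData hS hF hcore main
    obtain ⟨E, _, _, ι, ρ, h⟩ := H971.SpExt.exists_extData hS hK D
    exact hex.2 (H780.isRealizable_of_extData hS hF hK D h)
  · have hp : p ≠ 2 := fun h => by rw [h] at hodd; exact absurd hodd (by decide)
    have h2 : (2 : K) ≠ 0 := by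
      intro h
      have h3 : ((2 : ℕ) : K) = 0 := by exact_mod_cast h
      rw [CharP.cast_eq_zero_iff K p] at h3
      exact hp ((Nat.prime_dvd_prime_iff_eq Fact.out Nat.prime_two).1 h3)
    exact main (C.odd_main h2 H780.sl2Prop (H780.symProp hp) hS hF hcore)

end Cfsg.Agent.S5260
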