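import Cfsg.Statements.S5265
import Cfsg.Agent.H785.CenterTwo
import Cfsg.Agent.J2Type.ExtCube

set_option autoImplicit false
open Cfsg

namespace Cfsg.Agent.S5265

open Cfsg.FusionSystem Cfsg.Agent.H785 Cfsg.Agent.H802

/-- Let p be a prime, S a nontrivial finite p-group whose centre has index at most p², and F a saturated fusion system over S with no nontrivial normal subgroup and with hyperfocal subgroup equal to S. Then S is extraspecial of order p³; for odd p it has exponent p, and for p = 2 it is dihedral of order 8. -/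
theorem result {Ω : Type*} [Group Ω] {S : Subgroup Ω} [Finite S] (p : ℕ) [Fact p.Prime] (hS : IsPGroup p ↥S) (F : Cfsg.FusionSystem S) (hF : F.IsSaturated p) (hS1 : S ≠ ⊥) (hcore : F.core = ⊥) (hhyp : F.hyperfocalSubgroup p = S) (hZ : (Subgroup.center ↥S).index ≤ p ^ 2) : Cfsg.IsExtraspecial p ↥S ∧ Nat.card S = p ^ 3 ∧ (p ≠ 2 → Monoid.exponent ↥S = p) ∧ (p = 2 → Nonempty (↥S ≃* DihedralGroup 4)) := by
  have hp : p.Prime := Fact.out
  -- `S` is not abelian
  have hnab : ¬ ∀ x y : S, x * y = y * x := by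
    intro hc
    apply hS1
    refine eq_bot_of_inv hS hF hcore le_rfl
      (fun x hx y hy => congrArg Subtype.val (hc ⟨x, hx⟩ ⟨y, hy⟩)) (fun α _ x _ => (α x).2) ?_
    intro Q hQ α hα x _
    exact hQ.1.1 (α x).2
  -- the index is `p²`
  have hidx : (Subgroup.center S).index = p ^ 2 := by
    obtain ⟨n, hn⟩ := IsPGroup.iff_card.1 hS
    have h1 : (Subgroup.center S).index ∣ p ^ n := by
      rw [← hn]
      exact Subgroup.index_dvd_card _
    obtain ⟨k, -, hk⟩ := (Nat.dvd_prime_pow hp).1 h1
    rw [hk] at hZ ⊢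
    have hk2 : k ≤ 2 := (Nat.pow_le_pow_iff_right hp.one_lt).1 hZ
    have hk0 : k ≠ 0 := by
      rintro rfl
      rw [pow_zero, Subgroup.index_eq_one] at hk
      apply hnab
      intro x y
      have hy : y ∈ Subgroup.center S := by rw [hk]; trivial
      exact Subgroup.mem_center_iff.1 hy x
    have hk1 : k ≠ 1 := by
      rintro rfl
      rw [pow_one] at hk
      have h2 : Nat.card (S ⧸ Subgroup.center S) = p := by
        rw [← Subgroup.index_eq_card, hk]
      have : IsCyclic (S ⧸ Subgroup.center S) := isCyclic_of_prime_card h2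
      exact hnab (MonoidHom.isMulCommutative_of_isCyclic_of_ker_le_center
        (QuotientGroup.mk' (Subgroup.center S)) (by rw [QuotientGroup.ker_mk'])).is_comm.comm
    have : k = 2 := by omega
    rw [this]
  have hcardS : Nat.card S = p ^ 2 * Nat.card (ZS S) := by
    rw [card_eq_index_mul, hidx]
  -- there is an essential subgroup
  obtain ⟨Q, hQ⟩ : ∃ Q, F.IsEssential p Q := by
    by_contra hcon
    push Not at hcon
    have h1 : ZS S = ⊥ := by
      refine eq_bot_of_inv hS hF hcore ZS_le ?_ (fun α _ x hx => apply_mem_ZS α hx) ?_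
      · intro x hx y hy
        exact (mem_ZS.1 hy).2 x (ZS_le hx)
      · intro Q hQ
        exact absurd hQ (hcon Q)
    have hnt : Nontrivial S := by
      rw [Subgroup.nontrivial_iff_ne_bot]
      exact hS1
    have h2 := hS.center_nontrivial
    obtain ⟨⟨z, hz⟩, hz1⟩ := exists_ne (1 : Subgroup.center S)
    have h3 : (z : Ω) ∈ ZS S := by
      rw [← map_center]
      exact ⟨z, hz, rfl⟩
    rw [h1, Subgroup.mem_bot] at h3
    exact hz1 (Subtype.ext (Subtype.ext h3))
  have hne : ∃ x y : S, x * y ≠ y * x := by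
    by_contra hcon
    push Not at hcon
    exact hnab hcon
  by_cases hp2 : p = 2
  · subst hp2
    obtain ⟨h8, hD⟩ := dihedral_of_two hS hF hcore hhyp hcardS hQ
    have hc3 : Nat.card S = 2 ^ 3 := by rw [h8]; norm_num
    exact ⟨J2Type.ExtCube.isExtraspecial_of_card_cube hc3 hne, hc3, fun h => absurd rfl h,
      fun _ => hD⟩
  · have hcZ := card_ZS_of_odd hS hF hcore hp2 hcardS hQ
    have hc3 : Nat.card S = p ^ 3 := by rw [hcardS, hcZ]; ring
    refine ⟨J2Type.ExtCube.isExtraspecial_of_card_cube hc3 hne, hc3, fun _ => ?_,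
      fun h => absurd h hp2⟩
    have h1 : Monoid.exponent S ∣ p := Monoid.exponent_dvd_of_forall_pow_eq_one
      (fun x => pow_eq_one_of_odd hS hF hcore hp2 hcardS hQ x)
    rcases (Nat.dvd_prime hp).1 h1 with h2 | h2
    · exfalso
      rw [Monoid.exp_eq_one_iff] at h2
      obtain ⟨x, y, hxy⟩ := hne
      exact hxy (Subsingleton.elim _ _)
    · exact h2

end Cfsg.Agent.S5265
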