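import Cfsg.Statements.S5273
import Cfsg.Agent.H787.Control

set_option autoImplicit false
open Cfsg

namespace Cfsg.Agent.S5273

/-- Small-exponent abelian subgroups control fusion. Let E and F be saturated fusion systems over the same finite p-group S with E contained in F. Suppose that E and F have the same maps between A and B for all subgroups A, B of S that are elementary abelian when p is odd, respectively abelian of exponent dividing 4 when p = 2. Then E = F (they have the same maps on every subgroup). -/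
theorem result {Ω : Type*} [Group Ω] {S : Subgroup Ω} [Finite S] (p : ℕ) [Fact p.Prime] (hS : IsPGroup p ↥S) (E F : Cfsg.FusionSystem S) (hE : E.IsSaturated p) (hF : F.IsSaturated p) (hEF : E.IsSubsystemOf F) (hodd : p ≠ 2 → ∀ A B : Subgroup Ω, A ≤ S → B ≤ S → Cfsg.IsElementaryAbelian p A → Cfsg.IsElementaryAbelian p B → E.homSet A B = F.homSet A B) (htwo : p = 2 → ∀ A B : Subgroup Ω, A ≤ S → B ≤ S → IsMulCommutative ↥A → IsMulCommutative ↥B → (∀ a ∈ A, a ^ 4 = 1) → (∀ b ∈ B, b ^ 4 = 1) → E.homSet A B = F.homSet A B) : ∀ P : Subgroup Ω, E.Hom P = F.Hom P := by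
  intro P
  refine Set.Subset.antisymm (hEF P) ?_
  have hpp : ∀ Q : Subgroup Ω, Q ≤ S → IsPGroup p Q := by
    intro Q hQ x
    obtain ⟨k, hk⟩ := hS ⟨x, hQ x.2⟩
    have hk' : (x : Ω) ^ p ^ k = 1 := congrArg Subtype.val hk
    exact ⟨k, Subtype.ext hk'⟩
  -- commutativity and exponents are transported by the maps of `F`
  have hcomm : ∀ (A B : Subgroup Ω), F.IsConj A B → IsMulCommutative ↥A → IsMulCommutative ↥B := by
    rintro A _ ⟨φ, hφ, rfl⟩ hA
    refine IsMulCommutative.of_comm ?_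
    rintro ⟨_, x, rfl⟩ ⟨_, y, rfl⟩
    apply Subtype.ext
    have h1 := (isMulCommutative_iff.mp hA) x y
    have h2 := congrArg φ h1
    rw [map_mul, map_mul] at h2
    exact h2
  have hexp : ∀ (n : ℕ) (A B : Subgroup Ω), F.IsConj A B → (∀ a ∈ A, a ^ n = 1) →
      ∀ b ∈ B, b ^ n = 1 := by
    rintro n A _ ⟨φ, hφ, rfl⟩ hA _ ⟨x, rfl⟩
    rw [← map_pow]
    have h1 : x ^ n = 1 := Subtype.ext (hA x x.2)
    rw [h1, map_one]
  by_cases hp : p = 2
  · refine Cfsg.Agent.H787.hom_le_of_small hS hF hE hEF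
      (fun A => IsMulCommutative ↥A ∧ ∀ a ∈ A, a ^ 4 = 1)
      (fun A B hAB hA => ⟨hcomm A B hAB hA.1, hexp 4 A B hAB hA.2⟩) ?_ ?_ P
    · intro B φ hB hφ
      have hr := Cfsg.Agent.H802.isConj_range hφ
      have h1 : φ ∈ F.homSet B φ.range := ⟨hφ, fun x => ⟨x, rfl⟩⟩
      rw [← htwo hp B φ.range (Cfsg.Agent.H802.hom_le hφ) (Cfsg.Agent.H802.range_le_of_mem hφ) hB.1
        (hcomm _ _ hr hB.1) hB.2 (hexp 4 _ _ hr hB.2)] at h1
      exact h1.1
    · intro Q hQ
      have hfin : Finite Q := Cfsg.Agent.H802.finite_of_le hQ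
      have hQp : IsPGroup 2 Q := hp ▸ hpp Q hQ
      obtain ⟨D, hD, hD4, hcl, hdet⟩ := Cfsg.Agent.H787.exists_omega_critical_two hQp
      obtain ⟨A, hAQ, hAD, hAc, hAn, hAdet⟩ := Cfsg.Agent.H787.exists_small hS hQ D hD hcl
        (fun a ha => hdet a (hp ▸ ha))
      refine ⟨A, hAQ, ⟨hAc, fun a ha => ?_⟩, hAn, hAdet⟩
      exact congrArg Subtype.val (hD4 _ (hAD ⟨a, hAQ ha⟩ ha))
  · refine Cfsg.Agent.H787.hom_le_of_small hS hF hE hEF
      (fun A => Cfsg.IsElementaryAbelian p A)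
      (fun A B hAB hA => ⟨hcomm A B hAB hA.1, hexp p A B hAB hA.2⟩) ?_ ?_ P
    · intro B φ hB hφ
      have hr := Cfsg.Agent.H802.isConj_range hφ
      have h1 : φ ∈ F.homSet B φ.range := ⟨hφ, fun x => ⟨x, rfl⟩⟩
      rw [← hodd hp B φ.range (Cfsg.Agent.H802.hom_le hφ) (Cfsg.Agent.H802.range_le_of_mem hφ) hB
        ⟨hcomm _ _ hr hB.1, hexp p _ _ hr hB.2⟩] at h1
      exact h1.1
    · intro Q hQ
      have hfin : Finite Q := Cfsg.Agent.H802.finite_of_le hQ
      obtain ⟨D, hD, hDp, hcl, hdet⟩ :=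
        Cfsg.Agent.OddOrderLocal.OmegaCritical.exists_omega_critical hp (hpp Q hQ)
      obtain ⟨A, hAQ, hAD, hAc, hAn, hAdet⟩ := Cfsg.Agent.H787.exists_small hS hQ D hD hcl hdet
      refine ⟨A, hAQ, ⟨hAc, fun a ha => ?_⟩, hAn, hAdet⟩
      exact congrArg Subtype.val (hDp _ (hAD ⟨a, hAQ ha⟩ ha))

end Cfsg.Agent.S5273
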