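import Cfsg.Statements.S5285
import Cfsg.Agent.S0000
import Cfsg.Agent.H216.SupAsm

set_option autoImplicit false
open Cfsg

namespace Cfsg.Agent.S5285

/-- Let S be a Sylow p-subgroup of a finite simple group G and suppose every saturated fusion system over S is supersoluble (S has a chain of F-strongly closed subgroups from 1 to S with cyclic steps). Then S is cyclic. -/
theorem result {Ω : Type*} [Group Ω] [Finite Ω] [IsSimpleGroup Ω] (p : ℕ) [Fact p.Prime] (T : Sylow p Ω) (h : ∀ F : Cfsg.FusionSystem (T : Subgroup Ω), F.IsSaturated p → (∃ (m : ℕ) (c : Fin (m + 1) → Subgroup Ω), c 0 = ⊥ ∧ c (Fin.last m) = (T : Subgroup Ω) ∧ (∀ i : Fin (m + 1), F.StronglyClosed (c i)) ∧ ∀ i : Fin m, c i.castSucc ≤ c i.succ ∧ ∃ x ∈ (T : Subgroup Ω), c i.succ = c i.castSucc ⊔ Subgroup.zpowers x)) : IsCyclic ↥(T : Subgroup Ω) := by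
  exact H216.SupAsm.main Cfsg.Agent.S0000.result T h

end Cfsg.Agent.S5285
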