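import Cfsg.Statements.S5305
import Cfsg.Agent.S0000
import Cfsg.Agent.S1252
import Cfsg.Agent.S1937
import Cfsg.Agent.S1938
import Cfsg.Agent.S5303
import Cfsg.Agent.H760.Str2
import Cfsg.Agent.H760.StrRows
import Cfsg.Agent.H760.StrFinal
import Cfsg.Agent.H790.RestFive

set_option autoImplicit false
open Cfsg

namespace Cfsg.Agent.S5305

/-- Let p be a prime, S a Sylow p-subgroup of the finite group G and A ≤ S strongly closed in S with respect to G, with G generated by the conjugates of A. Let N be the largest normal subgroup of G meeting A in a Sylow p-subgroup of N, and write bars for images in G/N. Then the normalizer of Ā controls strong fusion in S̄: whenever conjugation by an element g of G/N carries a subset B of S̄ into S̄, some element of that normalizer induces the same map as g on every element of B. If moreover p ≠ 3, the normalizer of S̄ controls strong fusion in S̄ in the same sense. (This rests on the classification of the finite simple groups.) -/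
theorem result {G : Type*} [Group G] [Finite G] (p : ℕ) [Fact p.Prime] (S : Sylow p G) (A : Subgroup G) (hsc : Cfsg.IsStronglyClosed A (S : Subgroup G))
    (hgen : Subgroup.normalClosure (A : Set G) = ⊤) (N : Subgroup G) [N.Normal] (hN : ¬ p ∣ (A ⊓ N).relIndex N)
    (hNmax : ∀ M : Subgroup G, M.Normal → ¬ p ∣ (A ⊓ M).relIndex M → M ≤ N) :
    (∀ (B : Set (G ⧸ N)) (g : (G ⧸ N)), B ⊆ (((S : Subgroup G).map (QuotientGroup.mk' N)) : Set (G ⧸ N)) → (∀ b ∈ B, g * b * g⁻¹ ∈ ((S : Subgroup G).map (QuotientGroup.mk' N))) →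
        ∃ x ∈ Subgroup.normalizer (((A.map (QuotientGroup.mk' N)) : Subgroup (G ⧸ N)) : Set (G ⧸ N)), ∀ b ∈ B, x * b * x⁻¹ = g * b * g⁻¹) ∧
    (p ≠ 3 → (∀ (B : Set (G ⧸ N)) (g : (G ⧸ N)), B ⊆ (((S : Subgroup G).map (QuotientGroup.mk' N)) : Set (G ⧸ N)) → (∀ b ∈ B, g * b * g⁻¹ ∈ ((S : Subgroup G).map (QuotientGroup.mk' N))) →
        ∃ x ∈ Subgroup.normalizer ((((S : Subgroup G).map (QuotientGroup.mk' N)) : Subgroup (G ⧸ N)) : Set (G ⧸ N)), ∀ b ∈ B, x * b * x⁻¹ = g * b * g⁻¹)) := by
  refine H760.Str.main ?_ ?_ ?_ ?_ ?_ ?_ S A hsc hgen N hN hNmax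
  · exact fun L _ _ _ => S0000.result
  · exact fun H _ _ S A => S1252.result S A
  · exact fun hp K _ _ hO P α hα hfix => S1937.result hp hO P α hα hfix
  · exact fun K _ _ P x hx h => S1938.result P x hx h
  · exact fun L _ _ _ hL S => S5303.result hL p S
  · exact fun L _ _ _ h => H790.RestFive.rest_five h

end Cfsg.Agent.S5305
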