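import Cfsg.Statements.S5307
import Cfsg.Agent.H800.AbAll
import Cfsg.Agent.S1938
import Cfsg.Agent.S1252
import Cfsg.Agent.S0000

set_option autoImplicit false
open Cfsg

namespace Cfsg.Agent.S5307

/-- Let G be a finite non-abelian simple group, p a prime, and S a Sylow p-subgroup of G that is abelian and homocyclic, S ≅ (Z/p^e)^k with e ≥ 1. Then a nontrivial subgroup A of S is strongly closed in S with respect to G if and only if A is homocyclic of the same rank k, that is A ≅ (Z/p^f)^k for some f ≥ 1. (This rests on the classification of the finite simple groups.) -/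
theorem result {G : Type*} [Group G] [Finite G] [IsSimpleGroup G] (hG : ¬ IsMulCommutative G) (p : ℕ) [Fact p.Prime] (S : Sylow p G)
    (k e : ℕ) (he : 1 ≤ e) (hS : Nonempty (↥(S : Subgroup G) ≃* (Fin k → Multiplicative (ZMod (p ^ e)))))
    (A : Subgroup G) (hA : A ≠ ⊥) (hAS : A ≤ (S : Subgroup G)) :
    Cfsg.IsStronglyClosed A (S : Subgroup G) ↔ ∃ f : ℕ, 1 ≤ f ∧ Nonempty (↥A ≃* (Fin k → Multiplicative (ZMod (p ^ f)))) := by
  exact (Cfsg.Agent.H800.AbAll.abIrr_all (fun _ _ _ _ => Cfsg.Agent.S0000.result)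
    (fun _ _ _ _ S A => Cfsg.Agent.S1252.result S A)
    (fun _ _ _ _ => Cfsg.Agent.S0000.result)
    (fun _ _ _ _ S A => Cfsg.Agent.S1252.result S A)
    (fun _ _ _ S x hx h => Cfsg.Agent.S1938.result S x hx h) hG).stronglyClosed_iff S k e he hS A hA hAS

end Cfsg.Agent.S5307
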