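import Cfsg.Statements.S5317
import Cfsg.Agent.H991.QDW
import Cfsg.Agent.H991.PermThree
import Cfsg.Agent.H991.QuatQuot
import Cfsg.Agent.GH.L3S.Parity

set_option autoImplicit false
open Cfsg

namespace Cfsg.Agent.S5317

/-- Let F be a finite field of odd order q with q² ≡ 1 mod 16 (so that a Sylow 2-subgroup of PSL(2,q), dihedral of order the 2-part of (q²−1)/2, has order at least 8). Then the 2-fusion system of PSL(2,F) on a Sylow 2-subgroup is simple: saturated, over a nontrivial 2-group, with no normal subsystem other than the trivial one and itself. -/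
theorem result {F : Type*} [Field F] [Fintype F] (hodd : Fintype.card F % 2 = 1) (h16 : 16 ∣ Fintype.card F ^ 2 - 1)
    (S : Sylow 2 (Matrix.ProjectiveSpecialLinearGroup (Fin 2) F)) :
    (Cfsg.groupFusionSystem (S : Subgroup (Matrix.ProjectiveSpecialLinearGroup (Fin 2) F))).IsSimple 2 := by
  have hF := Nat.odd_iff.2 hodd
  have hq3 : 3 < Fintype.card F := by
    have h1 : 1 < Fintype.card F := Fintype.one_lt_card
    by_contra h
    have h2 : Fintype.card F = 3 := by omega
    rw [h2] at h16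
    norm_num at h16
  have : Finite (Matrix.ProjectiveSpecialLinearGroup (Fin 2) F) := inferInstanceAs (Finite (_ ⧸ _))
  have : IsSimpleGroup (Matrix.ProjectiveSpecialLinearGroup (Fin 2) F) :=
    Matrix.ProjectiveSpecialLinearGroup.rank_two_simple (by rw [Nat.card_eq_fintype_card]; exact hq3)
  obtain ⟨k, hk, ⟨e⟩⟩ := Cfsg.Agent.H991.psl2_dihedral hF S
  -- the order
  have h8 : 8 ∣ Nat.card (Matrix.ProjectiveSpecialLinearGroup (Fin 2) F) := by
    have h1 := Cfsg.Agent.S0243.result (F := F) rfl 2 le_rfl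
    rw [Fin.prod_univ_two] at h1
    have h2 : Nat.gcd 2 (Fintype.card F - 1) = 2 := Nat.gcd_eq_left (by omega)
    rw [h2] at h1
    set q := Fintype.card F with hq
    obtain ⟨m, hm⟩ : ∃ m, q = m + 1 := ⟨q - 1, by omega⟩
    have h3 : q ^ 2 - q ^ 1 = (q - 1) * q := by
      rw [hm, Nat.add_sub_cancel, Nat.sub_eq_iff_eq_add (by nlinarith)]
      ring
    have h4 : q ^ 2 - q ^ ((0 : Fin 2) : ℕ) = q ^ 2 - 1 := by simp
    have h5 : q ^ 2 - q ^ ((1 : Fin 2) : ℕ) = (q - 1) * q := by
      rw [← h3]; simp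
    rw [h4, h5] at h1
    obtain ⟨c, hc⟩ := h16
    rw [hc] at h1
    have h6 : (q - 1) * (2 * Nat.card (Matrix.ProjectiveSpecialLinearGroup (Fin 2) F)) =
        (q - 1) * (2 * (8 * (c * q))) := by
      linear_combination h1
    have h7 := Nat.eq_of_mul_eq_mul_left (by omega) h6
    exact ⟨c * q, by omega⟩
  have h8S : 8 ∣ Nat.card (S : Subgroup (Matrix.ProjectiveSpecialLinearGroup (Fin 2) F)) := by
    have : Fact (Nat.Prime 2) := ⟨Nat.prime_two⟩
    exact S.pow_dvd_card_of_pow_dvd_card (n := 3) h8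
  rw [Nat.card_congr e.toEquiv, DihedralGroup.nat_card] at h8S
  have hk4 : 4 ≤ 2 ^ k := by
    have := Nat.le_of_dvd (by positivity) h8S
    omega
  have hp : IsPGroup 2 (DihedralGroup (2 ^ k)) := S.isPGroup'.of_equiv e
  refine Cfsg.Agent.H991.isSimple_of_aut S (Cfsg.Agent.H991.three_dvd_psl2 F)
    (Cfsg.Agent.H991.noncomm_dih (by omega) e) fun α hα => ?_
  exact (Cfsg.Agent.GH.L3S.Parity.NoOdd.congr e.symm
    (Cfsg.Agent.GH.L3S.Parity.noOdd_dihedral hk4 hp)) α _ hα (pow_orderOf_eq_one α)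

end Cfsg.Agent.S5317
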