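import Cfsg.Statements.S5318
import Cfsg.Agent.H991.QDW
import Cfsg.Agent.H991.PermThree
import Cfsg.Agent.GH.Cov.SylowThree
import Cfsg.Agent.S0249

set_option autoImplicit false
open Cfsg

namespace Cfsg.Agent.S5318

/-- For a finite field F of odd order, the 2-fusion system of PSL(3,F) on a Sylow 2-subgroup (semidihedral or wreathed according as |F| ≡ 3 or 1 mod 4) is simple. -/
theorem result {F : Type*} [Field F] [Fintype F] (hodd : Fintype.card F % 2 = 1) (S : Sylow 2 (Matrix.ProjectiveSpecialLinearGroup (Fin 3) F)) :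
    (Cfsg.groupFusionSystem (S : Subgroup (Matrix.ProjectiveSpecialLinearGroup (Fin 3) F))).IsSimple 2 := by
  haveI := Cfsg.Agent.S0249.result (F := F) 3 le_rfl
  haveI : Finite (Matrix.ProjectiveSpecialLinearGroup (Fin 3) F) := Quotient.finite _
  have h2 : 2 ∣ Nat.card (Matrix.ProjectiveSpecialLinearGroup (Fin 3) F) :=
    Cfsg.Agent.H991.two_dvd_psl3 F (Nat.odd_iff.2 hodd)
  exact Cfsg.Agent.H991.isSimple_of_qdw S (Cfsg.Agent.H991.three_dvd_psl3 F)
    (Cfsg.Agent.GH.Cov.SylowThree.psl_three (Nat.odd_iff.2 hodd) (MulEquiv.refl _) h2 S)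

end Cfsg.Agent.S5318
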