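import Cfsg.Statements.S5325
import Cfsg.Agent.H800.AbAll
import Cfsg.Agent.S1938
import Cfsg.Agent.S1252
import Cfsg.Agent.S0000

set_option autoImplicit false
open Cfsg

namespace Cfsg.Agent.S5325

/-- Let G be a finite group whose Sylow p-subgroup A (p a prime) is elementary abelian, and let B be a subgroup of A that is strongly closed in A with respect to G: every G-conjugate of an element of B lying in A lies in B. Then G has a normal subgroup N of which B is a Sylow p-subgroup. -/
theorem result {G : Type*} [Group G] [Finite G]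
    (p : ℕ) [Fact p.Prime] (A : Sylow p G) (hA : Cfsg.IsElementaryAbelian p (A : Subgroup G))
    (B : Subgroup G) (hB : Cfsg.IsStronglyClosed B (A : Subgroup G)) :
    ∃ N : Subgroup G, N.Normal ∧ B ≤ N ∧ ¬ p ∣ B.relIndex N :=
  Cfsg.Agent.H800.AbAll.main_index (fun _ _ _ _ => Cfsg.Agent.S0000.result)
    (fun _ _ _ _ S A => Cfsg.Agent.S1252.result S A)
    (fun _ _ _ S x hx h => Cfsg.Agent.S1938.result S x hx h)
    (fun _ _ _ _ => Cfsg.Agent.S0000.result)
    (fun _ _ _ _ S A => Cfsg.Agent.S1252.result S A)
    (fun _ _ _ S x hx h => Cfsg.Agent.S1938.result S x hx h) A hA B hB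

end Cfsg.Agent.S5325
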