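-- Proof of statement S5368.
import Cfsg.Statements.S5368
import Cfsg.Agent.H805.Main

set_option autoImplicit false
open scoped MatrixGroups
open Cfsg

namespace Cfsg.Agent.S5368

/-- Fischer's Theorem on 3-transposition groups. Let D be a conjugacy class of 3-transpositions generating the finite group G, and suppose the centre of G is trivial and the commutator subgroup of G is simple (possibly of prime order). Then one of the following holds: (1) G is isomorphic to a symmetric group with D going to the transpositions; (2) G is isomorphic to a symplectic group over the field with two elements with D going to the transvections (elements g with g − 1 of rank one); (3) G is isomorphic to a projective special unitary group over the field with four elements with D going to the images of the unitary transvections; (4) G is isomorphic to the full isometry group of a hyperbolic or elliptic quadratic form over the field with two elements with D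 going to the orthogonal transvections; (5) G is isomorphic to the subgroup of the isometry group of a non-degenerate quadratic form over the field with three elements generated by the reflections in vectors of a fixed non-zero norm, taken modulo its centre, with D going to the images of those reflections; (6) G with D is of type M(22), M(23) or M(24). -/
theorem result {G : Type*} [Group G] [Finite G] {D : Set G} (hD : Cfsg.IsThreeTranspositionClass D) (hZ : Subgroup.center G = ⊥) (hsimple : IsSimpleGroup (commutator G)) : (∃ n : ℕ, ∃ e : G ≃* Equiv.Perm (Fin n), e '' D = {σ : Equiv.Perm (Fin n) | σ.IsSwap}) ∨ (∃ m : ℕ, ∃ e : G ≃* Matrix.symplecticGroup (Fin m) (ZMod 2), e '' D = {g : Matrix.symplecticGroup (Fin m) (ZMod 2) | ((g : Matrix (Fin m ⊕ Fin m) (Fin m ⊕ Fin m) (ZMod 2)) - 1).rank = 1}) ∨ (∃ (n : ℕ) (F : Type) (_ : Field F) (_ : Fintype F), Fintype.card F = 4 ∧ ∃ e : G ≃* Cfsg.PSU n F 2, e '' D = (QuotientGroup.mk : ↥(Cfsg.SU n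 F 2) → Cfsg.PSU n F 2) '' {g : ↥(Cfsg.SU n F 2) | (((g : Matrix.SpecialLinearGroup (Fin n) F) : Matrix (Fin n) (Fin n) F) - 1).rank = 1}) ∨ ((∃ m : ℕ, ∃ e : G ≃* ↥(Cfsg.isometryGroup (ZMod 2) (Cfsg.quadFormPlus m (ZMod 2))), e '' D = {g : ↥(Cfsg.isometryGroup (ZMod 2) (Cfsg.quadFormPlus m (ZMod 2))) | (((g : GL (Fin m ⊕ Fin m) (ZMod 2)) : Matrix (Fin m ⊕ Fin m) (Fin m ⊕ Fin m) (ZMod 2)) - 1).rank = 1}) ∨ (∃ m : ℕ, ∃ e : G ≃* ↥(Cfsg.isometryGroup (ZMod 2) (Cfsg.quadFormMinus m (ZMod 2) 1 1)), e '' D = {g : ↥(Cfsg.isometryGroup (ZMod 2) (Cfsg.quadFormMinus m (ZMod 2) 1 1)) | (((g : GL ((Fin m ⊕ Fin m) ⊕ Fin 2) (ZMod 2)) : Matrix ((Fin m ⊕ Fin m) ⊕ Fin 2) ((Fin m ⊕ Fin m) ⊕ Fin 2) (ZMod 2)) - 1).rank = 1})) ∨ (∃ n : ℕ, ∃ Q : QuadraticForm (ZMod 3) (Fin n → ZMod 3), (QuadraticMap.polarBilin Q).Nondegenerate ∧ ∃ c : ZMod 3, c ≠ 0 ∧ ∃ e : G ≃* ↥(Cfsg.reflectionSubgroup (⇑Q) c) ⧸ Subgroup.center ↥(Cfsg.reflectionSubgroup (⇑Q) c), e '' D = (QuotientGroup.mk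 : ↥(Cfsg.reflectionSubgroup (⇑Q) c) → _) '' {g : ↥(Cfsg.reflectionSubgroup (⇑Q) c) | (g : ↥(Cfsg.isometryGroup (ZMod 3) (⇑Q))) ∈ Cfsg.reflectionsOfNorm (⇑Q) c}) ∨ (Cfsg.IsOfTypeM22 G D ∨ Cfsg.IsOfTypeM23 G D ∨ Cfsg.IsOfTypeM24 G D) := by
  rcases Cfsg.Agent.H805.FG.fgroup_or_three hD hZ hsimple with F | ⟨e, he⟩
  · have R := Cfsg.Agent.Fischer891.Cases.rk_of_fgroup F
    have fd := R.fd
    have I := Cfsg.Agent.TSp.OrdersT.inh F
    rcases Cfsg.Agent.Fischer480.AllPieces.inList F with ⟨n, hn, h⟩ | ⟨n, hn, h⟩ | ⟨n, hn, h⟩ |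
      ⟨n, hn, h⟩ | ⟨n, hn, h⟩ | h | h | h
    · exact Or.inl ⟨n, Cfsg.Agent.H805.MSym.exists_iso_perm fd hZ hn h⟩
    · exact Or.inr (Or.inl (Cfsg.Agent.H805.MSpU.exists_iso_sp R h))
    · rcases Cfsg.Agent.H805.MOrth.exists_iso_orth fd hZ hn h with ⟨m, -, h1⟩ | ⟨m, -, h1⟩
      · exact Or.inr (Or.inr (Or.inr (Or.inl (Or.inl ⟨m, h1⟩))))
      · exact Or.inr (Or.inr (Or.inr (Or.inl (Or.inr ⟨m, h1⟩))))
    · exact Or.inr (Or.inr (Or.inl ⟨n, Cfsg.Agent.H805.MSpU.exists_iso_psu fd hZ hn h⟩))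
    · exact Or.inr (Or.inr (Or.inr (Or.inr (Or.inl
        ⟨n, Cfsg.Agent.H805.Main.exists_iso_isR fd hZ hn h⟩))))
    · exact Or.inr (Or.inr (Or.inr (Or.inr (Or.inr
        (Or.inl (Cfsg.Agent.H805.MTypes.m22_of_isT6 I h))))))
    · exact Or.inr (Or.inr (Or.inr (Or.inr (Or.inr
        (Or.inr (Or.inl (Cfsg.Agent.H805.MTypes.m23_of_isT7 I h)))))))
    · exact Or.inr (Or.inr (Or.inr (Or.inr (Or.inr
        (Or.inr (Or.inr (Cfsg.Agent.H805.MTwentyFour.m24_of_isT8 I h)))))))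
  · exact Or.inl ⟨3, e, he⟩

end Cfsg.Agent.S5368
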