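import Cfsg.Statements.S5389
import Cfsg.Agent.H813.SuzQuot

set_option autoImplicit false
open Cfsg

namespace Cfsg.Agent.S5389

open Cfsg.Agent.LThreeCo1.FourCo1 Cfsg.Agent.LThreeCo1.RelQ Cfsg.Agent.LThreeCo1.Ev
open Cfsg.Agent.LThreeCo1Suz.Main (EE mem_EE)
open Cfsg.Agent.H813.SuzQuot
open Cfsg.Agent.CoOneType.CoOneE (mem_center_iff)
open Subgroup

/-- the element of order three of `Co0` -/
noncomputable abbrev s : ↥Cfsg.Co0 := LThreeCo1.Rel.e 1

theorem pr_s : pr s = X 0 := rfl

theorem s_cube : s ^ 3 = 1 := by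
  have h1 := eq_of_eqB rep (kx3 0)
  simp only [List.map_cons, List.map_nil, List.prod_cons, List.prod_nil, mul_one] at h1
  rw [pow_succ, pow_two, mul_assoc]
  exact h1

theorem X_ne : X 0 ≠ 1 := by
  intro h
  have h1 := four.xa 0
  have h2 := four.xb 0
  rw [h, one_mul, mul_one] at h1
  rw [h, one_mul, mul_one] at h2
  have h3 := four.ba 0
  rw [h1] at h3
  exact four.large.z_ne (mul_eq_left.1 h3.symm)

theorem s_ne : s ≠ 1 := by
  intro h
  apply X_ne
  rw [← pr_s, h, map_one]

theorem center_sq {c : ↥Cfsg.Co0} (hc : c ∈ center ↥Cfsg.Co0) : c * c = 1 := by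
  rcases (mem_center_iff c).1 hc with rfl | rfl
  · rw [one_mul]
  · exact Cfsg.Agent.SporadicA.Co0Mono.signCo0_mul_self _

theorem ker_pr (g : ↥Cfsg.Co0) : pr g = 1 ↔ g ∈ center ↥Cfsg.Co0 := by
  show (QuotientGroup.mk g : ↥Cfsg.Co0 ⧸ center ↥Cfsg.Co0) = 1 ↔ _
  rw [QuotientGroup.eq_one_iff]

/-- an element commuting with `s` modulo the centre commutes with `s` -/
theorem comm_of_pr {g : ↥Cfsg.Co0} (h : pr g * X 0 = X 0 * pr g) : g * s = s * g := by
  rw [← pr_s, ← map_mul, ← map_mul] at h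
  have h1 : pr ((s * g)⁻¹ * (g * s)) = 1 := by rw [map_mul, map_inv, h, inv_mul_cancel]
  rw [ker_pr] at h1
  obtain ⟨c, hc⟩ : ∃ c, c = (s * g)⁻¹ * (g * s) := ⟨_, rfl⟩
  rw [← hc] at h1
  have h2 : g * s = s * g * c := by rw [hc]; group
  have h3 : g * s * g⁻¹ = s * c := by
    rw [h2, mul_assoc, mul_assoc, ← Subgroup.mem_center_iff.1 h1 g⁻¹]
    group
  have h4 : (g * s * g⁻¹) ^ 3 = 1 := by rw [conj_pow, s_cube, mul_one, mul_inv_cancel]
  have h5 : Commute s c := (Subgroup.mem_center_iff.1 h1 s)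
  rw [h3, h5.mul_pow, s_cube, one_mul, pow_succ, pow_two, center_sq h1, one_mul] at h4
  rw [h2, h4, mul_one]

theorem zpow_mem' (A : Subgroup ↥Cfsg.Co0) (hA : A = zpowers s) {g : ↥Cfsg.Co0}
    (hg : g ∈ centralizer (A : Set ↥Cfsg.Co0)) : g * s = s * g := by
  have h1 := Subgroup.mem_centralizer_iff.1 hg s (by rw [hA]; exact mem_zpowers s)
  exact h1.symm

/-- the map `C(A) → C(s)/⟨s⟩` -/
noncomputable def φ : ↥(centralizer (zpowers s : Set ↥Cfsg.Co0)) →* XS :=
  (QuotientGroup.mk' EE).comp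
    { toFun := fun g => ⟨pr g, by
        rw [mem_centralizer_singleton_iff, ← pr_s, ← map_mul, ← map_mul, zpow_mem' _ rfl g.2]⟩
      map_one' := Subtype.ext (map_one pr)
      map_mul' := fun a b => Subtype.ext (map_mul pr _ _) }

theorem φ_surjective : Function.Surjective φ := by
  intro y
  obtain ⟨⟨y, hy⟩, rfl⟩ := QuotientGroup.mk'_surjective EE y
  obtain ⟨g, rfl⟩ := QuotientGroup.mk'_surjective (center ↥Cfsg.Co0) y
  have h1 : g * s = s * g := comm_of_pr (mem_centralizer_singleton_iff.1 hy)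
  refine ⟨⟨g, ?_⟩, rfl⟩
  rw [Subgroup.mem_centralizer_iff]
  intro a ha
  obtain ⟨k, rfl⟩ := Subgroup.mem_zpowers_iff.1 ha
  have h2 : Commute s g := h1.symm
  exact (h2.zpow_left k).eq

theorem ker_φ : φ.ker = (zpowers s ⊔ center ↥Cfsg.Co0).subgroupOf
    (centralizer (zpowers s : Set ↥Cfsg.Co0)) := by
  ext g
  rw [MonoidHom.mem_ker, Subgroup.mem_subgroupOf]
  have h0 : φ g = 1 ↔ pr (g : ↥Cfsg.Co0) ∈ zpowers (X 0) := by
    show (QuotientGroup.mk _ : XS) = 1 ↔ _
    rw [QuotientGroup.eq_one_iff, mem_EE]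
    rfl
  rw [h0]
  constructor
  · intro h
    obtain ⟨k, hk⟩ := Subgroup.mem_zpowers_iff.1 h
    have h1 : pr ((s ^ k)⁻¹ * g) = 1 := by
      rw [map_mul, map_inv, map_zpow, pr_s, hk, inv_mul_cancel]
    rw [ker_pr] at h1
    have h2 : (g : ↥Cfsg.Co0) = s ^ k * ((s ^ k)⁻¹ * g) := by group
    rw [h2]
    exact mul_mem (mem_sup_left (zpow_mem (mem_zpowers s) k)) (mem_sup_right h1)
  · intro h
    have h1 : zpowers s ⊔ center ↥Cfsg.Co0 ≤ (zpowers (X 0)).comap pr := by
      apply sup_le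
      · rw [zpowers_le, mem_comap, pr_s]
        exact mem_zpowers _
      · intro c hc
        rw [mem_comap, (ker_pr c).2 hc]
        exact one_mem _
    exact h1 h

/-- A simple section of the automorphism group of the Leech lattice satisfying the Suzuki-sporadic-type hypothesis (the group so obtained is the sporadic Suzuki group; that identification is not part of this statement): there is a subgroup A of order 3 of that automorphism group such that the centralizer of A modulo the subgroup generated by A and the centre of the automorphism group is a non-abelian simple group satisfying the large extraspecial hypothesis of minus type in dimension 6 — an involution whose centralizer has extraspecial generalized Fitting subgroup of order 2^7 with quotient the commutator subgroup of the isometry group of the elliptic quadratic form in dimension 6 over the field with two elements, the involution not weakly closed in that extraspecial group. -/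
theorem result : ∃ A : Subgroup ↥Cfsg.Co0, Nat.card A = 3 ∧ ∃ (hn : ((A ⊔ Subgroup.center ↥Cfsg.Co0).subgroupOf (Subgroup.centralizer (A : Set ↥Cfsg.Co0))).Normal), ∃ (S : Type) (_ : Group S) (_ : Finite S), Nonempty (S ≃* ↥(Subgroup.centralizer (A : Set ↥Cfsg.Co0)) ⧸ (A ⊔ Subgroup.center ↥Cfsg.Co0).subgroupOf (Subgroup.centralizer (A : Set ↥Cfsg.Co0))) ∧ IsSimpleGroup S ∧ ¬ IsMulCommutative S ∧ ∃ z : S, orderOf z = 2 ∧ ∃ (Q : Subgroup (Subgroup.centralizer ({z} : Set S))) (_ : Q.Normal), Cfsg.generalizedFittingSubgroup (Subgroup.centralizer ({z} : Set S)) = Q ∧ Cfsg.IsExtraspecial 2 Q ∧ Nat.card Q = 2 ^ 7 ∧ Nonempty ((Subgroup.centralizer ({z} : Set S)) ⧸ Q ≃* Cfsg.Omega (ZMod 2) (Cfsg.quadFormMinus 2 (ZMod 2) 1 1)) ∧ ∃ g : S, (∃ hq : g * z * g⁻¹ ∈ Subgroup.centralizer ({z} : Set S), (⟨g * z * g⁻¹, hq⟩ : Subgroup.centralizer ({z} : Set S)) ∈ Q) ∧ g * z * g⁻¹ ≠ z := by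
  have hn : ((zpowers s ⊔ center ↥Cfsg.Co0).subgroupOf
      (centralizer (zpowers s : Set ↥Cfsg.Co0))).Normal := by
    rw [← ker_φ]; infer_instance
  refine ⟨zpowers s, ?_, hn, XS, inferInstance, inferInstance, ?_, simple_X, not_comm_X, type_X⟩
  · rw [Nat.card_zpowers]
    have : Fact (Nat.Prime 3) := ⟨Nat.prime_three⟩
    exact orderOf_eq_prime s_cube s_ne
  · exact ⟨((QuotientGroup.quotientMulEquivOfEq ker_φ.symm).trans
      (QuotientGroup.quotientKerEquivOfSurjective φ φ_surjective)).symm⟩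

end Cfsg.Agent.S5389
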