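import Cfsg.Statements.S5405
-- import your own Cfsg.Agent.* helpers here
import Cfsg.Agent.H817.CrossedFour
import Cfsg.Agent.S1629

set_option autoImplicit false
open scoped MatrixGroups
open Cfsg

namespace Cfsg.Agent.S5405

open Cfsg.Agent.SporadicStructure.OrthTransTwo
open Cfsg.Agent.H817.CrossedHom Cfsg.Agent.H817.CrossedFour

/-- an isometry from a matrix with `M² = M + 1` -/
def mk {ι : Type} [Fintype ι] [DecidableEq ι] (Q : (ι → ZMod 2) → ZMod 2)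
    (M : Matrix ι ι (ZMod 2)) (h1 : M * (M * M) = 1) (h2 : M * M * M = 1)
    (hQ : ∀ v, Q (Matrix.mulVec M v) = Q v) : isometryGroup (ZMod 2) Q :=
  ⟨⟨M, M * M, h1, h2⟩, fun u _ => hQ u⟩

theorem mk_rel {ι : Type} [Fintype ι] [DecidableEq ι] (Q : (ι → ZMod 2) → ZMod 2)
    (M : Matrix ι ι (ZMod 2)) (h1 : M * (M * M) = 1) (h2 : M * M * M = 1)
    (hQ : ∀ v, Q (Matrix.mulVec M v) = Q v) (h3 : M * M = M + 1) (v : ι → ZMod 2) :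
    act (mk Q M h1 h2 hQ) (act (mk Q M h1 h2 hQ) v) = act (mk Q M h1 h2 hQ) v + v := by
  show Matrix.mulVec M (Matrix.mulVec M v) = Matrix.mulVec M v + v
  rw [Matrix.mulVec_mulVec, h3, Matrix.add_mulVec, Matrix.one_mulVec]

/-- the matrix of order 3 on a plane -/
def A : Matrix (Fin 2) (Fin 2) (ZMod 2) := !![0, 1; 1, 1]

def M6 : Matrix ((Fin 2 ⊕ Fin 2) ⊕ Fin 2) ((Fin 2 ⊕ Fin 2) ⊕ Fin 2) (ZMod 2) :=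
  Matrix.fromBlocks (Matrix.fromBlocks A 0 0 !![1, 1; 1, 0]) 0 0 A

def A4 : Matrix (Fin 4) (Fin 4) (ZMod 2) := !![0, 1, 0, 0; 1, 1, 0, 0; 0, 0, 0, 1; 0, 0, 1, 1]
def A4' : Matrix (Fin 4) (Fin 4) (ZMod 2) := !![1, 1, 0, 0; 1, 0, 0, 0; 0, 0, 1, 1; 0, 0, 1, 0]

def M8 : Matrix (Fin 4 ⊕ Fin 4) (Fin 4 ⊕ Fin 4) (ZMod 2) := Matrix.fromBlocks A4 0 0 A4'

theorem M6_1 : M6 * (M6 * M6) = 1 := by decide +kernel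
theorem M6_2 : M6 * M6 * M6 = 1 := by decide +kernel
theorem M6_3 : M6 * M6 = M6 + 1 := by decide +kernel
theorem M6_Q : ∀ v, quadFormMinus 2 (ZMod 2) 1 1 (Matrix.mulVec M6 v) =
    quadFormMinus 2 (ZMod 2) 1 1 v := by decide +kernel
theorem M8_1 : M8 * (M8 * M8) = 1 := by decide +kernel
theorem M8_2 : M8 * M8 * M8 = 1 := by decide +kernel
theorem M8_3 : M8 * M8 = M8 + 1 := by decide +kernel
theorem M8_Q : ∀ v, quadFormPlus 4 (ZMod 2) (Matrix.mulVec M8 v) =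
    quadFormPlus 4 (ZMod 2) v := by decide +kernel

/-- Vanishing of first cohomology on the natural module for three small orthogonal groups over the field with two elements: for the commutator subgroup of the isometry group of the elliptic quadratic form in dimension 4, of the elliptic form in dimension 6, and of the hyperbolic form in dimension 8, every crossed homomorphism into the natural module (a map f with f(gh) = f(g) + g·f(h)) is principal (of the form g ↦ g·v − v). -/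
theorem result : (∀ f : ↥(Cfsg.Omega (ZMod 2) (Cfsg.quadFormMinus 1 (ZMod 2) 1 1)) → ((Fin 1 ⊕ Fin 1) ⊕ Fin 2 → ZMod 2), (∀ g h : ↥(Cfsg.Omega (ZMod 2) (Cfsg.quadFormMinus 1 (ZMod 2) 1 1)), f (g * h) = f g + Matrix.mulVec (((g : ↥(Cfsg.isometryGroup (ZMod 2) (Cfsg.quadFormMinus 1 (ZMod 2) 1 1))) : GL ((Fin 1 ⊕ Fin 1) ⊕ Fin 2) (ZMod 2)) : Matrix ((Fin 1 ⊕ Fin 1) ⊕ Fin 2) ((Fin 1 ⊕ Fin 1) ⊕ Fin 2) (ZMod 2)) (f h)) → ∃ v : (Fin 1 ⊕ Fin 1) ⊕ Fin 2 → ZMod 2, ∀ g : ↥(Cfsg.Omega (ZMod 2) (Cfsg.quadFormMinus 1 (ZMod 2) 1 1)), f g = Matrix.mulVec (((g : ↥(Cfsg.isometryGroup (ZMod 2) (Cfsg.quadFormMinus 1 (ZMod 2) 1 1))) : GL ((Fin 1 ⊕ Fin 1) ⊕ Fin 2) (ZMod 2)) : Matrix ((Fin 1 ⊕ Fin 1) ⊕ Fin 2) ((Fin 1 ⊕ Fin 1) ⊕ Fin 2) (ZMod 2)) v - v) ∧ (∀ f : ↥(Cfsg.Omega (ZMod 2) (Cfsg.quadFormMinus 2 (ZMod 2) 1 1)) → ((Fin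 2 ⊕ Fin 2) ⊕ Fin 2 → ZMod 2), (∀ g h : ↥(Cfsg.Omega (ZMod 2) (Cfsg.quadFormMinus 2 (ZMod 2) 1 1)), f (g * h) = f g + Matrix.mulVec (((g : ↥(Cfsg.isometryGroup (ZMod 2) (Cfsg.quadFormMinus 2 (ZMod 2) 1 1))) : GL ((Fin 2 ⊕ Fin 2) ⊕ Fin 2) (ZMod 2)) : Matrix ((Fin 2 ⊕ Fin 2) ⊕ Fin 2) ((Fin 2 ⊕ Fin 2) ⊕ Fin 2) (ZMod 2)) (f h)) → ∃ v : (Fin 2 ⊕ Fin 2) ⊕ Fin 2 → ZMod 2, ∀ g : ↥(Cfsg.Omega (ZMod 2) (Cfsg.quadFormMinus 2 (ZMod 2) 1 1)), f g = Matrix.mulVec (((g : ↥(Cfsg.isometryGroup (ZMod 2) (Cfsg.quadFormMinus 2 (ZMod 2) 1 1))) : GL ((Fin 2 ⊕ Fin 2) ⊕ Fin 2) (ZMod 2)) : Matrix ((Fin 2 ⊕ Fin 2) ⊕ Fin 2) ((Fin 2 ⊕ Fin 2) ⊕ Fin 2) (ZMod 2)) v - v) ∧ (∀ f : ↥(Cfsg.Omega (ZMod 2) (Cfsg.quadFormPlus 4 (ZMod 2))) → (Fin 4 ⊕ Fin 4 → ZMod 2), (∀ g h : ↥(Cfsg.Omega (ZMod 2) (Cfsg.quadFormPlus 4 (ZMod 2))), f (g *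 h) = f g + Matrix.mulVec (((g : ↥(Cfsg.isometryGroup (ZMod 2) (Cfsg.quadFormPlus 4 (ZMod 2)))) : GL (Fin 4 ⊕ Fin 4) (ZMod 2)) : Matrix (Fin 4 ⊕ Fin 4) (Fin 4 ⊕ Fin 4) (ZMod 2)) (f h)) → ∃ v : Fin 4 ⊕ Fin 4 → ZMod 2, ∀ g : ↥(Cfsg.Omega (ZMod 2) (Cfsg.quadFormPlus 4 (ZMod 2))), f g = Matrix.mulVec (((g : ↥(Cfsg.isometryGroup (ZMod 2) (Cfsg.quadFormPlus 4 (ZMod 2)))) : GL (Fin 4 ⊕ Fin 4) (ZMod 2)) : Matrix (Fin 4 ⊕ Fin 4) (Fin 4 ⊕ Fin 4) (ZMod 2)) v - v) := by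
  refine ⟨fun f hf => principal4 f hf, fun f hf => ?_, fun f hf => ?_⟩
  · exact principal (isNdForm_minus 2) (by simp)
      (mk _ M6 M6_1 M6_2 M6_Q) (mk_rel _ M6 M6_1 M6_2 M6_Q M6_3) f hf
  · exact principal (Cfsg.Agent.S1629.isNdForm_plus 4) (by simp)
      (mk _ M8 M8_1 M8_2 M8_Q) (mk_rel _ M8 M8_1 M8_2 M8_Q M8_3) f hf

end Cfsg.Agent.S5405
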