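import Cfsg.Statements.S5522
import Cfsg.Agent.SporadicA.Dodecad
import Cfsg.Agent.SporadicA.M24Frames
import Cfsg.Agent.SporadicStructure.M11InvPerms
import Cfsg.Agent.J4Type.DuadM24
import Cfsg.Agent.S0363

set_option autoImplicit false
open Cfsg

namespace Cfsg.Agent.S5522

open scoped Pointwise

/-- An invariant finite set has, modulo the prime `p`, as many elements as it has fixed points. -/
theorem card_modEq {α : Type*} [DecidableEq α] {g : Equiv.Perm α} {p : ℕ}
    (hp : p.Prime) (hg : g ^ p = 1) (S : Finset α) (hS : ∀ x ∈ S, g x ∈ S) :
    S.card ≡ (S.filter fun x => g x = x).card [MOD p] := by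
  have := Fact.mk hp
  let f : Function.End S := fun x => ⟨g x, hS x x.2⟩
  have hpow : ∀ n : ℕ, ∀ x : S, (((f ^ n : Function.End S) x : S) : α) = (g ^ n) x := by
    intro n
    induction n with
    | zero => intro x; rfl
    | succ n ih =>
      intro x
      rw [pow_succ', pow_succ']
      change g (((f ^ n : Function.End S) x : S) : α) = g ((g ^ n) x)
      rw [ih]
  have hf : f ^ p ^ 1 = 1 := by
    rw [pow_one]
    funext x
    apply Subtype.ext
    rw [hpow, hg]
    rfl
  have h := Equiv.Perm.card_fixedPoints_modEq (f := f) (p := p) (n := 1) hf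
  rw [Fintype.card_coe] at h
  refine h.trans ?_
  have : Fintype.card (Function.fixedPoints f) = (S.filter fun x => g x = x).card := by
    rw [← Fintype.card_coe]
    refine Fintype.card_congr
      { toFun := fun x => ⟨x.1.1, Finset.mem_filter.2 ⟨x.1.2, congrArg Subtype.val x.2⟩⟩
        invFun := fun x => ⟨⟨x.1, (Finset.mem_filter.1 x.2).1⟩,
          Subtype.ext (Finset.mem_filter.1 x.2).2⟩
        left_inv := fun x => rfl
        right_inv := fun x => rfl }
  rw [this]

open Cfsg.Agent.SporadicStructure.M11InvPerms in
theorem dodecad_mem : Cfsg.Spor.squareDodecad ∈ dodecads := by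
  have h : Spor.squareDodecad = dd := by
    unfold Spor.squareDodecad dd
    rw [qrWord_eq]
  rw [h]
  exact dd_mem

/-- The Mathieu group M₁₁, realised as the stabiliser of one point of the dodecad of squares inside the stabiliser M₁₂ of that dodecad in M₂₄, acts on the twelve coordinate positions outside the dodecad of squares (its 3-transitive action of degree 12); in this action every element of prime order fixes a point, i.e. the action is elusive. -/
theorem result (g : Equiv.Perm Cfsg.GolayPt) (hg : g ∈ Cfsg.Spor.M11) (hord : (orderOf g).Prime) :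
    ∃ x : Cfsg.GolayPt, x ∉ Cfsg.Spor.squareDodecad ∧ g x = x := by
  classical
  by_contra hno
  push Not at hno
  set D := Cfsg.Spor.squareDodecad with hD
  have hgM : g ∈ M24 := hg.1.1
  have hgD : g • D = D := hg.1.2
  have hg0 : g (some 0) = some 0 := hg.2
  have hDd := dodecad_mem
  have hDc : D.card = 12 := hDd.2
  have hDmem : ∀ x, x ∈ D → g x ∈ D := by
    intro x hx
    have := Finset.smul_mem_smul_finset (a := g) hx
    rwa [hgD] at this
  have hDmem' : ∀ x, x ∉ D → g x ∉ D := by
    intro x hx h
    apply hx
    rw [← hgD] at h
    exact (Finset.smul_mem_smul_finset_iff g).1 h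
  have hpow : g ^ orderOf g = 1 := pow_orderOf_eq_one g
  have h0D : (some 0 : GolayPt) ∈ D := by
    by_contra h
    exact hno _ h hg0
  -- the complement
  have hcompl : (Finset.univ \ D).card = 12 := by
    rw [Finset.card_sdiff_of_subset (Finset.subset_univ _), hDc]
    decide
  have h12 : orderOf g ∣ 12 := by
    have h := card_modEq hord hpow (Finset.univ \ D) (fun x hx => by
      simp only [Finset.mem_sdiff, Finset.mem_univ, true_and] at hx ⊢
      exact hDmem' x hx)
    rw [hcompl, Finset.filter_false_of_mem (fun x hx => by
      simp only [Finset.mem_sdiff, Finset.mem_univ, true_and] at hx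
      exact hno x hx), Finset.card_empty] at h
    exact (Nat.modEq_zero_iff_dvd).1 h
  have h23 : orderOf g = 2 ∨ orderOf g = 3 := by
    have h1 : orderOf g ∣ 2 * 2 * 3 := h12
    rcases (Nat.Prime.dvd_mul hord).1 h1 with h | h
    · rcases (Nat.Prime.dvd_mul hord).1 h with h | h <;>
        exact Or.inl ((Nat.prime_dvd_prime_iff_eq hord Nat.prime_two).1 h)
    · exact Or.inr ((Nat.prime_dvd_prime_iff_eq hord Nat.prime_three).1 h)
  rcases h23 with h2 | h3
  · have hgg : g * g = 1 := by rw [← pow_two, ← h2, hpow]
    have hg1 : g ≠ 1 := by
      rintro rfl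
      simp at h2
    obtain ⟨O, hO, hfix⟩ := Cfsg.Agent.J4Type.DuadM24.fix_octad hgM hgg hg1 hg0
    have hsub : O ⊆ D := by
      intro x hx
      by_contra hxD
      exact hno x hxD ((hfix x).2 hx)
    have h := Cfsg.Agent.SporadicA.Dodecad.octad_inter_dodecad hO hDd
    rw [Finset.inter_eq_left.2 hsub, hO.2] at h
    omega
  · rw [h3] at hpow
    -- an invariant set of five points of `D`
    have hF := card_modEq Nat.prime_three hpow D hDmem
    rw [hDc] at hF
    have hFpos : 0 < (D.filter fun x => g x = x).card :=
      Finset.card_pos.2 ⟨some 0, Finset.mem_filter.2 ⟨h0D, hg0⟩⟩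
    have hF3 : 3 ≤ (D.filter fun x => g x = x).card := by
      have hF' : 12 % 3 = (D.filter fun x => g x = x).card % 3 := hF
      omega
    have key : ∃ S : Finset GolayPt, S ⊆ D ∧ S.card = 5 ∧ ∀ x ∈ S, g x ∈ S := by
      by_cases hall : ∀ x ∈ D, g x = x
      · obtain ⟨S, hS, hS5⟩ := Finset.exists_subset_card_eq (show 5 ≤ D.card by omega)
        exact ⟨S, hS, hS5, fun x hx => by rw [hall x (hS hx)]; exact hx⟩
      · push Not at hall
        obtain ⟨x, hxD, hx⟩ := hall
        obtain ⟨T, hT, hT2⟩ := Finset.exists_subset_card_eq
          (show 2 ≤ (D.filter fun x => g x = x).card by omega)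
        have hggg : g (g (g x)) = x := by
          have := congrArg (fun f : Equiv.Perm GolayPt => f x) hpow
          simpa [pow_succ] using this
        have hx1 : g x ≠ x := hx
        have hx2 : g (g x) ≠ g x := fun h => hx1 (g.injective h)
        have hx3 : g (g x) ≠ x := by
          intro h
          apply hx1
          have := congrArg g h
          rw [hggg] at this
          exact this.symm
        have hC : ({x, g x, g (g x)} : Finset GolayPt).card = 3 := by
          rw [Finset.card_insert_of_notMem, Finset.card_insert_of_notMem, Finset.card_singleton]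
          · simp only [Finset.mem_singleton]; exact hx2.symm
          · simp only [Finset.mem_insert, Finset.mem_singleton, not_or]
            exact ⟨hx1.symm, hx3.symm⟩
        have hTf : ∀ y ∈ T, g y = y := fun y hy => (Finset.mem_filter.1 (hT hy)).2
        have hdisj : Disjoint T {x, g x, g (g x)} := by
          rw [Finset.disjoint_right]
          intro y hy hyT
          have h1 := hTf y hyT
          simp only [Finset.mem_insert, Finset.mem_singleton] at hy
          rcases hy with rfl | rfl | rfl
          · exact hx1 h1
          · exact hx2 h1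
          · exact hx3 (by rw [hggg] at h1; exact h1.symm)
        refine ⟨T ∪ {x, g x, g (g x)}, ?_, ?_, ?_⟩
        · apply Finset.union_subset
          · exact fun y hy => (Finset.mem_filter.1 (hT hy)).1
          · intro y hy
            simp only [Finset.mem_insert, Finset.mem_singleton] at hy
            rcases hy with rfl | rfl | rfl
            · exact hxD
            · exact hDmem _ hxD
            · exact hDmem _ (hDmem _ hxD)
        · rw [Finset.card_union_of_disjoint hdisj, hT2, hC]
        · intro y hy
          simp only [Finset.mem_union, Finset.mem_insert, Finset.mem_singleton] at hy ⊢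
          rcases hy with hy | rfl | rfl | rfl
          · left; rw [hTf y hy]; exact hy
          · right; right; left; rfl
          · right; right; right; rfl
          · right; left; exact hggg
    obtain ⟨S, hSD, hS5, hSg⟩ := key
    obtain ⟨O, ⟨hO, hSO⟩, -⟩ := (Cfsg.Agent.S0363.result).2 S hS5
    have hgO : g • O = O := by
      have hgO' : g • O ∈ octads := Cfsg.Agent.SporadicA.M24Frames.smul_mem_octads hgM hO
      apply Cfsg.Agent.SporadicA.GolayBase.octad_unique hgO' hO
      rw [← hS5]
      apply Finset.card_le_card
      intro y hy
      refine Finset.mem_inter.2 ⟨?_, hSO hy⟩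
      have hSS : g • S = S := by
        apply Finset.eq_of_subset_of_card_le
        · intro z hz
          obtain ⟨w, hw, rfl⟩ := Finset.mem_smul_finset.1 hz
          exact hSg w hw
        · rw [Finset.card_smul_finset]
      rw [← hSS] at hy
      exact Finset.smul_finset_subset_smul_finset hSO hy
    have h6 : (O ∩ D).card = 6 := by
      have h : (O ∩ D).card = 2 ∨ (O ∩ D).card = 4 ∨ (O ∩ D).card = 6 :=
        Cfsg.Agent.SporadicA.Dodecad.octad_inter_dodecad hO hDd
      have h5 : 5 ≤ (O ∩ D).card := by
        rw [← hS5]
        exact Finset.card_le_card (Finset.subset_inter hSO hSD)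
      omega
    have h2 : (O \ D).card = 2 := by
      have := Finset.card_sdiff_add_card_inter O D
      have h8 : O.card = 8 := hO.2
      omega
    have h := card_modEq Nat.prime_three hpow (O \ D) (fun x hx => by
      rw [Finset.mem_sdiff] at hx ⊢
      refine ⟨?_, hDmem' x hx.2⟩
      have := Finset.smul_mem_smul_finset (a := g) hx.1
      rwa [hgO] at this)
    rw [h2, Finset.filter_false_of_mem (fun x hx => hno x (Finset.mem_sdiff.1 hx).2),
      Finset.card_empty] at h
    exact absurd h (by decide)

end Cfsg.Agent.S5522
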