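import Cfsg.Statements.S5524
import Cfsg.Agent.H995.LB.Fin
import Cfsg.Agent.H843.Fi23MaxB

set_option autoImplicit false
open Cfsg

namespace Cfsg.Agent.S5524

/-- In the Baby Monster B (the finitely presented group of the definitions), with F a field of 23 elements: B has a subgroup isomorphic to PSL₂(F); any two such subgroups are conjugate in B; each is self-normalizing; and each lies in a maximal subgroup of B isomorphic to the Fischer group Fi₂₃. -/
theorem result {F : Type*} [Field F] [Fintype F] (hF : Fintype.card F = 23) :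
    (∃ H : Subgroup Cfsg.Spor.BabyMonster, Nonempty (↥H ≃* Matrix.ProjectiveSpecialLinearGroup (Fin 2) F)) ∧
    (∀ H₁ H₂ : Subgroup Cfsg.Spor.BabyMonster, Nonempty (↥H₁ ≃* Matrix.ProjectiveSpecialLinearGroup (Fin 2) F) →
      Nonempty (↥H₂ ≃* Matrix.ProjectiveSpecialLinearGroup (Fin 2) F) → ∃ g : Cfsg.Spor.BabyMonster, H₂ = H₁.map (MulAut.conj g).toMonoidHom) ∧
    (∀ H : Subgroup Cfsg.Spor.BabyMonster, Nonempty (↥H ≃* Matrix.ProjectiveSpecialLinearGroup (Fin 2) F) →
      Subgroup.normalizer (H : Set Cfsg.Spor.BabyMonster) = H ∧ ∃ M : Subgroup Cfsg.Spor.BabyMonster, IsCoatom M ∧ Cfsg.Spor.IsoFi23 ↥M ∧ H ≤ M) :=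
  H995.LB.main_of (fun _ hK hC => H843.Fi23Max.coatom hK hC) hF

end Cfsg.Agent.S5524
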