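import Cfsg.Statements.S5642
import Cfsg.Agent.H873.Tv

set_option autoImplicit false
set_option linter.unusedSectionVars false
open Cfsg

namespace Cfsg.Agent.S5642

open Matrix Cfsg.Agent.H873

section

variable {ι : Type} [Fintype ι] [DecidableEq ι] {F : Type*} [Field F]

/-- The coordinate vector of the functional `f v ·`. -/
def rep (f : (ι → F) → (ι → F) → F) (v : ι → F) : ι → F := fun j => f v (Pi.single j 1)

theorem sum_right {f : (ι → F) → (ι → F) → F} (hf : Cfsg.Geo.IsBilinearForm f) (v : ι → F)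
    {κ : Type} (s : Finset κ) (g : κ → ι → F) : f v (∑ i ∈ s, g i) = ∑ i ∈ s, f v (g i) := by
  classical
  induction s using Finset.induction_on with
  | empty =>
    have := hf.smul_right 0 v 0
    simpa using this
  | insert a s ha ih => rw [Finset.sum_insert ha, Finset.sum_insert ha, hf.add_right, ih]

theorem rep_dot {f : (ι → F) → (ι → F) → F} (hf : Cfsg.Geo.IsBilinearForm f) (v u : ι → F) :
    rep f v ⬝ᵥ u = f v u := by
  conv_rhs => rw [pi_eq_sum_univ u]
  rw [sum_right hf]
  unfold dotProduct rep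
  refine Finset.sum_congr rfl fun j _ => ?_
  rw [hf.smul_right, mul_comm]
  congr 2
  ext i
  simp [Pi.single_apply, eq_comm]

theorem rep_add {f : (ι → F) → (ι → F) → F} (hf : Cfsg.Geo.IsBilinearForm f) (v w : ι → F) :
    rep f (v + w) = rep f v + rep f w := by
  ext j
  exact hf.add_left v w _

theorem rep_smul {f : (ι → F) → (ι → F) → F} (hf : Cfsg.Geo.IsBilinearForm f) (c : F)
    (v : ι → F) : rep f (c • v) = c • rep f v := by
  ext j
  exact hf.smul_left c v _

theorem f_sub_right {f : (ι → F) → (ι → F) → F} (hf : Cfsg.Geo.IsBilinearForm f) (v x y : ι → F) :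
    f v (x - y) = f v x - f v y := by
  rw [← rep_dot hf, ← rep_dot hf, ← rep_dot hf, dotProduct_sub]

theorem f_zero_right {f : (ι → F) → (ι → F) → F} (hf : Cfsg.Geo.IsBilinearForm f) (v : ι → F) :
    f v 0 = 0 := by
  rw [← rep_dot hf, dotProduct_zero]

theorem dot_ext {φ ψ : ι → F} (h : ∀ u, φ ⬝ᵥ u = ψ ⬝ᵥ u) : φ = ψ := by
  ext j
  have := h (Pi.single j 1)
  simpa using this

/-- If two functionals are not proportional and the second is nonzero then the kernel of the
second is not contained in the kernel of the first. -/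
theorem exists_ker {φ ψ : ι → F} (h : ∀ c : F, φ ≠ c • ψ) : ∃ a, ψ ⬝ᵥ a = 0 ∧ φ ⬝ᵥ a ≠ 0 := by
  by_contra hcon
  push Not at hcon
  by_cases hψ : ψ = 0
  · refine h 0 ?_
    rw [zero_smul]
    apply dot_ext
    intro u
    rw [zero_dotProduct]
    exact hcon u (by rw [hψ, zero_dotProduct])
  · obtain ⟨w, hw⟩ : ∃ w, ψ ⬝ᵥ w ≠ 0 := by
      by_contra hc
      push Not at hc
      exact hψ (dot_ext fun u => by rw [hc u, zero_dotProduct])
    refine h ((φ ⬝ᵥ w) / (ψ ⬝ᵥ w)) (dot_ext fun u => ?_)
    have h1 := hcon (u - ((ψ ⬝ᵥ u) / (ψ ⬝ᵥ w)) • w) (by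
      rw [dotProduct_sub, dotProduct_smul, smul_eq_mul]
      field_simp
      ring)
    rw [dotProduct_sub, dotProduct_smul, smul_eq_mul, sub_eq_zero] at h1
    rw [h1, smul_dotProduct, smul_eq_mul]
    field_simp

variable {f : (ι → F) → (ι → F) → F}

/-- Symplectic transvections lie in the similarity group. -/
theorem hasTv_symp (hf : Cfsg.Geo.IsSymplecticForm f) (c : F) (v : ι → F) :
    HasTv (Cfsg.Geo.similarityGroup f ⊓ Cfsg.Geo.specialLinear ι F) (c • v) (rep f v) := by
  have h0 : rep f v ⬝ᵥ (c • v) = 0 := by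
    rw [rep_dot hf.bilinear, hf.bilinear.smul_right, hf.alternating, mul_zero]
  rw [hasTv_iff]
  refine ⟨h0, ?_, tv_mem_specialLinear _ _ h0⟩
  refine ⟨1, fun x y => ?_⟩
  rw [tv_mulVec, tv_mulVec, rep_dot hf.bilinear, rep_dot hf.bilinear]
  simp only [hf.bilinear.add_left, hf.bilinear.add_right, hf.bilinear.smul_left,
    hf.bilinear.smul_right, hf.alternating, Units.val_one]
  rw [hf.skew x v]
  ring

/-- If `M` contains a transvection with centre `v` and axis `ψ` not equal to `v^⊥` and all symplectic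
transvections, then it contains all the transvections with that axis. -/
theorem full_axis (hf : Cfsg.Geo.IsSymplecticForm f) {M : Subgroup (GL ι F)}
    (hM : Cfsg.Geo.similarityGroup f ⊓ Cfsg.Geo.specialLinear ι F ≤ M) {v ψ : ι → F}
    (hv : HasTv M v ψ) (hp : ∀ c : F, rep f v ≠ c • ψ) (b : ι → F) (hb : ψ ⬝ᵥ b = 0) :
    HasTv M b ψ := by
  have key : ∀ a, ψ ⬝ᵥ a = 0 → f v a ≠ 0 → HasTv M a ψ := by
    intro a ha hva
    have h1 : HasTv M a ((-(f v a)⁻¹) • rep f a) :=
      (hasTv_smul_comm _ _ _ _).1 ((hasTv_symp hf _ a).mono hM)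
    have h2 := hv.comm h1 ha
    rw [smul_dotProduct, rep_dot hf.bilinear, hf.skew a v, smul_eq_mul, neg_mul_neg,
      inv_mul_cancel₀ hva, one_smul] at h2
    exact h2
  by_cases hvb : f v b = 0
  · obtain ⟨a, ha, hva⟩ := exists_ker hp
    rw [rep_dot hf.bilinear] at hva
    have h1 := key a ha hva
    have h2 := key (b + a) (by rw [dotProduct_add, ha, hb, add_zero])
      (by rw [hf.bilinear.add_right, hvb, zero_add]; exact hva)
    have h3 := h2.sub_left h1
    rwa [add_sub_cancel_right] at h3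
  · exact key b hb hvb

/-- Every functional is represented. -/
theorem exists_rep (hf : Cfsg.Geo.IsSymplecticForm f) (ψ : ι → F) : ∃ w, rep f w = ψ := by
  let L : (ι → F) →ₗ[F] (ι → F) :=
    { toFun := rep f
      map_add' := rep_add hf.bilinear
      map_smul' := fun c v => rep_smul hf.bilinear c v }
  have hinj : Function.Injective L := by
    rw [injective_iff_map_eq_zero]
    intro v hv
    by_contra hne
    obtain ⟨-, x, hx⟩ := hf.nondegenerate v hne
    apply hx
    rw [← rep_dot hf.bilinear]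
    change L v ⬝ᵥ x = 0
    rw [hv, zero_dotProduct]
  exact LinearMap.surjective_of_injective hinj ψ

/-- Spreading the axis. -/
theorem spread (hf : Cfsg.Geo.IsSymplecticForm f) {M : Subgroup (GL ι F)}
    (hM : Cfsg.Geo.similarityGroup f ⊓ Cfsg.Geo.specialLinear ι F ≤ M) {w : ι → F}
    (hw : ∀ b, f w b = 0 → HasTv M b (rep f w)) (w' : ι → F) (hww : f w w' ≠ 0) :
    ∀ b, f w' b = 0 → HasTv M b (rep f w') := by
  intro b hb
  -- the transvection with centre w' - w taking w to w'
  have hne : f (w' - w) w ≠ 0 := by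
    rw [hf.skew, f_sub_right hf.bilinear, hf.alternating, sub_zero]
    exact neg_ne_zero.2 hww
  set c := (f (w' - w) w)⁻¹ with hc
  obtain ⟨h0, hm⟩ := (hasTv_iff _ _ _).1 (hasTv_symp hf c (w' - w))
  have hgw : (tv (c • (w' - w)) (rep f (w' - w)) h0 : Matrix ι ι F) *ᵥ w = w' := by
    rw [tv_mulVec, rep_dot hf.bilinear, smul_smul, hc, mul_inv_cancel₀ hne, one_smul]
    abel
  have hiso : ∀ x y, f ((tv (c • (w' - w)) (rep f (w' - w)) h0 : Matrix ι ι F) *ᵥ x)
      ((tv (c • (w' - w)) (rep f (w' - w)) h0 : Matrix ι ι F) *ᵥ y) = f x y := by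
    intro x y
    rw [tv_mulVec, tv_mulVec, rep_dot hf.bilinear, rep_dot hf.bilinear]
    simp only [hf.bilinear.add_left, hf.bilinear.add_right, hf.bilinear.smul_left,
      hf.bilinear.smul_right, hf.alternating]
    rw [hf.skew x (w' - w)]
    ring
  generalize htt : tv (c • (w' - w)) (rep f (w' - w)) h0 = g at *
  have hginv : ∀ x, (g : Matrix ι ι F) *ᵥ (((g⁻¹ : GL ι F) : Matrix ι ι F) *ᵥ x) = x := by
    intro x
    rw [mulVec_mulVec, ← Units.val_mul, mul_inv_cancel, Units.val_one, one_mulVec]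
  have h1 := (hw (((g⁻¹ : GL ι F) : Matrix ι ι F) *ᵥ b) (by
    rw [← hiso, hgw, hginv, hb])).conj (hM hm)
  rw [hginv] at h1
  convert h1 using 1
  apply dot_ext
  intro u
  rw [← dotProduct_mulVec, rep_dot hf.bilinear, rep_dot hf.bilinear]
  conv_rhs => rw [← hiso, hgw, hginv]

/-- In a subgroup containing `Sp` one full axis gives everything. -/
theorem top_of_full (hf : Cfsg.Geo.IsSymplecticForm f) [Nontrivial ι] {M : Subgroup (GL ι F)}
    (hM : Cfsg.Geo.similarityGroup f ⊓ Cfsg.Geo.specialLinear ι F ≤ M) {w : ι → F} (hw0 : w ≠ 0)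
    (hw : ∀ b, f w b = 0 → HasTv M b (rep f w)) :
    Cfsg.Geo.specialLinear ι F ≤ M := by
  have key : ∀ w', w' ≠ 0 → ∀ b, f w' b = 0 → HasTv M b (rep f w') := by
    intro w' hw'
    by_cases hww : f w w' ≠ 0
    · exact spread hf hM hw w' hww
    · push Not at hww
      obtain ⟨-, x, hx⟩ := hf.nondegenerate w hw0
      obtain ⟨⟨y, hy⟩, -⟩ := hf.nondegenerate w' hw'
      -- some z with f w z ≠ 0 and f z w' ≠ 0
      obtain ⟨z, hz, hz'⟩ : ∃ z, f w z ≠ 0 ∧ f z w' ≠ 0 := by
        by_cases h1 : f x w' = 0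
        · by_cases h2 : f w y = 0
          · exact ⟨x + y, by rw [hf.bilinear.add_right, h2, add_zero]; exact hx,
              by rw [hf.bilinear.add_left, h1, zero_add]; exact hy⟩
          · exact ⟨y, h2, hy⟩
        · exact ⟨x, hx, h1⟩
      exact spread hf hM (spread hf hM hw z hz) w' hz'
  refine specialLinear_le_of_hasTv fun i j hij c => ?_
  obtain ⟨w', hw'⟩ := exists_rep hf (Pi.single j (1 : F))
  have hne : w' ≠ 0 := by
    rintro rfl
    have : rep f 0 = 0 := by
      have := rep_smul hf.bilinear 0 (0 : ι → F)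
      simpa using this
    rw [this] at hw'
    have := congrFun hw' j
    simp at this
  rw [← hw']
  refine key w' hne _ ?_
  rw [← rep_dot hf.bilinear, hw']
  simp [hij]

/-- If every transvection conjugate is symplectic then the element is a similarity. -/
theorem sim_of_prop (hf : Cfsg.Geo.IsSymplecticForm f) (g : GL ι F)
    (h : ∀ v, v ≠ 0 → ∃ c : F, ∀ u, f v u = c * f ((g : Matrix ι ι F) *ᵥ v) ((g : Matrix ι ι F) *ᵥ u)) :
    g ∈ Cfsg.Geo.similarityGroup f := by
  classical
  have hginv : ∀ x, (g : Matrix ι ι F) *ᵥ (((g⁻¹ : GL ι F) : Matrix ι ι F) *ᵥ x) = x := by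
    intro x
    rw [mulVec_mulVec, ← Units.val_mul, mul_inv_cancel, Units.val_one, one_mulVec]
  have hginv' : ∀ x, ((g⁻¹ : GL ι F) : Matrix ι ι F) *ᵥ ((g : Matrix ι ι F) *ᵥ x) = x := by
    intro x
    rw [mulVec_mulVec, ← Units.val_mul, inv_mul_cancel, Units.val_one, one_mulVec]
  -- the transported form
  set f' : (ι → F) → (ι → F) → F :=
    fun u v => f ((g : Matrix ι ι F) *ᵥ u) ((g : Matrix ι ι F) *ᵥ v) with hf'
  have hf'b : Cfsg.Geo.IsBilinearForm f' := by
    refine ⟨fun x y v => ?_, fun c x v => ?_, fun v x y => ?_, fun c x v => ?_⟩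
    · simp only [hf', mulVec_add, hf.bilinear.add_left]
    · simp only [hf', mulVec_smul, hf.bilinear.smul_left]
    · simp only [hf', mulVec_add, hf.bilinear.add_right]
    · simp only [hf', mulVec_smul, hf.bilinear.smul_right]
  have hf'nd : ∀ v, rep f' v = 0 → v = 0 := by
    intro v hv
    by_contra hne
    have : (g : Matrix ι ι F) *ᵥ v ≠ 0 := by
      intro h0
      apply hne
      rw [← hginv' v, h0, mulVec_zero]
    obtain ⟨-, x, hx⟩ := hf.nondegenerate _ this
    apply hx
    have h1 := rep_dot hf'b v (((g⁻¹ : GL ι F) : Matrix ι ι F) *ᵥ x)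
    rw [hv, zero_dotProduct] at h1
    simp only [hf', hginv] at h1
    exact h1.symm
  choose! c hc using h
  have hc' : ∀ v, v ≠ 0 → rep f v = c v • rep f' v := by
    intro v hv
    apply dot_ext
    intro u
    rw [smul_dotProduct, rep_dot hf.bilinear, rep_dot hf'b, hc v hv u, smul_eq_mul]
  -- c is constant
  have hconst : ∀ v w, v ≠ 0 → w ≠ 0 → c v = c w := by
    intro v w hv hw
    by_cases hdep : ∃ t : F, w = t • v
    · obtain ⟨t, rfl⟩ := hdep
      have ht : t ≠ 0 := by
        rintro rfl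
        simp at hw
      have h1 := hc' _ hw
      rw [rep_smul hf.bilinear, rep_smul hf'b, hc' v hv, smul_smul, smul_smul] at h1
      by_contra hne
      apply hv
      apply hf'nd
      have h2 : (t * c v - c (t • v) * t) • rep f' v = 0 := by
        rw [sub_smul, h1, sub_self]
      rcases smul_eq_zero.1 h2 with h3 | h3
      · exfalso
        apply hne
        have : t * (c v - c (t • v)) = 0 := by rw [← h3]; ring
        rcases mul_eq_zero.1 this with h4 | h4
        · exact absurd h4 ht
        · exact sub_eq_zero.1 h4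
      · exact h3
    · have hvw : v + w ≠ 0 := by
        intro h0
        apply hdep
        exact ⟨-1, by rw [neg_one_smul]; exact (neg_eq_of_add_eq_zero_right h0).symm⟩
      have h1 := hc' _ hvw
      rw [rep_add hf.bilinear, rep_add hf'b, hc' v hv, hc' w hw, smul_add] at h1
      have h2 : rep f' ((c v - c (v + w)) • v + (c w - c (v + w)) • w) = 0 := by
        rw [rep_add hf'b, rep_smul hf'b, rep_smul hf'b, sub_smul, sub_smul]
        have : c v • rep f' v + c w • rep f' w - (c (v + w) • rep f' v + c (v + w) • rep f' w) = 0 := by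
          rw [h1, sub_self]
        rw [← this]
        abel
      have h3 := hf'nd _ h2
      have h5 : c w - c (v + w) = 0 := by
        by_contra hne
        apply hdep
        refine ⟨-((c w - c (v + w))⁻¹ * (c v - c (v + w))), ?_⟩
        have h4 : (c w - c (v + w)) • w = -((c v - c (v + w)) • v) := by
          rw [eq_neg_iff_add_eq_zero, add_comm, h3]
        calc w = (c w - c (v + w))⁻¹ • ((c w - c (v + w)) • w) := by
              rw [smul_smul, inv_mul_cancel₀ hne, one_smul]
          _ = _ := by rw [h4, smul_neg, smul_smul, neg_smul]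
      rw [h5, zero_smul, add_zero] at h3
      rcases smul_eq_zero.1 h3 with h4 | h4
      · rw [sub_eq_zero.1 h4, sub_eq_zero.1 h5]
      · exact absurd h4 hv
  by_cases hall : ∀ v : ι → F, v = 0
  · refine ⟨1, fun u v => ?_⟩
    rw [hall u, hall v, mulVec_zero, Units.val_one, one_mul]
  · push Not at hall
    obtain ⟨v₀, hv₀⟩ := hall
    have hc0 : c v₀ ≠ 0 := by
      intro h0
      obtain ⟨-, x, hx⟩ := hf.nondegenerate v₀ hv₀
      apply hx
      rw [hc v₀ hv₀, h0, zero_mul]
    refine ⟨(Units.mk0 (c v₀) hc0)⁻¹, fun u v => ?_⟩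
    rw [Units.val_inv_eq_inv_val, Units.val_mk0]
    by_cases hu : u = 0
    · rw [hu, mulVec_zero, ← neg_neg (f 0 _), ← hf.skew, f_zero_right hf.bilinear,
        ← neg_neg (f 0 v), ← hf.skew, f_zero_right hf.bilinear]
      simp
    · rw [hc u hu v, hconst u v₀ hu hv₀, ← mul_assoc, inv_mul_cancel₀ hc0, one_mul]

end

/-- For a finite field F and n ≥ 13, let f be a non-degenerate symplectic form on F^n (so n is even). Then the elements of SL_n(F) that are similarities of f (f(gu, gv) = c f(u, v) for a non-zero scalar c depending on g) form a maximal subgroup of SL_n(F). -/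
theorem result {F : Type*} [Field F] [Fintype F] (n : ℕ) (hn : 13 ≤ n) (f : (Fin n → F) → (Fin n → F) → F) (hf : Cfsg.Geo.IsSymplecticForm f) : Cfsg.Geo.IsMaximalIn (Cfsg.Geo.specialLinear (Fin n) F) (Cfsg.Geo.similarityGroup f ⊓ Cfsg.Geo.specialLinear (Fin n) F) := by
  classical
  have : Nontrivial (Fin n) := Fin.nontrivial_iff_two_le.2 (by omega)
  refine ⟨lt_of_le_of_ne inf_le_right ?_, ?_⟩
  · -- properness
    intro hEq
    have hSL : ∀ {a φ : Fin n → F}, φ ⬝ᵥ a = 0 → HasTv (Cfsg.Geo.similarityGroup f) a φ := by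
      intro a φ h
      have := hasTv_specialLinear (ι := Fin n) (F := F) h
      rw [← hEq] at this
      exact this.mono inf_le_left
    let i0 : Fin n := ⟨0, by omega⟩
    let a : Fin n → F := Pi.single i0 1
    have ha : a ≠ 0 := by
      intro h
      have := congrFun h i0
      simp [a] at this
    obtain ⟨-, b, hb⟩ := hf.nondegenerate a ha
    -- a nonzero functional killing a and b
    obtain ⟨φ, hφ0, hφa, hφb⟩ : ∃ φ : Fin n → F, φ ≠ 0 ∧ φ ⬝ᵥ a = 0 ∧ φ ⬝ᵥ b = 0 := by
      let L : (Fin n → F) →ₗ[F] (F × F) :=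
        { toFun := fun φ => (φ ⬝ᵥ a, φ ⬝ᵥ b)
          map_add' := fun x y => by simp [add_dotProduct]
          map_smul' := fun c x => by simp [smul_dotProduct] }
      have hker : LinearMap.ker L ≠ ⊥ := by
        apply LinearMap.ker_ne_bot_of_finrank_lt
        simp
        omega
      obtain ⟨φ, hφ, hφ0⟩ := (Submodule.ne_bot_iff _).1 hker
      have h1 : L φ = 0 := hφ
      have h2 : (φ ⬝ᵥ a, φ ⬝ᵥ b) = ((0 : F), (0 : F)) := h1
      exact ⟨φ, hφ0, (Prod.ext_iff.1 h2).1, (Prod.ext_iff.1 h2).2⟩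
    obtain ⟨v, hv⟩ : ∃ v, φ ⬝ᵥ v ≠ 0 := by
      by_contra hc
      push Not at hc
      exact hφ0 (dot_ext fun u => by rw [hc u, zero_dotProduct])
    obtain ⟨h0, g, ⟨c, hc⟩, hg⟩ := hSL hφa
    have h1 := hc a b
    rw [hg, one_add_mulVec, one_add_mulVec, hφa, hφb, zero_smul, add_zero, add_zero] at h1
    have hc1 : (c : F) = 1 := by
      have : ((c : F) - 1) * f a b = 0 := by rw [sub_mul, ← h1, one_mul, sub_self]
      rcases mul_eq_zero.1 this with h | h
      · exact sub_eq_zero.1 h
      · exact absurd h hb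
    have h2 := hc b v
    rw [hg, one_add_mulVec, one_add_mulVec, hφb, zero_smul, add_zero, hc1, one_mul,
      hf.bilinear.add_right, hf.bilinear.smul_right] at h2
    have h3 : (φ ⬝ᵥ v) * f b a = 0 := by
      have : f b v + (φ ⬝ᵥ v) * f b a - f b v = 0 := by rw [h2, sub_self]
      rwa [add_sub_cancel_left] at this
    rcases mul_eq_zero.1 h3 with h | h
    · exact hv h
    · apply hb
      rw [hf.skew, h, neg_zero]
  · intro M hM hMS
    by_cases hle : M ≤ Cfsg.Geo.similarityGroup f
    · left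
      exact le_antisymm (le_inf hle hMS) hM
    · right
      refine le_antisymm hMS ?_
      obtain ⟨g, hgM, hgn⟩ := SetLike.not_le_iff_exists.1 hle
      have h1 : ¬ ∀ v, v ≠ 0 → ∃ c : F, ∀ u, f v u =
          c * f ((g : Matrix (Fin n) (Fin n) F) *ᵥ v) ((g : Matrix (Fin n) (Fin n) F) *ᵥ u) := fun h =>
        hgn (sim_of_prop hf g h)
      push Not at h1
      obtain ⟨v, hv0, hv⟩ := h1
      have hginv : ∀ x, (g : Matrix (Fin n) (Fin n) F) *ᵥ (((g⁻¹ : GL (Fin n) F) : Matrix (Fin n) (Fin n) F) *ᵥ x) = x := by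
        intro x
        rw [mulVec_mulVec, ← Units.val_mul, mul_inv_cancel, Units.val_one, one_mulVec]
      have hginv' : ∀ x, ((g⁻¹ : GL (Fin n) F) : Matrix (Fin n) (Fin n) F) *ᵥ ((g : Matrix (Fin n) (Fin n) F) *ᵥ x) = x := by
        intro x
        rw [mulVec_mulVec, ← Units.val_mul, inv_mul_cancel, Units.val_one, one_mulVec]
      have hx : HasTv M v (rep f v) := by
        have := (hasTv_symp hf 1 v).mono hM
        rwa [one_smul] at this
      have hx' := hx.conj hgM
      set ψ := rep f v ᵥ* ((g⁻¹ : GL (Fin n) F) : Matrix (Fin n) (Fin n) F) with hψ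
      have hψdot : ∀ u, ψ ⬝ᵥ u = f v (((g⁻¹ : GL (Fin n) F) : Matrix (Fin n) (Fin n) F) *ᵥ u) := by
        intro u
        rw [hψ, ← dotProduct_mulVec, rep_dot hf.bilinear]
      have hψ0 : ψ ≠ 0 := by
        intro h0
        obtain ⟨-, x, hx⟩ := hf.nondegenerate v hv0
        apply hx
        have := hψdot ((g : Matrix (Fin n) (Fin n) F) *ᵥ x)
        rw [hginv', h0, zero_dotProduct] at this
        exact this.symm
      have hp : ∀ c : F, rep f ((g : Matrix (Fin n) (Fin n) F) *ᵥ v) ≠ c • ψ := by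
        intro c hcc
        have hc0 : c ≠ 0 := by
          rintro rfl
          rw [zero_smul] at hcc
          have hne : (g : Matrix (Fin n) (Fin n) F) *ᵥ v ≠ 0 := by
            intro h0
            apply hv0
            rw [← hginv' v, h0, mulVec_zero]
          obtain ⟨-, x, hx⟩ := hf.nondegenerate _ hne
          apply hx
          rw [← rep_dot hf.bilinear, hcc, zero_dotProduct]
        obtain ⟨u, hu⟩ := hv c⁻¹
        apply hu
        rw [← rep_dot hf.bilinear (((g : Matrix (Fin n) (Fin n) F) *ᵥ v)), hcc, smul_dotProduct, hψdot, hginv',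
          smul_eq_mul, ← mul_assoc, inv_mul_cancel₀ hc0, one_mul]
      have hfull := full_axis hf hM hx' hp
      obtain ⟨w, hw⟩ := exists_rep hf ψ
      have hw0 : w ≠ 0 := by
        rintro rfl
        apply hψ0
        rw [← hw]
        have := rep_smul hf.bilinear 0 (0 : Fin n → F)
        simpa using this
      refine top_of_full hf hM hw0 ?_
      intro b hb
      rw [hw]
      refine hfull b ?_
      rw [← hw, rep_dot hf.bilinear, hb]

end Cfsg.Agent.S5642
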