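import Cfsg.Statements.S5652
import Cfsg.Agent.S0750
import Cfsg.Agent.S0762
import Cfsg.Agent.H876.SpGen

set_option autoImplicit false
open Cfsg

namespace Cfsg.Agent.S5652

open Cfsg.Agent.ClassicalGeometry.SympBasic Cfsg.Agent.H876
open scoped Matrix MatrixGroups

section
variable {F : Type*} [Field F] {m : ℕ}

/-- The quadratic form as a Mathlib quadratic form. -/
noncomputable def qf (Q : (Fin m ⊕ Fin m → F) → F) (hQ : Cfsg.Geo.IsNondegenerateQuadraticForm Q)
    (hpol : ∀ u v, QuadraticMap.polar Q u v = Cfsg.sympForm m F u v) :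
    QuadraticForm F (Fin m ⊕ Fin m → F) where
  toFun := Q
  toFun_smul := fun a x => by rw [hQ.smul, smul_eq_mul, pow_two]
  exists_companion' := ⟨sympBilin m F, fun x y => by
    rw [sympBilin_apply, ← hpol, QuadraticMap.polar]; ring⟩

variable {Q : (Fin m ⊕ Fin m → F) → F}

theorem Q_add (hpol : ∀ u v, QuadraticMap.polar Q u v = Cfsg.sympForm m F u v)
    (u v : Fin m ⊕ Fin m → F) : Q (u + v) = Q u + Q v + sympForm m F u v := by
  rw [← hpol, QuadraticMap.polar]; ring

theorem sp_form {g : GL (Fin m ⊕ Fin m) F} (hg : g ∈ spGL m F) (u v : Fin m ⊕ Fin m → F) :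
    sympForm m F ((g : Matrix _ _ F) *ᵥ u) ((g : Matrix _ _ F) *ᵥ v) = sympForm m F u v :=
  hg u v

theorem exists_sq [Finite F] [CharP F 2] (a : F) : ∃ b : F, b ^ 2 = a := by
  have h : Function.Injective (frobenius F 2) := frobenius_inj F 2
  obtain ⟨b, hb⟩ := Finite.surjective_of_injective h a
  exact ⟨b, by simpa [frobenius_def] using hb⟩

theorem sq_inj [CharP F 2] {a b : F} (h : a ^ 2 = b ^ 2) : a = b := by
  have := frobenius_inj F 2
  exact this (by simpa [frobenius_def] using h)

/-- in a non-degenerate perp of dimension at least four every value is attained at a non-zero vector. -/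
theorem exists_value [Finite F] [CharP F 2] (hm : 7 ≤ m)
    (hQ : Cfsg.Geo.IsNondegenerateQuadraticForm Q)
    (hpol : ∀ u v, QuadraticMap.polar Q u v = Cfsg.sympForm m F u v)
    {a b : Fin m ⊕ Fin m → F} (hab : sympForm m F a b = 1) (t : F) :
    ∃ w, w ≠ 0 ∧ sympForm m F a w = 0 ∧ sympForm m F b w = 0 ∧ Q w = t := by
  classical
  set φ : (Fin m ⊕ Fin m → F) →ₗ[F] (F × F) := (sympBilin m F a).prod (sympBilin m F b) with hφ
  set W := LinearMap.ker φ with hW
  have hdim : 3 ≤ Module.finrank F W := by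
    have h1 := LinearMap.finrank_range_add_finrank_ker φ
    have h2 : Module.finrank F (LinearMap.range φ) ≤ 2 := by
      calc Module.finrank F (LinearMap.range φ) ≤ Module.finrank F (F × F) := Submodule.finrank_le _
        _ = 2 := by simp
    have h3 : Module.finrank F (Fin m ⊕ Fin m → F) = m + m := by simp
    rw [h3, ← hW] at h1
    omega
  have hmem : ∀ w, w ∈ W ↔ sympForm m F a w = 0 ∧ sympForm m F b w = 0 := by
    intro w
    rw [hW, LinearMap.mem_ker, hφ, LinearMap.prod_apply]
    simp [Prod.ext_iff]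
  obtain ⟨w1, hw1, hQ1⟩ := Cfsg.Agent.S0762.result ((qf Q hQ hpol).comp W.subtype) hdim
  have hQ1' : Q (w1 : Fin m ⊕ Fin m → F) = 0 := hQ1
  have hw1' : (w1 : Fin m ⊕ Fin m → F) ≠ 0 := by simpa using hw1
  obtain ⟨h1a, h1b⟩ := (hmem w1).1 w1.2
  -- a vector of `W` not orthogonal to `w1`
  obtain ⟨z, hz⟩ : ∃ z, sympForm m F w1 z ≠ 0 := by
    by_contra h
    push Not at h
    exact hw1' (eq_zero_of_forall_sympForm_right h)
  -- project `z` to W
  set z' := z - (sympForm m F z b) • a + (sympForm m F z a) • b with hz'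
  have hz'a : sympForm m F a z' = 0 := by
    rw [hz', sympForm_add_right, sympForm_sub_right, sympForm_smul_right, sympForm_smul_right,
      sympForm_self, hab, sympForm_swap a z]
    ring
  have hz'b : sympForm m F b z' = 0 := by
    rw [hz', sympForm_add_right, sympForm_sub_right, sympForm_smul_right, sympForm_smul_right,
      sympForm_self, sympForm_swap b a, hab, sympForm_swap b z]
    ring
  have hz'1 : sympForm m F w1 z' = sympForm m F w1 z := by
    rw [hz', sympForm_add_right, sympForm_sub_right, sympForm_smul_right, sympForm_smul_right,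
      sympForm_swap (w1 : Fin m ⊕ Fin m → F) a, sympForm_swap (w1 : Fin m ⊕ Fin m → F) b, h1a, h1b]
    ring
  set c := sympForm m F w1 z with hc
  refine ⟨z' + ((t - Q z') / c) • (w1 : Fin m ⊕ Fin m → F), ?_, ?_, ?_, ?_⟩
  · intro h0
    have := congrArg (sympForm m F w1) h0
    rw [sympForm_add_right, sympForm_smul_right, sympForm_self, hz'1, sympForm_zero_right] at this
    apply hz
    simpa using this
  · rw [sympForm_add_right, sympForm_smul_right, hz'a, h1a]; ring
  · rw [sympForm_add_right, sympForm_smul_right, hz'b, h1b]; ring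
  · rw [Q_add hpol, hQ.smul, hQ1', sympForm_smul_right, sympForm_swap z', hz'1]
    have hneg : -c = c := CharTwo.neg_eq c
    rw [hneg]
    field_simp
    ring

/-- Every symplectic isometry changes `Q` by the square of a linear functional. -/
theorem exists_shift [Finite F] [CharP F 2]
    (hQ : Cfsg.Geo.IsNondegenerateQuadraticForm Q)
    (hpol : ∀ u v, QuadraticMap.polar Q u v = Cfsg.sympForm m F u v)
    {g : GL (Fin m ⊕ Fin m) F} (hg : g ∈ spGL m F) :
    ∃ a : Fin m ⊕ Fin m → F, ∀ u, Q ((g : Matrix _ _ F) *ᵥ u) = Q u + sympForm m F a u ^ 2 := by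
  classical
  have hg' : ∀ u v, sympForm m F ((g : Matrix _ _ F) *ᵥ u) ((g : Matrix _ _ F) *ᵥ v) = sympForm m F u v := hg
  choose r hr using fun u : Fin m ⊕ Fin m → F => exists_sq (Q ((g : Matrix _ _ F) *ᵥ u) - Q u)
  have hadd : ∀ u v, r (u + v) = r u + r v := by
    intro u v
    apply sq_inj
    rw [hr, CharTwo.add_sq, hr, hr, Matrix.mulVec_add, Q_add hpol, Q_add hpol, hg']
    ring
  have hsmul : ∀ (c : F) u, r (c • u) = c * r u := by
    intro c u
    apply sq_inj
    rw [hr, mul_pow, hr, Matrix.mulVec_smul, hQ.smul, hQ.smul]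
    ring
  let ρ : (Fin m ⊕ Fin m → F) →ₗ[F] F := { toFun := r, map_add' := hadd, map_smul' := hsmul }
  let e := LinearMap.BilinForm.toDual (sympBilin m F) sympBilin_nondegenerate
  refine ⟨e.symm ρ, fun u => ?_⟩
  have he : sympForm m F (e.symm ρ) u = r u := by
    have := LinearMap.BilinForm.apply_toDual_symm_apply (hB := sympBilin_nondegenerate) (f := ρ) (v := u)
    exact this
  rw [he, hr]
  ring

theorem shift_unique [CharP F 2] {a b : Fin m ⊕ Fin m → F}
    (h : ∀ u, sympForm m F a u ^ 2 = sympForm m F b u ^ 2) : a = b :=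
  eq_of_forall_sympForm_right fun w => sq_inj (h w)

/-- Witt's lemma for one vector, as an element of `GL`. -/
theorem exists_isometry [Finite F] 
    (hQ : Cfsg.Geo.IsNondegenerateQuadraticForm Q)
    (hpol : ∀ u v, QuadraticMap.polar Q u v = Cfsg.sympForm m F u v)
    {a b : Fin m ⊕ Fin m → F} (ha : a ≠ 0) (hb : b ≠ 0) (hab : Q a = Q b) :
    ∃ g : GL (Fin m ⊕ Fin m) F, g ∈ spGL m F ∧
      (∀ u, Q ((g : Matrix _ _ F) *ᵥ u) = Q u) ∧ (g : Matrix _ _ F) *ᵥ a = b := by
  classical
  have hnd : (QuadraticMap.polarBilin (qf Q hQ hpol)).Nondegenerate := by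
    have h1 : QuadraticMap.polarBilin (qf Q hQ hpol) = sympBilin m F := by
      refine LinearMap.ext₂ fun u v => ?_
      rw [QuadraticMap.polarBilin_apply_apply, sympBilin_apply, ← hpol]
      rfl
    rw [h1]
    exact sympBilin_nondegenerate
  let X := Submodule.span F {a}
  let Y := Submodule.span F {b}
  let φ : X ≃ₗ[F] Y := (LinearEquiv.toSpanNonzeroSingleton F _ a ha).symm.trans
    (LinearEquiv.toSpanNonzeroSingleton F _ b hb)
  have hφ : ∀ c : F, φ (LinearEquiv.toSpanNonzeroSingleton F _ a ha c) =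
      LinearEquiv.toSpanNonzeroSingleton F _ b hb c := by
    intro c
    change (LinearEquiv.toSpanNonzeroSingleton F _ b hb)
      ((LinearEquiv.toSpanNonzeroSingleton F _ a ha).symm
        (LinearEquiv.toSpanNonzeroSingleton F _ a ha c)) = _
    rw [LinearEquiv.symm_apply_apply]
  obtain ⟨g, hg, hga⟩ := Cfsg.Agent.S0750.result (qf Q hQ hpol) hnd X Y φ (by
    intro x
    obtain ⟨c, rfl⟩ := (LinearEquiv.toSpanNonzeroSingleton F _ a ha).surjective x
    rw [hφ]
    change Q (c • b) = Q (c • a)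
    rw [hQ.smul, hQ.smul, hab])
  have hg' : ∀ v, Q (g v) = Q v := hg
  refine ⟨glOf g, ?_, ?_, ?_⟩
  · intro u v
    change sympForm m F ((glOf g : Matrix _ _ F) *ᵥ u) ((glOf g : Matrix _ _ F) *ᵥ v) = sympForm m F u v
    rw [glOf_mulVec, glOf_mulVec, ← hpol, ← hpol, QuadraticMap.polar, QuadraticMap.polar,
      ← map_add, hg', hg', hg']
  · intro u
    rw [glOf_mulVec]
    exact hg' u
  · rw [glOf_mulVec]
    have h1 := hga (LinearEquiv.toSpanNonzeroSingleton F _ a ha 1)
    rw [hφ] at h1
    change g ((1 : F) • a) = (1 : F) • b at h1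
    simpa using h1

end

/-- For a finite field F of characteristic two and m ≥ 7, let Q be a non-degenerate quadratic form on F^(2m) whose polar form is the standard alternating form. Then the elements of Sp_2m(F) that are similarities of Q (they are exactly the isometries of Q) form a maximal subgroup of Sp_2m(F). -/
theorem result {F : Type*} [Field F] [Fintype F] (m : ℕ) (hm : 7 ≤ m) (heven : ¬ Odd (Fintype.card F)) (Q : (Fin m ⊕ Fin m → F) → F) (hQ : Cfsg.Geo.IsNondegenerateQuadraticForm Q) (hpol : ∀ u v, QuadraticMap.polar Q u v = Cfsg.sympForm m F u v) : Cfsg.Geo.IsMaximalIn (Cfsg.spGL m F) (Cfsg.Geo.quadSimilarityGroup Q ⊓ Cfsg.spGL m F) := by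
  classical
  have hchar : ringChar F = 2 := by
    rw [FiniteField.even_card_iff_char_two]
    rw [Nat.not_odd_iff_even] at heven
    exact Nat.even_iff.1 heven
  have : CharP F 2 := by rw [← hchar]; infer_instance
  -- a hyperbolic pair
  have hpair : ∀ a : Fin m ⊕ Fin m → F, a ≠ 0 → ∃ b, sympForm m F a b = 1 := by
    intro a ha
    obtain ⟨z, hz⟩ : ∃ z, sympForm m F a z ≠ 0 := by
      by_contra h
      push Not at h
      exact ha (eq_zero_of_forall_sympForm_right h)
    exact ⟨(sympForm m F a z)⁻¹ • z, by rw [sympForm_smul_right, inv_mul_cancel₀ hz]⟩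
  obtain ⟨e0, he0⟩ : ∃ e0 : Fin m ⊕ Fin m → F, e0 ≠ 0 := 
    ⟨Pi.single (Sum.inl ⟨0, by omega⟩) 1, by simp⟩
  -- membership in the isometry group
  have hmem : ∀ g : GL (Fin m ⊕ Fin m) F, g ∈ Cfsg.Geo.quadSimilarityGroup Q ⊓ Cfsg.spGL m F ↔
      g ∈ spGL m F ∧ ∀ u, Q ((g : Matrix _ _ F) *ᵥ u) = Q u := by
    intro g
    rw [Subgroup.mem_inf]
    constructor
    · rintro ⟨⟨c, hc⟩, hg⟩
      refine ⟨hg, ?_⟩
      have hc1 : (c : F) = 1 := by
        obtain ⟨b, hb⟩ := hpair e0 he0
        have h1 := sp_form hg e0 b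
        rw [hb, ← hpol, QuadraticMap.polar, ← Matrix.mulVec_add, hc, hc, hc] at h1
        have h2 : (c : F) * QuadraticMap.polar Q e0 b = 1 := by
          rw [← h1, QuadraticMap.polar]; ring
        rw [hpol, hb, mul_one] at h2
        exact h2
      intro u
      rw [hc, hc1, one_mul]
    · rintro ⟨hg, hgQ⟩
      exact ⟨⟨1, fun v => by rw [hgQ, Units.val_one, one_mul]⟩, hg⟩
  -- the effect of a transvection
  have htQ : ∀ (v u : Fin m ⊕ Fin m → F) (c : F),
      Q ((tGL v c : Matrix _ _ F) *ᵥ u) = Q u + (c + c ^ 2 * Q v) * sympForm m F v u ^ 2 := by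
    intro v u c
    rw [tGL_mulVec, Q_add hpol, hQ.smul, sympForm_smul_right, sympForm_swap u v]
    ring
  refine ⟨?_, ?_⟩
  · rw [lt_iff_le_and_ne]
    refine ⟨inf_le_right, fun heq => ?_⟩
    -- find a transvection not preserving Q
    obtain ⟨b, hb⟩ := hpair e0 he0
    obtain ⟨w, hw0, -, -, hwQ⟩ := exists_value hm hQ hpol hb 0
    have h1 : tGL w 1 ∈ Cfsg.Geo.quadSimilarityGroup Q ⊓ Cfsg.spGL m F := by
      rw [heq]; exact tGL_mem w 1
    obtain ⟨b', hb'⟩ := hpair w hw0
    have h2 := ((hmem _).1 h1).2 b'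
    rw [htQ, hwQ, hb'] at h2
    simp at h2
  · intro M hHM hMK
    by_cases hM : M = Cfsg.Geo.quadSimilarityGroup Q ⊓ Cfsg.spGL m F
    · exact Or.inl hM
    right
    have hlt : ∃ h ∈ M, h ∉ Cfsg.Geo.quadSimilarityGroup Q ⊓ Cfsg.spGL m F := by
      by_contra hcon
      push Not at hcon
      exact hM (le_antisymm hcon hHM)
    obtain ⟨h, hhM, hhn⟩ := hlt
    -- the set of shifts
    let P : (Fin m ⊕ Fin m → F) → Prop := fun a => ∃ g ∈ M, ∀ u, Q ((g : Matrix _ _ F) *ᵥ u) = Q u + sympForm m F a u ^ 2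
    -- (1) shifts form a union of orbits
    have step1 : ∀ a b, a ≠ 0 → b ≠ 0 → Q a = Q b → P a → P b := by
      rintro a b ha hb hab ⟨g, hgM, hg⟩
      obtain ⟨k, hk, hkQ, hka⟩ := exists_isometry hQ hpol ha hb hab
      have hkM : k ∈ M := hHM ((hmem k).2 ⟨hk, hkQ⟩)
      refine ⟨g * k⁻¹, M.mul_mem hgM (M.inv_mem hkM), fun u => ?_⟩
      rw [mul_mulVec, hg]
      have h1 : Q (((k⁻¹ : GL _ F) : Matrix _ _ F) *ᵥ u) = Q u := by
        rw [← hkQ, mulVec_inv_cancel]
      have h2 : sympForm m F a (((k⁻¹ : GL _ F) : Matrix _ _ F) *ᵥ u) = sympForm m F b u := by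
        have h3 := sp_form hk a (((k⁻¹ : GL _ F) : Matrix _ _ F) *ᵥ u)
        rw [mulVec_inv_cancel, hka] at h3
        exact h3.symm
      rw [h1, h2]
    -- a nonzero shift
    obtain ⟨a, ha⟩ := exists_shift hQ hpol (hMK hhM)
    have ha0 : a ≠ 0 := by
      rintro rfl
      apply hhn
      rw [hmem]
      refine ⟨hMK hhM, fun u => ?_⟩
      rw [ha, sympForm_zero_left]
      ring
    have hPa : P a := ⟨h, hhM, ha⟩
    obtain ⟨b, hb⟩ := hpair a ha0
    -- (2) 
    have step2 : ∀ c, c ≠ 0 → Q c + sympForm m F a c ^ 2 = Q a → P (a + c) := by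
      intro c hc hQc
      have h1 : P ((h : Matrix _ _ F) *ᵥ c) := by
        refine step1 a _ ha0 (mulVec_ne_zero h hc) ?_ hPa
        rw [ha, hQc]
      obtain ⟨g, hgM, hg⟩ := h1
      refine ⟨g * h, M.mul_mem hgM hhM, fun u => ?_⟩
      rw [mul_mulVec, hg, ha]
      have h2 := sp_form (hMK hhM) c u
      rw [h2, sympForm_add_left, CharTwo.add_sq]
      ring
    -- (3)
    have step3 : ∀ z : F, ∃ v, v ≠ 0 ∧ Q v = z + z ^ 2 ∧ P v := by
      intro z
      -- c = z • b + w
      by_cases hz : z = 0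
      · subst hz
        obtain ⟨w, hw0, hwa, hwb, hwQ⟩ := exists_value hm hQ hpol hb 0
        refine ⟨w, hw0, by rw [hwQ]; ring, ?_⟩
        have h1 := step2 (a + w) ?_ ?_
        · have h2 : a + (a + w) = w := by
            funext i
            have : a i + (a i + w i) = (a i + a i) + w i := by ring
            rw [Pi.add_apply, Pi.add_apply, this, CharTwo.add_self_eq_zero, zero_add]
          rw [h2] at h1
          exact h1
        · intro h0
          have := congrArg (sympForm m F b) h0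
          rw [sympForm_add_right, sympForm_swap b a, hb, hwb, sympForm_zero_right] at this
          simp at this
        · rw [Q_add hpol, sympForm_add_right, sympForm_self, hwa, hwQ]
          ring
      · obtain ⟨w, hw0, hwa, hwb, hwQ⟩ := exists_value hm hQ hpol hb (Q a + z ^ 2 * Q b + z ^ 2)
        have hc1 : sympForm m F a (z • b + w) = z := by
          rw [sympForm_add_right, sympForm_smul_right, hb, hwa]; ring
        have hcQ : Q (z • b + w) = Q a + z ^ 2 := by
          rw [Q_add hpol, hQ.smul, hwQ, sympForm_smul_left, hwb]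
          have : z ^ 2 * Q b + (Q a + z ^ 2 * Q b + z ^ 2) + z * 0 = (z ^ 2 * Q b + z ^ 2 * Q b) + Q a + z ^ 2 := by ring
          rw [this, CharTwo.add_self_eq_zero, zero_add]
        have hc0 : z • b + w ≠ 0 := by
          intro h0
          rw [h0, sympForm_zero_right] at hc1
          exact hz hc1.symm
        have h1 := step2 (z • b + w) hc0 (by
          rw [hcQ, hc1, add_assoc, CharTwo.add_self_eq_zero, add_zero])
        refine ⟨a + (z • b + w), ?_, ?_, h1⟩
        · intro h0
          have := congrArg (sympForm m F a) h0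
          rw [sympForm_add_right, sympForm_self, hc1, sympForm_zero_right, zero_add] at this
          exact hz this
        · rw [Q_add hpol, hcQ, hc1]
          have : Q a + (Q a + z ^ 2) + z = (Q a + Q a) + (z + z ^ 2) := by ring
          rw [this, CharTwo.add_self_eq_zero, zero_add]
    -- (4)
    refine le_antisymm hMK (spGL_le M fun v c => ?_)
    obtain ⟨s, hs⟩ := exists_sq (c + c ^ 2 * Q v)
    have hsv : ∀ u, Q ((tGL v c : Matrix _ _ F) *ᵥ u) = Q u + sympForm m F (s • v) u ^ 2 := by
      intro u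
      rw [htQ, sympForm_smul_left, mul_pow, hs]
    have hfin : P (s • v) → tGL v c ∈ M := by
      rintro ⟨g, hgM, hg⟩
      have h1 : tGL v c * g⁻¹ ∈ M := by
        apply hHM
        rw [hmem]
        refine ⟨Subgroup.mul_mem _ (tGL_mem v c) (Subgroup.inv_mem _ (hMK hgM)), fun u => ?_⟩
        rw [mul_mulVec, hsv, ← hg, mulVec_inv_cancel]
      have h2 := M.mul_mem h1 hgM
      rwa [inv_mul_cancel_right] at h2
    by_cases hsv0 : s • v = 0
    · apply hHM
      rw [hmem]
      refine ⟨tGL_mem v c, fun u => ?_⟩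
      rw [hsv, hsv0, sympForm_zero_left]
      ring
    · apply hfin
      obtain ⟨v', hv'0, hv'Q, hv'P⟩ := step3 (c * Q v)
      refine step1 v' _ hv'0 hsv0 ?_ hv'P
      rw [hv'Q, hQ.smul, hs]
      ring

end Cfsg.Agent.S5652
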