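import Cfsg.Statements.S5716
import Cfsg.Agent.H262.Rx.Bridge
import Cfsg.Agent.H262.Rx.BRFin
import Cfsg.Agent.H262.Rx.UXFin

set_option autoImplicit false
open Cfsg

namespace Cfsg.Agent.S5716

/-- Generation by a fixed element and a random one in classical groups over large fields. For every ε > 0 there is a bound Q such that the following holds for every finite field F with at least Q elements and every finite simple group G isomorphic to a projective special linear group PSL_n(F), a projective symplectic group PSp_{2m}(F), a projective special unitary group defined over F (so that |F| = q² and the group is PSU_n(q)), or a projective orthogonal group PΩ of the standard odd-dimensional, plus-type or minus-type quadratic form over F, in any dimension: for every non-identity element x of G, the number of elements y of G with ⟨x, y⟩ = G is at least (1 − ε)·|G|. The bound Q does not depend on the dimension. -/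
theorem result (ε : ℝ) (hε : 0 < ε) :
    ∃ Q : ℕ, ∀ (F : Type) [Field F] [Fintype F], Q ≤ Fintype.card F →
      ∀ (G : Type*) [Group G] [Finite G] [IsSimpleGroup G],
        ((∃ n : ℕ, Nonempty (G ≃* Matrix.ProjectiveSpecialLinearGroup (Fin n) F)) ∨
          (∃ m : ℕ, Nonempty (G ≃* Cfsg.PSp m F)) ∨
          (∃ n q : ℕ, Fintype.card F = q ^ 2 ∧ Nonempty (G ≃* Cfsg.PSU n F q)) ∨
          (∃ m : ℕ, Nonempty (G ≃* Cfsg.POmega F (Cfsg.quadFormOdd m F))) ∨
          (∃ m : ℕ, Nonempty (G ≃* Cfsg.POmega F (Cfsg.quadFormPlus m F))) ∨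
          (∃ (m : ℕ) (a b : F), (∀ z₁ z₂ : F, z₁ ^ 2 + a * z₁ * z₂ + b * z₂ ^ 2 = 0 → z₁ = 0 ∧ z₂ = 0) ∧
            Nonempty (G ≃* Cfsg.POmega F (Cfsg.quadFormMinus m F a b)))) →
        ∀ x : G, x ≠ 1 → (1 - ε) * (Nat.card G : ℝ) ≤ Nat.card {y : G // Subgroup.closure {x, y} = ⊤} := by
  exact Cfsg.Agent.H262.Rx.s5716 Cfsg.Agent.H262.Rx.bx_all Cfsg.Agent.H262.Rx.ux_fin ε hε

end Cfsg.Agent.S5716
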