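import Cfsg.Statements.S5717
import Cfsg.Agent.S0000
import Cfsg.Agent.S3948
import Cfsg.Agent.H254.BS.Fin57
import Cfsg.Agent.H885.BS.Orth

set_option autoImplicit false
open Cfsg

namespace Cfsg.Agent.S5717

/-- Base size of primitive groups with a forbidden alternating section. There is a constant c such that for every d ≥ 5 and every finite group G acting faithfully and primitively on a finite set Ω, if no section of G is isomorphic to the alternating group of degree d, then Ω contains a subset of at most c·d points whose pointwise stabiliser in G is trivial (a base of size at most c·d). -/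
theorem result : ∃ c : ℕ, ∀ (d : ℕ), 5 ≤ d → ∀ (G Ω : Type*) [Group G] [Finite G] [MulAction G Ω] [FaithfulSMul G Ω] [Fintype Ω],
      MulAction.IsPreprimitive G Ω → ¬ Cfsg.Involves (alternatingGroup (Fin d)) G →
      ∃ B : Finset Ω, B.card ≤ c * d ∧ ∀ g : G, (∀ b ∈ B, g • b = b) → g = 1 := by
  exact Cfsg.Agent.H254.BS.Fin57.fin Cfsg.Agent.H885.BS.br_oodd Cfsg.Agent.H885.BS.br_oplus Cfsg.Agent.H885.BS.br_ominus
    (fun T _ _ _ => Cfsg.Agent.S0000.result) (fun T _ _ _ => Cfsg.Agent.S3948.result)

end Cfsg.Agent.S5717
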