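import Cfsg.Statements.S5721
import Cfsg.Agent.H383.Cube.Main

set_option autoImplicit false
open Cfsg

namespace Cfsg.Agent.S5721

/-- If T is a finite non-abelian simple group and α is an automorphism of T of order 2, then the subgroup of elements of T fixed by α has more than |T|^(1/3) elements. -/
theorem result {T : Type*} [Group T] [Finite T] [IsSimpleGroup T] (hT : ¬ IsMulCommutative T) (α : MulAut T) (hα : orderOf α = 2) :
    (Nat.card T : ℝ) ^ ((1 : ℝ) / 3) < Nat.card {t : T // α t = t} := by
  exact H383.Cube.real_bound (H383.Cube.cube_simple hT α hα)

end Cfsg.Agent.S5721
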