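import Cfsg.Statements.S5718
import Cfsg.Agent.S0205
import Cfsg.Agent.S5721
import Cfsg.Agent.H892.PrimE

set_option autoImplicit false
open Cfsg

namespace Cfsg.Agent.S5718

/-- Let G be a finite group acting faithfully and primitively on a finite set Ω with n ≥ 2 elements, and suppose every non-identity element of G fixes fewer than n^(1/3) points. Then G is of affine type (it has a non-trivial abelian normal subgroup acting with trivial point stabilisers) or almost simple (it has a non-abelian simple normal subgroup with trivial centraliser). -/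
theorem result {G Ω : Type*} [Group G] [Finite G] [MulAction G Ω] [FaithfulSMul G Ω] [Fintype Ω] (hn : 2 ≤ Fintype.card Ω)
    (hprim : MulAction.IsPreprimitive G Ω)
    (hfix : ∀ g : G, g ≠ 1 → (Nat.card (MulAction.fixedBy Ω g) : ℝ) < (Fintype.card Ω : ℝ) ^ ((1 : ℝ) / 3)) :
    (∃ N : Subgroup G, N.Normal ∧ N ≠ ⊥ ∧ IsMulCommutative N ∧ ∀ ω : Ω, MulAction.stabilizer G ω ⊓ N = ⊥) ∨
    (∃ T : Subgroup G, T.Normal ∧ IsSimpleGroup T ∧ ¬ IsMulCommutative T ∧ Subgroup.centralizer (T : Set G) = ⊥) := by
  have hnt : Nontrivial Ω := Fintype.one_lt_card_iff_nontrivial.1 hn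
  rcases H892.PrimE.main (fun _ _ _ h => Cfsg.Agent.S0205.result h) (fun _ _ _ h => Cfsg.Agent.S0205.result h)
    (H892.PrimE.cb_of_real (fun _ _ _ _ hX α hα => Cfsg.Agent.S5721.result hX α hα)) hprim with h | h | ⟨g, hg, h⟩
  · exact Or.inl h
  · exact Or.inr h
  · exact (H892.PrimE.of_real h (hfix g hg)).elim

end Cfsg.Agent.S5718
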