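import Cfsg.Statements.S5879
import Cfsg.Agent.S0000
import Cfsg.Agent.H934.OutAll

set_option autoImplicit false
open Cfsg

namespace Cfsg.Agent.S5879

/-- Let G be a finite non-abelian simple group and H any proper subgroup of G. Then the order of the outer automorphism group Out(G) = Aut(G)/Inn(G) is at most 3·log₂ (G : H). In particular |Out(G)| ≤ 3·log₂ l(G), where l(G) is the least index of a proper (equivalently, of a maximal) subgroup of G. -/
theorem result {G : Type*} [Group G] [Finite G]
    [IsSimpleGroup G] (hG : ¬ IsMulCommutative G) (H : Subgroup G) (hH : H ≠ ⊤) :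
    (Nat.card (Cfsg.Out G) : ℝ) ≤ 3 * Real.logb 2 (H.index : ℝ) := by
  have h1 : 2 ^ Nat.card (Cfsg.Out G) ≤ H.index ^ 3 :=
    Cfsg.Agent.H934.OutAll.bd hG (Cfsg.Agent.S0000.result (G := G)) H hH
  have h2 : 0 < H.index := Nat.pos_of_ne_zero H.index_ne_zero_of_finite
  have h3 : (2 : ℝ) ^ Nat.card (Cfsg.Out G) ≤ (H.index : ℝ) ^ 3 := by exact_mod_cast h1
  have h4 := Real.logb_le_logb_of_le (b := 2) (by norm_num) (by positivity) h3
  rw [Real.logb_pow, Real.logb_pow, Real.logb_self_eq_one (by norm_num)] at h4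
  simpa using h4

end Cfsg.Agent.S5879
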