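import Cfsg.Statements.S5724
import Cfsg.Agent.H893.NonAff
import Cfsg.Agent.S5879

set_option autoImplicit false
open Cfsg

namespace Cfsg.Agent.S5724

open Cfsg.Agent.H893 in
theorem two_pow_out {T : Type*} [Group T] [Finite T] [IsSimpleGroup T]
    (hna : ∃ a b : T, a * b ≠ b * a) (R : Subgroup T) (hR : R ≠ ⊤) :
    2 ^ Nat.card (Out T) ≤ R.index ^ 3 := by
  have hna' : ¬ IsMulCommutative T := by
    rintro ⟨⟨h⟩⟩
    obtain ⟨a, b, hab⟩ := hna
    exact hab (h a b)
  have h1 := Cfsg.Agent.S5879.result hna' R hR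
  have h2 : (0 : ℝ) < (R.index : ℝ) := by
    exact_mod_cast Nat.pos_of_ne_zero Subgroup.index_ne_zero_of_finite
  have h3 : (3 : ℝ) * Real.logb 2 (R.index : ℝ) = Real.logb 2 ((R.index : ℝ) ^ 3) := by
    rw [Real.logb_pow]
    norm_num
  rw [h3, Real.le_logb_iff_rpow_le (by norm_num) (by positivity), Real.rpow_natCast] at h1
  exact_mod_cast h1

open Cfsg.Agent.H893 in
/-- Primitive groups without abelian normal subgroups -/
theorem clen_bound {G Ω : Type*} [Group G] [Finite G] [MulAction G Ω] [FaithfulSMul G Ω]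
    [Finite Ω] (hn : 2 ≤ Nat.card Ω) (hprim : MulAction.IsPreprimitive G Ω)
    (hna : ∀ N : Subgroup G, N.Normal → IsMulCommutative N → N = ⊥) :
    5 ^ (3 * clen G + 4) ≤ Nat.card Ω ^ 10 := by
  let f := MulAction.toPermHom G Ω
  have hf : Function.Injective f := MulAction.toPerm_injective
  let e : G ≃* f.range := MonoidHom.ofInjective hf
  have hprim' : MulAction.IsPreprimitive f.range Ω := isPreprimitive_range G Ω
  have hnt : Nontrivial Ω := Finite.one_lt_card_iff_nontrivial.mp (by omega)
  have hGnt : Nontrivial f.range := by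
    obtain ⟨x, y, hxy⟩ := hnt
    obtain ⟨g, hg⟩ := MulAction.exists_smul_eq f.range x y
    refine ⟨g, 1, fun h => hxy ?_⟩
    rw [← hg, h, one_smul]
  obtain ⟨N, hNn, hN, hmin⟩ := exists_min_normal (G := f.range)
  rw [clen_congr e]
  refine nonaff_bound f.range hprim' N hN hmin ?_ (fun T hT hT' R hR => two_pow_out hT' R hR)
  intro hab
  apply hN
  have h1 := hna (N.comap e.toMonoidHom) inferInstance ⟨⟨fun x y => by
    apply Subtype.ext
    apply e.injective
    have := hab _ x.2 _ y.2
    change e (x.1 * y.1) = e (y.1 * x.1)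
    rw [map_mul, map_mul]
    exact this⟩⟩
  rw [eq_bot_iff]
  intro x hx
  obtain ⟨y, rfl⟩ := e.surjective x
  have h2 : y ∈ N.comap e.toMonoidHom := hx
  rw [h1, Subgroup.mem_bot] at h2
  rw [h2, map_one]
  exact one_mem _

/-- If a finite group G with no non-trivial abelian normal subgroup acts faithfully and primitively on a finite set with n ≥ 2 points, then the composition length of G is at most (10/(3·log₂ 5))·log₂ n − 4/3. Here the composition length is expressed through chains: the conclusion bounds the length l of every chain of subgroups 1 = H₀ < H₁ < ⋯ < H_l = G in which each term is normal in the next (the longest such chains are exactly the composition series). -/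
theorem result {G Ω : Type*} [Group G] [Finite G] [MulAction G Ω] [FaithfulSMul G Ω] [Fintype Ω] (hn : 2 ≤ Fintype.card Ω)
    (hprim : MulAction.IsPreprimitive G Ω) (hna : ∀ N : Subgroup G, N.Normal → IsMulCommutative N → N = ⊥)
    (l : ℕ) (H : Fin (l + 1) → Subgroup G) (h0 : H 0 = ⊥) (hl : H (Fin.last l) = ⊤)
    (hchain : ∀ i : Fin l, H i.castSucc < H i.succ ∧ ((H i.castSucc).subgroupOf (H i.succ)).Normal) :
    (l : ℝ) ≤ 10 / (3 * Real.logb 2 5) * Real.logb 2 (Fintype.card Ω) - 4 / 3 := by
  have h1 := Cfsg.Agent.H893.le_clen_of_chain l H h0 hl hchain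
  have h2 := clen_bound (by rwa [Nat.card_eq_fintype_card]) hprim hna
  rw [Nat.card_eq_fintype_card] at h2
  have h3 : 5 ^ (3 * l + 4) ≤ Fintype.card Ω ^ 10 :=
    (Nat.pow_le_pow_right (by norm_num) (by omega)).trans h2
  have h4 : Real.logb 2 ((5 : ℝ) ^ (3 * l + 4)) ≤ Real.logb 2 ((Fintype.card Ω : ℝ) ^ 10) := by
    apply Real.logb_le_logb_of_le (by norm_num) (by positivity)
    exact_mod_cast h3
  rw [Real.logb_pow, Real.logb_pow] at h4
  push_cast at h4
  have h5 : 0 < Real.logb 2 5 := Real.logb_pos (by norm_num) (by norm_num)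
  rw [le_sub_iff_add_le, div_mul_eq_mul_div, le_div_iff₀ (by positivity)]
  linarith

end Cfsg.Agent.S5724
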