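import Cfsg.Statements.S5725
import Cfsg.Agent.S5722
import Cfsg.Agent.S5879
import Cfsg.Agent.H894.CompMain

set_option autoImplicit false
open Cfsg

namespace Cfsg.Agent.S5725

/-- The bound for transitive permutation groups, from S5722. -/
theorem permBound : Cfsg.Agent.H894.PermBound := by
  intro t Q hQ
  have h1 := Cfsg.Agent.S5722.clen_faithful_le (G := Q) (Ω := Fin t)
  rw [Nat.card_eq_fintype_card (α := Fin t), Fintype.card_fin] at h1
  rcases Nat.eq_zero_or_pos t with h0 | h0
  · subst h0
    omega
  · have h2 : 1 ≤ Nat.card (Quotient (MulAction.orbitRel Q (Fin t))) := by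
      have : Nonempty (Quotient (MulAction.orbitRel Q (Fin t))) :=
        ⟨Quotient.mk _ (⟨0, h0⟩ : Fin t)⟩
      exact Nat.card_pos
    omega

/-- The bound for the outer automorphism groups of simple groups, from S5879. -/
theorem outBound.{u} : Cfsg.Agent.H894.OutBound.{u} := by
  intro T _ _ _ hT H hH
  exact Cfsg.Agent.S5879.result hT H hH

/-- Let F be a finite field with p^f elements (p prime) and K a subgroup of GL_d(F), d ≥ 1, acting irreducibly on F^d. Then the composition length of K is at most ((8/3)·log₂ p − 1)·d·f − log₂ f − 4/3. Here the composition length is expressed through chains: the conclusion bounds the length l of every chain of subgroups 1 = K₀ < K₁ < ⋯ < K_l = K in which each term is normal in the next (the longest such chains are exactly the composition series of K). -/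
theorem result {F : Type*} [Field F] [Fintype F] (p f d : ℕ) (hp : p.Prime) (hf : 1 ≤ f) (hF : Fintype.card F = p ^ f) (hd : 1 ≤ d)
    (K : Subgroup (GL (Fin d) F)) (hirr : Cfsg.Geo.ActsIrreducibly {m : Matrix (Fin d) (Fin d) F | ∃ k ∈ K, (k : Matrix (Fin d) (Fin d) F) = m})
    (l : ℕ) (H : Fin (l + 1) → Subgroup (K)) (h0 : H 0 = ⊥) (hl : H (Fin.last l) = ⊤)
    (hchain : ∀ i : Fin l, H i.castSucc < H i.succ ∧ ((H i.castSucc).subgroupOf (H i.succ)).Normal) :
    (l : ℝ) ≤ (8 / 3 * Real.logb 2 p - 1) * d * f - Real.logb 2 f - 4 / 3 := by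
  have h1 := Cfsg.Agent.H893.le_clen_of_chain l H h0 hl hchain
  have h2 := Cfsg.Agent.H894.clen_irreducible_le permBound outBound hp hf hF hd K hirr
  exact le_trans (by exact_mod_cast h1) h2

end Cfsg.Agent.S5725
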