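import Cfsg.Statements.S5723
import Cfsg.Agent.S5724
import Cfsg.Agent.S5725
import Cfsg.Agent.H893.Affine

set_option autoImplicit false
open Cfsg

namespace Cfsg.Agent.S5723

open Cfsg.Agent.H893

/-- the composition length of an irreducible linear group over a prime field -/
theorem clen_irreducible (p d : ℕ) [Fact p.Prime] (hd : 1 ≤ d) (K : Subgroup (GL (Fin d) (ZMod p)))
    (hirr : Cfsg.Geo.ActsIrreducibly {m : Matrix (Fin d) (Fin d) (ZMod p) |
      ∃ k ∈ K, (k : Matrix (Fin d) (Fin d) (ZMod p)) = m}) :
    (clen K : ℝ) ≤ (8 / 3 * Real.logb 2 p - 1) * d - 4 / 3 := by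
  obtain ⟨H, h0, hl, hchain⟩ := chain_of_ch (clen_ch (G := K))
  have h := Cfsg.Agent.S5725.result (F := ZMod p) p 1 d Fact.out le_rfl
    (by rw [ZMod.card, pow_one]) hd K hirr (clen K) H h0 hl hchain
  simpa using h

/-- If a finite group G acts faithfully and primitively on a finite set with n ≥ 2 points, then the composition length of G is at most (8/3)·log₂ n − 4/3. Here the composition length is expressed through chains: the conclusion bounds the length l of every chain of subgroups 1 = H₀ < H₁ < ⋯ < H_l = G in which each term is normal in the next (the longest such chains are exactly the composition series). -/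
theorem result {G Ω : Type*} [Group G] [Finite G] [MulAction G Ω] [FaithfulSMul G Ω] [Fintype Ω] (hn : 2 ≤ Fintype.card Ω)
    (hprim : MulAction.IsPreprimitive G Ω)
    (l : ℕ) (H : Fin (l + 1) → Subgroup G) (h0 : H 0 = ⊥) (hl : H (Fin.last l) = ⊤)
    (hchain : ∀ i : Fin l, H i.castSucc < H i.succ ∧ ((H i.castSucc).subgroupOf (H i.succ)).Normal) :
    (l : ℝ) ≤ 8 / 3 * Real.logb 2 (Fintype.card Ω) - 4 / 3 := by
  have hle := Cfsg.Agent.H893.le_clen_of_chain l H h0 hl hchain
  suffices h : (clen G : ℝ) ≤ 8 / 3 * Real.logb 2 (Fintype.card Ω) - 4 / 3 by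
    have h1 : (l : ℝ) ≤ clen G := by exact_mod_cast hle
    linarith
  let f := MulAction.toPermHom G Ω
  have hf : Function.Injective f := MulAction.toPerm_injective
  let e : G ≃* f.range := MonoidHom.ofInjective hf
  have hprim' : MulAction.IsPreprimitive f.range Ω := isPreprimitive_range G Ω
  have hnt : Nontrivial Ω := Fintype.one_lt_card_iff_nontrivial.mp (by omega)
  obtain ⟨a⟩ : Nonempty Ω := inferInstance
  have hGnt : Nontrivial f.range := by
    obtain ⟨x, y, hxy⟩ := hnt
    obtain ⟨g, hg⟩ := MulAction.exists_smul_eq f.range x y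
    refine ⟨g, 1, fun h => hxy ?_⟩
    rw [← hg, h, one_smul]
  obtain ⟨N, hNn, hN, hmin⟩ := exists_min_normal (G := f.range)
  rw [clen_congr e]
  by_cases hab : ∀ x ∈ N, ∀ y ∈ N, Commute x y
  · obtain ⟨p, d, hp, hd, hΩ, hNd, hexp, hker, -⟩ := prim_abelian f.range hprim' N hN hmin hab a
    have : Fact p.Prime := ⟨hp⟩
    obtain ⟨K, hK, ⟨E⟩⟩ := exists_irreducible N p d hab hexp hNd hmin
    have h1 := clen_irreducible p d hd K hK
    have h2 := clen_range (MulAut.conjNormal : f.range →* MulAut N)
    rw [hker, ← clen_congr E] at h2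
    have h3 : clen N ≤ d := by
      have := clen_le_cardFactors (G := N)
      rwa [hNd, ArithmeticFunction.cardFactors_apply_prime_pow hp] at this
    have h4 : (clen f.range : ℝ) ≤ d + clen K := by
      have : clen f.range ≤ d + clen K := by omega
      exact_mod_cast this
    rw [Nat.card_eq_fintype_card] at hΩ
    rw [hΩ]
    push_cast
    rw [Real.logb_pow]
    linarith
  · have h1 := nonaff_bound f.range hprim' N hN hmin hab
      (fun T hT hT' R hR => Cfsg.Agent.S5724.two_pow_out hT' R hR)
    rw [Nat.card_eq_fintype_card] at h1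
    have h4 : Real.logb 2 ((5 : ℝ) ^ (3 * clen f.range + 4)) ≤
        Real.logb 2 ((Fintype.card Ω : ℝ) ^ 10) := by
      apply Real.logb_le_logb_of_le (by norm_num) (by positivity)
      exact_mod_cast h1
    rw [Real.logb_pow, Real.logb_pow] at h4
    push_cast at h4
    have h5 : 2 ≤ Real.logb 2 5 := by
      rw [Real.le_logb_iff_rpow_le (by norm_num) (by norm_num)]
      norm_num
    have h6 : 0 ≤ Real.logb 2 (Fintype.card Ω : ℝ) :=
      Real.logb_nonneg (by norm_num) (by exact_mod_cast (by omega : 1 ≤ Fintype.card Ω))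
    have h7 : (3 * (clen f.range : ℝ) + 4) * 2 ≤ (3 * (clen f.range : ℝ) + 4) * Real.logb 2 5 :=
      mul_le_mul_of_nonneg_left h5 (by positivity)
    linarith

end Cfsg.Agent.S5723
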