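import Cfsg.Statements.S5728

set_option autoImplicit false
open Cfsg

namespace Cfsg.Agent.S5728

/-- An elusive transitive action. Let p = 2^s − 1 be a prime and let F be the field with p² elements. Inside the group of affine maps x ↦ a·x + b of F (a ≠ 0), consider the subgroup of maps with both coefficients in the prime field. Then every element of prime order of the affine group is conjugate, within the affine group, to an element of that subgroup; equivalently, in the transitive action of the affine group on the cosets of that subgroup (of degree p(p + 1)) every element of prime order fixes a point. -/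
theorem result (p s : ℕ) [Fact p.Prime] (hs : p = 2 ^ s - 1)
    (g : Equiv.Perm (GaloisField p 2)) (hg : g ∈ Cfsg.affineGroup (GaloisField p 2)) (hord : (orderOf g).Prime) :
    ∃ x ∈ Cfsg.affineGroup (GaloisField p 2), ∃ a b : ZMod p, a ≠ 0 ∧
      ∀ y : GaloisField p 2, (x * g * x⁻¹) y = algebraMap (ZMod p) (GaloisField p 2) a * y + algebraMap (ZMod p) (GaloisField p 2) b := by
  classical
  have hp : p.Prime := Fact.out
  obtain ⟨u, b, hg⟩ := hg
  have hne : g ≠ 1 := by
    rintro rfl
    rw [orderOf_one] at hord
    exact Nat.not_prime_one hord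
  by_cases hu : (u : GaloisField p 2) = 1
  · -- a translation
    have hb : b ≠ 0 := by
      rintro rfl
      apply hne
      ext x
      rw [hg, hu, one_mul, add_zero, Equiv.Perm.one_apply]
    refine ⟨Equiv.mulLeft₀ b⁻¹ (inv_ne_zero hb), ⟨Units.mk0 b⁻¹ (inv_ne_zero hb), 0, fun x => ?_⟩,
      1, 1, one_ne_zero, fun y => ?_⟩
    · simp
    · have h1 : (Equiv.mulLeft₀ b⁻¹ (inv_ne_zero hb))⁻¹ y = b * y := by
        apply (Equiv.mulLeft₀ b⁻¹ (inv_ne_zero hb)).injective
        rw [Equiv.Perm.inv_def, Equiv.apply_symm_apply]
        simp [hb]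
      rw [Equiv.Perm.mul_apply, Equiv.Perm.mul_apply, h1, hg, hu]
      simp only [map_one]
      change b⁻¹ * (1 * (b * y) + b) = 1 * y + 1
      field_simp
  · -- an element with a fixed point
    set a : GaloisField p 2 := (u : GaloisField p 2) with ha
    have ha0 : a ≠ 0 := u.ne_zero
    have h1a : (1 : GaloisField p 2) - a ≠ 0 := sub_ne_zero.2 (Ne.symm hu)
    set c : GaloisField p 2 := b / (1 - a) with hc
    have hfix : a * c + b = c := by
      rw [hc]; field_simp; ring
    have hconj : ∀ y : GaloisField p 2,
        (Equiv.subRight c * g * (Equiv.subRight c)⁻¹ : Equiv.Perm (GaloisField p 2)) y = a * y := by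
      intro y
      have h1 : ((Equiv.subRight c : Equiv.Perm (GaloisField p 2))⁻¹) y = y + c := by
        apply (Equiv.subRight c : Equiv.Perm (GaloisField p 2)).injective
        rw [Equiv.Perm.inv_def, Equiv.apply_symm_apply]
        simp
      rw [Equiv.Perm.mul_apply, Equiv.Perm.mul_apply, h1, hg]
      rw [Equiv.subRight_apply]
      calc a * (y + c) + b - c = a * y + (a * c + b) - c := by ring
        _ = a * y := by rw [hfix]; ring
    have hpow : ∀ n : ℕ, ∀ y : GaloisField p 2,
        ((Equiv.subRight c * g * (Equiv.subRight c)⁻¹ : Equiv.Perm (GaloisField p 2)) ^ n) y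
          = a ^ n * y := by
      intro n
      induction n with
      | zero => intro y; simp
      | succ n ih =>
        intro y
        rw [pow_succ, Equiv.Perm.mul_apply, hconj, ih, pow_succ, mul_assoc]
    set r := orderOf g with hr
    have har : a ^ r = 1 := by
      have h1 : (Equiv.subRight c * g * (Equiv.subRight c)⁻¹ : Equiv.Perm (GaloisField p 2)) ^ r = 1 := by
        rw [conj_pow, hr, pow_orderOf_eq_one, mul_one, mul_inv_cancel]
      have h2 := hpow r 1
      rw [h1, mul_one, Equiv.Perm.one_apply] at h2
      exact h2.symm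
    have hrf : Fact r.Prime := ⟨hord⟩
    have hord_a : orderOf a = r := orderOf_eq_prime har hu
    have hcard : Nat.card (GaloisField p 2) = p ^ 2 := GaloisField.card p 2 (by norm_num)
    have hft : Fintype (GaloisField p 2) := Fintype.ofFinite _
    have hq : a ^ (p ^ 2 - 1) = 1 := by
      have := FiniteField.pow_card_sub_one_eq_one a ha0
      rwa [← Nat.card_eq_fintype_card, hcard] at this
    have hrd : r ∣ p ^ 2 - 1 := hord_a ▸ orderOf_dvd_of_pow_eq_one hq
    have hp1 : 1 ≤ p := hp.one_lt.le
    have h2s : 1 ≤ 2 ^ s := Nat.one_le_two_pow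
    have hfac : p ^ 2 - 1 = (p - 1) * 2 ^ s := by
      have : 2 ^ s = p + 1 := by omega
      rw [this]
      obtain ⟨k, rfl⟩ := Nat.exists_eq_add_of_le hp1
      have : (1 + k) ^ 2 - 1 = k * (1 + k + 1) := by
        have : (1 + k) ^ 2 = k * (1 + k + 1) + 1 := by ring
        omega
      rw [this]
      congr 1
      omega
    rw [hfac] at hrd
    have hmem : a ^ p = a := by
      rcases (Nat.Prime.dvd_mul hord).1 hrd with h | h
      · have h1 : a ^ (p - 1) = 1 := orderOf_dvd_iff_pow_eq_one.1 (hord_a.symm ▸ h)
        calc a ^ p = a ^ (p - 1 + 1) := by congr 1; omega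
          _ = a := by rw [pow_succ, h1, one_mul]
      · have h2 : r = 2 := (Nat.prime_dvd_prime_iff_eq hord Nat.prime_two).1 (hord.dvd_of_dvd_pow h)
        rw [h2] at har
        have h3 : a = -1 := by
          rcases sq_eq_one_iff.1 har with h | h
          · exact absurd h hu
          · exact h
        rcases hp.eq_two_or_odd' with h4 | h4
        · exfalso
          have h5 : 2 ^ s = 3 := by omega
          rcases s with _ | s
          · simp at h5
          · rw [pow_succ] at h5; omega
        · rw [h3, h4.neg_one_pow]
    have hbot : a ∈ (⊥ : Subfield (GaloisField p 2)) :=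
      (Subfield.mem_bot_iff_pow_eq_self (GaloisField p 2) p).2 hmem
    rw [← ZMod.fieldRange_castHom_eq_bot p] at hbot
    obtain ⟨a', ha'⟩ := hbot
    have halg : algebraMap (ZMod p) (GaloisField p 2) = ZMod.castHom (m := p) dvd_rfl _ :=
      RingHom.ext_zmod _ _
    refine ⟨Equiv.subRight c, ⟨1, -c, fun x => ?_⟩, a', 0, ?_, fun y => ?_⟩
    · simp [sub_eq_add_neg]
    · rintro rfl
      rw [map_zero] at ha'
      exact ha0 ha'.symm
    · rw [hconj, map_zero, add_zero, halg, ha']

end Cfsg.Agent.S5728
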