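import Cfsg.Statements.S5741
import Cfsg.Agent.S0000
import Cfsg.Agent.H944.TS.Rows
import Cfsg.Agent.H943.L19Main

set_option autoImplicit false
open Cfsg

namespace Cfsg.Agent.S5741

/-- The simple group ²E₆(2) (the twisted group of type E₆ over the field with 4 elements) has exactly 39 isomorphism types of proper non-abelian simple subgroups: there are 39 proper non-abelian simple subgroups, pairwise non-isomorphic, such that every proper non-abelian simple subgroup is isomorphic to one of them. -/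
theorem result {K : Type*} [Field K] [Fintype K] (hK : Fintype.card K = 4) :
    ∃ H : Fin 39 → Subgroup (Cfsg.Lie.twistedE6 K 2),
      (∀ i, H i ≠ ⊤ ∧ IsSimpleGroup (H i) ∧ ¬ IsMulCommutative (H i)) ∧
      (∀ i j, i ≠ j → IsEmpty (H i ≃* H j)) ∧
      (∀ L : Subgroup (Cfsg.Lie.twistedE6 K 2), L ≠ ⊤ → IsSimpleGroup L → ¬ IsMulCommutative L → ∃ i, Nonempty (L ≃* H i)) := by
  have hcard := Cfsg.Agent.BabyU.CentT1.card_E K hK
  have hfin : Finite ↥(Cfsg.Lie.twistedE6 K 2) := Nat.finite_of_card_ne_zero (by rw [hcard]; norm_num)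
  refine Cfsg.Agent.H944.TS.Asm.main hK
    (Cfsg.Agent.H944.TS.Asm.all_in (fun S _ _ _ => Cfsg.Agent.S0000.result) hK)
    (Cfsg.Agent.H944.TS.Asm.all_not hK (Cfsg.Agent.H943.L19.notE_psl19 hK))
    (fun L hs => ?_)
  haveI := hs
  exact Cfsg.Agent.S0000.result

end Cfsg.Agent.S5741
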