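import Cfsg.Statements.S5756
import Cfsg.Agent.H901.OvFinal

set_option autoImplicit false
open Cfsg

namespace Cfsg.Agent.S5756

/-- Let Π be a finite projective plane of odd order n (points P, lines L), and let G be a finite non-abelian simple group acting faithfully on the points, and on the lines compatibly with incidence (a collineation group). If G leaves invariant an oval of Π (a set of n + 1 points, no three of them on a common line), then G is isomorphic to PSL₂(F) for a finite field F of odd order. -/
theorem result {P L : Type*} [Membership P L] [Fintype P] [Fintype L] [Configuration.ProjectivePlane P L]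
    (hodd : Odd (Configuration.ProjectivePlane.order P L))
    {G : Type*} [Group G] [Finite G] [MulAction G P] [MulAction G L] [FaithfulSMul G P]
    (hcoll : ∀ (g : G) (p : P) (l : L), g • p ∈ g • l ↔ p ∈ l)
    [IsSimpleGroup G] (hG : ¬ IsMulCommutative G)
    (O : Finset P) (hcard : O.card = Configuration.ProjectivePlane.order P L + 1)
    (harc : ∀ l : L, ∀ p ∈ O, ∀ q ∈ O, ∀ r ∈ O, p ∈ l → q ∈ l → r ∈ l → p = q ∨ p = r ∨ q = r)
    (hinv : ∀ g : G, ∀ p ∈ O, g • p ∈ O) :
    ∃ (F : Type) (_ : Field F) (_ : Fintype F), Odd (Fintype.card F) ∧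
      Nonempty (G ≃* Matrix.ProjectiveSpecialLinearGroup (Fin 2) F) := by
  have hfaith : ∀ g : G, (∀ p : P, g • p = p) → g = 1 := fun g hg =>
    FaithfulSMul.eq_of_smul_eq_smul (α := P) fun p => by rw [hg p, one_smul]
  have hO : Nat.card {p : P // p ∈ (O : Set P)} = Configuration.ProjectivePlane.order P L + 1 := by
    have h1 : Nat.card {p : P // p ∈ (O : Set P)} = Nat.card {p : P // p ∈ O} :=
      Nat.card_congr (Equiv.refl _)
    rw [h1, Nat.card_eq_fintype_card, Fintype.card_coe, hcard]
  have c : Cfsg.Agent.H901.Ov.Ctx G L (O : Set P) :=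
    { coll := hcoll
      oval := { card := hO, arc := fun l p hp q hq r hr => harc l p hp q hq r hr, odd := hodd }
      inv := fun g p hp => hinv g p hp
      faith := hfaith }
  exact c.final hG

end Cfsg.Agent.S5756
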