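import Cfsg.Statements.S5762
import Cfsg.Agent.S0000
import Cfsg.Agent.H903.SylFin

set_option autoImplicit false
open Cfsg

namespace Cfsg.Agent.S5762

/-- Let G be a finite almost simple group (it has a non-abelian simple normal subgroup with trivial centralizer), p ≥ 5 a prime and H a Sylow p-subgroup of G. Then H ∩ xHx⁻¹ = 1 for some x ∈ G. (For p = 2, 3 there are almost simple exceptions, such as the symmetric group of degree 8 with p = 2; the known proof uses the classification of the finite simple groups.) -/
theorem result {G : Type*} [Group G] [Finite G] (hAS : ∃ T : Subgroup G, T.Normal ∧ IsSimpleGroup ↥T ∧ ¬ IsMulCommutative ↥T ∧ Subgroup.centralizer (T : Set G) = ⊥) {p : ℕ} [Fact p.Prime] (hp : 5 ≤ p) (H : Sylow p G) :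
    ∃ x : G, (H : Subgroup G) ⊓ (H : Subgroup G).map (MulAut.conj x).toMonoidHom = ⊥ := by
  obtain ⟨T, hTn, hTs, hTc, hC⟩ := hAS
  exact Cfsg.Agent.H903.SylMeet.almost_simple T hC
    (Cfsg.Agent.H903.SylFin.meet_known hp hTc Cfsg.Agent.S0000.result) (H : Subgroup G) H.isPGroup'

end Cfsg.Agent.S5762
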