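import Cfsg.Statements.S5766
import Cfsg.Agent.H605.Aff.Final
import Cfsg.Agent.S3608

set_option autoImplicit false
open Cfsg

namespace Cfsg.Agent.S5766

/-- Maximality of the affine groups. Let p be a prime and k ≥ 1 with p^k ≥ 5, and consider the affine group AGL_k(p): the permutations v ↦ Av + b of the vector space F_p^k (A invertible linear, b a vector). If p is odd, AGL_k(p) is a maximal subgroup of the symmetric group on F_p^k. If p^k is not 7, 11, 17 or 23, the even permutations in AGL_k(p) form a maximal subgroup of the alternating group on F_p^k. (The known proof uses the classification of the finite simple groups.) -/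
theorem result (p k : ℕ) [Fact p.Prime] (hk : 1 ≤ k) (h5 : 5 ≤ p ^ k) :
    (p ≠ 2 → ∃ M : Subgroup (Equiv.Perm (Fin k → ZMod p)), IsCoatom M ∧ ∀ σ, σ ∈ M ↔ ∃ (A : (Fin k → ZMod p) ≃ₗ[ZMod p] (Fin k → ZMod p)) (b : Fin k → ZMod p), ∀ v, σ v = A v + b) ∧
    (p ^ k ≠ 7 → p ^ k ≠ 11 → p ^ k ≠ 17 → p ^ k ≠ 23 →
      ∃ M : Subgroup ↥(alternatingGroup (Fin k → ZMod p)), IsCoatom M ∧ ∀ σ : ↥(alternatingGroup (Fin k → ZMod p)), σ ∈ M ↔ ∃ (A : (Fin k → ZMod p) ≃ₗ[ZMod p] (Fin k → ZMod p)) (b : Fin k → ZMod p), ∀ v, (σ : Equiv.Perm (Fin k → ZMod p)) v = A v + b) :=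
  have hG : H605.Aff.IndexPP := fun _ _ _ hs hna H p k hp hk hH => S3608.result hs hna H p k hp hk hH
  ⟨fun hp2 => ⟨_, H605.Aff.coatom_sym hG hp2 hk h5, fun _ => Iff.rfl⟩,
    fun h7 h11 h17 h23 => ⟨_, H605.Aff.coatom_alt hG hk h5 h7 h11 h17 h23, fun _ => Iff.rfl⟩⟩

end Cfsg.Agent.S5766
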