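import Cfsg.Statements.S5839
import Cfsg.Agent.H923.Ten.Asm
import Cfsg.Agent.S0000

set_option autoImplicit false
open Cfsg

namespace Cfsg.Agent.S5839

/-- The maximal subgroups of SL_10(q) in the residual class. Let F be a finite field with q elements and characteristic p, and H a maximal subgroup of SL_10(F) lying in the residual class of the linear case. Then the perfect socle preimage P of H satisfies one of: P modulo scalars is isomorphic to PSL_2(19), with q = p a non-zero square modulo 19; or to the Mathieu group M_12, with q = p ≡ 1 or 3 mod 8; or to the Mathieu group M_22, with q = 2 or q = p ≡ 1, 9, 11, 15, 23 or 25 mod 28; or to PSL_3(F), with p ≥ 5; or to PSL_4(F), with p ≥ 3; or to PSL_5(F) (no condition). (Residual-class subgroups with socle PSL_3(4) modulo scalars are never maximal in SL_10(q) itself.) -/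
theorem result {F : Type*} [Field F] [Fintype F] (H : Subgroup (Matrix.GeneralLinearGroup (Fin 10) F)) (hH : Cfsg.Geo.IsMaximalIn (Cfsg.Geo.specialLinear (Fin 10) F) H) (hS : Cfsg.Geo.InLinearResidualClass H) :
    ∃ (P : Subgroup (Matrix.GeneralLinearGroup (Fin 10) F)) (p : ℕ), Cfsg.Geo.IsResidualCore H P ∧ p.Prime ∧ CharP F p ∧
    ((Nonempty ((P ⧸ (Cfsg.Geo.scalars (Fin 10) F).subgroupOf P) ≃* Matrix.ProjectiveSpecialLinearGroup (Fin 2) (ZMod 19)) ∧ Fintype.card F = p ∧ (p % 19 = 1 ∨ p % 19 = 4 ∨ p % 19 = 5 ∨ p % 19 = 6 ∨ p % 19 = 7 ∨ p % 19 = 9 ∨ p % 19 = 11 ∨ p % 19 = 16 ∨ p % 19 = 17)) ∨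
     (Cfsg.Spor.IsoM12 (P ⧸ (Cfsg.Geo.scalars (Fin 10) F).subgroupOf P) ∧ Fintype.card F = p ∧ (p % 8 = 1 ∨ p % 8 = 3)) ∨
     (Cfsg.Spor.IsoM22 (P ⧸ (Cfsg.Geo.scalars (Fin 10) F).subgroupOf P) ∧ Fintype.card F = p ∧ (p = 2 ∨ p % 28 = 1 ∨ p % 28 = 9 ∨ p % 28 = 25 ∨ p % 28 = 11 ∨ p % 28 = 15 ∨ p % 28 = 23)) ∨
     (Nonempty ((P ⧸ (Cfsg.Geo.scalars (Fin 10) F).subgroupOf P) ≃* Matrix.ProjectiveSpecialLinearGroup (Fin 3) F) ∧ 5 ≤ p) ∨
     (Nonempty ((P ⧸ (Cfsg.Geo.scalars (Fin 10) F).subgroupOf P) ≃* Matrix.ProjectiveSpecialLinearGroup (Fin 4) F) ∧ 3 ≤ p) ∨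
     Nonempty ((P ⧸ (Cfsg.Geo.scalars (Fin 10) F).subgroupOf P) ≃* Matrix.ProjectiveSpecialLinearGroup (Fin 5) F)) := by
  exact Cfsg.Agent.H923.Ten.Asm.lin (fun P hC => by have := hC.simple; exact Cfsg.Agent.S0000.result) H hH hS

end Cfsg.Agent.S5839
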