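import Cfsg.Statements.S5846
import Cfsg.Agent.H926.Halves
import Cfsg.Agent.H926.NondegLow
import Cfsg.Agent.H885.C2Main
import Cfsg.Agent.H888.SubfieldMax
import Cfsg.Agent.H884.OmegaGL
import Cfsg.Agent.H884.SingMaxPlus
import Cfsg.Agent.H953.HypFiveMain
import Cfsg.Agent.H925.ExtGeo
import Cfsg.Agent.H928.FrameO

set_option autoImplicit false
open Cfsg

namespace Cfsg.Agent.S5846

open QuadraticMap

/-- (1) totally singular subspaces. -/
theorem singular {F : Type*} [Field F] [Fintype F] (Q : (Fin 10 → F) → F)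
    (hQ : Cfsg.Geo.IsNondegenerateQuadraticForm Q)
    (W : Submodule F (Fin 10 → F)) (hW0 : W ≠ ⊥) (hW : Cfsg.Geo.IsTotallySingularQuad Q W)
    (h4 : Module.finrank F W ≠ 4) :
    Cfsg.Geo.IsMaximalIn (Cfsg.Geo.omegaGL Q)
      (Cfsg.Geo.subspaceStabilizer W ⊓ Cfsg.Geo.omegaGL Q) := by
  refine Cfsg.Agent.H884.OmegaGL.singular_stabilizer_isMaximalIn Q hQ (by rw [Fintype.card_fin]; omega)
    hW0 hW ?_
  rintro ⟨x, hx, hxW, hxn⟩
  rw [Fintype.card_fin]
  have hnd := Cfsg.Agent.H884.OmegaGL.nondeg_bundle Q hQ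
  have h0 := Cfsg.Agent.H884.SingMaxPlus.sup_span_singular (Q := Cfsg.Agent.H884.OmegaGL.bundle Q hQ)
    hW hx hxW
  have h1 := Cfsg.Agent.H884.SingMaxPlus.two_mul_finrank_le hnd h0
  have h2 := Cfsg.Agent.H884.SingMaxPlus.finrank_sup_span hxn
  rw [h2, Module.finrank_fintype_fun_eq_card, Fintype.card_fin] at h1
  omega

/-- Nondegenerate subspaces. -/
theorem nondeg {F : Type*} [Field F] [Fintype F] (Q : (Fin 10 → F) → F)
    (hQ : Cfsg.Geo.IsNondegenerateQuadraticForm Q)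
    (W : Submodule F (Fin 10 → F)) (hW0 : W ≠ ⊥) (hW1 : W ≠ ⊤)
    (hdim : 2 * Module.finrank F W ≠ 10)
    (hW : Cfsg.Geo.IsNondegenerateOn (QuadraticMap.polar Q) W)
    (hexW : ¬ (Fintype.card F ≤ 3 ∧ Module.finrank F W = 2 ∧ Cfsg.Geo.IsPlusTypeOn Q W))
    (hexU : ¬ (Fintype.card F ≤ 3 ∧ Module.finrank F W + 2 = 10)) :
    Cfsg.Geo.IsMaximalIn (Cfsg.Geo.omegaGL Q)
      (Cfsg.Geo.subspaceStabilizer W ⊓ Cfsg.Geo.omegaGL Q) :=
  Cfsg.Agent.H926.NondegLow.nondegenerate_maximal hQ (by rw [Fintype.card_fin]) W hW0 hW1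
    (by rw [Fintype.card_fin]; exact hdim) hW hexW (by rw [Fintype.card_fin]; exact hexU)

/-- Maximal subgroups of Ω_10^+(q) of geometric type (any q). Let F be a finite field with q elements (characteristic p), Q a non-degenerate quadratic form on F^10 (non-degenerate polar form) of plus type (Witt index 5: some totally singular 5-space), and Ω = Ω_10^+(q) the commutator subgroup of the isometry group of Q, inside GL_10(F). Each of the following, intersected with Ω, is a maximal subgroup of Ω: (1) the stabiliser of any non-zero subspace on which Q vanishes identically other than those of dimension 4 (totally singular subspaces, dimensions 1, 2, 3 and 5); (2) for q odd, the stabiliser of any proper subspace of odd dimension other than 5 on which the polar form of Q is non-degenerate; (3) the stabiliser of any non-degenerate 2-space of minus type (containing no non-zero singular vector); (4) for q ≥ 4, the stabiliser of any non-degenerate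 2-space of plus type (containing a non-zero singular vector); (5) the stabiliser of any non-degenerate 4-space (either type); (6) for q even, the stabiliser of the 1-space spanned by any non-singular vector v (Q(v) ≠ 0); (7) for q = p prime with p ≡ 1 mod 4, the stabiliser of any decomposition of F^10 into 10 pairwise orthogonal, pairwise Q-isometric non-degenerate 1-spaces; (8) for q ≥ 7, the stabiliser of any decomposition of F^10 into 5 pairwise orthogonal, pairwise Q-isometric non-degenerate 2-spaces; (9) for q ≡ 1 mod 4, the stabiliser of any decomposition of F^10 into 2 pairwise orthogonal, pairwise Q-isometric non-degenerate 5-spaces; (10) for q ≡ 3 mod 4, the stabiliser of any decomposition of F^10 into two orthogonal non-degenerate 5-spaces that are not Q-isometric; (11) for q odd, the normaliser of any degree-2 subfield K of the matrix algebra whose elements are self-adjoint for the polar form of Q (Q is then the trace of a quadratic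 form over K); (12) every subfield group for a subfield F₀ with |F| = |F₀|^r, r prime, whose F₀-structure carries a non-zero scalar multiple of Q. -/
theorem result {F : Type*} [Field F] [Fintype F] (Q : (Fin 10 → F) → F) (hQ : Cfsg.Geo.IsNondegenerateQuadraticForm Q) (hplus : Cfsg.Geo.IsPlusTypeOn Q ⊤) :
    (∀ W : Submodule F (Fin 10 → F), W ≠ ⊥ → Cfsg.Geo.IsTotallySingularQuad Q W → Module.finrank F W ≠ 4 → Cfsg.Geo.IsMaximalIn (Cfsg.Geo.omegaGL Q) (Cfsg.Geo.subspaceStabilizer W ⊓ Cfsg.Geo.omegaGL Q)) ∧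
    (Odd (Fintype.card F) → ∀ W : Submodule F (Fin 10 → F), W ≠ ⊥ → W ≠ ⊤ → Odd (Module.finrank F W) → 2 * Module.finrank F W ≠ 10 → Cfsg.Geo.IsNondegenerateOn (QuadraticMap.polar Q) W → Cfsg.Geo.IsMaximalIn (Cfsg.Geo.omegaGL Q) (Cfsg.Geo.subspaceStabilizer W ⊓ Cfsg.Geo.omegaGL Q)) ∧
    (∀ W : Submodule F (Fin 10 → F), Module.finrank F W = 2 → Cfsg.Geo.IsNondegenerateOn (QuadraticMap.polar Q) W → ¬ Cfsg.Geo.IsPlusTypeOn Q W → Cfsg.Geo.IsMaximalIn (Cfsg.Geo.omegaGL Q) (Cfsg.Geo.subspaceStabilizer W ⊓ Cfsg.Geo.omegaGL Q)) ∧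
    (4 ≤ Fintype.card F → ∀ W : Submodule F (Fin 10 → F), Module.finrank F W = 2 → Cfsg.Geo.IsNondegenerateOn (QuadraticMap.polar Q) W → Cfsg.Geo.IsPlusTypeOn Q W → Cfsg.Geo.IsMaximalIn (Cfsg.Geo.omegaGL Q) (Cfsg.Geo.subspaceStabilizer W ⊓ Cfsg.Geo.omegaGL Q)) ∧
    (∀ W : Submodule F (Fin 10 → F), Module.finrank F W = 4 → Cfsg.Geo.IsNondegenerateOn (QuadraticMap.polar Q) W → Cfsg.Geo.IsMaximalIn (Cfsg.Geo.omegaGL Q) (Cfsg.Geo.subspaceStabilizer W ⊓ Cfsg.Geo.omegaGL Q)) ∧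
    (¬ Odd (Fintype.card F) → ∀ v : (Fin 10 → F), Q v ≠ 0 → Cfsg.Geo.IsMaximalIn (Cfsg.Geo.omegaGL Q) (Cfsg.Geo.subspaceStabilizer (Submodule.span F {v}) ⊓ Cfsg.Geo.omegaGL Q)) ∧
    ((∃ p : ℕ, p.Prime ∧ Fintype.card F = p ∧ (p % 4 = 1)) → ∀ D : Fin 10 → Submodule F (Fin 10 → F), Cfsg.Geo.IsOrthogonalMDecomposition Q 1 D → Cfsg.Geo.IsMaximalIn (Cfsg.Geo.omegaGL Q) (Cfsg.Geo.decompositionStabilizer D ⊓ Cfsg.Geo.omegaGL Q)) ∧
    (7 ≤ Fintype.card F → ∀ D : Fin 5 → Submodule F (Fin 10 → F), Cfsg.Geo.IsOrthogonalMDecomposition Q 2 D → Cfsg.Geo.IsMaximalIn (Cfsg.Geo.omegaGL Q) (Cfsg.Geo.decompositionStabilizer D ⊓ Cfsg.Geo.omegaGL Q)) ∧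
    (Fintype.card F % 4 = 1 → ∀ D : Fin 2 → Submodule F (Fin 10 → F), Cfsg.Geo.IsOrthogonalMDecomposition Q 5 D → Cfsg.Geo.IsMaximalIn (Cfsg.Geo.omegaGL Q) (Cfsg.Geo.decompositionStabilizer D ⊓ Cfsg.Geo.omegaGL Q)) ∧
    (Fintype.card F % 4 = 3 → ∀ D : Fin 2 → Submodule F (Fin 10 → F), Cfsg.Geo.IsNondegenerateMDecomposition (QuadraticMap.polar Q) 5 D → ¬ Cfsg.Geo.AreIsometricFor Q (D 0) (D 1) → Cfsg.Geo.IsMaximalIn (Cfsg.Geo.omegaGL Q) (Cfsg.Geo.decompositionStabilizer D ⊓ Cfsg.Geo.omegaGL Q)) ∧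
    (Odd (Fintype.card F) → ∀ K : Subalgebra F (Matrix (Fin 10) (Fin 10) F), Cfsg.Geo.IsFieldSubalgebra 2 K → Cfsg.Geo.IsSelfAdjointFor (QuadraticMap.polar Q) K → Cfsg.Geo.IsMaximalIn (Cfsg.Geo.omegaGL Q) (Cfsg.Geo.subalgebraNormalizer K ⊓ Cfsg.Geo.omegaGL Q)) ∧
    (∀ (F₀ : Subfield F) (r : ℕ) (P : Matrix.GeneralLinearGroup (Fin 10) F) (ζ : F), r.Prime → Fintype.card F = Nat.card F₀ ^ r → ζ ≠ 0 → Cfsg.Geo.IsQuadFormRationalStructure (fun v : Fin 10 → F => ζ * Q v) F₀ P → Cfsg.Geo.IsMaximalIn (Cfsg.Geo.omegaGL Q) (Cfsg.Geo.subfieldSubgroup F₀ P ⊓ Cfsg.Geo.omegaGL Q)) := by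
  have h1F : 1 < Fintype.card F := Fintype.one_lt_card
  have htop : Module.finrank F (⊤ : Submodule F (Fin 10 → F)) = 10 := by
    rw [finrank_top, Module.finrank_fintype_fun_eq_card, Fintype.card_fin]
  have hne : ∀ (W : Submodule F (Fin 10 → F)) (k : ℕ), Module.finrank F W = k → k ≠ 0 → k ≠ 10 →
      W ≠ ⊥ ∧ W ≠ ⊤ := by
    intro W k hk h0 h10
    constructor
    · rintro rfl
      rw [finrank_bot] at hk
      exact h0 hk.symm
    · rintro rfl
      exact h10 (by rw [← hk, htop])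
  refine ⟨fun W hW0 hW h4 => singular Q hQ W hW0 hW h4, ?_, ?_, ?_, ?_, ?_, ?_, ?_, ?_, ?_, ?_, ?_⟩
  · intro hodd W hW0 hW1 hWodd h10 hW
    refine nondeg Q hQ W hW0 hW1 h10 hW ?_ ?_
    · rintro ⟨-, h, -⟩
      rw [h] at hWodd
      exact (by decide : ¬ Odd 2) hWodd
    · rintro ⟨-, h⟩
      have : Module.finrank F W = 8 := by omega
      rw [this] at hWodd
      exact (by decide : ¬ Odd 8) hWodd
  · intro W hW2 hW hWp
    refine nondeg Q hQ W (hne W 2 hW2 (by omega) (by omega)).1 (hne W 2 hW2 (by omega) (by omega)).2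
      (by rw [hW2]; omega) hW ?_ ?_
    · rintro ⟨-, -, h⟩
      exact hWp h
    · rintro ⟨-, h⟩
      omega
  · intro hF W hW2 hW hWp
    refine nondeg Q hQ W (hne W 2 hW2 (by omega) (by omega)).1 (hne W 2 hW2 (by omega) (by omega)).2
      (by rw [hW2]; omega) hW ?_ ?_
    · rintro ⟨h, -⟩
      omega
    · rintro ⟨h, -⟩
      omega
  · intro W hW4 hW
    refine nondeg Q hQ W (hne W 4 hW4 (by omega) (by omega)).1 (hne W 4 hW4 (by omega) (by omega)).2
      (by rw [hW4]; omega) hW ?_ ?_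
    · rintro ⟨-, h, -⟩
      omega
    · rintro ⟨-, h⟩
      omega
  · intro hchar v hv
    exact Cfsg.Agent.H926.NondegLow.nonsingular_vector (by rw [Fintype.card_fin]; omega) Q hQ hchar v hv
  · rintro ⟨p, hp, hc, hp4⟩ D hD
    exact Cfsg.Agent.H928.frame_stabilizer_maximal (by rw [hc]; exact hp)
      (by rw [hc]; exact Nat.odd_iff.2 (by omega)) hQ (by simp) hD
  · intro hF D hD
    exact Cfsg.Agent.H953.HypFiveMain.planes_maximal hF hQ (by rw [Fintype.card_fin]; omega) hD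
  · intro hF D hD
    exact Cfsg.Agent.H926.Halves.halves_isMaximalIn hQ (by omega) (by omega) hD.decomp
  · intro hF D hD _
    exact Cfsg.Agent.H926.Halves.halves_isMaximalIn hQ (by omega) (by omega) hD
  · intro hodd K hK hsa
    have h2 : (2 : F) ≠ 0 := by
      intro h
      have hcz := FiniteField.cast_card_eq_zero F
      obtain ⟨k, hk⟩ := hodd
      rw [hk] at hcz
      push_cast at hcz
      rw [h, zero_mul, zero_add] at hcz
      exact one_ne_zero hcz
    exact Cfsg.Agent.H925.Ext.selfAdjoint_isMaximalIn_of_five hQ h2 (by norm_num) (by simp) hK hsa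
  · intro F₀ r P ζ hr hcard hζ hP
    exact Cfsg.Agent.H888.SubfieldMax.subfield_maximal (by rw [Fintype.card_fin]; omega) Q hQ F₀ r hr hcard
      P ζ hζ hP

end Cfsg.Agent.S5846
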