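import Cfsg.Statements.S5868
import Cfsg.Agent.S5662
import Cfsg.Agent.H931.SpWrap
import Cfsg.Agent.H914.SpExc
import Cfsg.Agent.H914.SpExc2

set_option autoImplicit false
open Cfsg

namespace Cfsg.Agent.S5868

open Cfsg.Geo Cfsg.Agent.H931
open scoped Matrix MatrixGroups

/-- Over the field with two elements the stabiliser of a frame of 2-spaces fixes a quadratic form. -/
theorem exc_two {F : Type*} [Field F] [Fintype F] {m : ℕ} (hF : Fintype.card F = 2) {t : ℕ}
    {D : Fin t → Submodule F (Fin m ⊕ Fin m → F)}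
    (hD : IsNondegenerateMDecomposition (sympForm m F) 2 D) :
    ∃ Q : (Fin m ⊕ Fin m → F) → F, IsNondegenerateQuadraticForm Q ∧
      (∀ u v, QuadraticMap.polar Q u v = sympForm m F u v) ∧
      decompositionStabilizer D ⊓ spGL m F ≤ quadSimilarityGroup Q := by
  obtain ⟨Q, hQ, hpol, hle⟩ := Cfsg.Agent.H914.quad_of_frame_two hF
    Cfsg.Agent.H924.isSymplecticForm_sympForm hD
  exact ⟨Q, hQ, hpol, inf_le_left.trans hle⟩

/-- Over the field with three elements the stabiliser of a tensor decomposition with a three-dimensional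
orthogonal factor is imprimitive. -/
theorem exc_three {F : Type*} [Field F] [Fintype F] {m : ℕ} (hF : Fintype.card F = 3) {n₁ : ℕ}
    (hn : 0 < n₁)
    (e : (Fin m ⊕ Fin m) ≃ Fin n₁ × Fin 3) (P : GL (Fin m ⊕ Fin m) F)
    (f₁ : (Fin n₁ → F) → (Fin n₁ → F) → F) (f₂ : (Fin 3 → F) → (Fin 3 → F) → F)
    (hf₁ : IsSymplecticForm f₁) (hf₂ : IsSymmetricForm f₂)
    (hf : IsTensorFormStructure id (sympForm m F) f₁ f₂ e P) :
    ∃ D : Fin 3 → Submodule F (Fin m ⊕ Fin m → F),
      IsNondegenerateMDecomposition (sympForm m F) n₁ D ∧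
      tensorProductSubgroup n₁ 3 e P ⊓ spGL m F ≤ decompositionStabilizer D := by
  obtain ⟨D, hD, hle⟩ := Cfsg.Agent.H914.frame_of_tensor_three hF
    (Cfsg.Agent.H924.isSymplecticForm_sympForm (F := F) (m := m)).bilinear hn
    (Cfsg.Agent.H924.hermForm_of_symplectic hf₁) hf₂ hf
  refine ⟨D, hD, fun g hg => hle g hg.1 (mem_spGL_iff.1 hg.2)⟩

/-- Every maximal subgroup of Sp_12(q) is of one of the listed geometric types or lies in the residual class. Let F be a finite field with q elements (characteristic p), f the standard alternating form on F^12 (coordinates Fin 6 ⊕ Fin 6), and H a maximal subgroup of Sp_12(F) (inside GL_12(F)). Then H is the intersection with Sp_12(F) of one of: the stabiliser of a non-zero totally isotropic subspace; the stabiliser of a non-zero non-degenerate subspace of dimension less than 6; for q ≥ 3, the stabiliser of a decomposition into 6 mutually orthogonal non-degenerate 2-spaces; the stabiliser of a decomposition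 into 3 mutually orthogonal non-degenerate 4-spaces; the stabiliser of a decomposition into 2 mutually orthogonal non-degenerate 6-spaces; for q odd, of a decomposition into two totally isotropic 6-spaces; the normaliser of a degree-2 subfield K of the matrix algebra, self-adjoint with f(k v, v) = 0; the normaliser of a degree-3 subfield K of the matrix algebra, self-adjoint with f(k v, v) = 0; for q odd, the normaliser of a degree-2 subfield closed under adjoints but not self-adjoint; for q odd, the stabiliser of a tensor decomposition of f into an alternating form on F^2 and a symmetric form on F^6; for q odd with q ≥ 5, the stabiliser of a tensor decomposition of f into an alternating form on F^4 and a symmetric form on F^3; a subfield group (|F| = |F₀|^r, r prime) whose F₀-structure carries a non-zero multiple of f; for q even, the similarity group of a non-degenerate quadratic form polarising to f — or else H lies in the residual class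 of the symplectic case (modulo scalars H is almost simple, with absolutely irreducible perfect socle preimage realisable over no proper subfield and fixing no non-degenerate quadratic or unitary form). -/
theorem result {F : Type*} [Field F] [Fintype F] (H : Subgroup (Matrix.GeneralLinearGroup (Fin 6 ⊕ Fin 6) F)) (hH : Cfsg.Geo.IsMaximalIn (Cfsg.spGL 6 F) H) :
    (∃ W : Submodule F (Fin 6 ⊕ Fin 6 → F), W ≠ ⊥ ∧ Cfsg.Geo.IsTotallySingularFor (Cfsg.sympForm 6 F) W ∧ H = Cfsg.Geo.subspaceStabilizer W ⊓ Cfsg.spGL 6 F) ∨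
    (∃ W : Submodule F (Fin 6 ⊕ Fin 6 → F), W ≠ ⊥ ∧ Cfsg.Geo.IsNondegenerateOn (Cfsg.sympForm 6 F) W ∧ Module.finrank F W < 6 ∧ H = Cfsg.Geo.subspaceStabilizer W ⊓ Cfsg.spGL 6 F) ∨
    (3 ≤ Fintype.card F ∧ ∃ D : Fin 6 → Submodule F (Fin 6 ⊕ Fin 6 → F), Cfsg.Geo.IsNondegenerateMDecomposition (Cfsg.sympForm 6 F) 2 D ∧ H = Cfsg.Geo.decompositionStabilizer D ⊓ Cfsg.spGL 6 F) ∨
    (∃ D : Fin 3 → Submodule F (Fin 6 ⊕ Fin 6 → F), Cfsg.Geo.IsNondegenerateMDecomposition (Cfsg.sympForm 6 F) 4 D ∧ H = Cfsg.Geo.decompositionStabilizer D ⊓ Cfsg.spGL 6 F) ∨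
    (∃ D : Fin 2 → Submodule F (Fin 6 ⊕ Fin 6 → F), Cfsg.Geo.IsNondegenerateMDecomposition (Cfsg.sympForm 6 F) 6 D ∧ H = Cfsg.Geo.decompositionStabilizer D ⊓ Cfsg.spGL 6 F) ∨
    (Odd (Fintype.card F) ∧ ∃ D : Fin 2 → Submodule F (Fin 6 ⊕ Fin 6 → F), Cfsg.Geo.IsMDecomposition 6 D ∧ (∀ i, Cfsg.Geo.IsTotallySingularFor (Cfsg.sympForm 6 F) (D i)) ∧ H = Cfsg.Geo.decompositionStabilizer D ⊓ Cfsg.spGL 6 F) ∨
    (∃ K : Subalgebra F (Matrix (Fin 6 ⊕ Fin 6) (Fin 6 ⊕ Fin 6) F), Cfsg.Geo.IsFieldSubalgebra 2 K ∧ Cfsg.Geo.IsSelfAdjointFor (Cfsg.sympForm 6 F) K ∧ (∀ k ∈ K, ∀ v : (Fin 6 ⊕ Fin 6 → F), (Cfsg.sympForm 6 F) (Matrix.mulVec k v) v = 0) ∧ H = Cfsg.Geo.subalgebraNormalizer K ⊓ Cfsg.spGL 6 F) ∨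
    (∃ K : Subalgebra F (Matrix (Fin 6 ⊕ Fin 6) (Fin 6 ⊕ Fin 6) F), Cfsg.Geo.IsFieldSubalgebra 3 K ∧ Cfsg.Geo.IsSelfAdjointFor (Cfsg.sympForm 6 F) K ∧ (∀ k ∈ K, ∀ v : (Fin 6 ⊕ Fin 6 → F), (Cfsg.sympForm 6 F) (Matrix.mulVec k v) v = 0) ∧ H = Cfsg.Geo.subalgebraNormalizer K ⊓ Cfsg.spGL 6 F) ∨
    (Odd (Fintype.card F) ∧ ∃ K : Subalgebra F (Matrix (Fin 6 ⊕ Fin 6) (Fin 6 ⊕ Fin 6) F), Cfsg.Geo.IsFieldSubalgebra 2 K ∧ Cfsg.Geo.IsAdjointClosedFor (Cfsg.sympForm 6 F) K ∧ ¬ Cfsg.Geo.IsSelfAdjointFor (Cfsg.sympForm 6 F) K ∧ H = Cfsg.Geo.subalgebraNormalizer K ⊓ Cfsg.spGL 6 F) ∨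
    (Odd (Fintype.card F) ∧ ∃ (e : (Fin 6 ⊕ Fin 6) ≃ Fin 2 × Fin 6) (P : Matrix.GeneralLinearGroup (Fin 6 ⊕ Fin 6) F) (f₁ : (Fin 2 → F) → (Fin 2 → F) → F) (f₂ : (Fin 6 → F) → (Fin 6 → F) → F), Cfsg.Geo.IsSymplecticForm f₁ ∧ Cfsg.Geo.IsSymmetricForm f₂ ∧ Cfsg.Geo.IsTensorFormStructure id (Cfsg.sympForm 6 F) f₁ f₂ e P ∧ H = Cfsg.Geo.tensorProductSubgroup 2 6 e P ⊓ Cfsg.spGL 6 F) ∨
    (Odd (Fintype.card F) ∧ 5 ≤ Fintype.card F ∧ ∃ (e : (Fin 6 ⊕ Fin 6) ≃ Fin 4 × Fin 3) (P : Matrix.GeneralLinearGroup (Fin 6 ⊕ Fin 6) F) (f₁ : (Fin 4 → F) → (Fin 4 → F) → F) (f₂ : (Fin 3 → F) → (Fin 3 → F) → F), Cfsg.Geo.IsSymplecticForm f₁ ∧ Cfsg.Geo.IsSymmetricForm f₂ ∧ Cfsg.Geo.IsTensorFormStructure id (Cfsg.sympForm 6 F) f₁ f₂ e P ∧ H = Cfsg.Geo.tensorProductSubgroup 4 3 e P ⊓ Cfsg.spGL 6 F) ∨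
    (∃ (F₀ : Subfield F) (r : ℕ) (P : Matrix.GeneralLinearGroup (Fin 6 ⊕ Fin 6) F) (ζ : F), r.Prime ∧ Fintype.card F = Nat.card F₀ ^ r ∧ ζ ≠ 0 ∧ Cfsg.Geo.IsFormRationalStructure (Cfsg.sympForm 6 F) F₀ ζ P ∧ H = Cfsg.Geo.subfieldSubgroup F₀ P ⊓ Cfsg.spGL 6 F) ∨
    (¬ Odd (Fintype.card F) ∧ ∃ Q : (Fin 6 ⊕ Fin 6 → F) → F, Cfsg.Geo.IsNondegenerateQuadraticForm Q ∧ (∀ u v : (Fin 6 ⊕ Fin 6 → F), QuadraticMap.polar Q u v = (Cfsg.sympForm 6 F) u v) ∧ H = Cfsg.Geo.quadSimilarityGroup Q ⊓ Cfsg.spGL 6 F) ∨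
    Cfsg.Geo.InSymplecticResidualClass H := by
  have hc : 3 ≤ 6 ∨ (6 = 2 ∧ 3 ≤ Fintype.card F) ∨ 4 ≤ Fintype.card F := Or.inl (by norm_num)
  have hex : ¬ (6 = 2 ∧ Fintype.card F = 2) := by omega
  have hirr := spGL_irreducible (F := F) (m := 6)
  have h := symplectic_maximal_cases (F := F) (m := 6) (by norm_num) hex hH
    (by
      intro k t e P hk _ ht hkt
      subst hk
      exfalso
      have h1 : t < 4 := by
        by_contra hcon
        have : 2 ^ 4 ≤ 2 ^ t := Nat.pow_le_pow_right (by norm_num) (by omega)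
        omega
      interval_cases t
      omega)
    (Cfsg.Agent.S5662.result 6 (by norm_num) hex H hH.1.le (spGL_sup_scalars_ne hc hH))
  have hcard2 : 2 ≤ Fintype.card F := Fintype.one_lt_card
  rcases h with h | h | h | h | h | h | h | h | h | h | h | h
  · left
    exact h
  · iterate 1 right
    left
    obtain ⟨W, h0, hW, -, hlt, hM⟩ := h
    exact ⟨W, h0, hW, hlt, hM⟩
  · obtain ⟨t, k, D, htk, hk, ht, hD, hM⟩ := h
    have hk0 : 0 < k := hD.decomp.pos
    have hcases : (t = 6 ∧ k = 2) ∨ (t = 3 ∧ k = 4) ∨ (t = 2 ∧ k = 6) := by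
      have h1 : t ≤ 12 := by
        calc t = t * 1 := (mul_one t).symm
          _ ≤ t * k := Nat.mul_le_mul_left t hk0
          _ = 12 := by rw [htk]
      obtain ⟨j, hj⟩ := hk
      have h2 : k ≤ 12 := by
        calc k = 1 * k := (one_mul k).symm
          _ ≤ t * k := Nat.mul_le_mul_right k (by omega)
          _ = 12 := by rw [htk]
      have h3 : j ≤ 6 := by omega
      subst hj
      interval_cases j <;> omega
    rcases hcases with ⟨rfl, rfl⟩ | ⟨rfl, rfl⟩ | ⟨rfl, rfl⟩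
    · rcases Nat.lt_or_ge (Fintype.card F) 3 with h2 | h2
      · -- q = 2
        obtain ⟨Q, hQ, hpol, hle⟩ := exc_two (by omega) hD
        iterate 12 right
        left
        refine ⟨?_, Q, hQ, hpol, ?_⟩
        · have : Fintype.card F = 2 := by omega
          rw [this]
          decide
        · exact Cfsg.Agent.H918.eq_inf_of_maximal hH (hM.le.trans hle)
            (spGL_not_le_quadSimilarityGroup (by norm_num) hpol hQ.smul)
      · iterate 2 right
        left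
        exact ⟨h2, D, hD, hM⟩
    · iterate 3 right
      left
      exact ⟨D, hD, hM⟩
    · iterate 4 right
      left
      exact ⟨D, hD, hM⟩
  · iterate 5 right
    left
    obtain ⟨D, ho, hD, hs, hM⟩ := h
    exact ⟨ho, D, hD, hs, hM⟩
  · iterate 11 right
    left
    exact h
  · exfalso
    obtain ⟨R, p, k, -, -, -, -, -, -, -, -, -, hk, -⟩ := h
    have h1 : k < 4 := by
      by_contra hcon
      have : 2 ^ 4 ≤ 2 ^ k := Nat.pow_le_pow_right (by norm_num) (by omega)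
      omega
    interval_cases k <;> omega
  · iterate 12 right
    left
    obtain ⟨Q, ho, hQ, hpol, hM⟩ := h
    exact ⟨ho, Q, hQ, hpol, hM⟩
  · obtain ⟨r, K, hr, hrd, hK, hs, ha, hM⟩ := h
    have hr' : r = 2 ∨ r = 3 := by
      have h1 : r ∣ 2 ^ 2 * 3 := by
        norm_num
        norm_num at hrd
        exact hrd
      rcases (Nat.Prime.dvd_mul hr).1 h1 with h2 | h2
      · left
        exact (Nat.prime_dvd_prime_iff_eq hr Nat.prime_two).1 (hr.dvd_of_dvd_pow h2)
      · right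
        exact (Nat.prime_dvd_prime_iff_eq hr Nat.prime_three).1 h2
    rcases hr' with rfl | rfl
    · iterate 6 right
      left
      exact ⟨K, hK, hs, ha, hM⟩
    · iterate 7 right
      left
      exact ⟨K, hK, hs, ha, hM⟩
  · iterate 8 right
    left
    obtain ⟨K, ho, hK, hs, ha, hM⟩ := h
    exact ⟨ho, K, hK, hs, ha, hM⟩
  · obtain ⟨n₁, n₂, e, P, f₁, f₂, ho, hn, hev, h2, h3, hf₁, hf₂, hf, hM⟩ := h
    have hcases : (n₁ = 2 ∧ n₂ = 6) ∨ (n₁ = 4 ∧ n₂ = 3) := by
      obtain ⟨j, hj⟩ := hev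
      have h4 : n₁ ≤ 4 := by
        by_contra hcon
        have : 5 * 3 ≤ n₁ * n₂ := Nat.mul_le_mul (by omega) h3
        omega
      have h5 : j = 1 ∨ j = 2 := by omega
      rcases h5 with rfl | rfl
      · subst hj
        left
        omega
      · subst hj
        right
        omega
    rcases hcases with ⟨rfl, rfl⟩ | ⟨rfl, rfl⟩
    · iterate 9 right
      left
      exact ⟨ho, e, P, f₁, f₂, hf₁, hf₂, hf, hM⟩
    · rcases Nat.lt_or_ge (Fintype.card F) 5 with h5 | h5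
      · have hq3 : Fintype.card F = 3 := by
          obtain ⟨j, hj⟩ := ho
          omega
        obtain ⟨D, hD, hle⟩ := exc_three hq3 (by norm_num) e P f₁ f₂ hf₁ hf₂ hf
        iterate 3 right
        left
        exact ⟨D, hD, Cfsg.Agent.H918.eq_inf_of_maximal hH (hM.le.trans hle)
          (spGL_not_le_decompositionStabilizer hc hD.decomp)⟩
      · iterate 10 right
        left
        exact ⟨ho, h5, e, P, f₁, f₂, hf₁, hf₂, hf, hM⟩
  · exfalso
    obtain ⟨k, t, e, P, f₁, ho, hkt, hev, h2, hto, ht, -⟩ := h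
    obtain ⟨j, hj⟩ := hev
    have h1 : k < 3 := by
      by_contra hcon
      have h3 : 3 ^ 3 ≤ k ^ t := (Nat.pow_le_pow_left (by omega) 3).trans
        (Nat.pow_le_pow_right (by omega) ht)
      omega
    have hk : k = 2 := by omega
    subst hk
    have h1 : t < 4 := by
      by_contra hcon
      have : 2 ^ 4 ≤ 2 ^ t := Nat.pow_le_pow_right (by norm_num) (by omega)
      omega
    interval_cases t
    omega
  · iterate 13 right
    exact h

end Cfsg.Agent.S5868
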