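import Cfsg.Statements.S5878
import Cfsg.Agent.S0000
import Cfsg.Agent.H933.BigKnown

set_option autoImplicit false
open Cfsg

namespace Cfsg.Agent.S5878

/-- Every finite non-abelian simple group G has a proper subgroup H whose index satisfies (G : H)² < |G|. Equivalently, the least index of a maximal subgroup of G (the least degree of a faithful transitive permutation representation of G) is smaller than the square root of the order of G. -/
theorem result {G : Type*} [Group G] [Finite G]
    [IsSimpleGroup G] (hG : ¬ IsMulCommutative G) :
    ∃ H : Subgroup G, H ≠ ⊤ ∧ H.index ^ 2 < Nat.card G :=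
  Cfsg.Agent.H933.big_known hG Cfsg.Agent.S0000.result

end Cfsg.Agent.S5878
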