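import Cfsg.Statements.S5880
import Cfsg.Agent.H430.CfFinal

set_option autoImplicit false
open Cfsg

namespace Cfsg.Agent.S5880

/-- Let G be a finite almost simple group with socle S: S is a non-abelian simple normal subgroup of G with trivial centralizer. Then G has a maximal subgroup M that is core-free (contains no non-trivial normal subgroup of G, equivalently does not contain S) and whose index is at most l(S)², where l(S) is the least index of a proper subgroup of S: (G : M) ≤ (S : K)² for every proper subgroup K of S. -/
theorem result {G : Type*} [Group G]
    [Finite G] (S : Subgroup G) [S.Normal] (hS : IsSimpleGroup S) (hSc : ¬ IsMulCommutative S)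
    (hC : Subgroup.centralizer (S : Set G) = ⊥) :
    ∃ M : Subgroup G, IsCoatom M ∧ M.normalCore = ⊥ ∧ ∀ K : Subgroup S, K ≠ ⊤ → M.index ≤ K.index ^ 2 := by
  exact H430.CfFinal.final S hS hSc hC

end Cfsg.Agent.S5880
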