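import Cfsg.Statements.S5898
import Cfsg.Agent.H623.PDFinal
import Cfsg.Agent.S0000

set_option autoImplicit false
open Cfsg

namespace Cfsg.Agent.S5898

/-- Let G be a finite transitive permutation group of prime degree (acting faithfully on a finite set Ω with |Ω| prime), let a ∈ Ω with point stabilizer G_a, and let M be a maximal subgroup of G. If M ∩ G_a is a maximal subgroup of G_a, then M ∩ G_a is also a maximal subgroup of M. -/
theorem result {G Ω : Type*} [Group G]
    [Finite G] [MulAction G Ω] [FaithfulSMul G Ω] [Finite Ω] (hp : (Nat.card Ω).Prime)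
    [MulAction.IsPretransitive G Ω] (a : Ω) (M : Subgroup G) (hM : IsCoatom M)
    (hmax : IsCoatom ((M ⊓ MulAction.stabilizer G a).subgroupOf (MulAction.stabilizer G a))) :
    IsCoatom ((M ⊓ MulAction.stabilizer G a).subgroupOf M) := by
  exact Cfsg.Agent.H623.PD.final (fun T hT => Cfsg.Agent.S0000.result) hp a M hM hmax

end Cfsg.Agent.S5898
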