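import Cfsg.Statements.S5884
import Cfsg.Agent.S5898
import Cfsg.Agent.H935.PrimeIdx

set_option autoImplicit false
open Cfsg

namespace Cfsg.Agent.S5884

/-- Let G be a finite group, M a subgroup of G of prime index, and H a maximal subgroup of M. Then H is a second maximal subgroup of G: H is a maximal subgroup of every maximal subgroup K of G that contains H. -/
theorem result {G : Type*} [Group G] [Finite G]
    (M : Subgroup G) (hM : M.index.Prime) (H : Subgroup G) (hHM : H ≤ M) (hmax : IsCoatom (H.subgroupOf M))
    (K : Subgroup G) (hK : IsCoatom K) (hHK : H ≤ K) : IsCoatom (H.subgroupOf K) := by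
  refine Cfsg.Agent.H935.PrimeIdx.main ?_ M hM H hHM hmax K hK hHK
  intro G Ω _ _ _ _ _ hp _ a M hM hmax
  exact Cfsg.Agent.S5898.result hp a M hM hmax

end Cfsg.Agent.S5884
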