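import Cfsg.Statements.S5889
import Cfsg.Agent.S0000
import Cfsg.Agent.H936.DSAll
import Cfsg.Agent.H936.PSMain

set_option autoImplicit false
open Cfsg

namespace Cfsg.Agent.S5889

open Cfsg.Agent.H936

/-- Let n be a natural number and H a maximal subgroup of the symmetric group on n letters, or a maximal subgroup of the alternating group on n letters. Then the derived series of H becomes stationary after at most six steps: its sixth term H⁽⁶⁾ is perfect, H⁽⁷⁾ = H⁽⁶⁾. -/
theorem result (n : ℕ) :
    (∀ H : Subgroup (Equiv.Perm (Fin n)), IsCoatom H → derivedSeries H 7 = derivedSeries H 6) ∧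
      ∀ H : Subgroup (alternatingGroup (Fin n)), IsCoatom H → derivedSeries H 7 = derivedSeries H 6 := by
  exact ps_maximal (Ω := Fin n) fun T _ _ _ hT => ds_known hT Cfsg.Agent.S0000.result

end Cfsg.Agent.S5889
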