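import Cfsg.Statements.S5897
import Cfsg.Agent.S0000
import Cfsg.Agent.H933.SubKnown

set_option autoImplicit false
open Cfsg

namespace Cfsg.Agent.S5897

/-- Let G be a finite non-abelian simple group and H any proper subgroup of G. Then the number of subgroups of the outer automorphism group Out(G) = Aut(G)/Inn(G) is at most (log₂ (G : H))³; in particular it is at most (log₂ l(G))³ for l(G) the least index of a proper subgroup of G. -/
theorem result {G : Type*} [Group G] [Finite G]
    [IsSimpleGroup G] (hG : ¬ IsMulCommutative G) (H : Subgroup G) (hH : H ≠ ⊤) :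
    (Nat.card (Subgroup (Cfsg.Out G)) : ℝ) ≤ Real.logb 2 (H.index : ℝ) ^ 3 :=
  Cfsg.Agent.H933.SubKnown.few_known inferInstance hG Cfsg.Agent.S0000.result H hH

end Cfsg.Agent.S5897
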