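import Cfsg.Statements.S5899
import Cfsg.Agent.H938.Alt
import Cfsg.Agent.H938.LieSmall
import Cfsg.Agent.H938.SpRest
import Cfsg.Agent.S0000

set_option autoImplicit false
open Cfsg

namespace Cfsg.Agent.S5899

/-- Let G be a finite simple group that has an insoluble proper subgroup, and suppose that for every insoluble proper subgroup K of G the Frattini quotient K/Φ(K) is a minimal simple group (non-abelian simple with all proper subgroups soluble). Then G is isomorphic to one of: PSL₂(2^(rs)) with r, s primes; PSL₂(3^(rs)) with r, s odd primes; PSL₂(p) with p a prime, p ≡ ±1 (mod 5); PSL₂(p^r) with r an odd prime and p = 5 or p a prime with p ≡ ±2 (mod 5); PSL₂(9); PSU₃(3); or a Suzuki group Sz(2^(rs)) with r, s odd primes. -/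
theorem result {G : Type*} [Group G] [Finite G] [IsSimpleGroup G]
    (hex : ∃ K : Subgroup G, K ≠ ⊤ ∧ ¬ Group.IsSolvable K)
    (hmin : ∀ K : Subgroup G, K ≠ ⊤ → ¬ Group.IsSolvable K → Cfsg.IsMinimalSimple (K ⧸ frattini K)) :
    (∃ (F : Type) (_ : Field F) (_ : Fintype F) (r s : ℕ), r.Prime ∧ s.Prime ∧ Fintype.card F = 2 ^ (r * s) ∧
      Nonempty (G ≃* Matrix.ProjectiveSpecialLinearGroup (Fin 2) F)) ∨
    (∃ (F : Type) (_ : Field F) (_ : Fintype F) (r s : ℕ), r.Prime ∧ s.Prime ∧ Odd r ∧ Odd s ∧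
      Fintype.card F = 3 ^ (r * s) ∧ Nonempty (G ≃* Matrix.ProjectiveSpecialLinearGroup (Fin 2) F)) ∨
    (∃ (F : Type) (_ : Field F) (_ : Fintype F) (p : ℕ), p.Prime ∧ (p % 5 = 1 ∨ p % 5 = 4) ∧ Fintype.card F = p ∧
      Nonempty (G ≃* Matrix.ProjectiveSpecialLinearGroup (Fin 2) F)) ∨
    (∃ (F : Type) (_ : Field F) (_ : Fintype F) (p r : ℕ), p.Prime ∧ r.Prime ∧ Odd r ∧ (p = 5 ∨ p % 5 = 2 ∨ p % 5 = 3) ∧
      Fintype.card F = p ^ r ∧ Nonempty (G ≃* Matrix.ProjectiveSpecialLinearGroup (Fin 2) F)) ∨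
    (∃ (F : Type) (_ : Field F) (_ : Fintype F), Fintype.card F = 9 ∧ Nonempty (G ≃* Matrix.ProjectiveSpecialLinearGroup (Fin 2) F)) ∨
    (∃ (F : Type) (_ : Field F) (_ : Fintype F), Fintype.card F = 9 ∧ Nonempty (G ≃* Cfsg.PSU 3 F 3)) ∨
    (∃ (F : Type) (_ : Field F) (_ : Fintype F) (r s : ℕ), r.Prime ∧ s.Prime ∧ Odd r ∧ Odd s ∧
      Fintype.card F = 2 ^ (r * s) ∧ Nonempty (G ≃* Cfsg.Lie.Sz F (2 ^ ((r * s + 1) / 2)))) := by
  have hn : ∃ x y : G, x * y ≠ y * x := by
    by_contra hc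
    push Not at hc
    obtain ⟨K, -, hK⟩ := hex
    exact hK (Group.isSolvable_of_comm fun a b => Subtype.ext (hc a b))
  have hp : ¬ IsPrimeCyclic G := by
    intro hp
    have : Fact (Nat.card G).Prime := ⟨hp⟩
    have hc : IsCyclic G := isCyclic_of_prime_card rfl
    obtain ⟨x, y, hxy⟩ := hn
    obtain ⟨g, hg⟩ := hc.exists_generator
    obtain ⟨i, hi⟩ := Subgroup.mem_zpowers_iff.1 (hg x)
    obtain ⟨j, hj⟩ := Subgroup.mem_zpowers_iff.1 (hg y)
    apply hxy
    rw [← hi, ← hj]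
    exact ((Commute.refl g).zpow_zpow i j).eq
  have hB : ¬ H938.Bad G := H938.not_bad hmin
  have hM : ¬ H938.Mn G := by
    intro h
    obtain ⟨K, h1, h2⟩ := hex
    exact h2 (h K h1)
  have key : H938.Lst G := by
    rcases H938.cases_of_known Cfsg.Agent.S0000.result hp with h | h | h | h
    · exact absurd h hB
    · rcases H938.alt_list h with h | ⟨F, _, _, hF, ⟨e⟩⟩ | ⟨F, _, _, hF, ⟨e⟩⟩
      · exact absurd h hB
      · rcases H938.l2_list (by omega) e with h | h | h
        · exact absurd h hB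
        · exact absurd h hM
        · exact h
      · exact Or.inr (Or.inr (Or.inr (Or.inr (Or.inl ⟨F, inferInstance, inferInstance, hF, ⟨e⟩⟩))))
    · rcases H938.lie_list h with h | h | h
      · exact absurd h hB
      · exact absurd h hM
      · exact h
    · exact absurd (H938.bad_of_sporadic hn h) hB
  exact key

end Cfsg.Agent.S5899
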