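import Cfsg.Statements.S5900
import Cfsg.Agent.H939.LieAll
import Cfsg.Agent.H939.SpAll

set_option autoImplicit false
open Cfsg

namespace Cfsg.Agent.S5900

/-- The subgroup lattice of every finite simple group G is complemented: for every subgroup H of G there is a subgroup X with H ⊔ X = G and H ⊓ X = 1 (here stated with Mathlib's ComplementedLattice on the lattice of subgroups). -/
theorem result {G : Type*} [Group G] [Finite G] [IsSimpleGroup G] :
    ComplementedLattice (Subgroup G) := by
  refine H939.KLat.induction fun G _ _ _ hb => ?_
  rcases H939.LieAll.cl_lie (fun h => H808.ClSpor.cl_tits h hb) (Cfsg.Agent.S0000.result (G := G)) with h | h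
  · exact h
  · exact H939.SpAll.cl_sporadic h hb

end Cfsg.Agent.S5900
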