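import Cfsg.Statements.S5906
import Cfsg.Agent.H940.MCEnd
import Cfsg.Agent.H256.Sep.RowB
-- import your own Cfsg.Agent.* helpers here

set_option autoImplicit false
open Cfsg

namespace Cfsg.Agent.S5906

/-- A finite simple group G has exactly four conjugacy classes of maximal subgroups if and only if G is isomorphic to one of: PSL₂(11); PSL₂(p) with p > 3 prime and p ≡ ±3 or ±13 (mod 40); PSL₂(p^(r^m)) with p, r primes and m ≥ 1, where r is odd if p is odd and m ≥ 2 if p = 2; PSL₃(3); PSU₃(q) with q = 3 or q = 2^(2^m) for some m ≥ 1; a Suzuki group Sz(2^r) with r an odd prime. (Here 'exactly four classes' is spelled out: four pairwise non-conjugate maximal subgroups to one of which every maximal subgroup is conjugate.) -/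
theorem result {G : Type*} [Group G] [Finite G] [IsSimpleGroup G] :
    (∃ M : Fin 4 → Subgroup G, (∀ i, IsCoatom (M i)) ∧
      (∀ i j, (∃ g : G, Subgroup.map (MulAut.conj g).toMonoidHom (M i) = M j) → i = j) ∧
      (∀ K : Subgroup G, IsCoatom K → ∃ i, ∃ g : G, Subgroup.map (MulAut.conj g).toMonoidHom (M i) = K)) ↔
    ((∃ (F : Type) (_ : Field F) (_ : Fintype F), Fintype.card F = 11 ∧ Nonempty (G ≃* Matrix.ProjectiveSpecialLinearGroup (Fin 2) F)) ∨
     (∃ (F : Type) (_ : Field F) (_ : Fintype F) (p : ℕ), p.Prime ∧ 3 < p ∧ (p % 40 = 3 ∨ p % 40 = 37 ∨ p % 40 = 13 ∨ p % 40 = 27) ∧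
       Fintype.card F = p ∧ Nonempty (G ≃* Matrix.ProjectiveSpecialLinearGroup (Fin 2) F)) ∨
     (∃ (F : Type) (_ : Field F) (_ : Fintype F) (p r m : ℕ), p.Prime ∧ r.Prime ∧ 1 ≤ m ∧ (p ≠ 2 → r ≠ 2) ∧ (p = 2 → 2 ≤ m) ∧
       Fintype.card F = p ^ (r ^ m) ∧ Nonempty (G ≃* Matrix.ProjectiveSpecialLinearGroup (Fin 2) F)) ∨
     (∃ (F : Type) (_ : Field F) (_ : Fintype F), Fintype.card F = 3 ∧ Nonempty (G ≃* Matrix.ProjectiveSpecialLinearGroup (Fin 3) F)) ∨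
     (∃ (F : Type) (_ : Field F) (_ : Fintype F) (q : ℕ), (q = 3 ∨ ∃ m : ℕ, 1 ≤ m ∧ q = 2 ^ (2 ^ m)) ∧ Fintype.card F = q ^ 2 ∧
       Nonempty (G ≃* Cfsg.PSU 3 F q)) ∨
     (∃ (F : Type) (_ : Field F) (_ : Fintype F) (r : ℕ), r.Prime ∧ Odd r ∧ Fintype.card F = 2 ^ r ∧
       Nonempty (G ≃* Cfsg.Lie.Sz F (2 ^ ((r + 1) / 2))))) := by
  exact Cfsg.Agent.H940.MaxCls.s5906_of_B Cfsg.Agent.H256.Sep.RowB.five

end Cfsg.Agent.S5906
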