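-- statement S5919 (assembled by helper942; rows by helper540, 887, 934, 530, 775, 1, 108, 942, 990, 976, 859, 757, 835, 95)
import Cfsg.Statements.S5919
import Cfsg.Agent.H887.Sz.NumSz
import Cfsg.Agent.H887.Sz.Grp
import Cfsg.Agent.H887.Sz.Row
import Cfsg.Agent.H934.Sz.Dims
import Cfsg.Agent.H530.L13.R1
import Cfsg.Agent.H540.E8C.L13.R2
import Cfsg.Agent.H775.L13.Num
import Cfsg.Agent.H1.L13.Grp
import Cfsg.Agent.H108.L13.End
import Cfsg.Agent.H942.S62.End

set_option autoImplicit false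
open Cfsg

namespace Cfsg.Agent.S5919

/-- Let G be the Chevalley group of type E₈ over the field with three elements (generated by its root elements in the 248-dimensional adjoint representation; it is the simple group E₈(3)), and let H be a subgroup of G whose generalized Fitting subgroup F*(H) is isomorphic to one of: the Suzuki group Sz(8), the orthogonal group Ω⁺₈(2) (commutator subgroup of the isometry group of the hyperbolic quadratic form in dimension 8 over the field with two elements), PSL₂(13), or the symplectic group Sp₆(2). Then H is not a maximal subgroup of G. Here F₈ and F₁₃ denote fields with 8 and 13 elements. -/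
theorem result
    {F₈ F₁₃ : Type*} [Field F₈] [Fintype F₈] (h8 : Fintype.card F₈ = 8) [Field F₁₃] [Fintype F₁₃] (h13 : Fintype.card F₁₃ = 13)
    (H : Subgroup ↥(Cfsg.Lie.chevE8.group (ZMod 3)))
    (hH : Nonempty (↥(Cfsg.generalizedFittingSubgroup ↥H) ≃* ↥(Cfsg.Lie.Sz F₈ 4)) ∨ Nonempty (↥(Cfsg.generalizedFittingSubgroup ↥H) ≃* Cfsg.Omega (ZMod 2) (Cfsg.quadFormPlus 4 (ZMod 2))) ∨
      Nonempty (↥(Cfsg.generalizedFittingSubgroup ↥H) ≃* Matrix.ProjectiveSpecialLinearGroup (Fin 2) F₁₃) ∨ Nonempty (↥(Cfsg.generalizedFittingSubgroup ↥H) ≃* Matrix.symplecticGroup (Fin 3) (ZMod 2))) :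
    ¬ IsCoatom H := by
  rcases hH with hH | hH | hH | hH
  · exact Cfsg.Agent.H887.Sz.row Cfsg.Agent.H887.Sz.numSz Cfsg.Agent.H934.Sz.dims Cfsg.Agent.H887.Sz.grp F₈ h8 H hH
  · exact Cfsg.Agent.H942.S62.rowO8 H hH
  · exact Cfsg.Agent.H108.L13.row13 Cfsg.Agent.H530.L13.r1 Cfsg.Agent.H540.E8C.L13.r2 Cfsg.Agent.H775.L13.num13
      Cfsg.Agent.H1.L13.grp13 F₁₃ h13 H hH
  · exact Cfsg.Agent.H942.S62.rowSp H hH

end Cfsg.Agent.S5919
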