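import Cfsg.Statements.S5925
import Cfsg.Agent.H977.E83.Fin3
import Cfsg.Agent.H947.P9.Final

set_option autoImplicit false
open Cfsg

namespace Cfsg.Agent.S5925

/-- Let G be the Chevalley group of type E₈ over the field with three elements (generated by its root elements in the 248-dimensional adjoint representation; it is the simple group E₈(3)), and let H be a subgroup of G whose generalized Fitting subgroup F*(H) is isomorphic to PSL₂(11) or to the Mathieu group M₁₁. Then H is not a maximal subgroup of G. Here F denotes a field with 11 elements. -/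
theorem result
    {F : Type*} [Field F] [Fintype F] (hF : Fintype.card F = 11) (H : Subgroup ↥(Cfsg.Lie.chevE8.group (ZMod 3)))
    (hH : Nonempty (↥(Cfsg.generalizedFittingSubgroup ↥H) ≃* Matrix.ProjectiveSpecialLinearGroup (Fin 2) F) ∨ Cfsg.Spor.IsoM11 ↥(Cfsg.generalizedFittingSubgroup ↥H)) :
    ¬ IsCoatom H :=
  Cfsg.Agent.H977.E83.Asm.fin3
    (fun g => Cfsg.Agent.H947.P9.search Cfsg.Agent.H288.E8L.K8 g) hF H hH

end Cfsg.Agent.S5925
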