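import Cfsg.Statements.S5936
import Cfsg.Agent.H857.Ree8.Main
import Cfsg.Agent.S0000
import Cfsg.Agent.Schreier.Assembly
import Cfsg.Agent.OrdDiv.Table

set_option autoImplicit false
open Cfsg

namespace Cfsg.Agent.S5936

/-- Let K be a field with 8 elements and G the large Ree group ²F₄(8) realised over K (generated by its twisted root elements inside the adjoint Chevalley group of type F₄ over K, with field automorphism exponent 2). Then G has exactly three conjugacy classes of maximal subgroups isomorphic to PGL₂(13) (the quotient of GL₂ over the integers modulo 13 by its centre): there are three pairwise non-conjugate such maximal subgroups, and every maximal subgroup of G isomorphic to PGL₂(13) is conjugate to one of them. -/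
theorem result
    {K : Type*} [Field K] [Fintype K] (hK : Fintype.card K = 8) :
    ∃ M : Fin 3 → Subgroup ↥(Cfsg.Lie.twistedF4 K 2), (∀ i, IsCoatom (M i) ∧ Nonempty (↥(M i) ≃* (GL (Fin 2) (ZMod 13) ⧸ Subgroup.center (GL (Fin 2) (ZMod 13))))) ∧
      (∀ i j, (∃ g : ↥(Cfsg.Lie.twistedF4 K 2), (M i).map (MulAut.conj g).toMonoidHom = M j) → i = j) ∧
      ∀ H : Subgroup ↥(Cfsg.Lie.twistedF4 K 2), IsCoatom H → Nonempty (↥H ≃* (GL (Fin 2) (ZMod 13) ⧸ Subgroup.center (GL (Fin 2) (ZMod 13)))) →
        ∃ (i : Fin 3) (g : ↥(Cfsg.Lie.twistedF4 K 2)), H.map (MulAut.conj g).toMonoidHom = M i :=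
  Cfsg.Agent.H857.Ree8.Main.main hK (fun _ _ _ _ => Cfsg.Agent.S0000.result) Cfsg.Agent.Schreier.Assembly.known
    Cfsg.Agent.OrdDiv.table

end Cfsg.Agent.S5936
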